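import Cfsg.Agent.Lib.Lead.HNP.QBChecks

/-! # The 35 derived relators `z u z = u'` hold in `Pt`; the homomorphism from `Vt` to `Pt` -/

set_option autoImplicit false

namespace Cfsg.Agent.Lib.Lead.HNP

open Cfsg.Agent.Lib.Helper6.TC Cfsg.Agent.Lib.Helper6.TCG Cfsg.Spor Cfsg.Agent.Lib.Helper5.HNGlue

theorem one_lt_QB : 1 < QB.data.T.n := show 1 < 126000 by norm_num

/-- the 35 derived relators of the amalgam hold in `Pt` -/
theorem der35_Pt : ∀ w ∈ derived35, (w.map γP).prod = 1 := by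
  rw [derived35_eq]
  exact exact_rel' QB.data rfl rfl rfl one_lt_QB QB.chk_side QB.chk_exact

/-- the homomorphism from `Vt` to `Pt` -/
theorem exists_θV : ∃ θ : Vt →* Pt, ∀ l, l < 4 → θ (γV l) = ((vexp l).map γP).prod :=
  exists_θ QB.data rfl rfl rfl one_lt_QB QB.chk_side QB.chk_vrel

end Cfsg.Agent.Lib.Lead.HNP
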