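import Cfsg.Agent.Lib.Lead.HNP.Defs

/-! # The letters of the presented Harada–Norton group

Letters: `0 = x, 1 = x⁻¹, 2 = y, 3 = y⁻¹, 4 = z, 5 = z⁻¹, 6 = t, 7 = t⁻¹`. -/

set_option autoImplicit false

namespace Cfsg.Agent.Lib.Lead.HNP

open Cfsg.Spor

/-- the generator of a letter -/
def genH : ℕ → HN.Gen
  | 0 => .x
  | 1 => .x
  | 2 => .y
  | 3 => .y
  | 4 => .z
  | 5 => .z
  | _ => .t

/-- is the letter the inverse of its generator? -/
def sgnH : ℕ → Bool
  | 1 => true
  | 3 => true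
  | 5 => true
  | 7 => true
  | _ => false

/-- the letter of a generator -/
def codeH : HN.Gen → ℕ
  | .x => 0
  | .y => 2
  | .z => 4
  | .t => 6

/-- the generating set of the subgroup `⟨x, y, z⟩` -/
abbrev SH : Set (FreeGroup HN.Gen) := {HN.x, HN.y, HN.z}

end Cfsg.Agent.Lib.Lead.HNP
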