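import Cfsg.Agent.Lib.Lead.HNP.DerLast
import Cfsg.Agent.Lib.Lead.HNP.DefsH
import Cfsg.Agent.Lib.Helper5.HNGlue.HNHom

/-! # The 37 derived relators hold in the presented Harada–Norton group -/

set_option autoImplicit false

namespace Cfsg.Agent.Lib.Lead.HNP

open Cfsg.Agent.Lib.Helper6.TC Cfsg.Agent.Lib.Helper6.TCG Cfsg.Spor Cfsg.Agent.Lib.Helper5.HNGlue

/-- the 37 derived relators -/
def derived37 : List (List ℕ) := derived35 ++ derivedLast

theorem derived37_lt : ∀ w ∈ derived37, ∀ l ∈ w, l < 6 := by decide

/-- the 37 derived relators hold in the presented Harada–Norton group -/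
theorem der37_HN : ∀ w ∈ derived37, (w.map (fun x =>
    (PresentedGroup.mk (plainRels HN.extra) (lt genH sgnH x)))).prod = 1 := by
  intro w hw
  have hP : (w.map γP).prod = 1 := by
    rcases List.mem_append.1 hw with h | h
    · exact der35_Pt w h
    · exact derLast_Pt w h
  refine hn_word_of_pt genH sgnH ?_ ?_ (derived37_lt w hw) hP
  · intro l hl
    interval_cases l <;> rfl
  · intro l hl
    interval_cases l <;> rfl

end Cfsg.Agent.Lib.Lead.HNP
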