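import Cfsg.Agent.Lib.Lead.HNP.HNTCSCert

/-! # HNTC: the kernel check of the rows from 45984 on -/

set_option autoImplicit false

namespace Cfsg.Agent.Lib.Lead.HNP.HNTC

open Cfsg.Agent.Lib.Helper6.TC Cfsg.Agent.Lib.Helper6.TCGS

theorem chk_rows4_0 : cert.rowsOK 45984 479 = true := by decide +kernel

theorem chk_rows4_1 : cert.rowsOK 46463 479 = true := by decide +kernel

theorem chk_rows4_2 : cert.rowsOK 46942 479 = true := by decide +kernel

theorem chk_rows4_3 : cert.rowsOK 47421 479 = true := by decide +kernel

theorem chk_rows4_4 : cert.rowsOK 47900 479 = true := by decide +kernel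

theorem chk_rows4_5 : cert.rowsOK 48379 479 = true := by decide +kernel

theorem chk_rows4_6 : cert.rowsOK 48858 479 = true := by decide +kernel

theorem chk_rows4_7 : cert.rowsOK 49337 479 = true := by decide +kernel

theorem chk_rows4_8 : cert.rowsOK 49816 479 = true := by decide +kernel

theorem chk_rows4_9 : cert.rowsOK 50295 479 = true := by decide +kernel

theorem chk_rows4_10 : cert.rowsOK 50774 479 = true := by decide +kernel

theorem chk_rows4_11 : cert.rowsOK 51253 479 = true := by decide +kernel

theorem chk_rows4_12 : cert.rowsOK 51732 479 = true := by decide +kernel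

theorem chk_rows4_13 : cert.rowsOK 52211 479 = true := by decide +kernel

theorem chk_rows4_14 : cert.rowsOK 52690 479 = true := by decide +kernel

theorem chk_rows4_15 : cert.rowsOK 53169 479 = true := by decide +kernel

theorem chk_rows4_16 : cert.rowsOK 53648 479 = true := by decide +kernel

theorem chk_rows4_17 : cert.rowsOK 54127 479 = true := by decide +kernel

theorem chk_rows4_18 : cert.rowsOK 54606 479 = true := by decide +kernel

theorem chk_rows4_19 : cert.rowsOK 55085 479 = true := by decide +kernel

theorem chk_rows4_20 : cert.rowsOK 55564 479 = true := by decide +kernel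

theorem chk_rows4_21 : cert.rowsOK 56043 479 = true := by decide +kernel

theorem chk_rows4_22 : cert.rowsOK 56522 479 = true := by decide +kernel

theorem chk_rows4_23 : cert.rowsOK 57001 479 = true := by decide +kernel

theorem chk_range4 : ∀ a, 45984 ≤ a → a < 57480 → ∀ x < cert.c.g, cert.slotOK a x = true := by
  refine cert.range_of_chunks 45984 479 24 (by norm_num) ?_
  intro k hk
  interval_cases k
  · exact chk_rows4_0
  · exact chk_rows4_1
  · exact chk_rows4_2
  · exact chk_rows4_3
  · exact chk_rows4_4
  · exact chk_rows4_5
  · exact chk_rows4_6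
  · exact chk_rows4_7
  · exact chk_rows4_8
  · exact chk_rows4_9
  · exact chk_rows4_10
  · exact chk_rows4_11
  · exact chk_rows4_12
  · exact chk_rows4_13
  · exact chk_rows4_14
  · exact chk_rows4_15
  · exact chk_rows4_16
  · exact chk_rows4_17
  · exact chk_rows4_18
  · exact chk_rows4_19
  · exact chk_rows4_20
  · exact chk_rows4_21
  · exact chk_rows4_22
  · exact chk_rows4_23

end Cfsg.Agent.Lib.Lead.HNP.HNTC
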