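import Cfsg.Agent.Lib.Lead.HNP.HNTCSCert
import Cfsg.Agent.Lib.Lead.HNP.HNTCSRows4

/-! # HNTC: the kernel check of the rows from 321888 on -/

set_option autoImplicit false

namespace Cfsg.Agent.Lib.Lead.HNP.HNTC

open Cfsg.Agent.Lib.Helper6.TC Cfsg.Agent.Lib.Helper6.TCGS

theorem chk_rows28_0 : cert.rowsOK 321888 479 = true := by decide +kernel

theorem chk_rows28_1 : cert.rowsOK 322367 479 = true := by decide +kernel

theorem chk_rows28_2 : cert.rowsOK 322846 479 = true := by decide +kernel

theorem chk_rows28_3 : cert.rowsOK 323325 479 = true := by decide +kernel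

theorem chk_rows28_4 : cert.rowsOK 323804 479 = true := by decide +kernel

theorem chk_rows28_5 : cert.rowsOK 324283 479 = true := by decide +kernel

theorem chk_rows28_6 : cert.rowsOK 324762 479 = true := by decide +kernel

theorem chk_rows28_7 : cert.rowsOK 325241 479 = true := by decide +kernel

theorem chk_rows28_8 : cert.rowsOK 325720 479 = true := by decide +kernel

theorem chk_rows28_9 : cert.rowsOK 326199 479 = true := by decide +kernel

theorem chk_rows28_10 : cert.rowsOK 326678 479 = true := by decide +kernel

theorem chk_rows28_11 : cert.rowsOK 327157 479 = true := by decide +kernel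

theorem chk_rows28_12 : cert.rowsOK 327636 479 = true := by decide +kernel

theorem chk_rows28_13 : cert.rowsOK 328115 479 = true := by decide +kernel

theorem chk_rows28_14 : cert.rowsOK 328594 479 = true := by decide +kernel

theorem chk_rows28_15 : cert.rowsOK 329073 479 = true := by decide +kernel

theorem chk_rows28_16 : cert.rowsOK 329552 479 = true := by decide +kernel

theorem chk_rows28_17 : cert.rowsOK 330031 479 = true := by decide +kernel

theorem chk_rows28_18 : cert.rowsOK 330510 479 = true := by decide +kernel

theorem chk_rows28_19 : cert.rowsOK 330989 479 = true := by decide +kernel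

theorem chk_rows28_20 : cert.rowsOK 331468 479 = true := by decide +kernel

theorem chk_rows28_21 : cert.rowsOK 331947 479 = true := by decide +kernel

theorem chk_rows28_22 : cert.rowsOK 332426 479 = true := by decide +kernel

theorem chk_rows28_23 : cert.rowsOK 332905 479 = true := by decide +kernel

theorem chk_range28 : ∀ a, 321888 ≤ a → a < 333384 → ∀ x < cert.c.g, cert.slotOK a x = true := by
  refine cert.range_of_chunks 321888 479 24 (by norm_num) ?_
  intro k hk
  interval_cases k
  · exact chk_rows28_0
  · exact chk_rows28_1
  · exact chk_rows28_2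
  · exact chk_rows28_3
  · exact chk_rows28_4
  · exact chk_rows28_5
  · exact chk_rows28_6
  · exact chk_rows28_7
  · exact chk_rows28_8
  · exact chk_rows28_9
  · exact chk_rows28_10
  · exact chk_rows28_11
  · exact chk_rows28_12
  · exact chk_rows28_13
  · exact chk_rows28_14
  · exact chk_rows28_15
  · exact chk_rows28_16
  · exact chk_rows28_17
  · exact chk_rows28_18
  · exact chk_rows28_19
  · exact chk_rows28_20
  · exact chk_rows28_21
  · exact chk_rows28_22
  · exact chk_rows28_23

end Cfsg.Agent.Lib.Lead.HNP.HNTC
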