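import Cfsg.Agent.Lib.Lead.HNP.HNTCSCert
import Cfsg.Agent.Lib.Lead.HNP.HNTCSRows28

/-! # HNTC: the kernel check of the rows from 597792 on -/

set_option autoImplicit false

namespace Cfsg.Agent.Lib.Lead.HNP.HNTC

open Cfsg.Agent.Lib.Helper6.TC Cfsg.Agent.Lib.Helper6.TCGS

theorem chk_rows52_0 : cert.rowsOK 597792 479 = true := by decide +kernel

theorem chk_rows52_1 : cert.rowsOK 598271 479 = true := by decide +kernel

theorem chk_rows52_2 : cert.rowsOK 598750 479 = true := by decide +kernel

theorem chk_rows52_3 : cert.rowsOK 599229 479 = true := by decide +kernel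

theorem chk_rows52_4 : cert.rowsOK 599708 479 = true := by decide +kernel

theorem chk_rows52_5 : cert.rowsOK 600187 479 = true := by decide +kernel

theorem chk_rows52_6 : cert.rowsOK 600666 479 = true := by decide +kernel

theorem chk_rows52_7 : cert.rowsOK 601145 479 = true := by decide +kernel

theorem chk_rows52_8 : cert.rowsOK 601624 479 = true := by decide +kernel

theorem chk_rows52_9 : cert.rowsOK 602103 479 = true := by decide +kernel

theorem chk_rows52_10 : cert.rowsOK 602582 479 = true := by decide +kernel

theorem chk_rows52_11 : cert.rowsOK 603061 479 = true := by decide +kernel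

theorem chk_rows52_12 : cert.rowsOK 603540 479 = true := by decide +kernel

theorem chk_rows52_13 : cert.rowsOK 604019 479 = true := by decide +kernel

theorem chk_rows52_14 : cert.rowsOK 604498 479 = true := by decide +kernel

theorem chk_rows52_15 : cert.rowsOK 604977 479 = true := by decide +kernel

theorem chk_rows52_16 : cert.rowsOK 605456 479 = true := by decide +kernel

theorem chk_rows52_17 : cert.rowsOK 605935 479 = true := by decide +kernel

theorem chk_rows52_18 : cert.rowsOK 606414 479 = true := by decide +kernel

theorem chk_rows52_19 : cert.rowsOK 606893 479 = true := by decide +kernel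

theorem chk_rows52_20 : cert.rowsOK 607372 479 = true := by decide +kernel

theorem chk_rows52_21 : cert.rowsOK 607851 479 = true := by decide +kernel

theorem chk_rows52_22 : cert.rowsOK 608330 479 = true := by decide +kernel

theorem chk_rows52_23 : cert.rowsOK 608809 479 = true := by decide +kernel

theorem chk_range52 : ∀ a, 597792 ≤ a → a < 609288 → ∀ x < cert.c.g, cert.slotOK a x = true := by
  refine cert.range_of_chunks 597792 479 24 (by norm_num) ?_
  intro k hk
  interval_cases k
  · exact chk_rows52_0
  · exact chk_rows52_1
  · exact chk_rows52_2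
  · exact chk_rows52_3
  · exact chk_rows52_4
  · exact chk_rows52_5
  · exact chk_rows52_6
  · exact chk_rows52_7
  · exact chk_rows52_8
  · exact chk_rows52_9
  · exact chk_rows52_10
  · exact chk_rows52_11
  · exact chk_rows52_12
  · exact chk_rows52_13
  · exact chk_rows52_14
  · exact chk_rows52_15
  · exact chk_rows52_16
  · exact chk_rows52_17
  · exact chk_rows52_18
  · exact chk_rows52_19
  · exact chk_rows52_20
  · exact chk_rows52_21
  · exact chk_rows52_22
  · exact chk_rows52_23

end Cfsg.Agent.Lib.Lead.HNP.HNTC
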