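import Cfsg.Agent.Lib.Lead.HNP.HNTCSCert
import Cfsg.Agent.Lib.Lead.HNP.HNTCSRows52

/-! # HNTC: the kernel check of the rows from 873696 on -/

set_option autoImplicit false

namespace Cfsg.Agent.Lib.Lead.HNP.HNTC

open Cfsg.Agent.Lib.Helper6.TC Cfsg.Agent.Lib.Helper6.TCGS

theorem chk_rows76_0 : cert.rowsOK 873696 479 = true := by decide +kernel

theorem chk_rows76_1 : cert.rowsOK 874175 479 = true := by decide +kernel

theorem chk_rows76_2 : cert.rowsOK 874654 479 = true := by decide +kernel

theorem chk_rows76_3 : cert.rowsOK 875133 479 = true := by decide +kernel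

theorem chk_rows76_4 : cert.rowsOK 875612 479 = true := by decide +kernel

theorem chk_rows76_5 : cert.rowsOK 876091 479 = true := by decide +kernel

theorem chk_rows76_6 : cert.rowsOK 876570 479 = true := by decide +kernel

theorem chk_rows76_7 : cert.rowsOK 877049 479 = true := by decide +kernel

theorem chk_rows76_8 : cert.rowsOK 877528 479 = true := by decide +kernel

theorem chk_rows76_9 : cert.rowsOK 878007 479 = true := by decide +kernel

theorem chk_rows76_10 : cert.rowsOK 878486 479 = true := by decide +kernel

theorem chk_rows76_11 : cert.rowsOK 878965 479 = true := by decide +kernel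

theorem chk_rows76_12 : cert.rowsOK 879444 479 = true := by decide +kernel

theorem chk_rows76_13 : cert.rowsOK 879923 479 = true := by decide +kernel

theorem chk_rows76_14 : cert.rowsOK 880402 479 = true := by decide +kernel

theorem chk_rows76_15 : cert.rowsOK 880881 479 = true := by decide +kernel

theorem chk_rows76_16 : cert.rowsOK 881360 479 = true := by decide +kernel

theorem chk_rows76_17 : cert.rowsOK 881839 479 = true := by decide +kernel

theorem chk_rows76_18 : cert.rowsOK 882318 479 = true := by decide +kernel

theorem chk_rows76_19 : cert.rowsOK 882797 479 = true := by decide +kernel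

theorem chk_rows76_20 : cert.rowsOK 883276 479 = true := by decide +kernel

theorem chk_rows76_21 : cert.rowsOK 883755 479 = true := by decide +kernel

theorem chk_rows76_22 : cert.rowsOK 884234 479 = true := by decide +kernel

theorem chk_rows76_23 : cert.rowsOK 884713 479 = true := by decide +kernel

theorem chk_range76 : ∀ a, 873696 ≤ a → a < 885192 → ∀ x < cert.c.g, cert.slotOK a x = true := by
  refine cert.range_of_chunks 873696 479 24 (by norm_num) ?_
  intro k hk
  interval_cases k
  · exact chk_rows76_0
  · exact chk_rows76_1
  · exact chk_rows76_2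
  · exact chk_rows76_3
  · exact chk_rows76_4
  · exact chk_rows76_5
  · exact chk_rows76_6
  · exact chk_rows76_7
  · exact chk_rows76_8
  · exact chk_rows76_9
  · exact chk_rows76_10
  · exact chk_rows76_11
  · exact chk_rows76_12
  · exact chk_rows76_13
  · exact chk_rows76_14
  · exact chk_rows76_15
  · exact chk_rows76_16
  · exact chk_rows76_17
  · exact chk_rows76_18
  · exact chk_rows76_19
  · exact chk_rows76_20
  · exact chk_rows76_21
  · exact chk_rows76_22
  · exact chk_rows76_23

end Cfsg.Agent.Lib.Lead.HNP.HNTC
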