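import Cfsg.Agent.Lib.Lead.HNP.HNTCSCert
import Cfsg.Agent.Lib.Lead.HNP.HNTCSRows76

/-! # HNTC: the kernel check of the rows from 1149600 on -/

set_option autoImplicit false

namespace Cfsg.Agent.Lib.Lead.HNP.HNTC

open Cfsg.Agent.Lib.Helper6.TC Cfsg.Agent.Lib.Helper6.TCGS

theorem chk_rows100_0 : cert.rowsOK 1149600 479 = true := by decide +kernel

theorem chk_rows100_1 : cert.rowsOK 1150079 479 = true := by decide +kernel

theorem chk_rows100_2 : cert.rowsOK 1150558 479 = true := by decide +kernel

theorem chk_rows100_3 : cert.rowsOK 1151037 479 = true := by decide +kernel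

theorem chk_rows100_4 : cert.rowsOK 1151516 479 = true := by decide +kernel

theorem chk_rows100_5 : cert.rowsOK 1151995 479 = true := by decide +kernel

theorem chk_rows100_6 : cert.rowsOK 1152474 479 = true := by decide +kernel

theorem chk_rows100_7 : cert.rowsOK 1152953 479 = true := by decide +kernel

theorem chk_rows100_8 : cert.rowsOK 1153432 479 = true := by decide +kernel

theorem chk_rows100_9 : cert.rowsOK 1153911 479 = true := by decide +kernel

theorem chk_rows100_10 : cert.rowsOK 1154390 479 = true := by decide +kernel

theorem chk_rows100_11 : cert.rowsOK 1154869 479 = true := by decide +kernel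

theorem chk_rows100_12 : cert.rowsOK 1155348 479 = true := by decide +kernel

theorem chk_rows100_13 : cert.rowsOK 1155827 479 = true := by decide +kernel

theorem chk_rows100_14 : cert.rowsOK 1156306 479 = true := by decide +kernel

theorem chk_rows100_15 : cert.rowsOK 1156785 479 = true := by decide +kernel

theorem chk_rows100_16 : cert.rowsOK 1157264 479 = true := by decide +kernel

theorem chk_rows100_17 : cert.rowsOK 1157743 479 = true := by decide +kernel

theorem chk_rows100_18 : cert.rowsOK 1158222 479 = true := by decide +kernel

theorem chk_rows100_19 : cert.rowsOK 1158701 479 = true := by decide +kernel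

theorem chk_rows100_20 : cert.rowsOK 1159180 479 = true := by decide +kernel

theorem chk_rows100_21 : cert.rowsOK 1159659 479 = true := by decide +kernel

theorem chk_rows100_22 : cert.rowsOK 1160138 479 = true := by decide +kernel

theorem chk_rows100_23 : cert.rowsOK 1160617 479 = true := by decide +kernel

theorem chk_range100 : ∀ a, 1149600 ≤ a → a < 1161096 → ∀ x < cert.c.g, cert.slotOK a x = true := by
  refine cert.range_of_chunks 1149600 479 24 (by norm_num) ?_
  intro k hk
  interval_cases k
  · exact chk_rows100_0
  · exact chk_rows100_1
  · exact chk_rows100_2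
  · exact chk_rows100_3
  · exact chk_rows100_4
  · exact chk_rows100_5
  · exact chk_rows100_6
  · exact chk_rows100_7
  · exact chk_rows100_8
  · exact chk_rows100_9
  · exact chk_rows100_10
  · exact chk_rows100_11
  · exact chk_rows100_12
  · exact chk_rows100_13
  · exact chk_rows100_14
  · exact chk_rows100_15
  · exact chk_rows100_16
  · exact chk_rows100_17
  · exact chk_rows100_18
  · exact chk_rows100_19
  · exact chk_rows100_20
  · exact chk_rows100_21
  · exact chk_rows100_22
  · exact chk_rows100_23

end Cfsg.Agent.Lib.Lead.HNP.HNTC
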