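import Cfsg.Agent.Lib.Lead.HNP.HNTCSCert
import Cfsg.Agent.Lib.Lead.HNP.HNTCSRows100

/-! # HNTC: the kernel check of the rows from 1425504 on -/

set_option autoImplicit false

namespace Cfsg.Agent.Lib.Lead.HNP.HNTC

open Cfsg.Agent.Lib.Helper6.TC Cfsg.Agent.Lib.Helper6.TCGS

theorem chk_rows124_0 : cert.rowsOK 1425504 479 = true := by decide +kernel

theorem chk_rows124_1 : cert.rowsOK 1425983 479 = true := by decide +kernel

theorem chk_rows124_2 : cert.rowsOK 1426462 479 = true := by decide +kernel

theorem chk_rows124_3 : cert.rowsOK 1426941 479 = true := by decide +kernel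

theorem chk_rows124_4 : cert.rowsOK 1427420 479 = true := by decide +kernel

theorem chk_rows124_5 : cert.rowsOK 1427899 479 = true := by decide +kernel

theorem chk_rows124_6 : cert.rowsOK 1428378 479 = true := by decide +kernel

theorem chk_rows124_7 : cert.rowsOK 1428857 479 = true := by decide +kernel

theorem chk_rows124_8 : cert.rowsOK 1429336 479 = true := by decide +kernel

theorem chk_rows124_9 : cert.rowsOK 1429815 479 = true := by decide +kernel

theorem chk_rows124_10 : cert.rowsOK 1430294 479 = true := by decide +kernel

theorem chk_rows124_11 : cert.rowsOK 1430773 479 = true := by decide +kernel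

theorem chk_rows124_12 : cert.rowsOK 1431252 479 = true := by decide +kernel

theorem chk_rows124_13 : cert.rowsOK 1431731 479 = true := by decide +kernel

theorem chk_rows124_14 : cert.rowsOK 1432210 479 = true := by decide +kernel

theorem chk_rows124_15 : cert.rowsOK 1432689 479 = true := by decide +kernel

theorem chk_rows124_16 : cert.rowsOK 1433168 479 = true := by decide +kernel

theorem chk_rows124_17 : cert.rowsOK 1433647 479 = true := by decide +kernel

theorem chk_rows124_18 : cert.rowsOK 1434126 479 = true := by decide +kernel

theorem chk_rows124_19 : cert.rowsOK 1434605 479 = true := by decide +kernel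

theorem chk_rows124_20 : cert.rowsOK 1435084 479 = true := by decide +kernel

theorem chk_rows124_21 : cert.rowsOK 1435563 479 = true := by decide +kernel

theorem chk_rows124_22 : cert.rowsOK 1436042 479 = true := by decide +kernel

theorem chk_rows124_23 : cert.rowsOK 1436521 479 = true := by decide +kernel

theorem chk_range124 : ∀ a, 1425504 ≤ a → a < 1437000 → ∀ x < cert.c.g, cert.slotOK a x = true := by
  refine cert.range_of_chunks 1425504 479 24 (by norm_num) ?_
  intro k hk
  interval_cases k
  · exact chk_rows124_0
  · exact chk_rows124_1
  · exact chk_rows124_2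
  · exact chk_rows124_3
  · exact chk_rows124_4
  · exact chk_rows124_5
  · exact chk_rows124_6
  · exact chk_rows124_7
  · exact chk_rows124_8
  · exact chk_rows124_9
  · exact chk_rows124_10
  · exact chk_rows124_11
  · exact chk_rows124_12
  · exact chk_rows124_13
  · exact chk_rows124_14
  · exact chk_rows124_15
  · exact chk_rows124_16
  · exact chk_rows124_17
  · exact chk_rows124_18
  · exact chk_rows124_19
  · exact chk_rows124_20
  · exact chk_rows124_21
  · exact chk_rows124_22
  · exact chk_rows124_23

end Cfsg.Agent.Lib.Lead.HNP.HNTC
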