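import Cfsg.Agent.Lib.Lead.HNP.HNTCSCert
import Cfsg.Agent.Lib.Helper6.TCGIndex
import Cfsg.Agent.Lib.Lead.HNP.HNTCSFin14

/-! # HNTC: the kernel check that the first rows are closed, part 38 -/

set_option autoImplicit false

namespace Cfsg.Agent.Lib.Lead.HNP.HNTC

open Cfsg.Agent.Lib.Helper6.TC Cfsg.Agent.Lib.Helper6.TCGS

theorem chk_fin342 : cert.finalOKc 1539000 684000 2000 = true := by decide +kernel

theorem chk_fin343 : cert.finalOKc 1539000 686000 2000 = true := by decide +kernel

theorem chk_fin344 : cert.finalOKc 1539000 688000 2000 = true := by decide +kernel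

theorem chk_fin345 : cert.finalOKc 1539000 690000 2000 = true := by decide +kernel

theorem chk_fin346 : cert.finalOKc 1539000 692000 2000 = true := by decide +kernel

theorem chk_fin347 : cert.finalOKc 1539000 694000 2000 = true := by decide +kernel

theorem chk_fin348 : cert.finalOKc 1539000 696000 2000 = true := by decide +kernel

theorem chk_fin349 : cert.finalOKc 1539000 698000 2000 = true := by decide +kernel

theorem chk_fin350 : cert.finalOKc 1539000 700000 2000 = true := by decide +kernel


end Cfsg.Agent.Lib.Lead.HNP.HNTC
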