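import Cfsg.Agent.Lib.Lead.HNP.HNTCSCert
import Cfsg.Agent.Lib.Helper6.TCGIndex
import Cfsg.Agent.Lib.Lead.HNP.HNTCSFin38

/-! # HNTC: the kernel check that the first rows are closed, part 62 -/

set_option autoImplicit false

namespace Cfsg.Agent.Lib.Lead.HNP.HNTC

open Cfsg.Agent.Lib.Helper6.TC Cfsg.Agent.Lib.Helper6.TCGS

theorem chk_fin558 : cert.finalOKc 1539000 1116000 2000 = true := by decide +kernel

theorem chk_fin559 : cert.finalOKc 1539000 1118000 2000 = true := by decide +kernel

theorem chk_fin560 : cert.finalOKc 1539000 1120000 2000 = true := by decide +kernel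

theorem chk_fin561 : cert.finalOKc 1539000 1122000 2000 = true := by decide +kernel

theorem chk_fin562 : cert.finalOKc 1539000 1124000 2000 = true := by decide +kernel

theorem chk_fin563 : cert.finalOKc 1539000 1126000 2000 = true := by decide +kernel

theorem chk_fin564 : cert.finalOKc 1539000 1128000 2000 = true := by decide +kernel

theorem chk_fin565 : cert.finalOKc 1539000 1130000 2000 = true := by decide +kernel

theorem chk_fin566 : cert.finalOKc 1539000 1132000 2000 = true := by decide +kernel


end Cfsg.Agent.Lib.Lead.HNP.HNTC
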