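import Cfsg.Agent.Lib.Lead.HNP.HNTCData
import Cfsg.Agent.Lib.Helper6.TCRel3
import Cfsg.Agent.Lib.Lead.HNP.HNTCSFin62

/-! # HNTC: the kernel check of a part of the relators on the coset table -/

set_option autoImplicit false

namespace Cfsg.Agent.Lib.Lead.HNP.HNTC

open Cfsg.Agent.Lib.Helper6.TC

theorem chk_pow0_0_0 : tab.minOKc [2] 6 0 32000 = true := by decide +kernel

theorem chk_pow0_0_1 : tab.minOKc [2] 6 32000 32000 = true := by decide +kernel

theorem chk_pow0_0_2 : tab.minOKc [2] 6 64000 32000 = true := by decide +kernel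

theorem chk_pow0_0_3 : tab.minOKc [2] 6 96000 32000 = true := by decide +kernel

theorem chk_pow0_0_4 : tab.minOKc [2] 6 128000 32000 = true := by decide +kernel

theorem chk_pow0_0_5 : tab.minOKc [2] 6 160000 32000 = true := by decide +kernel

theorem chk_pow0_0_6 : tab.minOKc [2] 6 192000 32000 = true := by decide +kernel

theorem chk_pow0_0_7 : tab.minOKc [2] 6 224000 32000 = true := by decide +kernel

theorem chk_pow0_0_8 : tab.minOKc [2] 6 256000 32000 = true := by decide +kernel

theorem chk_pow0_0_9 : tab.minOKc [2] 6 288000 32000 = true := by decide +kernel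

theorem chk_pow0_0_10 : tab.minOKc [2] 6 320000 32000 = true := by decide +kernel

theorem chk_pow0_0_11 : tab.minOKc [2] 6 352000 32000 = true := by decide +kernel

theorem chk_pow0_0_12 : tab.minOKc [2] 6 384000 32000 = true := by decide +kernel

theorem chk_pow0_0_13 : tab.minOKc [2] 6 416000 32000 = true := by decide +kernel

theorem chk_pow0_0_14 : tab.minOKc [2] 6 448000 32000 = true := by decide +kernel

theorem chk_pow0_0 : tab.minOKc [2] 6 0 480000 = true := by
  refine tab.minOKc_of_chunks [2] 6 0 32000 15 (by norm_num) ?_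
  intro i hi
  interval_cases i
  · exact chk_pow0_0_0
  · exact chk_pow0_0_1
  · exact chk_pow0_0_2
  · exact chk_pow0_0_3
  · exact chk_pow0_0_4
  · exact chk_pow0_0_5
  · exact chk_pow0_0_6
  · exact chk_pow0_0_7
  · exact chk_pow0_0_8
  · exact chk_pow0_0_9
  · exact chk_pow0_0_10
  · exact chk_pow0_0_11
  · exact chk_pow0_0_12
  · exact chk_pow0_0_13
  · exact chk_pow0_0_14

theorem chk_pow0_1_0 : tab.minOKc [2] 6 480000 32000 = true := by decide +kernel

theorem chk_pow0_1_1 : tab.minOKc [2] 6 512000 32000 = true := by decide +kernel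

theorem chk_pow0_1_2 : tab.minOKc [2] 6 544000 32000 = true := by decide +kernel

theorem chk_pow0_1_3 : tab.minOKc [2] 6 576000 32000 = true := by decide +kernel

theorem chk_pow0_1_4 : tab.minOKc [2] 6 608000 32000 = true := by decide +kernel

theorem chk_pow0_1_5 : tab.minOKc [2] 6 640000 32000 = true := by decide +kernel

theorem chk_pow0_1_6 : tab.minOKc [2] 6 672000 32000 = true := by decide +kernel

theorem chk_pow0_1_7 : tab.minOKc [2] 6 704000 32000 = true := by decide +kernel

theorem chk_pow0_1_8 : tab.minOKc [2] 6 736000 32000 = true := by decide +kernel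

theorem chk_pow0_1_9 : tab.minOKc [2] 6 768000 32000 = true := by decide +kernel

theorem chk_pow0_1_10 : tab.minOKc [2] 6 800000 32000 = true := by decide +kernel

theorem chk_pow0_1_11 : tab.minOKc [2] 6 832000 32000 = true := by decide +kernel

theorem chk_pow0_1_12 : tab.minOKc [2] 6 864000 32000 = true := by decide +kernel

theorem chk_pow0_1_13 : tab.minOKc [2] 6 896000 32000 = true := by decide +kernel

theorem chk_pow0_1_14 : tab.minOKc [2] 6 928000 32000 = true := by decide +kernel

theorem chk_pow0_1 : tab.minOKc [2] 6 480000 480000 = true := by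
  refine tab.minOKc_of_chunks [2] 6 480000 32000 15 (by norm_num) ?_
  intro i hi
  interval_cases i
  · exact chk_pow0_1_0
  · exact chk_pow0_1_1
  · exact chk_pow0_1_2
  · exact chk_pow0_1_3
  · exact chk_pow0_1_4
  · exact chk_pow0_1_5
  · exact chk_pow0_1_6
  · exact chk_pow0_1_7
  · exact chk_pow0_1_8
  · exact chk_pow0_1_9
  · exact chk_pow0_1_10
  · exact chk_pow0_1_11
  · exact chk_pow0_1_12
  · exact chk_pow0_1_13
  · exact chk_pow0_1_14


end Cfsg.Agent.Lib.Lead.HNP.HNTC
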