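import Cfsg.Agent.Lib.Lead.HNP.HNTCSCert
import Cfsg.Agent.Lib.Lead.HNP.HNTCSRows5

/-! # HNTC: the kernel check of the rows from 333384 on -/

set_option autoImplicit false

namespace Cfsg.Agent.Lib.Lead.HNP.HNTC

open Cfsg.Agent.Lib.Helper6.TC Cfsg.Agent.Lib.Helper6.TCGS

theorem chk_rows29_0 : cert.rowsOK 333384 479 = true := by decide +kernel

theorem chk_rows29_1 : cert.rowsOK 333863 479 = true := by decide +kernel

theorem chk_rows29_2 : cert.rowsOK 334342 479 = true := by decide +kernel

theorem chk_rows29_3 : cert.rowsOK 334821 479 = true := by decide +kernel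

theorem chk_rows29_4 : cert.rowsOK 335300 479 = true := by decide +kernel

theorem chk_rows29_5 : cert.rowsOK 335779 479 = true := by decide +kernel

theorem chk_rows29_6 : cert.rowsOK 336258 479 = true := by decide +kernel

theorem chk_rows29_7 : cert.rowsOK 336737 479 = true := by decide +kernel

theorem chk_rows29_8 : cert.rowsOK 337216 479 = true := by decide +kernel

theorem chk_rows29_9 : cert.rowsOK 337695 479 = true := by decide +kernel

theorem chk_rows29_10 : cert.rowsOK 338174 479 = true := by decide +kernel

theorem chk_rows29_11 : cert.rowsOK 338653 479 = true := by decide +kernel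

theorem chk_rows29_12 : cert.rowsOK 339132 479 = true := by decide +kernel

theorem chk_rows29_13 : cert.rowsOK 339611 479 = true := by decide +kernel

theorem chk_rows29_14 : cert.rowsOK 340090 479 = true := by decide +kernel

theorem chk_rows29_15 : cert.rowsOK 340569 479 = true := by decide +kernel

theorem chk_rows29_16 : cert.rowsOK 341048 479 = true := by decide +kernel

theorem chk_rows29_17 : cert.rowsOK 341527 479 = true := by decide +kernel

theorem chk_rows29_18 : cert.rowsOK 342006 479 = true := by decide +kernel

theorem chk_rows29_19 : cert.rowsOK 342485 479 = true := by decide +kernel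

theorem chk_rows29_20 : cert.rowsOK 342964 479 = true := by decide +kernel

theorem chk_rows29_21 : cert.rowsOK 343443 479 = true := by decide +kernel

theorem chk_rows29_22 : cert.rowsOK 343922 479 = true := by decide +kernel

theorem chk_rows29_23 : cert.rowsOK 344401 479 = true := by decide +kernel

theorem chk_range29 : ∀ a, 333384 ≤ a → a < 344880 → ∀ x < cert.c.g, cert.slotOK a x = true := by
  refine cert.range_of_chunks 333384 479 24 (by norm_num) ?_
  intro k hk
  interval_cases k
  · exact chk_rows29_0
  · exact chk_rows29_1
  · exact chk_rows29_2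
  · exact chk_rows29_3
  · exact chk_rows29_4
  · exact chk_rows29_5
  · exact chk_rows29_6
  · exact chk_rows29_7
  · exact chk_rows29_8
  · exact chk_rows29_9
  · exact chk_rows29_10
  · exact chk_rows29_11
  · exact chk_rows29_12
  · exact chk_rows29_13
  · exact chk_rows29_14
  · exact chk_rows29_15
  · exact chk_rows29_16
  · exact chk_rows29_17
  · exact chk_rows29_18
  · exact chk_rows29_19
  · exact chk_rows29_20
  · exact chk_rows29_21
  · exact chk_rows29_22
  · exact chk_rows29_23

end Cfsg.Agent.Lib.Lead.HNP.HNTC
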