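import Cfsg.Agent.Lib.Lead.HNP.HNTCSCert
import Cfsg.Agent.Lib.Lead.HNP.HNTCSRows29

/-! # HNTC: the kernel check of the rows from 609288 on -/

set_option autoImplicit false

namespace Cfsg.Agent.Lib.Lead.HNP.HNTC

open Cfsg.Agent.Lib.Helper6.TC Cfsg.Agent.Lib.Helper6.TCGS

theorem chk_rows53_0 : cert.rowsOK 609288 479 = true := by decide +kernel

theorem chk_rows53_1 : cert.rowsOK 609767 479 = true := by decide +kernel

theorem chk_rows53_2 : cert.rowsOK 610246 479 = true := by decide +kernel

theorem chk_rows53_3 : cert.rowsOK 610725 479 = true := by decide +kernel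

theorem chk_rows53_4 : cert.rowsOK 611204 479 = true := by decide +kernel

theorem chk_rows53_5 : cert.rowsOK 611683 479 = true := by decide +kernel

theorem chk_rows53_6 : cert.rowsOK 612162 479 = true := by decide +kernel

theorem chk_rows53_7 : cert.rowsOK 612641 479 = true := by decide +kernel

theorem chk_rows53_8 : cert.rowsOK 613120 479 = true := by decide +kernel

theorem chk_rows53_9 : cert.rowsOK 613599 479 = true := by decide +kernel

theorem chk_rows53_10 : cert.rowsOK 614078 479 = true := by decide +kernel

theorem chk_rows53_11 : cert.rowsOK 614557 479 = true := by decide +kernel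

theorem chk_rows53_12 : cert.rowsOK 615036 479 = true := by decide +kernel

theorem chk_rows53_13 : cert.rowsOK 615515 479 = true := by decide +kernel

theorem chk_rows53_14 : cert.rowsOK 615994 479 = true := by decide +kernel

theorem chk_rows53_15 : cert.rowsOK 616473 479 = true := by decide +kernel

theorem chk_rows53_16 : cert.rowsOK 616952 479 = true := by decide +kernel

theorem chk_rows53_17 : cert.rowsOK 617431 479 = true := by decide +kernel

theorem chk_rows53_18 : cert.rowsOK 617910 479 = true := by decide +kernel

theorem chk_rows53_19 : cert.rowsOK 618389 479 = true := by decide +kernel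

theorem chk_rows53_20 : cert.rowsOK 618868 479 = true := by decide +kernel

theorem chk_rows53_21 : cert.rowsOK 619347 479 = true := by decide +kernel

theorem chk_rows53_22 : cert.rowsOK 619826 479 = true := by decide +kernel

theorem chk_rows53_23 : cert.rowsOK 620305 479 = true := by decide +kernel

theorem chk_range53 : ∀ a, 609288 ≤ a → a < 620784 → ∀ x < cert.c.g, cert.slotOK a x = true := by
  refine cert.range_of_chunks 609288 479 24 (by norm_num) ?_
  intro k hk
  interval_cases k
  · exact chk_rows53_0
  · exact chk_rows53_1
  · exact chk_rows53_2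
  · exact chk_rows53_3
  · exact chk_rows53_4
  · exact chk_rows53_5
  · exact chk_rows53_6
  · exact chk_rows53_7
  · exact chk_rows53_8
  · exact chk_rows53_9
  · exact chk_rows53_10
  · exact chk_rows53_11
  · exact chk_rows53_12
  · exact chk_rows53_13
  · exact chk_rows53_14
  · exact chk_rows53_15
  · exact chk_rows53_16
  · exact chk_rows53_17
  · exact chk_rows53_18
  · exact chk_rows53_19
  · exact chk_rows53_20
  · exact chk_rows53_21
  · exact chk_rows53_22
  · exact chk_rows53_23

end Cfsg.Agent.Lib.Lead.HNP.HNTC
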