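import Cfsg.Agent.Lib.Lead.HNP.HNTCSCert
import Cfsg.Agent.Lib.Lead.HNP.HNTCSRows53

/-! # HNTC: the kernel check of the rows from 885192 on -/

set_option autoImplicit false

namespace Cfsg.Agent.Lib.Lead.HNP.HNTC

open Cfsg.Agent.Lib.Helper6.TC Cfsg.Agent.Lib.Helper6.TCGS

theorem chk_rows77_0 : cert.rowsOK 885192 479 = true := by decide +kernel

theorem chk_rows77_1 : cert.rowsOK 885671 479 = true := by decide +kernel

theorem chk_rows77_2 : cert.rowsOK 886150 479 = true := by decide +kernel

theorem chk_rows77_3 : cert.rowsOK 886629 479 = true := by decide +kernel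

theorem chk_rows77_4 : cert.rowsOK 887108 479 = true := by decide +kernel

theorem chk_rows77_5 : cert.rowsOK 887587 479 = true := by decide +kernel

theorem chk_rows77_6 : cert.rowsOK 888066 479 = true := by decide +kernel

theorem chk_rows77_7 : cert.rowsOK 888545 479 = true := by decide +kernel

theorem chk_rows77_8 : cert.rowsOK 889024 479 = true := by decide +kernel

theorem chk_rows77_9 : cert.rowsOK 889503 479 = true := by decide +kernel

theorem chk_rows77_10 : cert.rowsOK 889982 479 = true := by decide +kernel

theorem chk_rows77_11 : cert.rowsOK 890461 479 = true := by decide +kernel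

theorem chk_rows77_12 : cert.rowsOK 890940 479 = true := by decide +kernel

theorem chk_rows77_13 : cert.rowsOK 891419 479 = true := by decide +kernel

theorem chk_rows77_14 : cert.rowsOK 891898 479 = true := by decide +kernel

theorem chk_rows77_15 : cert.rowsOK 892377 479 = true := by decide +kernel

theorem chk_rows77_16 : cert.rowsOK 892856 479 = true := by decide +kernel

theorem chk_rows77_17 : cert.rowsOK 893335 479 = true := by decide +kernel

theorem chk_rows77_18 : cert.rowsOK 893814 479 = true := by decide +kernel

theorem chk_rows77_19 : cert.rowsOK 894293 479 = true := by decide +kernel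

theorem chk_rows77_20 : cert.rowsOK 894772 479 = true := by decide +kernel

theorem chk_rows77_21 : cert.rowsOK 895251 479 = true := by decide +kernel

theorem chk_rows77_22 : cert.rowsOK 895730 479 = true := by decide +kernel

theorem chk_rows77_23 : cert.rowsOK 896209 479 = true := by decide +kernel

theorem chk_range77 : ∀ a, 885192 ≤ a → a < 896688 → ∀ x < cert.c.g, cert.slotOK a x = true := by
  refine cert.range_of_chunks 885192 479 24 (by norm_num) ?_
  intro k hk
  interval_cases k
  · exact chk_rows77_0
  · exact chk_rows77_1
  · exact chk_rows77_2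
  · exact chk_rows77_3
  · exact chk_rows77_4
  · exact chk_rows77_5
  · exact chk_rows77_6
  · exact chk_rows77_7
  · exact chk_rows77_8
  · exact chk_rows77_9
  · exact chk_rows77_10
  · exact chk_rows77_11
  · exact chk_rows77_12
  · exact chk_rows77_13
  · exact chk_rows77_14
  · exact chk_rows77_15
  · exact chk_rows77_16
  · exact chk_rows77_17
  · exact chk_rows77_18
  · exact chk_rows77_19
  · exact chk_rows77_20
  · exact chk_rows77_21
  · exact chk_rows77_22
  · exact chk_rows77_23

end Cfsg.Agent.Lib.Lead.HNP.HNTC
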