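import Cfsg.Agent.Lib.Lead.HNP.HNTCSCert
import Cfsg.Agent.Lib.Lead.HNP.HNTCSRows77

/-! # HNTC: the kernel check of the rows from 1161096 on -/

set_option autoImplicit false

namespace Cfsg.Agent.Lib.Lead.HNP.HNTC

open Cfsg.Agent.Lib.Helper6.TC Cfsg.Agent.Lib.Helper6.TCGS

theorem chk_rows101_0 : cert.rowsOK 1161096 479 = true := by decide +kernel

theorem chk_rows101_1 : cert.rowsOK 1161575 479 = true := by decide +kernel

theorem chk_rows101_2 : cert.rowsOK 1162054 479 = true := by decide +kernel

theorem chk_rows101_3 : cert.rowsOK 1162533 479 = true := by decide +kernel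

theorem chk_rows101_4 : cert.rowsOK 1163012 479 = true := by decide +kernel

theorem chk_rows101_5 : cert.rowsOK 1163491 479 = true := by decide +kernel

theorem chk_rows101_6 : cert.rowsOK 1163970 479 = true := by decide +kernel

theorem chk_rows101_7 : cert.rowsOK 1164449 479 = true := by decide +kernel

theorem chk_rows101_8 : cert.rowsOK 1164928 479 = true := by decide +kernel

theorem chk_rows101_9 : cert.rowsOK 1165407 479 = true := by decide +kernel

theorem chk_rows101_10 : cert.rowsOK 1165886 479 = true := by decide +kernel

theorem chk_rows101_11 : cert.rowsOK 1166365 479 = true := by decide +kernel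

theorem chk_rows101_12 : cert.rowsOK 1166844 479 = true := by decide +kernel

theorem chk_rows101_13 : cert.rowsOK 1167323 479 = true := by decide +kernel

theorem chk_rows101_14 : cert.rowsOK 1167802 479 = true := by decide +kernel

theorem chk_rows101_15 : cert.rowsOK 1168281 479 = true := by decide +kernel

theorem chk_rows101_16 : cert.rowsOK 1168760 479 = true := by decide +kernel

theorem chk_rows101_17 : cert.rowsOK 1169239 479 = true := by decide +kernel

theorem chk_rows101_18 : cert.rowsOK 1169718 479 = true := by decide +kernel

theorem chk_rows101_19 : cert.rowsOK 1170197 479 = true := by decide +kernel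

theorem chk_rows101_20 : cert.rowsOK 1170676 479 = true := by decide +kernel

theorem chk_rows101_21 : cert.rowsOK 1171155 479 = true := by decide +kernel

theorem chk_rows101_22 : cert.rowsOK 1171634 479 = true := by decide +kernel

theorem chk_rows101_23 : cert.rowsOK 1172113 479 = true := by decide +kernel

theorem chk_range101 : ∀ a, 1161096 ≤ a → a < 1172592 → ∀ x < cert.c.g, cert.slotOK a x = true := by
  refine cert.range_of_chunks 1161096 479 24 (by norm_num) ?_
  intro k hk
  interval_cases k
  · exact chk_rows101_0
  · exact chk_rows101_1
  · exact chk_rows101_2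
  · exact chk_rows101_3
  · exact chk_rows101_4
  · exact chk_rows101_5
  · exact chk_rows101_6
  · exact chk_rows101_7
  · exact chk_rows101_8
  · exact chk_rows101_9
  · exact chk_rows101_10
  · exact chk_rows101_11
  · exact chk_rows101_12
  · exact chk_rows101_13
  · exact chk_rows101_14
  · exact chk_rows101_15
  · exact chk_rows101_16
  · exact chk_rows101_17
  · exact chk_rows101_18
  · exact chk_rows101_19
  · exact chk_rows101_20
  · exact chk_rows101_21
  · exact chk_rows101_22
  · exact chk_rows101_23

end Cfsg.Agent.Lib.Lead.HNP.HNTC
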