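import Cfsg.Agent.Lib.Lead.HNP.HNTCSCert
import Cfsg.Agent.Lib.Lead.HNP.HNTCSRows101

/-! # HNTC: the kernel check of the rows from 1437000 on -/

set_option autoImplicit false

namespace Cfsg.Agent.Lib.Lead.HNP.HNTC

open Cfsg.Agent.Lib.Helper6.TC Cfsg.Agent.Lib.Helper6.TCGS

theorem chk_rows125_0 : cert.rowsOK 1437000 479 = true := by decide +kernel

theorem chk_rows125_1 : cert.rowsOK 1437479 479 = true := by decide +kernel

theorem chk_rows125_2 : cert.rowsOK 1437958 479 = true := by decide +kernel

theorem chk_rows125_3 : cert.rowsOK 1438437 479 = true := by decide +kernel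

theorem chk_rows125_4 : cert.rowsOK 1438916 479 = true := by decide +kernel

theorem chk_rows125_5 : cert.rowsOK 1439395 479 = true := by decide +kernel

theorem chk_rows125_6 : cert.rowsOK 1439874 479 = true := by decide +kernel

theorem chk_rows125_7 : cert.rowsOK 1440353 479 = true := by decide +kernel

theorem chk_rows125_8 : cert.rowsOK 1440832 479 = true := by decide +kernel

theorem chk_rows125_9 : cert.rowsOK 1441311 479 = true := by decide +kernel

theorem chk_rows125_10 : cert.rowsOK 1441790 479 = true := by decide +kernel

theorem chk_rows125_11 : cert.rowsOK 1442269 479 = true := by decide +kernel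

theorem chk_rows125_12 : cert.rowsOK 1442748 479 = true := by decide +kernel

theorem chk_rows125_13 : cert.rowsOK 1443227 479 = true := by decide +kernel

theorem chk_rows125_14 : cert.rowsOK 1443706 479 = true := by decide +kernel

theorem chk_rows125_15 : cert.rowsOK 1444185 479 = true := by decide +kernel

theorem chk_rows125_16 : cert.rowsOK 1444664 479 = true := by decide +kernel

theorem chk_rows125_17 : cert.rowsOK 1445143 479 = true := by decide +kernel

theorem chk_rows125_18 : cert.rowsOK 1445622 479 = true := by decide +kernel

theorem chk_rows125_19 : cert.rowsOK 1446101 479 = true := by decide +kernel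

theorem chk_rows125_20 : cert.rowsOK 1446580 479 = true := by decide +kernel

theorem chk_rows125_21 : cert.rowsOK 1447059 479 = true := by decide +kernel

theorem chk_rows125_22 : cert.rowsOK 1447538 479 = true := by decide +kernel

theorem chk_rows125_23 : cert.rowsOK 1448017 479 = true := by decide +kernel

theorem chk_range125 : ∀ a, 1437000 ≤ a → a < 1448496 → ∀ x < cert.c.g, cert.slotOK a x = true := by
  refine cert.range_of_chunks 1437000 479 24 (by norm_num) ?_
  intro k hk
  interval_cases k
  · exact chk_rows125_0
  · exact chk_rows125_1
  · exact chk_rows125_2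
  · exact chk_rows125_3
  · exact chk_rows125_4
  · exact chk_rows125_5
  · exact chk_rows125_6
  · exact chk_rows125_7
  · exact chk_rows125_8
  · exact chk_rows125_9
  · exact chk_rows125_10
  · exact chk_rows125_11
  · exact chk_rows125_12
  · exact chk_rows125_13
  · exact chk_rows125_14
  · exact chk_rows125_15
  · exact chk_rows125_16
  · exact chk_rows125_17
  · exact chk_rows125_18
  · exact chk_rows125_19
  · exact chk_rows125_20
  · exact chk_rows125_21
  · exact chk_rows125_22
  · exact chk_rows125_23

end Cfsg.Agent.Lib.Lead.HNP.HNTC
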