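import Cfsg.Agent.Lib.Lead.HNP.HNTCSCert
import Cfsg.Agent.Lib.Helper6.TCGIndex
import Cfsg.Agent.Lib.Lead.HNP.HNTCSFin15

/-! # HNTC: the kernel check that the first rows are closed, part 39 -/

set_option autoImplicit false

namespace Cfsg.Agent.Lib.Lead.HNP.HNTC

open Cfsg.Agent.Lib.Helper6.TC Cfsg.Agent.Lib.Helper6.TCGS

theorem chk_fin351 : cert.finalOKc 1539000 702000 2000 = true := by decide +kernel

theorem chk_fin352 : cert.finalOKc 1539000 704000 2000 = true := by decide +kernel

theorem chk_fin353 : cert.finalOKc 1539000 706000 2000 = true := by decide +kernel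

theorem chk_fin354 : cert.finalOKc 1539000 708000 2000 = true := by decide +kernel

theorem chk_fin355 : cert.finalOKc 1539000 710000 2000 = true := by decide +kernel

theorem chk_fin356 : cert.finalOKc 1539000 712000 2000 = true := by decide +kernel

theorem chk_fin357 : cert.finalOKc 1539000 714000 2000 = true := by decide +kernel

theorem chk_fin358 : cert.finalOKc 1539000 716000 2000 = true := by decide +kernel

theorem chk_fin359 : cert.finalOKc 1539000 718000 2000 = true := by decide +kernel


end Cfsg.Agent.Lib.Lead.HNP.HNTC
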