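import Cfsg.Agent.Lib.Lead.HNP.HNTCSCert
import Cfsg.Agent.Lib.Helper6.TCGIndex
import Cfsg.Agent.Lib.Lead.HNP.HNTCSFin39

/-! # HNTC: the kernel check that the first rows are closed, part 63 -/

set_option autoImplicit false

namespace Cfsg.Agent.Lib.Lead.HNP.HNTC

open Cfsg.Agent.Lib.Helper6.TC Cfsg.Agent.Lib.Helper6.TCGS

theorem chk_fin567 : cert.finalOKc 1539000 1134000 2000 = true := by decide +kernel

theorem chk_fin568 : cert.finalOKc 1539000 1136000 2000 = true := by decide +kernel

theorem chk_fin569 : cert.finalOKc 1539000 1138000 2000 = true := by decide +kernel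

theorem chk_fin570 : cert.finalOKc 1539000 1140000 2000 = true := by decide +kernel

theorem chk_fin571 : cert.finalOKc 1539000 1142000 2000 = true := by decide +kernel

theorem chk_fin572 : cert.finalOKc 1539000 1144000 2000 = true := by decide +kernel

theorem chk_fin573 : cert.finalOKc 1539000 1146000 2000 = true := by decide +kernel

theorem chk_fin574 : cert.finalOKc 1539000 1148000 2000 = true := by decide +kernel

theorem chk_fin575 : cert.finalOKc 1539000 1150000 2000 = true := by decide +kernel


end Cfsg.Agent.Lib.Lead.HNP.HNTC
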