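import Cfsg.Agent.Lib.Lead.HNP.HNTCData
import Cfsg.Agent.Lib.Helper6.TCRel3
import Cfsg.Agent.Lib.Lead.HNP.HNTCSFin63

/-! # HNTC: the kernel check of a part of the relators on the coset table -/

set_option autoImplicit false

namespace Cfsg.Agent.Lib.Lead.HNP.HNTC

open Cfsg.Agent.Lib.Helper6.TC

theorem chk_pow0_2_0 : tab.minOKc [2] 6 960000 32000 = true := by decide +kernel

theorem chk_pow0_2_1 : tab.minOKc [2] 6 992000 32000 = true := by decide +kernel

theorem chk_pow0_2_2 : tab.minOKc [2] 6 1024000 32000 = true := by decide +kernel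

theorem chk_pow0_2_3 : tab.minOKc [2] 6 1056000 32000 = true := by decide +kernel

theorem chk_pow0_2_4 : tab.minOKc [2] 6 1088000 32000 = true := by decide +kernel

theorem chk_pow0_2_5 : tab.minOKc [2] 6 1120000 32000 = true := by decide +kernel

theorem chk_pow0_2_6 : tab.minOKc [2] 6 1152000 32000 = true := by decide +kernel

theorem chk_pow0_2_7 : tab.minOKc [2] 6 1184000 32000 = true := by decide +kernel

theorem chk_pow0_2_8 : tab.minOKc [2] 6 1216000 32000 = true := by decide +kernel

theorem chk_pow0_2_9 : tab.minOKc [2] 6 1248000 32000 = true := by decide +kernel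

theorem chk_pow0_2_10 : tab.minOKc [2] 6 1280000 32000 = true := by decide +kernel

theorem chk_pow0_2_11 : tab.minOKc [2] 6 1312000 32000 = true := by decide +kernel

theorem chk_pow0_2_12 : tab.minOKc [2] 6 1344000 32000 = true := by decide +kernel

theorem chk_pow0_2_13 : tab.minOKc [2] 6 1376000 32000 = true := by decide +kernel

theorem chk_pow0_2_14 : tab.minOKc [2] 6 1408000 32000 = true := by decide +kernel

theorem chk_pow0_2 : tab.minOKc [2] 6 960000 480000 = true := by
  refine tab.minOKc_of_chunks [2] 6 960000 32000 15 (by norm_num) ?_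
  intro i hi
  interval_cases i
  · exact chk_pow0_2_0
  · exact chk_pow0_2_1
  · exact chk_pow0_2_2
  · exact chk_pow0_2_3
  · exact chk_pow0_2_4
  · exact chk_pow0_2_5
  · exact chk_pow0_2_6
  · exact chk_pow0_2_7
  · exact chk_pow0_2_8
  · exact chk_pow0_2_9
  · exact chk_pow0_2_10
  · exact chk_pow0_2_11
  · exact chk_pow0_2_12
  · exact chk_pow0_2_13
  · exact chk_pow0_2_14

theorem chk_pow0_3_0 : tab.minOKc [2] 6 1440000 32000 = true := by decide +kernel

theorem chk_pow0_3_1 : tab.minOKc [2] 6 1472000 32000 = true := by decide +kernel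

theorem chk_pow0_3_2 : tab.minOKc [2] 6 1504000 32000 = true := by decide +kernel

theorem chk_pow0_3_3 : tab.minOKc [2] 6 1536000 32000 = true := by decide +kernel

theorem chk_pow0_3_4 : tab.minOKc [2] 6 1568000 32000 = true := by decide +kernel

theorem chk_pow0_3_5 : tab.minOKc [2] 6 1600000 32000 = true := by decide +kernel

theorem chk_pow0_3_6 : tab.minOKc [2] 6 1632000 32000 = true := by decide +kernel

theorem chk_pow0_3_7 : tab.minOKc [2] 6 1664000 32000 = true := by decide +kernel

theorem chk_pow0_3_8 : tab.minOKc [2] 6 1696000 32000 = true := by decide +kernel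

theorem chk_pow0_3_9 : tab.minOKc [2] 6 1728000 32000 = true := by decide +kernel

theorem chk_pow0_3_10 : tab.minOKc [2] 6 1760000 32000 = true := by decide +kernel

theorem chk_pow0_3_11 : tab.minOKc [2] 6 1792000 32000 = true := by decide +kernel

theorem chk_pow0_3_12 : tab.minOKc [2] 6 1824000 32000 = true := by decide +kernel

theorem chk_pow0_3_13 : tab.minOKc [2] 6 1856000 32000 = true := by decide +kernel

theorem chk_pow0_3_14 : tab.minOKc [2] 6 1888000 32000 = true := by decide +kernel

theorem chk_pow0_3 : tab.minOKc [2] 6 1440000 480000 = true := by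
  refine tab.minOKc_of_chunks [2] 6 1440000 32000 15 (by norm_num) ?_
  intro i hi
  interval_cases i
  · exact chk_pow0_3_0
  · exact chk_pow0_3_1
  · exact chk_pow0_3_2
  · exact chk_pow0_3_3
  · exact chk_pow0_3_4
  · exact chk_pow0_3_5
  · exact chk_pow0_3_6
  · exact chk_pow0_3_7
  · exact chk_pow0_3_8
  · exact chk_pow0_3_9
  · exact chk_pow0_3_10
  · exact chk_pow0_3_11
  · exact chk_pow0_3_12
  · exact chk_pow0_3_13
  · exact chk_pow0_3_14


end Cfsg.Agent.Lib.Lead.HNP.HNTC
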