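import Cfsg.Agent.Lib.Lead.HNP.HNTCSCert

/-! # HNTC: the kernel check of the rows from 160944 on -/

set_option autoImplicit false

namespace Cfsg.Agent.Lib.Lead.HNP.HNTC

open Cfsg.Agent.Lib.Helper6.TC Cfsg.Agent.Lib.Helper6.TCGS

theorem chk_rows14_0 : cert.rowsOK 160944 479 = true := by decide +kernel

theorem chk_rows14_1 : cert.rowsOK 161423 479 = true := by decide +kernel

theorem chk_rows14_2 : cert.rowsOK 161902 479 = true := by decide +kernel

theorem chk_rows14_3 : cert.rowsOK 162381 479 = true := by decide +kernel

theorem chk_rows14_4 : cert.rowsOK 162860 479 = true := by decide +kernel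

theorem chk_rows14_5 : cert.rowsOK 163339 479 = true := by decide +kernel

theorem chk_rows14_6 : cert.rowsOK 163818 479 = true := by decide +kernel

theorem chk_rows14_7 : cert.rowsOK 164297 479 = true := by decide +kernel

theorem chk_rows14_8 : cert.rowsOK 164776 479 = true := by decide +kernel

theorem chk_rows14_9 : cert.rowsOK 165255 479 = true := by decide +kernel

theorem chk_rows14_10 : cert.rowsOK 165734 479 = true := by decide +kernel

theorem chk_rows14_11 : cert.rowsOK 166213 479 = true := by decide +kernel

theorem chk_rows14_12 : cert.rowsOK 166692 479 = true := by decide +kernel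

theorem chk_rows14_13 : cert.rowsOK 167171 479 = true := by decide +kernel

theorem chk_rows14_14 : cert.rowsOK 167650 479 = true := by decide +kernel

theorem chk_rows14_15 : cert.rowsOK 168129 479 = true := by decide +kernel

theorem chk_rows14_16 : cert.rowsOK 168608 479 = true := by decide +kernel

theorem chk_rows14_17 : cert.rowsOK 169087 479 = true := by decide +kernel

theorem chk_rows14_18 : cert.rowsOK 169566 479 = true := by decide +kernel

theorem chk_rows14_19 : cert.rowsOK 170045 479 = true := by decide +kernel

theorem chk_rows14_20 : cert.rowsOK 170524 479 = true := by decide +kernel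

theorem chk_rows14_21 : cert.rowsOK 171003 479 = true := by decide +kernel

theorem chk_rows14_22 : cert.rowsOK 171482 479 = true := by decide +kernel

theorem chk_rows14_23 : cert.rowsOK 171961 479 = true := by decide +kernel

theorem chk_range14 : ∀ a, 160944 ≤ a → a < 172440 → ∀ x < cert.c.g, cert.slotOK a x = true := by
  refine cert.range_of_chunks 160944 479 24 (by norm_num) ?_
  intro k hk
  interval_cases k
  · exact chk_rows14_0
  · exact chk_rows14_1
  · exact chk_rows14_2
  · exact chk_rows14_3
  · exact chk_rows14_4
  · exact chk_rows14_5
  · exact chk_rows14_6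
  · exact chk_rows14_7
  · exact chk_rows14_8
  · exact chk_rows14_9
  · exact chk_rows14_10
  · exact chk_rows14_11
  · exact chk_rows14_12
  · exact chk_rows14_13
  · exact chk_rows14_14
  · exact chk_rows14_15
  · exact chk_rows14_16
  · exact chk_rows14_17
  · exact chk_rows14_18
  · exact chk_rows14_19
  · exact chk_rows14_20
  · exact chk_rows14_21
  · exact chk_rows14_22
  · exact chk_rows14_23

end Cfsg.Agent.Lib.Lead.HNP.HNTC
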