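import Cfsg.Agent.Lib.Lead.HNP.HNTCSCert
import Cfsg.Agent.Lib.Lead.HNP.HNTCSRows14

/-! # HNTC: the kernel check of the rows from 436848 on -/

set_option autoImplicit false

namespace Cfsg.Agent.Lib.Lead.HNP.HNTC

open Cfsg.Agent.Lib.Helper6.TC Cfsg.Agent.Lib.Helper6.TCGS

theorem chk_rows38_0 : cert.rowsOK 436848 479 = true := by decide +kernel

theorem chk_rows38_1 : cert.rowsOK 437327 479 = true := by decide +kernel

theorem chk_rows38_2 : cert.rowsOK 437806 479 = true := by decide +kernel

theorem chk_rows38_3 : cert.rowsOK 438285 479 = true := by decide +kernel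

theorem chk_rows38_4 : cert.rowsOK 438764 479 = true := by decide +kernel

theorem chk_rows38_5 : cert.rowsOK 439243 479 = true := by decide +kernel

theorem chk_rows38_6 : cert.rowsOK 439722 479 = true := by decide +kernel

theorem chk_rows38_7 : cert.rowsOK 440201 479 = true := by decide +kernel

theorem chk_rows38_8 : cert.rowsOK 440680 479 = true := by decide +kernel

theorem chk_rows38_9 : cert.rowsOK 441159 479 = true := by decide +kernel

theorem chk_rows38_10 : cert.rowsOK 441638 479 = true := by decide +kernel

theorem chk_rows38_11 : cert.rowsOK 442117 479 = true := by decide +kernel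

theorem chk_rows38_12 : cert.rowsOK 442596 479 = true := by decide +kernel

theorem chk_rows38_13 : cert.rowsOK 443075 479 = true := by decide +kernel

theorem chk_rows38_14 : cert.rowsOK 443554 479 = true := by decide +kernel

theorem chk_rows38_15 : cert.rowsOK 444033 479 = true := by decide +kernel

theorem chk_rows38_16 : cert.rowsOK 444512 479 = true := by decide +kernel

theorem chk_rows38_17 : cert.rowsOK 444991 479 = true := by decide +kernel

theorem chk_rows38_18 : cert.rowsOK 445470 479 = true := by decide +kernel

theorem chk_rows38_19 : cert.rowsOK 445949 479 = true := by decide +kernel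

theorem chk_rows38_20 : cert.rowsOK 446428 479 = true := by decide +kernel

theorem chk_rows38_21 : cert.rowsOK 446907 479 = true := by decide +kernel

theorem chk_rows38_22 : cert.rowsOK 447386 479 = true := by decide +kernel

theorem chk_rows38_23 : cert.rowsOK 447865 479 = true := by decide +kernel

theorem chk_range38 : ∀ a, 436848 ≤ a → a < 448344 → ∀ x < cert.c.g, cert.slotOK a x = true := by
  refine cert.range_of_chunks 436848 479 24 (by norm_num) ?_
  intro k hk
  interval_cases k
  · exact chk_rows38_0
  · exact chk_rows38_1
  · exact chk_rows38_2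
  · exact chk_rows38_3
  · exact chk_rows38_4
  · exact chk_rows38_5
  · exact chk_rows38_6
  · exact chk_rows38_7
  · exact chk_rows38_8
  · exact chk_rows38_9
  · exact chk_rows38_10
  · exact chk_rows38_11
  · exact chk_rows38_12
  · exact chk_rows38_13
  · exact chk_rows38_14
  · exact chk_rows38_15
  · exact chk_rows38_16
  · exact chk_rows38_17
  · exact chk_rows38_18
  · exact chk_rows38_19
  · exact chk_rows38_20
  · exact chk_rows38_21
  · exact chk_rows38_22
  · exact chk_rows38_23

end Cfsg.Agent.Lib.Lead.HNP.HNTC
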