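import Cfsg.Agent.Lib.Lead.HNP.HNTCSCert
import Cfsg.Agent.Lib.Lead.HNP.HNTCSRows38

/-! # HNTC: the kernel check of the rows from 712752 on -/

set_option autoImplicit false

namespace Cfsg.Agent.Lib.Lead.HNP.HNTC

open Cfsg.Agent.Lib.Helper6.TC Cfsg.Agent.Lib.Helper6.TCGS

theorem chk_rows62_0 : cert.rowsOK 712752 479 = true := by decide +kernel

theorem chk_rows62_1 : cert.rowsOK 713231 479 = true := by decide +kernel

theorem chk_rows62_2 : cert.rowsOK 713710 479 = true := by decide +kernel

theorem chk_rows62_3 : cert.rowsOK 714189 479 = true := by decide +kernel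

theorem chk_rows62_4 : cert.rowsOK 714668 479 = true := by decide +kernel

theorem chk_rows62_5 : cert.rowsOK 715147 479 = true := by decide +kernel

theorem chk_rows62_6 : cert.rowsOK 715626 479 = true := by decide +kernel

theorem chk_rows62_7 : cert.rowsOK 716105 479 = true := by decide +kernel

theorem chk_rows62_8 : cert.rowsOK 716584 479 = true := by decide +kernel

theorem chk_rows62_9 : cert.rowsOK 717063 479 = true := by decide +kernel

theorem chk_rows62_10 : cert.rowsOK 717542 479 = true := by decide +kernel

theorem chk_rows62_11 : cert.rowsOK 718021 479 = true := by decide +kernel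

theorem chk_rows62_12 : cert.rowsOK 718500 479 = true := by decide +kernel

theorem chk_rows62_13 : cert.rowsOK 718979 479 = true := by decide +kernel

theorem chk_rows62_14 : cert.rowsOK 719458 479 = true := by decide +kernel

theorem chk_rows62_15 : cert.rowsOK 719937 479 = true := by decide +kernel

theorem chk_rows62_16 : cert.rowsOK 720416 479 = true := by decide +kernel

theorem chk_rows62_17 : cert.rowsOK 720895 479 = true := by decide +kernel

theorem chk_rows62_18 : cert.rowsOK 721374 479 = true := by decide +kernel

theorem chk_rows62_19 : cert.rowsOK 721853 479 = true := by decide +kernel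

theorem chk_rows62_20 : cert.rowsOK 722332 479 = true := by decide +kernel

theorem chk_rows62_21 : cert.rowsOK 722811 479 = true := by decide +kernel

theorem chk_rows62_22 : cert.rowsOK 723290 479 = true := by decide +kernel

theorem chk_rows62_23 : cert.rowsOK 723769 479 = true := by decide +kernel

theorem chk_range62 : ∀ a, 712752 ≤ a → a < 724248 → ∀ x < cert.c.g, cert.slotOK a x = true := by
  refine cert.range_of_chunks 712752 479 24 (by norm_num) ?_
  intro k hk
  interval_cases k
  · exact chk_rows62_0
  · exact chk_rows62_1
  · exact chk_rows62_2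
  · exact chk_rows62_3
  · exact chk_rows62_4
  · exact chk_rows62_5
  · exact chk_rows62_6
  · exact chk_rows62_7
  · exact chk_rows62_8
  · exact chk_rows62_9
  · exact chk_rows62_10
  · exact chk_rows62_11
  · exact chk_rows62_12
  · exact chk_rows62_13
  · exact chk_rows62_14
  · exact chk_rows62_15
  · exact chk_rows62_16
  · exact chk_rows62_17
  · exact chk_rows62_18
  · exact chk_rows62_19
  · exact chk_rows62_20
  · exact chk_rows62_21
  · exact chk_rows62_22
  · exact chk_rows62_23

end Cfsg.Agent.Lib.Lead.HNP.HNTC
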