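import Cfsg.Agent.Lib.Lead.HNP.HNTCSCert
import Cfsg.Agent.Lib.Lead.HNP.HNTCSRows62

/-! # HNTC: the kernel check of the rows from 988656 on -/

set_option autoImplicit false

namespace Cfsg.Agent.Lib.Lead.HNP.HNTC

open Cfsg.Agent.Lib.Helper6.TC Cfsg.Agent.Lib.Helper6.TCGS

theorem chk_rows86_0 : cert.rowsOK 988656 479 = true := by decide +kernel

theorem chk_rows86_1 : cert.rowsOK 989135 479 = true := by decide +kernel

theorem chk_rows86_2 : cert.rowsOK 989614 479 = true := by decide +kernel

theorem chk_rows86_3 : cert.rowsOK 990093 479 = true := by decide +kernel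

theorem chk_rows86_4 : cert.rowsOK 990572 479 = true := by decide +kernel

theorem chk_rows86_5 : cert.rowsOK 991051 479 = true := by decide +kernel

theorem chk_rows86_6 : cert.rowsOK 991530 479 = true := by decide +kernel

theorem chk_rows86_7 : cert.rowsOK 992009 479 = true := by decide +kernel

theorem chk_rows86_8 : cert.rowsOK 992488 479 = true := by decide +kernel

theorem chk_rows86_9 : cert.rowsOK 992967 479 = true := by decide +kernel

theorem chk_rows86_10 : cert.rowsOK 993446 479 = true := by decide +kernel

theorem chk_rows86_11 : cert.rowsOK 993925 479 = true := by decide +kernel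

theorem chk_rows86_12 : cert.rowsOK 994404 479 = true := by decide +kernel

theorem chk_rows86_13 : cert.rowsOK 994883 479 = true := by decide +kernel

theorem chk_rows86_14 : cert.rowsOK 995362 479 = true := by decide +kernel

theorem chk_rows86_15 : cert.rowsOK 995841 479 = true := by decide +kernel

theorem chk_rows86_16 : cert.rowsOK 996320 479 = true := by decide +kernel

theorem chk_rows86_17 : cert.rowsOK 996799 479 = true := by decide +kernel

theorem chk_rows86_18 : cert.rowsOK 997278 479 = true := by decide +kernel

theorem chk_rows86_19 : cert.rowsOK 997757 479 = true := by decide +kernel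

theorem chk_rows86_20 : cert.rowsOK 998236 479 = true := by decide +kernel

theorem chk_rows86_21 : cert.rowsOK 998715 479 = true := by decide +kernel

theorem chk_rows86_22 : cert.rowsOK 999194 479 = true := by decide +kernel

theorem chk_rows86_23 : cert.rowsOK 999673 479 = true := by decide +kernel

theorem chk_range86 : ∀ a, 988656 ≤ a → a < 1000152 → ∀ x < cert.c.g, cert.slotOK a x = true := by
  refine cert.range_of_chunks 988656 479 24 (by norm_num) ?_
  intro k hk
  interval_cases k
  · exact chk_rows86_0
  · exact chk_rows86_1
  · exact chk_rows86_2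
  · exact chk_rows86_3
  · exact chk_rows86_4
  · exact chk_rows86_5
  · exact chk_rows86_6
  · exact chk_rows86_7
  · exact chk_rows86_8
  · exact chk_rows86_9
  · exact chk_rows86_10
  · exact chk_rows86_11
  · exact chk_rows86_12
  · exact chk_rows86_13
  · exact chk_rows86_14
  · exact chk_rows86_15
  · exact chk_rows86_16
  · exact chk_rows86_17
  · exact chk_rows86_18
  · exact chk_rows86_19
  · exact chk_rows86_20
  · exact chk_rows86_21
  · exact chk_rows86_22
  · exact chk_rows86_23

end Cfsg.Agent.Lib.Lead.HNP.HNTC
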