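import Cfsg.Agent.Lib.Lead.HNP.HNTCSCert
import Cfsg.Agent.Lib.Lead.HNP.HNTCSRows86

/-! # HNTC: the kernel check of the rows from 1264560 on -/

set_option autoImplicit false

namespace Cfsg.Agent.Lib.Lead.HNP.HNTC

open Cfsg.Agent.Lib.Helper6.TC Cfsg.Agent.Lib.Helper6.TCGS

theorem chk_rows110_0 : cert.rowsOK 1264560 479 = true := by decide +kernel

theorem chk_rows110_1 : cert.rowsOK 1265039 479 = true := by decide +kernel

theorem chk_rows110_2 : cert.rowsOK 1265518 479 = true := by decide +kernel

theorem chk_rows110_3 : cert.rowsOK 1265997 479 = true := by decide +kernel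

theorem chk_rows110_4 : cert.rowsOK 1266476 479 = true := by decide +kernel

theorem chk_rows110_5 : cert.rowsOK 1266955 479 = true := by decide +kernel

theorem chk_rows110_6 : cert.rowsOK 1267434 479 = true := by decide +kernel

theorem chk_rows110_7 : cert.rowsOK 1267913 479 = true := by decide +kernel

theorem chk_rows110_8 : cert.rowsOK 1268392 479 = true := by decide +kernel

theorem chk_rows110_9 : cert.rowsOK 1268871 479 = true := by decide +kernel

theorem chk_rows110_10 : cert.rowsOK 1269350 479 = true := by decide +kernel

theorem chk_rows110_11 : cert.rowsOK 1269829 479 = true := by decide +kernel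

theorem chk_rows110_12 : cert.rowsOK 1270308 479 = true := by decide +kernel

theorem chk_rows110_13 : cert.rowsOK 1270787 479 = true := by decide +kernel

theorem chk_rows110_14 : cert.rowsOK 1271266 479 = true := by decide +kernel

theorem chk_rows110_15 : cert.rowsOK 1271745 479 = true := by decide +kernel

theorem chk_rows110_16 : cert.rowsOK 1272224 479 = true := by decide +kernel

theorem chk_rows110_17 : cert.rowsOK 1272703 479 = true := by decide +kernel

theorem chk_rows110_18 : cert.rowsOK 1273182 479 = true := by decide +kernel

theorem chk_rows110_19 : cert.rowsOK 1273661 479 = true := by decide +kernel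

theorem chk_rows110_20 : cert.rowsOK 1274140 479 = true := by decide +kernel

theorem chk_rows110_21 : cert.rowsOK 1274619 479 = true := by decide +kernel

theorem chk_rows110_22 : cert.rowsOK 1275098 479 = true := by decide +kernel

theorem chk_rows110_23 : cert.rowsOK 1275577 479 = true := by decide +kernel

theorem chk_range110 : ∀ a, 1264560 ≤ a → a < 1276056 → ∀ x < cert.c.g, cert.slotOK a x = true := by
  refine cert.range_of_chunks 1264560 479 24 (by norm_num) ?_
  intro k hk
  interval_cases k
  · exact chk_rows110_0
  · exact chk_rows110_1
  · exact chk_rows110_2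
  · exact chk_rows110_3
  · exact chk_rows110_4
  · exact chk_rows110_5
  · exact chk_rows110_6
  · exact chk_rows110_7
  · exact chk_rows110_8
  · exact chk_rows110_9
  · exact chk_rows110_10
  · exact chk_rows110_11
  · exact chk_rows110_12
  · exact chk_rows110_13
  · exact chk_rows110_14
  · exact chk_rows110_15
  · exact chk_rows110_16
  · exact chk_rows110_17
  · exact chk_rows110_18
  · exact chk_rows110_19
  · exact chk_rows110_20
  · exact chk_rows110_21
  · exact chk_rows110_22
  · exact chk_rows110_23

end Cfsg.Agent.Lib.Lead.HNP.HNTC
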