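import Cfsg.Agent.Lib.Lead.HNP.HNTCSCert
import Cfsg.Agent.Lib.Helper6.TCGIndex
import Cfsg.Agent.Lib.Lead.HNP.HNTCSFin0

/-! # HNTC: the kernel check that the first rows are closed, part 24 -/

set_option autoImplicit false

namespace Cfsg.Agent.Lib.Lead.HNP.HNTC

open Cfsg.Agent.Lib.Helper6.TC Cfsg.Agent.Lib.Helper6.TCGS

theorem chk_fin216 : cert.finalOKc 1539000 432000 2000 = true := by decide +kernel

theorem chk_fin217 : cert.finalOKc 1539000 434000 2000 = true := by decide +kernel

theorem chk_fin218 : cert.finalOKc 1539000 436000 2000 = true := by decide +kernel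

theorem chk_fin219 : cert.finalOKc 1539000 438000 2000 = true := by decide +kernel

theorem chk_fin220 : cert.finalOKc 1539000 440000 2000 = true := by decide +kernel

theorem chk_fin221 : cert.finalOKc 1539000 442000 2000 = true := by decide +kernel

theorem chk_fin222 : cert.finalOKc 1539000 444000 2000 = true := by decide +kernel

theorem chk_fin223 : cert.finalOKc 1539000 446000 2000 = true := by decide +kernel

theorem chk_fin224 : cert.finalOKc 1539000 448000 2000 = true := by decide +kernel


end Cfsg.Agent.Lib.Lead.HNP.HNTC
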