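import Cfsg.Agent.Lib.Lead.HNP.HNTCSCert
import Cfsg.Agent.Lib.Helper6.TCGIndex
import Cfsg.Agent.Lib.Lead.HNP.HNTCSFin24

/-! # HNTC: the kernel check that the first rows are closed, part 48 -/

set_option autoImplicit false

namespace Cfsg.Agent.Lib.Lead.HNP.HNTC

open Cfsg.Agent.Lib.Helper6.TC Cfsg.Agent.Lib.Helper6.TCGS

theorem chk_fin432 : cert.finalOKc 1539000 864000 2000 = true := by decide +kernel

theorem chk_fin433 : cert.finalOKc 1539000 866000 2000 = true := by decide +kernel

theorem chk_fin434 : cert.finalOKc 1539000 868000 2000 = true := by decide +kernel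

theorem chk_fin435 : cert.finalOKc 1539000 870000 2000 = true := by decide +kernel

theorem chk_fin436 : cert.finalOKc 1539000 872000 2000 = true := by decide +kernel

theorem chk_fin437 : cert.finalOKc 1539000 874000 2000 = true := by decide +kernel

theorem chk_fin438 : cert.finalOKc 1539000 876000 2000 = true := by decide +kernel

theorem chk_fin439 : cert.finalOKc 1539000 878000 2000 = true := by decide +kernel

theorem chk_fin440 : cert.finalOKc 1539000 880000 2000 = true := by decide +kernel


end Cfsg.Agent.Lib.Lead.HNP.HNTC
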