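import Cfsg.Agent.Lib.Lead.HNP.HNTCSCert
import Cfsg.Agent.Lib.Helper6.TCGIndex
import Cfsg.Agent.Lib.Lead.HNP.HNTCSFin48

/-! # HNTC: the kernel check that the first rows are closed, part 72 -/

set_option autoImplicit false

namespace Cfsg.Agent.Lib.Lead.HNP.HNTC

open Cfsg.Agent.Lib.Helper6.TC Cfsg.Agent.Lib.Helper6.TCGS

theorem chk_fin648 : cert.finalOKc 1539000 1296000 2000 = true := by decide +kernel

theorem chk_fin649 : cert.finalOKc 1539000 1298000 2000 = true := by decide +kernel

theorem chk_fin650 : cert.finalOKc 1539000 1300000 2000 = true := by decide +kernel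

theorem chk_fin651 : cert.finalOKc 1539000 1302000 2000 = true := by decide +kernel

theorem chk_fin652 : cert.finalOKc 1539000 1304000 2000 = true := by decide +kernel

theorem chk_fin653 : cert.finalOKc 1539000 1306000 2000 = true := by decide +kernel

theorem chk_fin654 : cert.finalOKc 1539000 1308000 2000 = true := by decide +kernel

theorem chk_fin655 : cert.finalOKc 1539000 1310000 2000 = true := by decide +kernel

theorem chk_fin656 : cert.finalOKc 1539000 1312000 2000 = true := by decide +kernel


end Cfsg.Agent.Lib.Lead.HNP.HNTC
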