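import Cfsg.Agent.Lib.Lead.HNP.HNTCData
import Cfsg.Agent.Lib.Helper6.TCRel3
import Cfsg.Agent.Lib.Lead.HNP.HNTCSFin72

/-! # HNTC: the kernel check of a part of the relators on the coset table -/

set_option autoImplicit false

namespace Cfsg.Agent.Lib.Lead.HNP.HNTC

open Cfsg.Agent.Lib.Helper6.TC

theorem chk_pow1_16_0 : tab.minOKc [0, 0, 2, 0, 0, 3] 1 1279920 5333 = true := by decide +kernel

theorem chk_pow1_16_1 : tab.minOKc [0, 0, 2, 0, 0, 3] 1 1285253 5333 = true := by decide +kernel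

theorem chk_pow1_16_2 : tab.minOKc [0, 0, 2, 0, 0, 3] 1 1290586 5333 = true := by decide +kernel

theorem chk_pow1_16_3 : tab.minOKc [0, 0, 2, 0, 0, 3] 1 1295919 5333 = true := by decide +kernel

theorem chk_pow1_16_4 : tab.minOKc [0, 0, 2, 0, 0, 3] 1 1301252 5333 = true := by decide +kernel

theorem chk_pow1_16_5 : tab.minOKc [0, 0, 2, 0, 0, 3] 1 1306585 5333 = true := by decide +kernel

theorem chk_pow1_16_6 : tab.minOKc [0, 0, 2, 0, 0, 3] 1 1311918 5333 = true := by decide +kernel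

theorem chk_pow1_16_7 : tab.minOKc [0, 0, 2, 0, 0, 3] 1 1317251 5333 = true := by decide +kernel

theorem chk_pow1_16_8 : tab.minOKc [0, 0, 2, 0, 0, 3] 1 1322584 5333 = true := by decide +kernel

theorem chk_pow1_16_9 : tab.minOKc [0, 0, 2, 0, 0, 3] 1 1327917 5333 = true := by decide +kernel

theorem chk_pow1_16_10 : tab.minOKc [0, 0, 2, 0, 0, 3] 1 1333250 5333 = true := by decide +kernel

theorem chk_pow1_16_11 : tab.minOKc [0, 0, 2, 0, 0, 3] 1 1338583 5333 = true := by decide +kernel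

theorem chk_pow1_16_12 : tab.minOKc [0, 0, 2, 0, 0, 3] 1 1343916 5333 = true := by decide +kernel

theorem chk_pow1_16_13 : tab.minOKc [0, 0, 2, 0, 0, 3] 1 1349249 5333 = true := by decide +kernel

theorem chk_pow1_16_14 : tab.minOKc [0, 0, 2, 0, 0, 3] 1 1354582 5333 = true := by decide +kernel

theorem chk_pow1_16 : tab.minOKc [0, 0, 2, 0, 0, 3] 1 1279920 79995 = true := by
  refine tab.minOKc_of_chunks [0, 0, 2, 0, 0, 3] 1 1279920 5333 15 (by norm_num) ?_
  intro i hi
  interval_cases i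
  · exact chk_pow1_16_0
  · exact chk_pow1_16_1
  · exact chk_pow1_16_2
  · exact chk_pow1_16_3
  · exact chk_pow1_16_4
  · exact chk_pow1_16_5
  · exact chk_pow1_16_6
  · exact chk_pow1_16_7
  · exact chk_pow1_16_8
  · exact chk_pow1_16_9
  · exact chk_pow1_16_10
  · exact chk_pow1_16_11
  · exact chk_pow1_16_12
  · exact chk_pow1_16_13
  · exact chk_pow1_16_14

theorem chk_pow1_17_0 : tab.minOKc [0, 0, 2, 0, 0, 3] 1 1359915 5333 = true := by decide +kernel

theorem chk_pow1_17_1 : tab.minOKc [0, 0, 2, 0, 0, 3] 1 1365248 5333 = true := by decide +kernel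

theorem chk_pow1_17_2 : tab.minOKc [0, 0, 2, 0, 0, 3] 1 1370581 5333 = true := by decide +kernel

theorem chk_pow1_17_3 : tab.minOKc [0, 0, 2, 0, 0, 3] 1 1375914 5333 = true := by decide +kernel

theorem chk_pow1_17_4 : tab.minOKc [0, 0, 2, 0, 0, 3] 1 1381247 5333 = true := by decide +kernel

theorem chk_pow1_17_5 : tab.minOKc [0, 0, 2, 0, 0, 3] 1 1386580 5333 = true := by decide +kernel

theorem chk_pow1_17_6 : tab.minOKc [0, 0, 2, 0, 0, 3] 1 1391913 5333 = true := by decide +kernel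

theorem chk_pow1_17_7 : tab.minOKc [0, 0, 2, 0, 0, 3] 1 1397246 5333 = true := by decide +kernel

theorem chk_pow1_17_8 : tab.minOKc [0, 0, 2, 0, 0, 3] 1 1402579 5333 = true := by decide +kernel

theorem chk_pow1_17_9 : tab.minOKc [0, 0, 2, 0, 0, 3] 1 1407912 5333 = true := by decide +kernel

theorem chk_pow1_17_10 : tab.minOKc [0, 0, 2, 0, 0, 3] 1 1413245 5333 = true := by decide +kernel

theorem chk_pow1_17_11 : tab.minOKc [0, 0, 2, 0, 0, 3] 1 1418578 5333 = true := by decide +kernel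

theorem chk_pow1_17_12 : tab.minOKc [0, 0, 2, 0, 0, 3] 1 1423911 5333 = true := by decide +kernel

theorem chk_pow1_17_13 : tab.minOKc [0, 0, 2, 0, 0, 3] 1 1429244 5333 = true := by decide +kernel

theorem chk_pow1_17_14 : tab.minOKc [0, 0, 2, 0, 0, 3] 1 1434577 5333 = true := by decide +kernel

theorem chk_pow1_17 : tab.minOKc [0, 0, 2, 0, 0, 3] 1 1359915 79995 = true := by
  refine tab.minOKc_of_chunks [0, 0, 2, 0, 0, 3] 1 1359915 5333 15 (by norm_num) ?_
  intro i hi
  interval_cases i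
  · exact chk_pow1_17_0
  · exact chk_pow1_17_1
  · exact chk_pow1_17_2
  · exact chk_pow1_17_3
  · exact chk_pow1_17_4
  · exact chk_pow1_17_5
  · exact chk_pow1_17_6
  · exact chk_pow1_17_7
  · exact chk_pow1_17_8
  · exact chk_pow1_17_9
  · exact chk_pow1_17_10
  · exact chk_pow1_17_11
  · exact chk_pow1_17_12
  · exact chk_pow1_17_13
  · exact chk_pow1_17_14


end Cfsg.Agent.Lib.Lead.HNP.HNTC
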