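import Cfsg.Agent.Lib.Lead.HNP.HNTCSCert
import Cfsg.Agent.Lib.Lead.HNP.HNTCSRows8

/-! # HNTC: the kernel check of the rows from 367872 on -/

set_option autoImplicit false

namespace Cfsg.Agent.Lib.Lead.HNP.HNTC

open Cfsg.Agent.Lib.Helper6.TC Cfsg.Agent.Lib.Helper6.TCGS

theorem chk_rows32_0 : cert.rowsOK 367872 479 = true := by decide +kernel

theorem chk_rows32_1 : cert.rowsOK 368351 479 = true := by decide +kernel

theorem chk_rows32_2 : cert.rowsOK 368830 479 = true := by decide +kernel

theorem chk_rows32_3 : cert.rowsOK 369309 479 = true := by decide +kernel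

theorem chk_rows32_4 : cert.rowsOK 369788 479 = true := by decide +kernel

theorem chk_rows32_5 : cert.rowsOK 370267 479 = true := by decide +kernel

theorem chk_rows32_6 : cert.rowsOK 370746 479 = true := by decide +kernel

theorem chk_rows32_7 : cert.rowsOK 371225 479 = true := by decide +kernel

theorem chk_rows32_8 : cert.rowsOK 371704 479 = true := by decide +kernel

theorem chk_rows32_9 : cert.rowsOK 372183 479 = true := by decide +kernel

theorem chk_rows32_10 : cert.rowsOK 372662 479 = true := by decide +kernel

theorem chk_rows32_11 : cert.rowsOK 373141 479 = true := by decide +kernel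

theorem chk_rows32_12 : cert.rowsOK 373620 479 = true := by decide +kernel

theorem chk_rows32_13 : cert.rowsOK 374099 479 = true := by decide +kernel

theorem chk_rows32_14 : cert.rowsOK 374578 479 = true := by decide +kernel

theorem chk_rows32_15 : cert.rowsOK 375057 479 = true := by decide +kernel

theorem chk_rows32_16 : cert.rowsOK 375536 479 = true := by decide +kernel

theorem chk_rows32_17 : cert.rowsOK 376015 479 = true := by decide +kernel

theorem chk_rows32_18 : cert.rowsOK 376494 479 = true := by decide +kernel

theorem chk_rows32_19 : cert.rowsOK 376973 479 = true := by decide +kernel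

theorem chk_rows32_20 : cert.rowsOK 377452 479 = true := by decide +kernel

theorem chk_rows32_21 : cert.rowsOK 377931 479 = true := by decide +kernel

theorem chk_rows32_22 : cert.rowsOK 378410 479 = true := by decide +kernel

theorem chk_rows32_23 : cert.rowsOK 378889 479 = true := by decide +kernel

theorem chk_range32 : ∀ a, 367872 ≤ a → a < 379368 → ∀ x < cert.c.g, cert.slotOK a x = true := by
  refine cert.range_of_chunks 367872 479 24 (by norm_num) ?_
  intro k hk
  interval_cases k
  · exact chk_rows32_0
  · exact chk_rows32_1
  · exact chk_rows32_2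
  · exact chk_rows32_3
  · exact chk_rows32_4
  · exact chk_rows32_5
  · exact chk_rows32_6
  · exact chk_rows32_7
  · exact chk_rows32_8
  · exact chk_rows32_9
  · exact chk_rows32_10
  · exact chk_rows32_11
  · exact chk_rows32_12
  · exact chk_rows32_13
  · exact chk_rows32_14
  · exact chk_rows32_15
  · exact chk_rows32_16
  · exact chk_rows32_17
  · exact chk_rows32_18
  · exact chk_rows32_19
  · exact chk_rows32_20
  · exact chk_rows32_21
  · exact chk_rows32_22
  · exact chk_rows32_23

end Cfsg.Agent.Lib.Lead.HNP.HNTC
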