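import Cfsg.Agent.Lib.Lead.HNP.HNTCSCert
import Cfsg.Agent.Lib.Lead.HNP.HNTCSRows32

/-! # HNTC: the kernel check of the rows from 643776 on -/

set_option autoImplicit false

namespace Cfsg.Agent.Lib.Lead.HNP.HNTC

open Cfsg.Agent.Lib.Helper6.TC Cfsg.Agent.Lib.Helper6.TCGS

theorem chk_rows56_0 : cert.rowsOK 643776 479 = true := by decide +kernel

theorem chk_rows56_1 : cert.rowsOK 644255 479 = true := by decide +kernel

theorem chk_rows56_2 : cert.rowsOK 644734 479 = true := by decide +kernel

theorem chk_rows56_3 : cert.rowsOK 645213 479 = true := by decide +kernel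

theorem chk_rows56_4 : cert.rowsOK 645692 479 = true := by decide +kernel

theorem chk_rows56_5 : cert.rowsOK 646171 479 = true := by decide +kernel

theorem chk_rows56_6 : cert.rowsOK 646650 479 = true := by decide +kernel

theorem chk_rows56_7 : cert.rowsOK 647129 479 = true := by decide +kernel

theorem chk_rows56_8 : cert.rowsOK 647608 479 = true := by decide +kernel

theorem chk_rows56_9 : cert.rowsOK 648087 479 = true := by decide +kernel

theorem chk_rows56_10 : cert.rowsOK 648566 479 = true := by decide +kernel

theorem chk_rows56_11 : cert.rowsOK 649045 479 = true := by decide +kernel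

theorem chk_rows56_12 : cert.rowsOK 649524 479 = true := by decide +kernel

theorem chk_rows56_13 : cert.rowsOK 650003 479 = true := by decide +kernel

theorem chk_rows56_14 : cert.rowsOK 650482 479 = true := by decide +kernel

theorem chk_rows56_15 : cert.rowsOK 650961 479 = true := by decide +kernel

theorem chk_rows56_16 : cert.rowsOK 651440 479 = true := by decide +kernel

theorem chk_rows56_17 : cert.rowsOK 651919 479 = true := by decide +kernel

theorem chk_rows56_18 : cert.rowsOK 652398 479 = true := by decide +kernel

theorem chk_rows56_19 : cert.rowsOK 652877 479 = true := by decide +kernel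

theorem chk_rows56_20 : cert.rowsOK 653356 479 = true := by decide +kernel

theorem chk_rows56_21 : cert.rowsOK 653835 479 = true := by decide +kernel

theorem chk_rows56_22 : cert.rowsOK 654314 479 = true := by decide +kernel

theorem chk_rows56_23 : cert.rowsOK 654793 479 = true := by decide +kernel

theorem chk_range56 : ∀ a, 643776 ≤ a → a < 655272 → ∀ x < cert.c.g, cert.slotOK a x = true := by
  refine cert.range_of_chunks 643776 479 24 (by norm_num) ?_
  intro k hk
  interval_cases k
  · exact chk_rows56_0
  · exact chk_rows56_1
  · exact chk_rows56_2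
  · exact chk_rows56_3
  · exact chk_rows56_4
  · exact chk_rows56_5
  · exact chk_rows56_6
  · exact chk_rows56_7
  · exact chk_rows56_8
  · exact chk_rows56_9
  · exact chk_rows56_10
  · exact chk_rows56_11
  · exact chk_rows56_12
  · exact chk_rows56_13
  · exact chk_rows56_14
  · exact chk_rows56_15
  · exact chk_rows56_16
  · exact chk_rows56_17
  · exact chk_rows56_18
  · exact chk_rows56_19
  · exact chk_rows56_20
  · exact chk_rows56_21
  · exact chk_rows56_22
  · exact chk_rows56_23

end Cfsg.Agent.Lib.Lead.HNP.HNTC
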