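import Cfsg.Agent.Lib.Lead.HNP.HNTCSCert
import Cfsg.Agent.Lib.Lead.HNP.HNTCSRows56

/-! # HNTC: the kernel check of the rows from 919680 on -/

set_option autoImplicit false

namespace Cfsg.Agent.Lib.Lead.HNP.HNTC

open Cfsg.Agent.Lib.Helper6.TC Cfsg.Agent.Lib.Helper6.TCGS

theorem chk_rows80_0 : cert.rowsOK 919680 479 = true := by decide +kernel

theorem chk_rows80_1 : cert.rowsOK 920159 479 = true := by decide +kernel

theorem chk_rows80_2 : cert.rowsOK 920638 479 = true := by decide +kernel

theorem chk_rows80_3 : cert.rowsOK 921117 479 = true := by decide +kernel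

theorem chk_rows80_4 : cert.rowsOK 921596 479 = true := by decide +kernel

theorem chk_rows80_5 : cert.rowsOK 922075 479 = true := by decide +kernel

theorem chk_rows80_6 : cert.rowsOK 922554 479 = true := by decide +kernel

theorem chk_rows80_7 : cert.rowsOK 923033 479 = true := by decide +kernel

theorem chk_rows80_8 : cert.rowsOK 923512 479 = true := by decide +kernel

theorem chk_rows80_9 : cert.rowsOK 923991 479 = true := by decide +kernel

theorem chk_rows80_10 : cert.rowsOK 924470 479 = true := by decide +kernel

theorem chk_rows80_11 : cert.rowsOK 924949 479 = true := by decide +kernel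

theorem chk_rows80_12 : cert.rowsOK 925428 479 = true := by decide +kernel

theorem chk_rows80_13 : cert.rowsOK 925907 479 = true := by decide +kernel

theorem chk_rows80_14 : cert.rowsOK 926386 479 = true := by decide +kernel

theorem chk_rows80_15 : cert.rowsOK 926865 479 = true := by decide +kernel

theorem chk_rows80_16 : cert.rowsOK 927344 479 = true := by decide +kernel

theorem chk_rows80_17 : cert.rowsOK 927823 479 = true := by decide +kernel

theorem chk_rows80_18 : cert.rowsOK 928302 479 = true := by decide +kernel

theorem chk_rows80_19 : cert.rowsOK 928781 479 = true := by decide +kernel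

theorem chk_rows80_20 : cert.rowsOK 929260 479 = true := by decide +kernel

theorem chk_rows80_21 : cert.rowsOK 929739 479 = true := by decide +kernel

theorem chk_rows80_22 : cert.rowsOK 930218 479 = true := by decide +kernel

theorem chk_rows80_23 : cert.rowsOK 930697 479 = true := by decide +kernel

theorem chk_range80 : ∀ a, 919680 ≤ a → a < 931176 → ∀ x < cert.c.g, cert.slotOK a x = true := by
  refine cert.range_of_chunks 919680 479 24 (by norm_num) ?_
  intro k hk
  interval_cases k
  · exact chk_rows80_0
  · exact chk_rows80_1
  · exact chk_rows80_2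
  · exact chk_rows80_3
  · exact chk_rows80_4
  · exact chk_rows80_5
  · exact chk_rows80_6
  · exact chk_rows80_7
  · exact chk_rows80_8
  · exact chk_rows80_9
  · exact chk_rows80_10
  · exact chk_rows80_11
  · exact chk_rows80_12
  · exact chk_rows80_13
  · exact chk_rows80_14
  · exact chk_rows80_15
  · exact chk_rows80_16
  · exact chk_rows80_17
  · exact chk_rows80_18
  · exact chk_rows80_19
  · exact chk_rows80_20
  · exact chk_rows80_21
  · exact chk_rows80_22
  · exact chk_rows80_23

end Cfsg.Agent.Lib.Lead.HNP.HNTC
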