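import Cfsg.Agent.Lib.Lead.HNP.HNTCSCert
import Cfsg.Agent.Lib.Lead.HNP.HNTCSRows80

/-! # HNTC: the kernel check of the rows from 1195584 on -/

set_option autoImplicit false

namespace Cfsg.Agent.Lib.Lead.HNP.HNTC

open Cfsg.Agent.Lib.Helper6.TC Cfsg.Agent.Lib.Helper6.TCGS

theorem chk_rows104_0 : cert.rowsOK 1195584 479 = true := by decide +kernel

theorem chk_rows104_1 : cert.rowsOK 1196063 479 = true := by decide +kernel

theorem chk_rows104_2 : cert.rowsOK 1196542 479 = true := by decide +kernel

theorem chk_rows104_3 : cert.rowsOK 1197021 479 = true := by decide +kernel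

theorem chk_rows104_4 : cert.rowsOK 1197500 479 = true := by decide +kernel

theorem chk_rows104_5 : cert.rowsOK 1197979 479 = true := by decide +kernel

theorem chk_rows104_6 : cert.rowsOK 1198458 479 = true := by decide +kernel

theorem chk_rows104_7 : cert.rowsOK 1198937 479 = true := by decide +kernel

theorem chk_rows104_8 : cert.rowsOK 1199416 479 = true := by decide +kernel

theorem chk_rows104_9 : cert.rowsOK 1199895 479 = true := by decide +kernel

theorem chk_rows104_10 : cert.rowsOK 1200374 479 = true := by decide +kernel

theorem chk_rows104_11 : cert.rowsOK 1200853 479 = true := by decide +kernel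

theorem chk_rows104_12 : cert.rowsOK 1201332 479 = true := by decide +kernel

theorem chk_rows104_13 : cert.rowsOK 1201811 479 = true := by decide +kernel

theorem chk_rows104_14 : cert.rowsOK 1202290 479 = true := by decide +kernel

theorem chk_rows104_15 : cert.rowsOK 1202769 479 = true := by decide +kernel

theorem chk_rows104_16 : cert.rowsOK 1203248 479 = true := by decide +kernel

theorem chk_rows104_17 : cert.rowsOK 1203727 479 = true := by decide +kernel

theorem chk_rows104_18 : cert.rowsOK 1204206 479 = true := by decide +kernel

theorem chk_rows104_19 : cert.rowsOK 1204685 479 = true := by decide +kernel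

theorem chk_rows104_20 : cert.rowsOK 1205164 479 = true := by decide +kernel

theorem chk_rows104_21 : cert.rowsOK 1205643 479 = true := by decide +kernel

theorem chk_rows104_22 : cert.rowsOK 1206122 479 = true := by decide +kernel

theorem chk_rows104_23 : cert.rowsOK 1206601 479 = true := by decide +kernel

theorem chk_range104 : ∀ a, 1195584 ≤ a → a < 1207080 → ∀ x < cert.c.g, cert.slotOK a x = true := by
  refine cert.range_of_chunks 1195584 479 24 (by norm_num) ?_
  intro k hk
  interval_cases k
  · exact chk_rows104_0
  · exact chk_rows104_1
  · exact chk_rows104_2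
  · exact chk_rows104_3
  · exact chk_rows104_4
  · exact chk_rows104_5
  · exact chk_rows104_6
  · exact chk_rows104_7
  · exact chk_rows104_8
  · exact chk_rows104_9
  · exact chk_rows104_10
  · exact chk_rows104_11
  · exact chk_rows104_12
  · exact chk_rows104_13
  · exact chk_rows104_14
  · exact chk_rows104_15
  · exact chk_rows104_16
  · exact chk_rows104_17
  · exact chk_rows104_18
  · exact chk_rows104_19
  · exact chk_rows104_20
  · exact chk_rows104_21
  · exact chk_rows104_22
  · exact chk_rows104_23

end Cfsg.Agent.Lib.Lead.HNP.HNTC
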