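import Cfsg.Agent.Lib.Lead.HNP.HNTCSCert
import Cfsg.Agent.Lib.Lead.HNP.HNTCSRows104

/-! # HNTC: the kernel check of the rows from 1471488 on -/

set_option autoImplicit false

namespace Cfsg.Agent.Lib.Lead.HNP.HNTC

open Cfsg.Agent.Lib.Helper6.TC Cfsg.Agent.Lib.Helper6.TCGS

theorem chk_rows128_0 : cert.rowsOK 1471488 479 = true := by decide +kernel

theorem chk_rows128_1 : cert.rowsOK 1471967 479 = true := by decide +kernel

theorem chk_rows128_2 : cert.rowsOK 1472446 479 = true := by decide +kernel

theorem chk_rows128_3 : cert.rowsOK 1472925 479 = true := by decide +kernel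

theorem chk_rows128_4 : cert.rowsOK 1473404 479 = true := by decide +kernel

theorem chk_rows128_5 : cert.rowsOK 1473883 479 = true := by decide +kernel

theorem chk_rows128_6 : cert.rowsOK 1474362 479 = true := by decide +kernel

theorem chk_rows128_7 : cert.rowsOK 1474841 479 = true := by decide +kernel

theorem chk_rows128_8 : cert.rowsOK 1475320 479 = true := by decide +kernel

theorem chk_rows128_9 : cert.rowsOK 1475799 479 = true := by decide +kernel

theorem chk_rows128_10 : cert.rowsOK 1476278 479 = true := by decide +kernel

theorem chk_rows128_11 : cert.rowsOK 1476757 479 = true := by decide +kernel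

theorem chk_rows128_12 : cert.rowsOK 1477236 479 = true := by decide +kernel

theorem chk_rows128_13 : cert.rowsOK 1477715 479 = true := by decide +kernel

theorem chk_rows128_14 : cert.rowsOK 1478194 479 = true := by decide +kernel

theorem chk_rows128_15 : cert.rowsOK 1478673 479 = true := by decide +kernel

theorem chk_rows128_16 : cert.rowsOK 1479152 479 = true := by decide +kernel

theorem chk_rows128_17 : cert.rowsOK 1479631 479 = true := by decide +kernel

theorem chk_rows128_18 : cert.rowsOK 1480110 479 = true := by decide +kernel

theorem chk_rows128_19 : cert.rowsOK 1480589 479 = true := by decide +kernel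

theorem chk_rows128_20 : cert.rowsOK 1481068 479 = true := by decide +kernel

theorem chk_rows128_21 : cert.rowsOK 1481547 479 = true := by decide +kernel

theorem chk_rows128_22 : cert.rowsOK 1482026 479 = true := by decide +kernel

theorem chk_rows128_23 : cert.rowsOK 1482505 479 = true := by decide +kernel

theorem chk_range128 : ∀ a, 1471488 ≤ a → a < 1482984 → ∀ x < cert.c.g, cert.slotOK a x = true := by
  refine cert.range_of_chunks 1471488 479 24 (by norm_num) ?_
  intro k hk
  interval_cases k
  · exact chk_rows128_0
  · exact chk_rows128_1
  · exact chk_rows128_2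
  · exact chk_rows128_3
  · exact chk_rows128_4
  · exact chk_rows128_5
  · exact chk_rows128_6
  · exact chk_rows128_7
  · exact chk_rows128_8
  · exact chk_rows128_9
  · exact chk_rows128_10
  · exact chk_rows128_11
  · exact chk_rows128_12
  · exact chk_rows128_13
  · exact chk_rows128_14
  · exact chk_rows128_15
  · exact chk_rows128_16
  · exact chk_rows128_17
  · exact chk_rows128_18
  · exact chk_rows128_19
  · exact chk_rows128_20
  · exact chk_rows128_21
  · exact chk_rows128_22
  · exact chk_rows128_23

end Cfsg.Agent.Lib.Lead.HNP.HNTC
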