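import Cfsg.Agent.Lib.Lead.HNP.HNTCSCert
import Cfsg.Agent.Lib.Helper6.TCGIndex
import Cfsg.Agent.Lib.Lead.HNP.HNTCSRows128

/-! # HNTC: the kernel check that the first rows are closed, part 18 -/

set_option autoImplicit false

namespace Cfsg.Agent.Lib.Lead.HNP.HNTC

open Cfsg.Agent.Lib.Helper6.TC Cfsg.Agent.Lib.Helper6.TCGS

theorem chk_fin162 : cert.finalOKc 1539000 324000 2000 = true := by decide +kernel

theorem chk_fin163 : cert.finalOKc 1539000 326000 2000 = true := by decide +kernel

theorem chk_fin164 : cert.finalOKc 1539000 328000 2000 = true := by decide +kernel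

theorem chk_fin165 : cert.finalOKc 1539000 330000 2000 = true := by decide +kernel

theorem chk_fin166 : cert.finalOKc 1539000 332000 2000 = true := by decide +kernel

theorem chk_fin167 : cert.finalOKc 1539000 334000 2000 = true := by decide +kernel

theorem chk_fin168 : cert.finalOKc 1539000 336000 2000 = true := by decide +kernel

theorem chk_fin169 : cert.finalOKc 1539000 338000 2000 = true := by decide +kernel

theorem chk_fin170 : cert.finalOKc 1539000 340000 2000 = true := by decide +kernel


end Cfsg.Agent.Lib.Lead.HNP.HNTC
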