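import Cfsg.Agent.Lib.Lead.HNP.HNTCSCert
import Cfsg.Agent.Lib.Helper6.TCGIndex
import Cfsg.Agent.Lib.Lead.HNP.HNTCSFin18

/-! # HNTC: the kernel check that the first rows are closed, part 42 -/

set_option autoImplicit false

namespace Cfsg.Agent.Lib.Lead.HNP.HNTC

open Cfsg.Agent.Lib.Helper6.TC Cfsg.Agent.Lib.Helper6.TCGS

theorem chk_fin378 : cert.finalOKc 1539000 756000 2000 = true := by decide +kernel

theorem chk_fin379 : cert.finalOKc 1539000 758000 2000 = true := by decide +kernel

theorem chk_fin380 : cert.finalOKc 1539000 760000 2000 = true := by decide +kernel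

theorem chk_fin381 : cert.finalOKc 1539000 762000 2000 = true := by decide +kernel

theorem chk_fin382 : cert.finalOKc 1539000 764000 2000 = true := by decide +kernel

theorem chk_fin383 : cert.finalOKc 1539000 766000 2000 = true := by decide +kernel

theorem chk_fin384 : cert.finalOKc 1539000 768000 2000 = true := by decide +kernel

theorem chk_fin385 : cert.finalOKc 1539000 770000 2000 = true := by decide +kernel

theorem chk_fin386 : cert.finalOKc 1539000 772000 2000 = true := by decide +kernel


end Cfsg.Agent.Lib.Lead.HNP.HNTC
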