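import Cfsg.Agent.Lib.Lead.HNP.HNTCSCert
import Cfsg.Agent.Lib.Helper6.TCGIndex
import Cfsg.Agent.Lib.Lead.HNP.HNTCSFin42

/-! # HNTC: the kernel check that the first rows are closed, part 66 -/

set_option autoImplicit false

namespace Cfsg.Agent.Lib.Lead.HNP.HNTC

open Cfsg.Agent.Lib.Helper6.TC Cfsg.Agent.Lib.Helper6.TCGS

theorem chk_fin594 : cert.finalOKc 1539000 1188000 2000 = true := by decide +kernel

theorem chk_fin595 : cert.finalOKc 1539000 1190000 2000 = true := by decide +kernel

theorem chk_fin596 : cert.finalOKc 1539000 1192000 2000 = true := by decide +kernel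

theorem chk_fin597 : cert.finalOKc 1539000 1194000 2000 = true := by decide +kernel

theorem chk_fin598 : cert.finalOKc 1539000 1196000 2000 = true := by decide +kernel

theorem chk_fin599 : cert.finalOKc 1539000 1198000 2000 = true := by decide +kernel

theorem chk_fin600 : cert.finalOKc 1539000 1200000 2000 = true := by decide +kernel

theorem chk_fin601 : cert.finalOKc 1539000 1202000 2000 = true := by decide +kernel

theorem chk_fin602 : cert.finalOKc 1539000 1204000 2000 = true := by decide +kernel


end Cfsg.Agent.Lib.Lead.HNP.HNTC
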