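import Cfsg.Agent.Lib.Lead.HNP.HNTCData
import Cfsg.Agent.Lib.Helper6.TCRel3
import Cfsg.Agent.Lib.Lead.HNP.HNTCSFin66

/-! # HNTC: the kernel check of a part of the relators on the coset table -/

set_option autoImplicit false

namespace Cfsg.Agent.Lib.Lead.HNP.HNTC

open Cfsg.Agent.Lib.Helper6.TC

theorem chk_pow1_4_0 : tab.minOKc [0, 0, 2, 0, 0, 3] 1 319980 5333 = true := by decide +kernel

theorem chk_pow1_4_1 : tab.minOKc [0, 0, 2, 0, 0, 3] 1 325313 5333 = true := by decide +kernel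

theorem chk_pow1_4_2 : tab.minOKc [0, 0, 2, 0, 0, 3] 1 330646 5333 = true := by decide +kernel

theorem chk_pow1_4_3 : tab.minOKc [0, 0, 2, 0, 0, 3] 1 335979 5333 = true := by decide +kernel

theorem chk_pow1_4_4 : tab.minOKc [0, 0, 2, 0, 0, 3] 1 341312 5333 = true := by decide +kernel

theorem chk_pow1_4_5 : tab.minOKc [0, 0, 2, 0, 0, 3] 1 346645 5333 = true := by decide +kernel

theorem chk_pow1_4_6 : tab.minOKc [0, 0, 2, 0, 0, 3] 1 351978 5333 = true := by decide +kernel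

theorem chk_pow1_4_7 : tab.minOKc [0, 0, 2, 0, 0, 3] 1 357311 5333 = true := by decide +kernel

theorem chk_pow1_4_8 : tab.minOKc [0, 0, 2, 0, 0, 3] 1 362644 5333 = true := by decide +kernel

theorem chk_pow1_4_9 : tab.minOKc [0, 0, 2, 0, 0, 3] 1 367977 5333 = true := by decide +kernel

theorem chk_pow1_4_10 : tab.minOKc [0, 0, 2, 0, 0, 3] 1 373310 5333 = true := by decide +kernel

theorem chk_pow1_4_11 : tab.minOKc [0, 0, 2, 0, 0, 3] 1 378643 5333 = true := by decide +kernel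

theorem chk_pow1_4_12 : tab.minOKc [0, 0, 2, 0, 0, 3] 1 383976 5333 = true := by decide +kernel

theorem chk_pow1_4_13 : tab.minOKc [0, 0, 2, 0, 0, 3] 1 389309 5333 = true := by decide +kernel

theorem chk_pow1_4_14 : tab.minOKc [0, 0, 2, 0, 0, 3] 1 394642 5333 = true := by decide +kernel

theorem chk_pow1_4 : tab.minOKc [0, 0, 2, 0, 0, 3] 1 319980 79995 = true := by
  refine tab.minOKc_of_chunks [0, 0, 2, 0, 0, 3] 1 319980 5333 15 (by norm_num) ?_
  intro i hi
  interval_cases i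
  · exact chk_pow1_4_0
  · exact chk_pow1_4_1
  · exact chk_pow1_4_2
  · exact chk_pow1_4_3
  · exact chk_pow1_4_4
  · exact chk_pow1_4_5
  · exact chk_pow1_4_6
  · exact chk_pow1_4_7
  · exact chk_pow1_4_8
  · exact chk_pow1_4_9
  · exact chk_pow1_4_10
  · exact chk_pow1_4_11
  · exact chk_pow1_4_12
  · exact chk_pow1_4_13
  · exact chk_pow1_4_14

theorem chk_pow1_5_0 : tab.minOKc [0, 0, 2, 0, 0, 3] 1 399975 5333 = true := by decide +kernel

theorem chk_pow1_5_1 : tab.minOKc [0, 0, 2, 0, 0, 3] 1 405308 5333 = true := by decide +kernel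

theorem chk_pow1_5_2 : tab.minOKc [0, 0, 2, 0, 0, 3] 1 410641 5333 = true := by decide +kernel

theorem chk_pow1_5_3 : tab.minOKc [0, 0, 2, 0, 0, 3] 1 415974 5333 = true := by decide +kernel

theorem chk_pow1_5_4 : tab.minOKc [0, 0, 2, 0, 0, 3] 1 421307 5333 = true := by decide +kernel

theorem chk_pow1_5_5 : tab.minOKc [0, 0, 2, 0, 0, 3] 1 426640 5333 = true := by decide +kernel

theorem chk_pow1_5_6 : tab.minOKc [0, 0, 2, 0, 0, 3] 1 431973 5333 = true := by decide +kernel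

theorem chk_pow1_5_7 : tab.minOKc [0, 0, 2, 0, 0, 3] 1 437306 5333 = true := by decide +kernel

theorem chk_pow1_5_8 : tab.minOKc [0, 0, 2, 0, 0, 3] 1 442639 5333 = true := by decide +kernel

theorem chk_pow1_5_9 : tab.minOKc [0, 0, 2, 0, 0, 3] 1 447972 5333 = true := by decide +kernel

theorem chk_pow1_5_10 : tab.minOKc [0, 0, 2, 0, 0, 3] 1 453305 5333 = true := by decide +kernel

theorem chk_pow1_5_11 : tab.minOKc [0, 0, 2, 0, 0, 3] 1 458638 5333 = true := by decide +kernel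

theorem chk_pow1_5_12 : tab.minOKc [0, 0, 2, 0, 0, 3] 1 463971 5333 = true := by decide +kernel

theorem chk_pow1_5_13 : tab.minOKc [0, 0, 2, 0, 0, 3] 1 469304 5333 = true := by decide +kernel

theorem chk_pow1_5_14 : tab.minOKc [0, 0, 2, 0, 0, 3] 1 474637 5333 = true := by decide +kernel

theorem chk_pow1_5 : tab.minOKc [0, 0, 2, 0, 0, 3] 1 399975 79995 = true := by
  refine tab.minOKc_of_chunks [0, 0, 2, 0, 0, 3] 1 399975 5333 15 (by norm_num) ?_
  intro i hi
  interval_cases i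
  · exact chk_pow1_5_0
  · exact chk_pow1_5_1
  · exact chk_pow1_5_2
  · exact chk_pow1_5_3
  · exact chk_pow1_5_4
  · exact chk_pow1_5_5
  · exact chk_pow1_5_6
  · exact chk_pow1_5_7
  · exact chk_pow1_5_8
  · exact chk_pow1_5_9
  · exact chk_pow1_5_10
  · exact chk_pow1_5_11
  · exact chk_pow1_5_12
  · exact chk_pow1_5_13
  · exact chk_pow1_5_14


end Cfsg.Agent.Lib.Lead.HNP.HNTC
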