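import Cfsg.Agent.Lib.Lead.HNP.HNTCData
import Cfsg.Agent.Lib.Helper6.TCRel3
import Cfsg.Agent.Lib.Lead.HNP.HNTCRel4

/-! # HNTC: the kernel check of a part of the relators on the coset table -/

set_option autoImplicit false

namespace Cfsg.Agent.Lib.Lead.HNP.HNTC

open Cfsg.Agent.Lib.Helper6.TC

theorem chk_pow3_19_0 : tab.minOKc [1, 2, 2, 0, 2, 2, 2] 3 1302735 4571 = true := by decide +kernel

theorem chk_pow3_19_1 : tab.minOKc [1, 2, 2, 0, 2, 2, 2] 3 1307306 4571 = true := by decide +kernel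

theorem chk_pow3_19_2 : tab.minOKc [1, 2, 2, 0, 2, 2, 2] 3 1311877 4571 = true := by decide +kernel

theorem chk_pow3_19_3 : tab.minOKc [1, 2, 2, 0, 2, 2, 2] 3 1316448 4571 = true := by decide +kernel

theorem chk_pow3_19_4 : tab.minOKc [1, 2, 2, 0, 2, 2, 2] 3 1321019 4571 = true := by decide +kernel

theorem chk_pow3_19_5 : tab.minOKc [1, 2, 2, 0, 2, 2, 2] 3 1325590 4571 = true := by decide +kernel

theorem chk_pow3_19_6 : tab.minOKc [1, 2, 2, 0, 2, 2, 2] 3 1330161 4571 = true := by decide +kernel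

theorem chk_pow3_19_7 : tab.minOKc [1, 2, 2, 0, 2, 2, 2] 3 1334732 4571 = true := by decide +kernel

theorem chk_pow3_19_8 : tab.minOKc [1, 2, 2, 0, 2, 2, 2] 3 1339303 4571 = true := by decide +kernel

theorem chk_pow3_19_9 : tab.minOKc [1, 2, 2, 0, 2, 2, 2] 3 1343874 4571 = true := by decide +kernel

theorem chk_pow3_19_10 : tab.minOKc [1, 2, 2, 0, 2, 2, 2] 3 1348445 4571 = true := by decide +kernel

theorem chk_pow3_19_11 : tab.minOKc [1, 2, 2, 0, 2, 2, 2] 3 1353016 4571 = true := by decide +kernel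

theorem chk_pow3_19_12 : tab.minOKc [1, 2, 2, 0, 2, 2, 2] 3 1357587 4571 = true := by decide +kernel

theorem chk_pow3_19_13 : tab.minOKc [1, 2, 2, 0, 2, 2, 2] 3 1362158 4571 = true := by decide +kernel

theorem chk_pow3_19_14 : tab.minOKc [1, 2, 2, 0, 2, 2, 2] 3 1366729 4571 = true := by decide +kernel

theorem chk_pow3_19 : tab.minOKc [1, 2, 2, 0, 2, 2, 2] 3 1302735 68565 = true := by
  refine tab.minOKc_of_chunks [1, 2, 2, 0, 2, 2, 2] 3 1302735 4571 15 (by norm_num) ?_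
  intro i hi
  interval_cases i
  · exact chk_pow3_19_0
  · exact chk_pow3_19_1
  · exact chk_pow3_19_2
  · exact chk_pow3_19_3
  · exact chk_pow3_19_4
  · exact chk_pow3_19_5
  · exact chk_pow3_19_6
  · exact chk_pow3_19_7
  · exact chk_pow3_19_8
  · exact chk_pow3_19_9
  · exact chk_pow3_19_10
  · exact chk_pow3_19_11
  · exact chk_pow3_19_12
  · exact chk_pow3_19_13
  · exact chk_pow3_19_14

theorem chk_pow3_20_0 : tab.minOKc [1, 2, 2, 0, 2, 2, 2] 3 1371300 4571 = true := by decide +kernel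

theorem chk_pow3_20_1 : tab.minOKc [1, 2, 2, 0, 2, 2, 2] 3 1375871 4571 = true := by decide +kernel

theorem chk_pow3_20_2 : tab.minOKc [1, 2, 2, 0, 2, 2, 2] 3 1380442 4571 = true := by decide +kernel

theorem chk_pow3_20_3 : tab.minOKc [1, 2, 2, 0, 2, 2, 2] 3 1385013 4571 = true := by decide +kernel

theorem chk_pow3_20_4 : tab.minOKc [1, 2, 2, 0, 2, 2, 2] 3 1389584 4571 = true := by decide +kernel

theorem chk_pow3_20_5 : tab.minOKc [1, 2, 2, 0, 2, 2, 2] 3 1394155 4571 = true := by decide +kernel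

theorem chk_pow3_20_6 : tab.minOKc [1, 2, 2, 0, 2, 2, 2] 3 1398726 4571 = true := by decide +kernel

theorem chk_pow3_20_7 : tab.minOKc [1, 2, 2, 0, 2, 2, 2] 3 1403297 4571 = true := by decide +kernel

theorem chk_pow3_20_8 : tab.minOKc [1, 2, 2, 0, 2, 2, 2] 3 1407868 4571 = true := by decide +kernel

theorem chk_pow3_20_9 : tab.minOKc [1, 2, 2, 0, 2, 2, 2] 3 1412439 4571 = true := by decide +kernel

theorem chk_pow3_20_10 : tab.minOKc [1, 2, 2, 0, 2, 2, 2] 3 1417010 4571 = true := by decide +kernel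

theorem chk_pow3_20_11 : tab.minOKc [1, 2, 2, 0, 2, 2, 2] 3 1421581 4571 = true := by decide +kernel

theorem chk_pow3_20_12 : tab.minOKc [1, 2, 2, 0, 2, 2, 2] 3 1426152 4571 = true := by decide +kernel

theorem chk_pow3_20_13 : tab.minOKc [1, 2, 2, 0, 2, 2, 2] 3 1430723 4571 = true := by decide +kernel

theorem chk_pow3_20_14 : tab.minOKc [1, 2, 2, 0, 2, 2, 2] 3 1435294 4571 = true := by decide +kernel

theorem chk_pow3_20 : tab.minOKc [1, 2, 2, 0, 2, 2, 2] 3 1371300 68565 = true := by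
  refine tab.minOKc_of_chunks [1, 2, 2, 0, 2, 2, 2] 3 1371300 4571 15 (by norm_num) ?_
  intro i hi
  interval_cases i
  · exact chk_pow3_20_0
  · exact chk_pow3_20_1
  · exact chk_pow3_20_2
  · exact chk_pow3_20_3
  · exact chk_pow3_20_4
  · exact chk_pow3_20_5
  · exact chk_pow3_20_6
  · exact chk_pow3_20_7
  · exact chk_pow3_20_8
  · exact chk_pow3_20_9
  · exact chk_pow3_20_10
  · exact chk_pow3_20_11
  · exact chk_pow3_20_12
  · exact chk_pow3_20_13
  · exact chk_pow3_20_14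


end Cfsg.Agent.Lib.Lead.HNP.HNTC
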