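import Cfsg.Agent.Lib.Lead.HNP.HNTCData
import Cfsg.Agent.Lib.Helper6.TCRel3
import Cfsg.Agent.Lib.Lead.HNP.HNTCRel28

/-! # HNTC: the kernel check of a part of the relators on the coset table -/

set_option autoImplicit false

namespace Cfsg.Agent.Lib.Lead.HNP.HNTC

open Cfsg.Agent.Lib.Helper6.TC

theorem chk_pow8_6_0 : tab.minOKc [5, 2, 1, 3, 3, 1, 3, 1, 3, 4, 2, 0, 2, 0, 2, 2, 0, 3, 1, 1] 1 144000 1600 = true := by decide +kernel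

theorem chk_pow8_6_1 : tab.minOKc [5, 2, 1, 3, 3, 1, 3, 1, 3, 4, 2, 0, 2, 0, 2, 2, 0, 3, 1, 1] 1 145600 1600 = true := by decide +kernel

theorem chk_pow8_6_2 : tab.minOKc [5, 2, 1, 3, 3, 1, 3, 1, 3, 4, 2, 0, 2, 0, 2, 2, 0, 3, 1, 1] 1 147200 1600 = true := by decide +kernel

theorem chk_pow8_6_3 : tab.minOKc [5, 2, 1, 3, 3, 1, 3, 1, 3, 4, 2, 0, 2, 0, 2, 2, 0, 3, 1, 1] 1 148800 1600 = true := by decide +kernel

theorem chk_pow8_6_4 : tab.minOKc [5, 2, 1, 3, 3, 1, 3, 1, 3, 4, 2, 0, 2, 0, 2, 2, 0, 3, 1, 1] 1 150400 1600 = true := by decide +kernel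

theorem chk_pow8_6_5 : tab.minOKc [5, 2, 1, 3, 3, 1, 3, 1, 3, 4, 2, 0, 2, 0, 2, 2, 0, 3, 1, 1] 1 152000 1600 = true := by decide +kernel

theorem chk_pow8_6_6 : tab.minOKc [5, 2, 1, 3, 3, 1, 3, 1, 3, 4, 2, 0, 2, 0, 2, 2, 0, 3, 1, 1] 1 153600 1600 = true := by decide +kernel

theorem chk_pow8_6_7 : tab.minOKc [5, 2, 1, 3, 3, 1, 3, 1, 3, 4, 2, 0, 2, 0, 2, 2, 0, 3, 1, 1] 1 155200 1600 = true := by decide +kernel

theorem chk_pow8_6_8 : tab.minOKc [5, 2, 1, 3, 3, 1, 3, 1, 3, 4, 2, 0, 2, 0, 2, 2, 0, 3, 1, 1] 1 156800 1600 = true := by decide +kernel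

theorem chk_pow8_6_9 : tab.minOKc [5, 2, 1, 3, 3, 1, 3, 1, 3, 4, 2, 0, 2, 0, 2, 2, 0, 3, 1, 1] 1 158400 1600 = true := by decide +kernel

theorem chk_pow8_6_10 : tab.minOKc [5, 2, 1, 3, 3, 1, 3, 1, 3, 4, 2, 0, 2, 0, 2, 2, 0, 3, 1, 1] 1 160000 1600 = true := by decide +kernel

theorem chk_pow8_6_11 : tab.minOKc [5, 2, 1, 3, 3, 1, 3, 1, 3, 4, 2, 0, 2, 0, 2, 2, 0, 3, 1, 1] 1 161600 1600 = true := by decide +kernel

theorem chk_pow8_6_12 : tab.minOKc [5, 2, 1, 3, 3, 1, 3, 1, 3, 4, 2, 0, 2, 0, 2, 2, 0, 3, 1, 1] 1 163200 1600 = true := by decide +kernel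

theorem chk_pow8_6_13 : tab.minOKc [5, 2, 1, 3, 3, 1, 3, 1, 3, 4, 2, 0, 2, 0, 2, 2, 0, 3, 1, 1] 1 164800 1600 = true := by decide +kernel

theorem chk_pow8_6_14 : tab.minOKc [5, 2, 1, 3, 3, 1, 3, 1, 3, 4, 2, 0, 2, 0, 2, 2, 0, 3, 1, 1] 1 166400 1600 = true := by decide +kernel

theorem chk_pow8_6 : tab.minOKc [5, 2, 1, 3, 3, 1, 3, 1, 3, 4, 2, 0, 2, 0, 2, 2, 0, 3, 1, 1] 1 144000 24000 = true := by
  refine tab.minOKc_of_chunks [5, 2, 1, 3, 3, 1, 3, 1, 3, 4, 2, 0, 2, 0, 2, 2, 0, 3, 1, 1] 1 144000 1600 15 (by norm_num) ?_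
  intro i hi
  interval_cases i
  · exact chk_pow8_6_0
  · exact chk_pow8_6_1
  · exact chk_pow8_6_2
  · exact chk_pow8_6_3
  · exact chk_pow8_6_4
  · exact chk_pow8_6_5
  · exact chk_pow8_6_6
  · exact chk_pow8_6_7
  · exact chk_pow8_6_8
  · exact chk_pow8_6_9
  · exact chk_pow8_6_10
  · exact chk_pow8_6_11
  · exact chk_pow8_6_12
  · exact chk_pow8_6_13
  · exact chk_pow8_6_14

theorem chk_pow8_7_0 : tab.minOKc [5, 2, 1, 3, 3, 1, 3, 1, 3, 4, 2, 0, 2, 0, 2, 2, 0, 3, 1, 1] 1 168000 1600 = true := by decide +kernel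

theorem chk_pow8_7_1 : tab.minOKc [5, 2, 1, 3, 3, 1, 3, 1, 3, 4, 2, 0, 2, 0, 2, 2, 0, 3, 1, 1] 1 169600 1600 = true := by decide +kernel

theorem chk_pow8_7_2 : tab.minOKc [5, 2, 1, 3, 3, 1, 3, 1, 3, 4, 2, 0, 2, 0, 2, 2, 0, 3, 1, 1] 1 171200 1600 = true := by decide +kernel

theorem chk_pow8_7_3 : tab.minOKc [5, 2, 1, 3, 3, 1, 3, 1, 3, 4, 2, 0, 2, 0, 2, 2, 0, 3, 1, 1] 1 172800 1600 = true := by decide +kernel

theorem chk_pow8_7_4 : tab.minOKc [5, 2, 1, 3, 3, 1, 3, 1, 3, 4, 2, 0, 2, 0, 2, 2, 0, 3, 1, 1] 1 174400 1600 = true := by decide +kernel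

theorem chk_pow8_7_5 : tab.minOKc [5, 2, 1, 3, 3, 1, 3, 1, 3, 4, 2, 0, 2, 0, 2, 2, 0, 3, 1, 1] 1 176000 1600 = true := by decide +kernel

theorem chk_pow8_7_6 : tab.minOKc [5, 2, 1, 3, 3, 1, 3, 1, 3, 4, 2, 0, 2, 0, 2, 2, 0, 3, 1, 1] 1 177600 1600 = true := by decide +kernel

theorem chk_pow8_7_7 : tab.minOKc [5, 2, 1, 3, 3, 1, 3, 1, 3, 4, 2, 0, 2, 0, 2, 2, 0, 3, 1, 1] 1 179200 1600 = true := by decide +kernel

theorem chk_pow8_7_8 : tab.minOKc [5, 2, 1, 3, 3, 1, 3, 1, 3, 4, 2, 0, 2, 0, 2, 2, 0, 3, 1, 1] 1 180800 1600 = true := by decide +kernel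

theorem chk_pow8_7_9 : tab.minOKc [5, 2, 1, 3, 3, 1, 3, 1, 3, 4, 2, 0, 2, 0, 2, 2, 0, 3, 1, 1] 1 182400 1600 = true := by decide +kernel

theorem chk_pow8_7_10 : tab.minOKc [5, 2, 1, 3, 3, 1, 3, 1, 3, 4, 2, 0, 2, 0, 2, 2, 0, 3, 1, 1] 1 184000 1600 = true := by decide +kernel

theorem chk_pow8_7_11 : tab.minOKc [5, 2, 1, 3, 3, 1, 3, 1, 3, 4, 2, 0, 2, 0, 2, 2, 0, 3, 1, 1] 1 185600 1600 = true := by decide +kernel

theorem chk_pow8_7_12 : tab.minOKc [5, 2, 1, 3, 3, 1, 3, 1, 3, 4, 2, 0, 2, 0, 2, 2, 0, 3, 1, 1] 1 187200 1600 = true := by decide +kernel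

theorem chk_pow8_7_13 : tab.minOKc [5, 2, 1, 3, 3, 1, 3, 1, 3, 4, 2, 0, 2, 0, 2, 2, 0, 3, 1, 1] 1 188800 1600 = true := by decide +kernel

theorem chk_pow8_7_14 : tab.minOKc [5, 2, 1, 3, 3, 1, 3, 1, 3, 4, 2, 0, 2, 0, 2, 2, 0, 3, 1, 1] 1 190400 1600 = true := by decide +kernel

theorem chk_pow8_7 : tab.minOKc [5, 2, 1, 3, 3, 1, 3, 1, 3, 4, 2, 0, 2, 0, 2, 2, 0, 3, 1, 1] 1 168000 24000 = true := by
  refine tab.minOKc_of_chunks [5, 2, 1, 3, 3, 1, 3, 1, 3, 4, 2, 0, 2, 0, 2, 2, 0, 3, 1, 1] 1 168000 1600 15 (by norm_num) ?_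
  intro i hi
  interval_cases i
  · exact chk_pow8_7_0
  · exact chk_pow8_7_1
  · exact chk_pow8_7_2
  · exact chk_pow8_7_3
  · exact chk_pow8_7_4
  · exact chk_pow8_7_5
  · exact chk_pow8_7_6
  · exact chk_pow8_7_7
  · exact chk_pow8_7_8
  · exact chk_pow8_7_9
  · exact chk_pow8_7_10
  · exact chk_pow8_7_11
  · exact chk_pow8_7_12
  · exact chk_pow8_7_13
  · exact chk_pow8_7_14


end Cfsg.Agent.Lib.Lead.HNP.HNTC
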