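import Cfsg.Agent.Lib.Lead.HNP.HNTCData
import Cfsg.Agent.Lib.Helper6.TCRel3
import Cfsg.Agent.Lib.Lead.HNP.HNTCRel52

/-! # HNTC: the kernel check of a part of the relators on the coset table -/

set_option autoImplicit false

namespace Cfsg.Agent.Lib.Lead.HNP.HNTC

open Cfsg.Agent.Lib.Helper6.TC

theorem chk_pow8_54_0 : tab.minOKc [5, 2, 1, 3, 3, 1, 3, 1, 3, 4, 2, 0, 2, 0, 2, 2, 0, 3, 1, 1] 1 1296000 1600 = true := by decide +kernel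

theorem chk_pow8_54_1 : tab.minOKc [5, 2, 1, 3, 3, 1, 3, 1, 3, 4, 2, 0, 2, 0, 2, 2, 0, 3, 1, 1] 1 1297600 1600 = true := by decide +kernel

theorem chk_pow8_54_2 : tab.minOKc [5, 2, 1, 3, 3, 1, 3, 1, 3, 4, 2, 0, 2, 0, 2, 2, 0, 3, 1, 1] 1 1299200 1600 = true := by decide +kernel

theorem chk_pow8_54_3 : tab.minOKc [5, 2, 1, 3, 3, 1, 3, 1, 3, 4, 2, 0, 2, 0, 2, 2, 0, 3, 1, 1] 1 1300800 1600 = true := by decide +kernel

theorem chk_pow8_54_4 : tab.minOKc [5, 2, 1, 3, 3, 1, 3, 1, 3, 4, 2, 0, 2, 0, 2, 2, 0, 3, 1, 1] 1 1302400 1600 = true := by decide +kernel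

theorem chk_pow8_54_5 : tab.minOKc [5, 2, 1, 3, 3, 1, 3, 1, 3, 4, 2, 0, 2, 0, 2, 2, 0, 3, 1, 1] 1 1304000 1600 = true := by decide +kernel

theorem chk_pow8_54_6 : tab.minOKc [5, 2, 1, 3, 3, 1, 3, 1, 3, 4, 2, 0, 2, 0, 2, 2, 0, 3, 1, 1] 1 1305600 1600 = true := by decide +kernel

theorem chk_pow8_54_7 : tab.minOKc [5, 2, 1, 3, 3, 1, 3, 1, 3, 4, 2, 0, 2, 0, 2, 2, 0, 3, 1, 1] 1 1307200 1600 = true := by decide +kernel

theorem chk_pow8_54_8 : tab.minOKc [5, 2, 1, 3, 3, 1, 3, 1, 3, 4, 2, 0, 2, 0, 2, 2, 0, 3, 1, 1] 1 1308800 1600 = true := by decide +kernel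

theorem chk_pow8_54_9 : tab.minOKc [5, 2, 1, 3, 3, 1, 3, 1, 3, 4, 2, 0, 2, 0, 2, 2, 0, 3, 1, 1] 1 1310400 1600 = true := by decide +kernel

theorem chk_pow8_54_10 : tab.minOKc [5, 2, 1, 3, 3, 1, 3, 1, 3, 4, 2, 0, 2, 0, 2, 2, 0, 3, 1, 1] 1 1312000 1600 = true := by decide +kernel

theorem chk_pow8_54_11 : tab.minOKc [5, 2, 1, 3, 3, 1, 3, 1, 3, 4, 2, 0, 2, 0, 2, 2, 0, 3, 1, 1] 1 1313600 1600 = true := by decide +kernel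

theorem chk_pow8_54_12 : tab.minOKc [5, 2, 1, 3, 3, 1, 3, 1, 3, 4, 2, 0, 2, 0, 2, 2, 0, 3, 1, 1] 1 1315200 1600 = true := by decide +kernel

theorem chk_pow8_54_13 : tab.minOKc [5, 2, 1, 3, 3, 1, 3, 1, 3, 4, 2, 0, 2, 0, 2, 2, 0, 3, 1, 1] 1 1316800 1600 = true := by decide +kernel

theorem chk_pow8_54_14 : tab.minOKc [5, 2, 1, 3, 3, 1, 3, 1, 3, 4, 2, 0, 2, 0, 2, 2, 0, 3, 1, 1] 1 1318400 1600 = true := by decide +kernel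

theorem chk_pow8_54 : tab.minOKc [5, 2, 1, 3, 3, 1, 3, 1, 3, 4, 2, 0, 2, 0, 2, 2, 0, 3, 1, 1] 1 1296000 24000 = true := by
  refine tab.minOKc_of_chunks [5, 2, 1, 3, 3, 1, 3, 1, 3, 4, 2, 0, 2, 0, 2, 2, 0, 3, 1, 1] 1 1296000 1600 15 (by norm_num) ?_
  intro i hi
  interval_cases i
  · exact chk_pow8_54_0
  · exact chk_pow8_54_1
  · exact chk_pow8_54_2
  · exact chk_pow8_54_3
  · exact chk_pow8_54_4
  · exact chk_pow8_54_5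
  · exact chk_pow8_54_6
  · exact chk_pow8_54_7
  · exact chk_pow8_54_8
  · exact chk_pow8_54_9
  · exact chk_pow8_54_10
  · exact chk_pow8_54_11
  · exact chk_pow8_54_12
  · exact chk_pow8_54_13
  · exact chk_pow8_54_14

theorem chk_pow8_55_0 : tab.minOKc [5, 2, 1, 3, 3, 1, 3, 1, 3, 4, 2, 0, 2, 0, 2, 2, 0, 3, 1, 1] 1 1320000 1600 = true := by decide +kernel

theorem chk_pow8_55_1 : tab.minOKc [5, 2, 1, 3, 3, 1, 3, 1, 3, 4, 2, 0, 2, 0, 2, 2, 0, 3, 1, 1] 1 1321600 1600 = true := by decide +kernel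

theorem chk_pow8_55_2 : tab.minOKc [5, 2, 1, 3, 3, 1, 3, 1, 3, 4, 2, 0, 2, 0, 2, 2, 0, 3, 1, 1] 1 1323200 1600 = true := by decide +kernel

theorem chk_pow8_55_3 : tab.minOKc [5, 2, 1, 3, 3, 1, 3, 1, 3, 4, 2, 0, 2, 0, 2, 2, 0, 3, 1, 1] 1 1324800 1600 = true := by decide +kernel

theorem chk_pow8_55_4 : tab.minOKc [5, 2, 1, 3, 3, 1, 3, 1, 3, 4, 2, 0, 2, 0, 2, 2, 0, 3, 1, 1] 1 1326400 1600 = true := by decide +kernel

theorem chk_pow8_55_5 : tab.minOKc [5, 2, 1, 3, 3, 1, 3, 1, 3, 4, 2, 0, 2, 0, 2, 2, 0, 3, 1, 1] 1 1328000 1600 = true := by decide +kernel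

theorem chk_pow8_55_6 : tab.minOKc [5, 2, 1, 3, 3, 1, 3, 1, 3, 4, 2, 0, 2, 0, 2, 2, 0, 3, 1, 1] 1 1329600 1600 = true := by decide +kernel

theorem chk_pow8_55_7 : tab.minOKc [5, 2, 1, 3, 3, 1, 3, 1, 3, 4, 2, 0, 2, 0, 2, 2, 0, 3, 1, 1] 1 1331200 1600 = true := by decide +kernel

theorem chk_pow8_55_8 : tab.minOKc [5, 2, 1, 3, 3, 1, 3, 1, 3, 4, 2, 0, 2, 0, 2, 2, 0, 3, 1, 1] 1 1332800 1600 = true := by decide +kernel

theorem chk_pow8_55_9 : tab.minOKc [5, 2, 1, 3, 3, 1, 3, 1, 3, 4, 2, 0, 2, 0, 2, 2, 0, 3, 1, 1] 1 1334400 1600 = true := by decide +kernel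

theorem chk_pow8_55_10 : tab.minOKc [5, 2, 1, 3, 3, 1, 3, 1, 3, 4, 2, 0, 2, 0, 2, 2, 0, 3, 1, 1] 1 1336000 1600 = true := by decide +kernel

theorem chk_pow8_55_11 : tab.minOKc [5, 2, 1, 3, 3, 1, 3, 1, 3, 4, 2, 0, 2, 0, 2, 2, 0, 3, 1, 1] 1 1337600 1600 = true := by decide +kernel

theorem chk_pow8_55_12 : tab.minOKc [5, 2, 1, 3, 3, 1, 3, 1, 3, 4, 2, 0, 2, 0, 2, 2, 0, 3, 1, 1] 1 1339200 1600 = true := by decide +kernel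

theorem chk_pow8_55_13 : tab.minOKc [5, 2, 1, 3, 3, 1, 3, 1, 3, 4, 2, 0, 2, 0, 2, 2, 0, 3, 1, 1] 1 1340800 1600 = true := by decide +kernel

theorem chk_pow8_55_14 : tab.minOKc [5, 2, 1, 3, 3, 1, 3, 1, 3, 4, 2, 0, 2, 0, 2, 2, 0, 3, 1, 1] 1 1342400 1600 = true := by decide +kernel

theorem chk_pow8_55 : tab.minOKc [5, 2, 1, 3, 3, 1, 3, 1, 3, 4, 2, 0, 2, 0, 2, 2, 0, 3, 1, 1] 1 1320000 24000 = true := by
  refine tab.minOKc_of_chunks [5, 2, 1, 3, 3, 1, 3, 1, 3, 4, 2, 0, 2, 0, 2, 2, 0, 3, 1, 1] 1 1320000 1600 15 (by norm_num) ?_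
  intro i hi
  interval_cases i
  · exact chk_pow8_55_0
  · exact chk_pow8_55_1
  · exact chk_pow8_55_2
  · exact chk_pow8_55_3
  · exact chk_pow8_55_4
  · exact chk_pow8_55_5
  · exact chk_pow8_55_6
  · exact chk_pow8_55_7
  · exact chk_pow8_55_8
  · exact chk_pow8_55_9
  · exact chk_pow8_55_10
  · exact chk_pow8_55_11
  · exact chk_pow8_55_12
  · exact chk_pow8_55_13
  · exact chk_pow8_55_14


end Cfsg.Agent.Lib.Lead.HNP.HNTC
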