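import Cfsg.Agent.Lib.Lead.HNP.HNTCSCert
import Cfsg.Agent.Lib.Lead.HNP.HNTCSRows9

/-! # HNTC: the kernel check of the rows from 379368 on -/

set_option autoImplicit false

namespace Cfsg.Agent.Lib.Lead.HNP.HNTC

open Cfsg.Agent.Lib.Helper6.TC Cfsg.Agent.Lib.Helper6.TCGS

theorem chk_rows33_0 : cert.rowsOK 379368 479 = true := by decide +kernel

theorem chk_rows33_1 : cert.rowsOK 379847 479 = true := by decide +kernel

theorem chk_rows33_2 : cert.rowsOK 380326 479 = true := by decide +kernel

theorem chk_rows33_3 : cert.rowsOK 380805 479 = true := by decide +kernel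

theorem chk_rows33_4 : cert.rowsOK 381284 479 = true := by decide +kernel

theorem chk_rows33_5 : cert.rowsOK 381763 479 = true := by decide +kernel

theorem chk_rows33_6 : cert.rowsOK 382242 479 = true := by decide +kernel

theorem chk_rows33_7 : cert.rowsOK 382721 479 = true := by decide +kernel

theorem chk_rows33_8 : cert.rowsOK 383200 479 = true := by decide +kernel

theorem chk_rows33_9 : cert.rowsOK 383679 479 = true := by decide +kernel

theorem chk_rows33_10 : cert.rowsOK 384158 479 = true := by decide +kernel

theorem chk_rows33_11 : cert.rowsOK 384637 479 = true := by decide +kernel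

theorem chk_rows33_12 : cert.rowsOK 385116 479 = true := by decide +kernel

theorem chk_rows33_13 : cert.rowsOK 385595 479 = true := by decide +kernel

theorem chk_rows33_14 : cert.rowsOK 386074 479 = true := by decide +kernel

theorem chk_rows33_15 : cert.rowsOK 386553 479 = true := by decide +kernel

theorem chk_rows33_16 : cert.rowsOK 387032 479 = true := by decide +kernel

theorem chk_rows33_17 : cert.rowsOK 387511 479 = true := by decide +kernel

theorem chk_rows33_18 : cert.rowsOK 387990 479 = true := by decide +kernel

theorem chk_rows33_19 : cert.rowsOK 388469 479 = true := by decide +kernel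

theorem chk_rows33_20 : cert.rowsOK 388948 479 = true := by decide +kernel

theorem chk_rows33_21 : cert.rowsOK 389427 479 = true := by decide +kernel

theorem chk_rows33_22 : cert.rowsOK 389906 479 = true := by decide +kernel

theorem chk_rows33_23 : cert.rowsOK 390385 479 = true := by decide +kernel

theorem chk_range33 : ∀ a, 379368 ≤ a → a < 390864 → ∀ x < cert.c.g, cert.slotOK a x = true := by
  refine cert.range_of_chunks 379368 479 24 (by norm_num) ?_
  intro k hk
  interval_cases k
  · exact chk_rows33_0
  · exact chk_rows33_1
  · exact chk_rows33_2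
  · exact chk_rows33_3
  · exact chk_rows33_4
  · exact chk_rows33_5
  · exact chk_rows33_6
  · exact chk_rows33_7
  · exact chk_rows33_8
  · exact chk_rows33_9
  · exact chk_rows33_10
  · exact chk_rows33_11
  · exact chk_rows33_12
  · exact chk_rows33_13
  · exact chk_rows33_14
  · exact chk_rows33_15
  · exact chk_rows33_16
  · exact chk_rows33_17
  · exact chk_rows33_18
  · exact chk_rows33_19
  · exact chk_rows33_20
  · exact chk_rows33_21
  · exact chk_rows33_22
  · exact chk_rows33_23

end Cfsg.Agent.Lib.Lead.HNP.HNTC
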