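import Cfsg.Agent.Lib.Lead.HNP.HNTCSCert
import Cfsg.Agent.Lib.Lead.HNP.HNTCSRows33

/-! # HNTC: the kernel check of the rows from 655272 on -/

set_option autoImplicit false

namespace Cfsg.Agent.Lib.Lead.HNP.HNTC

open Cfsg.Agent.Lib.Helper6.TC Cfsg.Agent.Lib.Helper6.TCGS

theorem chk_rows57_0 : cert.rowsOK 655272 479 = true := by decide +kernel

theorem chk_rows57_1 : cert.rowsOK 655751 479 = true := by decide +kernel

theorem chk_rows57_2 : cert.rowsOK 656230 479 = true := by decide +kernel

theorem chk_rows57_3 : cert.rowsOK 656709 479 = true := by decide +kernel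

theorem chk_rows57_4 : cert.rowsOK 657188 479 = true := by decide +kernel

theorem chk_rows57_5 : cert.rowsOK 657667 479 = true := by decide +kernel

theorem chk_rows57_6 : cert.rowsOK 658146 479 = true := by decide +kernel

theorem chk_rows57_7 : cert.rowsOK 658625 479 = true := by decide +kernel

theorem chk_rows57_8 : cert.rowsOK 659104 479 = true := by decide +kernel

theorem chk_rows57_9 : cert.rowsOK 659583 479 = true := by decide +kernel

theorem chk_rows57_10 : cert.rowsOK 660062 479 = true := by decide +kernel

theorem chk_rows57_11 : cert.rowsOK 660541 479 = true := by decide +kernel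

theorem chk_rows57_12 : cert.rowsOK 661020 479 = true := by decide +kernel

theorem chk_rows57_13 : cert.rowsOK 661499 479 = true := by decide +kernel

theorem chk_rows57_14 : cert.rowsOK 661978 479 = true := by decide +kernel

theorem chk_rows57_15 : cert.rowsOK 662457 479 = true := by decide +kernel

theorem chk_rows57_16 : cert.rowsOK 662936 479 = true := by decide +kernel

theorem chk_rows57_17 : cert.rowsOK 663415 479 = true := by decide +kernel

theorem chk_rows57_18 : cert.rowsOK 663894 479 = true := by decide +kernel

theorem chk_rows57_19 : cert.rowsOK 664373 479 = true := by decide +kernel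

theorem chk_rows57_20 : cert.rowsOK 664852 479 = true := by decide +kernel

theorem chk_rows57_21 : cert.rowsOK 665331 479 = true := by decide +kernel

theorem chk_rows57_22 : cert.rowsOK 665810 479 = true := by decide +kernel

theorem chk_rows57_23 : cert.rowsOK 666289 479 = true := by decide +kernel

theorem chk_range57 : ∀ a, 655272 ≤ a → a < 666768 → ∀ x < cert.c.g, cert.slotOK a x = true := by
  refine cert.range_of_chunks 655272 479 24 (by norm_num) ?_
  intro k hk
  interval_cases k
  · exact chk_rows57_0
  · exact chk_rows57_1
  · exact chk_rows57_2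
  · exact chk_rows57_3
  · exact chk_rows57_4
  · exact chk_rows57_5
  · exact chk_rows57_6
  · exact chk_rows57_7
  · exact chk_rows57_8
  · exact chk_rows57_9
  · exact chk_rows57_10
  · exact chk_rows57_11
  · exact chk_rows57_12
  · exact chk_rows57_13
  · exact chk_rows57_14
  · exact chk_rows57_15
  · exact chk_rows57_16
  · exact chk_rows57_17
  · exact chk_rows57_18
  · exact chk_rows57_19
  · exact chk_rows57_20
  · exact chk_rows57_21
  · exact chk_rows57_22
  · exact chk_rows57_23

end Cfsg.Agent.Lib.Lead.HNP.HNTC
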