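import Cfsg.Agent.Lib.Lead.HNP.HNTCSCert
import Cfsg.Agent.Lib.Lead.HNP.HNTCSRows57

/-! # HNTC: the kernel check of the rows from 931176 on -/

set_option autoImplicit false

namespace Cfsg.Agent.Lib.Lead.HNP.HNTC

open Cfsg.Agent.Lib.Helper6.TC Cfsg.Agent.Lib.Helper6.TCGS

theorem chk_rows81_0 : cert.rowsOK 931176 479 = true := by decide +kernel

theorem chk_rows81_1 : cert.rowsOK 931655 479 = true := by decide +kernel

theorem chk_rows81_2 : cert.rowsOK 932134 479 = true := by decide +kernel

theorem chk_rows81_3 : cert.rowsOK 932613 479 = true := by decide +kernel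

theorem chk_rows81_4 : cert.rowsOK 933092 479 = true := by decide +kernel

theorem chk_rows81_5 : cert.rowsOK 933571 479 = true := by decide +kernel

theorem chk_rows81_6 : cert.rowsOK 934050 479 = true := by decide +kernel

theorem chk_rows81_7 : cert.rowsOK 934529 479 = true := by decide +kernel

theorem chk_rows81_8 : cert.rowsOK 935008 479 = true := by decide +kernel

theorem chk_rows81_9 : cert.rowsOK 935487 479 = true := by decide +kernel

theorem chk_rows81_10 : cert.rowsOK 935966 479 = true := by decide +kernel

theorem chk_rows81_11 : cert.rowsOK 936445 479 = true := by decide +kernel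

theorem chk_rows81_12 : cert.rowsOK 936924 479 = true := by decide +kernel

theorem chk_rows81_13 : cert.rowsOK 937403 479 = true := by decide +kernel

theorem chk_rows81_14 : cert.rowsOK 937882 479 = true := by decide +kernel

theorem chk_rows81_15 : cert.rowsOK 938361 479 = true := by decide +kernel

theorem chk_rows81_16 : cert.rowsOK 938840 479 = true := by decide +kernel

theorem chk_rows81_17 : cert.rowsOK 939319 479 = true := by decide +kernel

theorem chk_rows81_18 : cert.rowsOK 939798 479 = true := by decide +kernel

theorem chk_rows81_19 : cert.rowsOK 940277 479 = true := by decide +kernel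

theorem chk_rows81_20 : cert.rowsOK 940756 479 = true := by decide +kernel

theorem chk_rows81_21 : cert.rowsOK 941235 479 = true := by decide +kernel

theorem chk_rows81_22 : cert.rowsOK 941714 479 = true := by decide +kernel

theorem chk_rows81_23 : cert.rowsOK 942193 479 = true := by decide +kernel

theorem chk_range81 : ∀ a, 931176 ≤ a → a < 942672 → ∀ x < cert.c.g, cert.slotOK a x = true := by
  refine cert.range_of_chunks 931176 479 24 (by norm_num) ?_
  intro k hk
  interval_cases k
  · exact chk_rows81_0
  · exact chk_rows81_1
  · exact chk_rows81_2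
  · exact chk_rows81_3
  · exact chk_rows81_4
  · exact chk_rows81_5
  · exact chk_rows81_6
  · exact chk_rows81_7
  · exact chk_rows81_8
  · exact chk_rows81_9
  · exact chk_rows81_10
  · exact chk_rows81_11
  · exact chk_rows81_12
  · exact chk_rows81_13
  · exact chk_rows81_14
  · exact chk_rows81_15
  · exact chk_rows81_16
  · exact chk_rows81_17
  · exact chk_rows81_18
  · exact chk_rows81_19
  · exact chk_rows81_20
  · exact chk_rows81_21
  · exact chk_rows81_22
  · exact chk_rows81_23

end Cfsg.Agent.Lib.Lead.HNP.HNTC
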