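import Cfsg.Agent.Lib.Lead.HNP.HNTCSCert
import Cfsg.Agent.Lib.Lead.HNP.HNTCSRows81

/-! # HNTC: the kernel check of the rows from 1207080 on -/

set_option autoImplicit false

namespace Cfsg.Agent.Lib.Lead.HNP.HNTC

open Cfsg.Agent.Lib.Helper6.TC Cfsg.Agent.Lib.Helper6.TCGS

theorem chk_rows105_0 : cert.rowsOK 1207080 479 = true := by decide +kernel

theorem chk_rows105_1 : cert.rowsOK 1207559 479 = true := by decide +kernel

theorem chk_rows105_2 : cert.rowsOK 1208038 479 = true := by decide +kernel

theorem chk_rows105_3 : cert.rowsOK 1208517 479 = true := by decide +kernel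

theorem chk_rows105_4 : cert.rowsOK 1208996 479 = true := by decide +kernel

theorem chk_rows105_5 : cert.rowsOK 1209475 479 = true := by decide +kernel

theorem chk_rows105_6 : cert.rowsOK 1209954 479 = true := by decide +kernel

theorem chk_rows105_7 : cert.rowsOK 1210433 479 = true := by decide +kernel

theorem chk_rows105_8 : cert.rowsOK 1210912 479 = true := by decide +kernel

theorem chk_rows105_9 : cert.rowsOK 1211391 479 = true := by decide +kernel

theorem chk_rows105_10 : cert.rowsOK 1211870 479 = true := by decide +kernel

theorem chk_rows105_11 : cert.rowsOK 1212349 479 = true := by decide +kernel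

theorem chk_rows105_12 : cert.rowsOK 1212828 479 = true := by decide +kernel

theorem chk_rows105_13 : cert.rowsOK 1213307 479 = true := by decide +kernel

theorem chk_rows105_14 : cert.rowsOK 1213786 479 = true := by decide +kernel

theorem chk_rows105_15 : cert.rowsOK 1214265 479 = true := by decide +kernel

theorem chk_rows105_16 : cert.rowsOK 1214744 479 = true := by decide +kernel

theorem chk_rows105_17 : cert.rowsOK 1215223 479 = true := by decide +kernel

theorem chk_rows105_18 : cert.rowsOK 1215702 479 = true := by decide +kernel

theorem chk_rows105_19 : cert.rowsOK 1216181 479 = true := by decide +kernel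

theorem chk_rows105_20 : cert.rowsOK 1216660 479 = true := by decide +kernel

theorem chk_rows105_21 : cert.rowsOK 1217139 479 = true := by decide +kernel

theorem chk_rows105_22 : cert.rowsOK 1217618 479 = true := by decide +kernel

theorem chk_rows105_23 : cert.rowsOK 1218097 479 = true := by decide +kernel

theorem chk_range105 : ∀ a, 1207080 ≤ a → a < 1218576 → ∀ x < cert.c.g, cert.slotOK a x = true := by
  refine cert.range_of_chunks 1207080 479 24 (by norm_num) ?_
  intro k hk
  interval_cases k
  · exact chk_rows105_0
  · exact chk_rows105_1
  · exact chk_rows105_2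
  · exact chk_rows105_3
  · exact chk_rows105_4
  · exact chk_rows105_5
  · exact chk_rows105_6
  · exact chk_rows105_7
  · exact chk_rows105_8
  · exact chk_rows105_9
  · exact chk_rows105_10
  · exact chk_rows105_11
  · exact chk_rows105_12
  · exact chk_rows105_13
  · exact chk_rows105_14
  · exact chk_rows105_15
  · exact chk_rows105_16
  · exact chk_rows105_17
  · exact chk_rows105_18
  · exact chk_rows105_19
  · exact chk_rows105_20
  · exact chk_rows105_21
  · exact chk_rows105_22
  · exact chk_rows105_23

end Cfsg.Agent.Lib.Lead.HNP.HNTC
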