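import Cfsg.Agent.Lib.Lead.HNP.HNTCSCert
import Cfsg.Agent.Lib.Lead.HNP.HNTCSRows105

/-! # HNTC: the kernel check of the rows from 1482984 on -/

set_option autoImplicit false

namespace Cfsg.Agent.Lib.Lead.HNP.HNTC

open Cfsg.Agent.Lib.Helper6.TC Cfsg.Agent.Lib.Helper6.TCGS

theorem chk_rows129_0 : cert.rowsOK 1482984 479 = true := by decide +kernel

theorem chk_rows129_1 : cert.rowsOK 1483463 479 = true := by decide +kernel

theorem chk_rows129_2 : cert.rowsOK 1483942 479 = true := by decide +kernel

theorem chk_rows129_3 : cert.rowsOK 1484421 479 = true := by decide +kernel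

theorem chk_rows129_4 : cert.rowsOK 1484900 479 = true := by decide +kernel

theorem chk_rows129_5 : cert.rowsOK 1485379 479 = true := by decide +kernel

theorem chk_rows129_6 : cert.rowsOK 1485858 479 = true := by decide +kernel

theorem chk_rows129_7 : cert.rowsOK 1486337 479 = true := by decide +kernel

theorem chk_rows129_8 : cert.rowsOK 1486816 479 = true := by decide +kernel

theorem chk_rows129_9 : cert.rowsOK 1487295 479 = true := by decide +kernel

theorem chk_rows129_10 : cert.rowsOK 1487774 479 = true := by decide +kernel

theorem chk_rows129_11 : cert.rowsOK 1488253 479 = true := by decide +kernel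

theorem chk_rows129_12 : cert.rowsOK 1488732 479 = true := by decide +kernel

theorem chk_rows129_13 : cert.rowsOK 1489211 479 = true := by decide +kernel

theorem chk_rows129_14 : cert.rowsOK 1489690 479 = true := by decide +kernel

theorem chk_rows129_15 : cert.rowsOK 1490169 479 = true := by decide +kernel

theorem chk_rows129_16 : cert.rowsOK 1490648 479 = true := by decide +kernel

theorem chk_rows129_17 : cert.rowsOK 1491127 479 = true := by decide +kernel

theorem chk_rows129_18 : cert.rowsOK 1491606 479 = true := by decide +kernel

theorem chk_rows129_19 : cert.rowsOK 1492085 479 = true := by decide +kernel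

theorem chk_rows129_20 : cert.rowsOK 1492564 479 = true := by decide +kernel

theorem chk_rows129_21 : cert.rowsOK 1493043 479 = true := by decide +kernel

theorem chk_rows129_22 : cert.rowsOK 1493522 479 = true := by decide +kernel

theorem chk_rows129_23 : cert.rowsOK 1494001 479 = true := by decide +kernel

theorem chk_range129 : ∀ a, 1482984 ≤ a → a < 1494480 → ∀ x < cert.c.g, cert.slotOK a x = true := by
  refine cert.range_of_chunks 1482984 479 24 (by norm_num) ?_
  intro k hk
  interval_cases k
  · exact chk_rows129_0
  · exact chk_rows129_1
  · exact chk_rows129_2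
  · exact chk_rows129_3
  · exact chk_rows129_4
  · exact chk_rows129_5
  · exact chk_rows129_6
  · exact chk_rows129_7
  · exact chk_rows129_8
  · exact chk_rows129_9
  · exact chk_rows129_10
  · exact chk_rows129_11
  · exact chk_rows129_12
  · exact chk_rows129_13
  · exact chk_rows129_14
  · exact chk_rows129_15
  · exact chk_rows129_16
  · exact chk_rows129_17
  · exact chk_rows129_18
  · exact chk_rows129_19
  · exact chk_rows129_20
  · exact chk_rows129_21
  · exact chk_rows129_22
  · exact chk_rows129_23

end Cfsg.Agent.Lib.Lead.HNP.HNTC
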