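import Cfsg.Agent.Lib.Lead.HNP.HNTCSCert
import Cfsg.Agent.Lib.Helper6.TCGIndex
import Cfsg.Agent.Lib.Lead.HNP.HNTCSRows129

/-! # HNTC: the kernel check that the first rows are closed, part 19 -/

set_option autoImplicit false

namespace Cfsg.Agent.Lib.Lead.HNP.HNTC

open Cfsg.Agent.Lib.Helper6.TC Cfsg.Agent.Lib.Helper6.TCGS

theorem chk_fin171 : cert.finalOKc 1539000 342000 2000 = true := by decide +kernel

theorem chk_fin172 : cert.finalOKc 1539000 344000 2000 = true := by decide +kernel

theorem chk_fin173 : cert.finalOKc 1539000 346000 2000 = true := by decide +kernel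

theorem chk_fin174 : cert.finalOKc 1539000 348000 2000 = true := by decide +kernel

theorem chk_fin175 : cert.finalOKc 1539000 350000 2000 = true := by decide +kernel

theorem chk_fin176 : cert.finalOKc 1539000 352000 2000 = true := by decide +kernel

theorem chk_fin177 : cert.finalOKc 1539000 354000 2000 = true := by decide +kernel

theorem chk_fin178 : cert.finalOKc 1539000 356000 2000 = true := by decide +kernel

theorem chk_fin179 : cert.finalOKc 1539000 358000 2000 = true := by decide +kernel


end Cfsg.Agent.Lib.Lead.HNP.HNTC
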