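import Cfsg.Agent.Lib.Lead.HNP.HNTCSCert
import Cfsg.Agent.Lib.Helper6.TCGIndex
import Cfsg.Agent.Lib.Lead.HNP.HNTCSFin19

/-! # HNTC: the kernel check that the first rows are closed, part 43 -/

set_option autoImplicit false

namespace Cfsg.Agent.Lib.Lead.HNP.HNTC

open Cfsg.Agent.Lib.Helper6.TC Cfsg.Agent.Lib.Helper6.TCGS

theorem chk_fin387 : cert.finalOKc 1539000 774000 2000 = true := by decide +kernel

theorem chk_fin388 : cert.finalOKc 1539000 776000 2000 = true := by decide +kernel

theorem chk_fin389 : cert.finalOKc 1539000 778000 2000 = true := by decide +kernel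

theorem chk_fin390 : cert.finalOKc 1539000 780000 2000 = true := by decide +kernel

theorem chk_fin391 : cert.finalOKc 1539000 782000 2000 = true := by decide +kernel

theorem chk_fin392 : cert.finalOKc 1539000 784000 2000 = true := by decide +kernel

theorem chk_fin393 : cert.finalOKc 1539000 786000 2000 = true := by decide +kernel

theorem chk_fin394 : cert.finalOKc 1539000 788000 2000 = true := by decide +kernel

theorem chk_fin395 : cert.finalOKc 1539000 790000 2000 = true := by decide +kernel


end Cfsg.Agent.Lib.Lead.HNP.HNTC
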