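import Cfsg.Agent.Lib.Lead.HNP.HNTCSCert
import Cfsg.Agent.Lib.Helper6.TCGIndex
import Cfsg.Agent.Lib.Lead.HNP.HNTCSFin43

/-! # HNTC: the kernel check that the first rows are closed, part 67 -/

set_option autoImplicit false

namespace Cfsg.Agent.Lib.Lead.HNP.HNTC

open Cfsg.Agent.Lib.Helper6.TC Cfsg.Agent.Lib.Helper6.TCGS

theorem chk_fin603 : cert.finalOKc 1539000 1206000 2000 = true := by decide +kernel

theorem chk_fin604 : cert.finalOKc 1539000 1208000 2000 = true := by decide +kernel

theorem chk_fin605 : cert.finalOKc 1539000 1210000 2000 = true := by decide +kernel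

theorem chk_fin606 : cert.finalOKc 1539000 1212000 2000 = true := by decide +kernel

theorem chk_fin607 : cert.finalOKc 1539000 1214000 2000 = true := by decide +kernel

theorem chk_fin608 : cert.finalOKc 1539000 1216000 2000 = true := by decide +kernel

theorem chk_fin609 : cert.finalOKc 1539000 1218000 2000 = true := by decide +kernel

theorem chk_fin610 : cert.finalOKc 1539000 1220000 2000 = true := by decide +kernel

theorem chk_fin611 : cert.finalOKc 1539000 1222000 2000 = true := by decide +kernel


end Cfsg.Agent.Lib.Lead.HNP.HNTC
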