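import Cfsg.Agent.Lib.Lead.HNP.HNTCData
import Cfsg.Agent.Lib.Helper6.TCRel3
import Cfsg.Agent.Lib.Lead.HNP.HNTCSFin67

/-! # HNTC: the kernel check of a part of the relators on the coset table -/

set_option autoImplicit false

namespace Cfsg.Agent.Lib.Lead.HNP.HNTC

open Cfsg.Agent.Lib.Helper6.TC

theorem chk_pow1_6_0 : tab.minOKc [0, 0, 2, 0, 0, 3] 1 479970 5333 = true := by decide +kernel

theorem chk_pow1_6_1 : tab.minOKc [0, 0, 2, 0, 0, 3] 1 485303 5333 = true := by decide +kernel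

theorem chk_pow1_6_2 : tab.minOKc [0, 0, 2, 0, 0, 3] 1 490636 5333 = true := by decide +kernel

theorem chk_pow1_6_3 : tab.minOKc [0, 0, 2, 0, 0, 3] 1 495969 5333 = true := by decide +kernel

theorem chk_pow1_6_4 : tab.minOKc [0, 0, 2, 0, 0, 3] 1 501302 5333 = true := by decide +kernel

theorem chk_pow1_6_5 : tab.minOKc [0, 0, 2, 0, 0, 3] 1 506635 5333 = true := by decide +kernel

theorem chk_pow1_6_6 : tab.minOKc [0, 0, 2, 0, 0, 3] 1 511968 5333 = true := by decide +kernel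

theorem chk_pow1_6_7 : tab.minOKc [0, 0, 2, 0, 0, 3] 1 517301 5333 = true := by decide +kernel

theorem chk_pow1_6_8 : tab.minOKc [0, 0, 2, 0, 0, 3] 1 522634 5333 = true := by decide +kernel

theorem chk_pow1_6_9 : tab.minOKc [0, 0, 2, 0, 0, 3] 1 527967 5333 = true := by decide +kernel

theorem chk_pow1_6_10 : tab.minOKc [0, 0, 2, 0, 0, 3] 1 533300 5333 = true := by decide +kernel

theorem chk_pow1_6_11 : tab.minOKc [0, 0, 2, 0, 0, 3] 1 538633 5333 = true := by decide +kernel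

theorem chk_pow1_6_12 : tab.minOKc [0, 0, 2, 0, 0, 3] 1 543966 5333 = true := by decide +kernel

theorem chk_pow1_6_13 : tab.minOKc [0, 0, 2, 0, 0, 3] 1 549299 5333 = true := by decide +kernel

theorem chk_pow1_6_14 : tab.minOKc [0, 0, 2, 0, 0, 3] 1 554632 5333 = true := by decide +kernel

theorem chk_pow1_6 : tab.minOKc [0, 0, 2, 0, 0, 3] 1 479970 79995 = true := by
  refine tab.minOKc_of_chunks [0, 0, 2, 0, 0, 3] 1 479970 5333 15 (by norm_num) ?_
  intro i hi
  interval_cases i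
  · exact chk_pow1_6_0
  · exact chk_pow1_6_1
  · exact chk_pow1_6_2
  · exact chk_pow1_6_3
  · exact chk_pow1_6_4
  · exact chk_pow1_6_5
  · exact chk_pow1_6_6
  · exact chk_pow1_6_7
  · exact chk_pow1_6_8
  · exact chk_pow1_6_9
  · exact chk_pow1_6_10
  · exact chk_pow1_6_11
  · exact chk_pow1_6_12
  · exact chk_pow1_6_13
  · exact chk_pow1_6_14

theorem chk_pow1_7_0 : tab.minOKc [0, 0, 2, 0, 0, 3] 1 559965 5333 = true := by decide +kernel

theorem chk_pow1_7_1 : tab.minOKc [0, 0, 2, 0, 0, 3] 1 565298 5333 = true := by decide +kernel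

theorem chk_pow1_7_2 : tab.minOKc [0, 0, 2, 0, 0, 3] 1 570631 5333 = true := by decide +kernel

theorem chk_pow1_7_3 : tab.minOKc [0, 0, 2, 0, 0, 3] 1 575964 5333 = true := by decide +kernel

theorem chk_pow1_7_4 : tab.minOKc [0, 0, 2, 0, 0, 3] 1 581297 5333 = true := by decide +kernel

theorem chk_pow1_7_5 : tab.minOKc [0, 0, 2, 0, 0, 3] 1 586630 5333 = true := by decide +kernel

theorem chk_pow1_7_6 : tab.minOKc [0, 0, 2, 0, 0, 3] 1 591963 5333 = true := by decide +kernel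

theorem chk_pow1_7_7 : tab.minOKc [0, 0, 2, 0, 0, 3] 1 597296 5333 = true := by decide +kernel

theorem chk_pow1_7_8 : tab.minOKc [0, 0, 2, 0, 0, 3] 1 602629 5333 = true := by decide +kernel

theorem chk_pow1_7_9 : tab.minOKc [0, 0, 2, 0, 0, 3] 1 607962 5333 = true := by decide +kernel

theorem chk_pow1_7_10 : tab.minOKc [0, 0, 2, 0, 0, 3] 1 613295 5333 = true := by decide +kernel

theorem chk_pow1_7_11 : tab.minOKc [0, 0, 2, 0, 0, 3] 1 618628 5333 = true := by decide +kernel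

theorem chk_pow1_7_12 : tab.minOKc [0, 0, 2, 0, 0, 3] 1 623961 5333 = true := by decide +kernel

theorem chk_pow1_7_13 : tab.minOKc [0, 0, 2, 0, 0, 3] 1 629294 5333 = true := by decide +kernel

theorem chk_pow1_7_14 : tab.minOKc [0, 0, 2, 0, 0, 3] 1 634627 5333 = true := by decide +kernel

theorem chk_pow1_7 : tab.minOKc [0, 0, 2, 0, 0, 3] 1 559965 79995 = true := by
  refine tab.minOKc_of_chunks [0, 0, 2, 0, 0, 3] 1 559965 5333 15 (by norm_num) ?_
  intro i hi
  interval_cases i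
  · exact chk_pow1_7_0
  · exact chk_pow1_7_1
  · exact chk_pow1_7_2
  · exact chk_pow1_7_3
  · exact chk_pow1_7_4
  · exact chk_pow1_7_5
  · exact chk_pow1_7_6
  · exact chk_pow1_7_7
  · exact chk_pow1_7_8
  · exact chk_pow1_7_9
  · exact chk_pow1_7_10
  · exact chk_pow1_7_11
  · exact chk_pow1_7_12
  · exact chk_pow1_7_13
  · exact chk_pow1_7_14


end Cfsg.Agent.Lib.Lead.HNP.HNTC
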