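import Cfsg.Agent.Lib.Lead.HNP.HNTCData
import Cfsg.Agent.Lib.Helper6.TCRel3
import Cfsg.Agent.Lib.Lead.HNP.HNTCRel5

/-! # HNTC: the kernel check of a part of the relators on the coset table -/

set_option autoImplicit false

namespace Cfsg.Agent.Lib.Lead.HNP.HNTC

open Cfsg.Agent.Lib.Helper6.TC

theorem chk_pow3_21_0 : tab.minOKc [1, 2, 2, 0, 2, 2, 2] 3 1439865 4571 = true := by decide +kernel

theorem chk_pow3_21_1 : tab.minOKc [1, 2, 2, 0, 2, 2, 2] 3 1444436 4571 = true := by decide +kernel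

theorem chk_pow3_21_2 : tab.minOKc [1, 2, 2, 0, 2, 2, 2] 3 1449007 4571 = true := by decide +kernel

theorem chk_pow3_21_3 : tab.minOKc [1, 2, 2, 0, 2, 2, 2] 3 1453578 4571 = true := by decide +kernel

theorem chk_pow3_21_4 : tab.minOKc [1, 2, 2, 0, 2, 2, 2] 3 1458149 4571 = true := by decide +kernel

theorem chk_pow3_21_5 : tab.minOKc [1, 2, 2, 0, 2, 2, 2] 3 1462720 4571 = true := by decide +kernel

theorem chk_pow3_21_6 : tab.minOKc [1, 2, 2, 0, 2, 2, 2] 3 1467291 4571 = true := by decide +kernel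

theorem chk_pow3_21_7 : tab.minOKc [1, 2, 2, 0, 2, 2, 2] 3 1471862 4571 = true := by decide +kernel

theorem chk_pow3_21_8 : tab.minOKc [1, 2, 2, 0, 2, 2, 2] 3 1476433 4571 = true := by decide +kernel

theorem chk_pow3_21_9 : tab.minOKc [1, 2, 2, 0, 2, 2, 2] 3 1481004 4571 = true := by decide +kernel

theorem chk_pow3_21_10 : tab.minOKc [1, 2, 2, 0, 2, 2, 2] 3 1485575 4571 = true := by decide +kernel

theorem chk_pow3_21_11 : tab.minOKc [1, 2, 2, 0, 2, 2, 2] 3 1490146 4571 = true := by decide +kernel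

theorem chk_pow3_21_12 : tab.minOKc [1, 2, 2, 0, 2, 2, 2] 3 1494717 4571 = true := by decide +kernel

theorem chk_pow3_21_13 : tab.minOKc [1, 2, 2, 0, 2, 2, 2] 3 1499288 4571 = true := by decide +kernel

theorem chk_pow3_21_14 : tab.minOKc [1, 2, 2, 0, 2, 2, 2] 3 1503859 4571 = true := by decide +kernel

theorem chk_pow3_21 : tab.minOKc [1, 2, 2, 0, 2, 2, 2] 3 1439865 68565 = true := by
  refine tab.minOKc_of_chunks [1, 2, 2, 0, 2, 2, 2] 3 1439865 4571 15 (by norm_num) ?_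
  intro i hi
  interval_cases i
  · exact chk_pow3_21_0
  · exact chk_pow3_21_1
  · exact chk_pow3_21_2
  · exact chk_pow3_21_3
  · exact chk_pow3_21_4
  · exact chk_pow3_21_5
  · exact chk_pow3_21_6
  · exact chk_pow3_21_7
  · exact chk_pow3_21_8
  · exact chk_pow3_21_9
  · exact chk_pow3_21_10
  · exact chk_pow3_21_11
  · exact chk_pow3_21_12
  · exact chk_pow3_21_13
  · exact chk_pow3_21_14

theorem chk_pow3_22_0 : tab.minOKc [1, 2, 2, 0, 2, 2, 2] 3 1508430 4571 = true := by decide +kernel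

theorem chk_pow3_22_1 : tab.minOKc [1, 2, 2, 0, 2, 2, 2] 3 1513001 4571 = true := by decide +kernel

theorem chk_pow3_22_2 : tab.minOKc [1, 2, 2, 0, 2, 2, 2] 3 1517572 4571 = true := by decide +kernel

theorem chk_pow3_22_3 : tab.minOKc [1, 2, 2, 0, 2, 2, 2] 3 1522143 4571 = true := by decide +kernel

theorem chk_pow3_22_4 : tab.minOKc [1, 2, 2, 0, 2, 2, 2] 3 1526714 4571 = true := by decide +kernel

theorem chk_pow3_22_5 : tab.minOKc [1, 2, 2, 0, 2, 2, 2] 3 1531285 4571 = true := by decide +kernel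

theorem chk_pow3_22_6 : tab.minOKc [1, 2, 2, 0, 2, 2, 2] 3 1535856 4571 = true := by decide +kernel

theorem chk_pow3_22_7 : tab.minOKc [1, 2, 2, 0, 2, 2, 2] 3 1540427 4571 = true := by decide +kernel

theorem chk_pow3_22_8 : tab.minOKc [1, 2, 2, 0, 2, 2, 2] 3 1544998 4571 = true := by decide +kernel

theorem chk_pow3_22_9 : tab.minOKc [1, 2, 2, 0, 2, 2, 2] 3 1549569 4571 = true := by decide +kernel

theorem chk_pow3_22_10 : tab.minOKc [1, 2, 2, 0, 2, 2, 2] 3 1554140 4571 = true := by decide +kernel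

theorem chk_pow3_22_11 : tab.minOKc [1, 2, 2, 0, 2, 2, 2] 3 1558711 4571 = true := by decide +kernel

theorem chk_pow3_22_12 : tab.minOKc [1, 2, 2, 0, 2, 2, 2] 3 1563282 4571 = true := by decide +kernel

theorem chk_pow3_22_13 : tab.minOKc [1, 2, 2, 0, 2, 2, 2] 3 1567853 4571 = true := by decide +kernel

theorem chk_pow3_22_14 : tab.minOKc [1, 2, 2, 0, 2, 2, 2] 3 1572424 4571 = true := by decide +kernel

theorem chk_pow3_22 : tab.minOKc [1, 2, 2, 0, 2, 2, 2] 3 1508430 68565 = true := by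
  refine tab.minOKc_of_chunks [1, 2, 2, 0, 2, 2, 2] 3 1508430 4571 15 (by norm_num) ?_
  intro i hi
  interval_cases i
  · exact chk_pow3_22_0
  · exact chk_pow3_22_1
  · exact chk_pow3_22_2
  · exact chk_pow3_22_3
  · exact chk_pow3_22_4
  · exact chk_pow3_22_5
  · exact chk_pow3_22_6
  · exact chk_pow3_22_7
  · exact chk_pow3_22_8
  · exact chk_pow3_22_9
  · exact chk_pow3_22_10
  · exact chk_pow3_22_11
  · exact chk_pow3_22_12
  · exact chk_pow3_22_13
  · exact chk_pow3_22_14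


end Cfsg.Agent.Lib.Lead.HNP.HNTC
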