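import Cfsg.Agent.Lib.Lead.HNP.HNTCData
import Cfsg.Agent.Lib.Helper6.TCRel3
import Cfsg.Agent.Lib.Lead.HNP.HNTCRel29

/-! # HNTC: the kernel check of a part of the relators on the coset table -/

set_option autoImplicit false

namespace Cfsg.Agent.Lib.Lead.HNP.HNTC

open Cfsg.Agent.Lib.Helper6.TC

theorem chk_pow8_8_0 : tab.minOKc [5, 2, 1, 3, 3, 1, 3, 1, 3, 4, 2, 0, 2, 0, 2, 2, 0, 3, 1, 1] 1 192000 1600 = true := by decide +kernel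

theorem chk_pow8_8_1 : tab.minOKc [5, 2, 1, 3, 3, 1, 3, 1, 3, 4, 2, 0, 2, 0, 2, 2, 0, 3, 1, 1] 1 193600 1600 = true := by decide +kernel

theorem chk_pow8_8_2 : tab.minOKc [5, 2, 1, 3, 3, 1, 3, 1, 3, 4, 2, 0, 2, 0, 2, 2, 0, 3, 1, 1] 1 195200 1600 = true := by decide +kernel

theorem chk_pow8_8_3 : tab.minOKc [5, 2, 1, 3, 3, 1, 3, 1, 3, 4, 2, 0, 2, 0, 2, 2, 0, 3, 1, 1] 1 196800 1600 = true := by decide +kernel

theorem chk_pow8_8_4 : tab.minOKc [5, 2, 1, 3, 3, 1, 3, 1, 3, 4, 2, 0, 2, 0, 2, 2, 0, 3, 1, 1] 1 198400 1600 = true := by decide +kernel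

theorem chk_pow8_8_5 : tab.minOKc [5, 2, 1, 3, 3, 1, 3, 1, 3, 4, 2, 0, 2, 0, 2, 2, 0, 3, 1, 1] 1 200000 1600 = true := by decide +kernel

theorem chk_pow8_8_6 : tab.minOKc [5, 2, 1, 3, 3, 1, 3, 1, 3, 4, 2, 0, 2, 0, 2, 2, 0, 3, 1, 1] 1 201600 1600 = true := by decide +kernel

theorem chk_pow8_8_7 : tab.minOKc [5, 2, 1, 3, 3, 1, 3, 1, 3, 4, 2, 0, 2, 0, 2, 2, 0, 3, 1, 1] 1 203200 1600 = true := by decide +kernel

theorem chk_pow8_8_8 : tab.minOKc [5, 2, 1, 3, 3, 1, 3, 1, 3, 4, 2, 0, 2, 0, 2, 2, 0, 3, 1, 1] 1 204800 1600 = true := by decide +kernel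

theorem chk_pow8_8_9 : tab.minOKc [5, 2, 1, 3, 3, 1, 3, 1, 3, 4, 2, 0, 2, 0, 2, 2, 0, 3, 1, 1] 1 206400 1600 = true := by decide +kernel

theorem chk_pow8_8_10 : tab.minOKc [5, 2, 1, 3, 3, 1, 3, 1, 3, 4, 2, 0, 2, 0, 2, 2, 0, 3, 1, 1] 1 208000 1600 = true := by decide +kernel

theorem chk_pow8_8_11 : tab.minOKc [5, 2, 1, 3, 3, 1, 3, 1, 3, 4, 2, 0, 2, 0, 2, 2, 0, 3, 1, 1] 1 209600 1600 = true := by decide +kernel

theorem chk_pow8_8_12 : tab.minOKc [5, 2, 1, 3, 3, 1, 3, 1, 3, 4, 2, 0, 2, 0, 2, 2, 0, 3, 1, 1] 1 211200 1600 = true := by decide +kernel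

theorem chk_pow8_8_13 : tab.minOKc [5, 2, 1, 3, 3, 1, 3, 1, 3, 4, 2, 0, 2, 0, 2, 2, 0, 3, 1, 1] 1 212800 1600 = true := by decide +kernel

theorem chk_pow8_8_14 : tab.minOKc [5, 2, 1, 3, 3, 1, 3, 1, 3, 4, 2, 0, 2, 0, 2, 2, 0, 3, 1, 1] 1 214400 1600 = true := by decide +kernel

theorem chk_pow8_8 : tab.minOKc [5, 2, 1, 3, 3, 1, 3, 1, 3, 4, 2, 0, 2, 0, 2, 2, 0, 3, 1, 1] 1 192000 24000 = true := by
  refine tab.minOKc_of_chunks [5, 2, 1, 3, 3, 1, 3, 1, 3, 4, 2, 0, 2, 0, 2, 2, 0, 3, 1, 1] 1 192000 1600 15 (by norm_num) ?_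
  intro i hi
  interval_cases i
  · exact chk_pow8_8_0
  · exact chk_pow8_8_1
  · exact chk_pow8_8_2
  · exact chk_pow8_8_3
  · exact chk_pow8_8_4
  · exact chk_pow8_8_5
  · exact chk_pow8_8_6
  · exact chk_pow8_8_7
  · exact chk_pow8_8_8
  · exact chk_pow8_8_9
  · exact chk_pow8_8_10
  · exact chk_pow8_8_11
  · exact chk_pow8_8_12
  · exact chk_pow8_8_13
  · exact chk_pow8_8_14

theorem chk_pow8_9_0 : tab.minOKc [5, 2, 1, 3, 3, 1, 3, 1, 3, 4, 2, 0, 2, 0, 2, 2, 0, 3, 1, 1] 1 216000 1600 = true := by decide +kernel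

theorem chk_pow8_9_1 : tab.minOKc [5, 2, 1, 3, 3, 1, 3, 1, 3, 4, 2, 0, 2, 0, 2, 2, 0, 3, 1, 1] 1 217600 1600 = true := by decide +kernel

theorem chk_pow8_9_2 : tab.minOKc [5, 2, 1, 3, 3, 1, 3, 1, 3, 4, 2, 0, 2, 0, 2, 2, 0, 3, 1, 1] 1 219200 1600 = true := by decide +kernel

theorem chk_pow8_9_3 : tab.minOKc [5, 2, 1, 3, 3, 1, 3, 1, 3, 4, 2, 0, 2, 0, 2, 2, 0, 3, 1, 1] 1 220800 1600 = true := by decide +kernel

theorem chk_pow8_9_4 : tab.minOKc [5, 2, 1, 3, 3, 1, 3, 1, 3, 4, 2, 0, 2, 0, 2, 2, 0, 3, 1, 1] 1 222400 1600 = true := by decide +kernel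

theorem chk_pow8_9_5 : tab.minOKc [5, 2, 1, 3, 3, 1, 3, 1, 3, 4, 2, 0, 2, 0, 2, 2, 0, 3, 1, 1] 1 224000 1600 = true := by decide +kernel

theorem chk_pow8_9_6 : tab.minOKc [5, 2, 1, 3, 3, 1, 3, 1, 3, 4, 2, 0, 2, 0, 2, 2, 0, 3, 1, 1] 1 225600 1600 = true := by decide +kernel

theorem chk_pow8_9_7 : tab.minOKc [5, 2, 1, 3, 3, 1, 3, 1, 3, 4, 2, 0, 2, 0, 2, 2, 0, 3, 1, 1] 1 227200 1600 = true := by decide +kernel

theorem chk_pow8_9_8 : tab.minOKc [5, 2, 1, 3, 3, 1, 3, 1, 3, 4, 2, 0, 2, 0, 2, 2, 0, 3, 1, 1] 1 228800 1600 = true := by decide +kernel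

theorem chk_pow8_9_9 : tab.minOKc [5, 2, 1, 3, 3, 1, 3, 1, 3, 4, 2, 0, 2, 0, 2, 2, 0, 3, 1, 1] 1 230400 1600 = true := by decide +kernel

theorem chk_pow8_9_10 : tab.minOKc [5, 2, 1, 3, 3, 1, 3, 1, 3, 4, 2, 0, 2, 0, 2, 2, 0, 3, 1, 1] 1 232000 1600 = true := by decide +kernel

theorem chk_pow8_9_11 : tab.minOKc [5, 2, 1, 3, 3, 1, 3, 1, 3, 4, 2, 0, 2, 0, 2, 2, 0, 3, 1, 1] 1 233600 1600 = true := by decide +kernel

theorem chk_pow8_9_12 : tab.minOKc [5, 2, 1, 3, 3, 1, 3, 1, 3, 4, 2, 0, 2, 0, 2, 2, 0, 3, 1, 1] 1 235200 1600 = true := by decide +kernel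

theorem chk_pow8_9_13 : tab.minOKc [5, 2, 1, 3, 3, 1, 3, 1, 3, 4, 2, 0, 2, 0, 2, 2, 0, 3, 1, 1] 1 236800 1600 = true := by decide +kernel

theorem chk_pow8_9_14 : tab.minOKc [5, 2, 1, 3, 3, 1, 3, 1, 3, 4, 2, 0, 2, 0, 2, 2, 0, 3, 1, 1] 1 238400 1600 = true := by decide +kernel

theorem chk_pow8_9 : tab.minOKc [5, 2, 1, 3, 3, 1, 3, 1, 3, 4, 2, 0, 2, 0, 2, 2, 0, 3, 1, 1] 1 216000 24000 = true := by
  refine tab.minOKc_of_chunks [5, 2, 1, 3, 3, 1, 3, 1, 3, 4, 2, 0, 2, 0, 2, 2, 0, 3, 1, 1] 1 216000 1600 15 (by norm_num) ?_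
  intro i hi
  interval_cases i
  · exact chk_pow8_9_0
  · exact chk_pow8_9_1
  · exact chk_pow8_9_2
  · exact chk_pow8_9_3
  · exact chk_pow8_9_4
  · exact chk_pow8_9_5
  · exact chk_pow8_9_6
  · exact chk_pow8_9_7
  · exact chk_pow8_9_8
  · exact chk_pow8_9_9
  · exact chk_pow8_9_10
  · exact chk_pow8_9_11
  · exact chk_pow8_9_12
  · exact chk_pow8_9_13
  · exact chk_pow8_9_14


end Cfsg.Agent.Lib.Lead.HNP.HNTC
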