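import Cfsg.Agent.Lib.Lead.HNP.HNTCData
import Cfsg.Agent.Lib.Helper6.TCRel3
import Cfsg.Agent.Lib.Lead.HNP.HNTCRel53

/-! # HNTC: the kernel check of a part of the relators on the coset table -/

set_option autoImplicit false

namespace Cfsg.Agent.Lib.Lead.HNP.HNTC

open Cfsg.Agent.Lib.Helper6.TC

theorem chk_pow8_56_0 : tab.minOKc [5, 2, 1, 3, 3, 1, 3, 1, 3, 4, 2, 0, 2, 0, 2, 2, 0, 3, 1, 1] 1 1344000 1600 = true := by decide +kernel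

theorem chk_pow8_56_1 : tab.minOKc [5, 2, 1, 3, 3, 1, 3, 1, 3, 4, 2, 0, 2, 0, 2, 2, 0, 3, 1, 1] 1 1345600 1600 = true := by decide +kernel

theorem chk_pow8_56_2 : tab.minOKc [5, 2, 1, 3, 3, 1, 3, 1, 3, 4, 2, 0, 2, 0, 2, 2, 0, 3, 1, 1] 1 1347200 1600 = true := by decide +kernel

theorem chk_pow8_56_3 : tab.minOKc [5, 2, 1, 3, 3, 1, 3, 1, 3, 4, 2, 0, 2, 0, 2, 2, 0, 3, 1, 1] 1 1348800 1600 = true := by decide +kernel

theorem chk_pow8_56_4 : tab.minOKc [5, 2, 1, 3, 3, 1, 3, 1, 3, 4, 2, 0, 2, 0, 2, 2, 0, 3, 1, 1] 1 1350400 1600 = true := by decide +kernel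

theorem chk_pow8_56_5 : tab.minOKc [5, 2, 1, 3, 3, 1, 3, 1, 3, 4, 2, 0, 2, 0, 2, 2, 0, 3, 1, 1] 1 1352000 1600 = true := by decide +kernel

theorem chk_pow8_56_6 : tab.minOKc [5, 2, 1, 3, 3, 1, 3, 1, 3, 4, 2, 0, 2, 0, 2, 2, 0, 3, 1, 1] 1 1353600 1600 = true := by decide +kernel

theorem chk_pow8_56_7 : tab.minOKc [5, 2, 1, 3, 3, 1, 3, 1, 3, 4, 2, 0, 2, 0, 2, 2, 0, 3, 1, 1] 1 1355200 1600 = true := by decide +kernel

theorem chk_pow8_56_8 : tab.minOKc [5, 2, 1, 3, 3, 1, 3, 1, 3, 4, 2, 0, 2, 0, 2, 2, 0, 3, 1, 1] 1 1356800 1600 = true := by decide +kernel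

theorem chk_pow8_56_9 : tab.minOKc [5, 2, 1, 3, 3, 1, 3, 1, 3, 4, 2, 0, 2, 0, 2, 2, 0, 3, 1, 1] 1 1358400 1600 = true := by decide +kernel

theorem chk_pow8_56_10 : tab.minOKc [5, 2, 1, 3, 3, 1, 3, 1, 3, 4, 2, 0, 2, 0, 2, 2, 0, 3, 1, 1] 1 1360000 1600 = true := by decide +kernel

theorem chk_pow8_56_11 : tab.minOKc [5, 2, 1, 3, 3, 1, 3, 1, 3, 4, 2, 0, 2, 0, 2, 2, 0, 3, 1, 1] 1 1361600 1600 = true := by decide +kernel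

theorem chk_pow8_56_12 : tab.minOKc [5, 2, 1, 3, 3, 1, 3, 1, 3, 4, 2, 0, 2, 0, 2, 2, 0, 3, 1, 1] 1 1363200 1600 = true := by decide +kernel

theorem chk_pow8_56_13 : tab.minOKc [5, 2, 1, 3, 3, 1, 3, 1, 3, 4, 2, 0, 2, 0, 2, 2, 0, 3, 1, 1] 1 1364800 1600 = true := by decide +kernel

theorem chk_pow8_56_14 : tab.minOKc [5, 2, 1, 3, 3, 1, 3, 1, 3, 4, 2, 0, 2, 0, 2, 2, 0, 3, 1, 1] 1 1366400 1600 = true := by decide +kernel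

theorem chk_pow8_56 : tab.minOKc [5, 2, 1, 3, 3, 1, 3, 1, 3, 4, 2, 0, 2, 0, 2, 2, 0, 3, 1, 1] 1 1344000 24000 = true := by
  refine tab.minOKc_of_chunks [5, 2, 1, 3, 3, 1, 3, 1, 3, 4, 2, 0, 2, 0, 2, 2, 0, 3, 1, 1] 1 1344000 1600 15 (by norm_num) ?_
  intro i hi
  interval_cases i
  · exact chk_pow8_56_0
  · exact chk_pow8_56_1
  · exact chk_pow8_56_2
  · exact chk_pow8_56_3
  · exact chk_pow8_56_4
  · exact chk_pow8_56_5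
  · exact chk_pow8_56_6
  · exact chk_pow8_56_7
  · exact chk_pow8_56_8
  · exact chk_pow8_56_9
  · exact chk_pow8_56_10
  · exact chk_pow8_56_11
  · exact chk_pow8_56_12
  · exact chk_pow8_56_13
  · exact chk_pow8_56_14

theorem chk_pow8_57_0 : tab.minOKc [5, 2, 1, 3, 3, 1, 3, 1, 3, 4, 2, 0, 2, 0, 2, 2, 0, 3, 1, 1] 1 1368000 1600 = true := by decide +kernel

theorem chk_pow8_57_1 : tab.minOKc [5, 2, 1, 3, 3, 1, 3, 1, 3, 4, 2, 0, 2, 0, 2, 2, 0, 3, 1, 1] 1 1369600 1600 = true := by decide +kernel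

theorem chk_pow8_57_2 : tab.minOKc [5, 2, 1, 3, 3, 1, 3, 1, 3, 4, 2, 0, 2, 0, 2, 2, 0, 3, 1, 1] 1 1371200 1600 = true := by decide +kernel

theorem chk_pow8_57_3 : tab.minOKc [5, 2, 1, 3, 3, 1, 3, 1, 3, 4, 2, 0, 2, 0, 2, 2, 0, 3, 1, 1] 1 1372800 1600 = true := by decide +kernel

theorem chk_pow8_57_4 : tab.minOKc [5, 2, 1, 3, 3, 1, 3, 1, 3, 4, 2, 0, 2, 0, 2, 2, 0, 3, 1, 1] 1 1374400 1600 = true := by decide +kernel

theorem chk_pow8_57_5 : tab.minOKc [5, 2, 1, 3, 3, 1, 3, 1, 3, 4, 2, 0, 2, 0, 2, 2, 0, 3, 1, 1] 1 1376000 1600 = true := by decide +kernel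

theorem chk_pow8_57_6 : tab.minOKc [5, 2, 1, 3, 3, 1, 3, 1, 3, 4, 2, 0, 2, 0, 2, 2, 0, 3, 1, 1] 1 1377600 1600 = true := by decide +kernel

theorem chk_pow8_57_7 : tab.minOKc [5, 2, 1, 3, 3, 1, 3, 1, 3, 4, 2, 0, 2, 0, 2, 2, 0, 3, 1, 1] 1 1379200 1600 = true := by decide +kernel

theorem chk_pow8_57_8 : tab.minOKc [5, 2, 1, 3, 3, 1, 3, 1, 3, 4, 2, 0, 2, 0, 2, 2, 0, 3, 1, 1] 1 1380800 1600 = true := by decide +kernel

theorem chk_pow8_57_9 : tab.minOKc [5, 2, 1, 3, 3, 1, 3, 1, 3, 4, 2, 0, 2, 0, 2, 2, 0, 3, 1, 1] 1 1382400 1600 = true := by decide +kernel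

theorem chk_pow8_57_10 : tab.minOKc [5, 2, 1, 3, 3, 1, 3, 1, 3, 4, 2, 0, 2, 0, 2, 2, 0, 3, 1, 1] 1 1384000 1600 = true := by decide +kernel

theorem chk_pow8_57_11 : tab.minOKc [5, 2, 1, 3, 3, 1, 3, 1, 3, 4, 2, 0, 2, 0, 2, 2, 0, 3, 1, 1] 1 1385600 1600 = true := by decide +kernel

theorem chk_pow8_57_12 : tab.minOKc [5, 2, 1, 3, 3, 1, 3, 1, 3, 4, 2, 0, 2, 0, 2, 2, 0, 3, 1, 1] 1 1387200 1600 = true := by decide +kernel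

theorem chk_pow8_57_13 : tab.minOKc [5, 2, 1, 3, 3, 1, 3, 1, 3, 4, 2, 0, 2, 0, 2, 2, 0, 3, 1, 1] 1 1388800 1600 = true := by decide +kernel

theorem chk_pow8_57_14 : tab.minOKc [5, 2, 1, 3, 3, 1, 3, 1, 3, 4, 2, 0, 2, 0, 2, 2, 0, 3, 1, 1] 1 1390400 1600 = true := by decide +kernel

theorem chk_pow8_57 : tab.minOKc [5, 2, 1, 3, 3, 1, 3, 1, 3, 4, 2, 0, 2, 0, 2, 2, 0, 3, 1, 1] 1 1368000 24000 = true := by
  refine tab.minOKc_of_chunks [5, 2, 1, 3, 3, 1, 3, 1, 3, 4, 2, 0, 2, 0, 2, 2, 0, 3, 1, 1] 1 1368000 1600 15 (by norm_num) ?_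
  intro i hi
  interval_cases i
  · exact chk_pow8_57_0
  · exact chk_pow8_57_1
  · exact chk_pow8_57_2
  · exact chk_pow8_57_3
  · exact chk_pow8_57_4
  · exact chk_pow8_57_5
  · exact chk_pow8_57_6
  · exact chk_pow8_57_7
  · exact chk_pow8_57_8
  · exact chk_pow8_57_9
  · exact chk_pow8_57_10
  · exact chk_pow8_57_11
  · exact chk_pow8_57_12
  · exact chk_pow8_57_13
  · exact chk_pow8_57_14


end Cfsg.Agent.Lib.Lead.HNP.HNTC
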