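import Cfsg.Agent.Lib.Lead.HNP.HNTCSCert

/-! # HNTC: the kernel check of the rows from 114960 on -/

set_option autoImplicit false

namespace Cfsg.Agent.Lib.Lead.HNP.HNTC

open Cfsg.Agent.Lib.Helper6.TC Cfsg.Agent.Lib.Helper6.TCGS

theorem chk_rows10_0 : cert.rowsOK 114960 479 = true := by decide +kernel

theorem chk_rows10_1 : cert.rowsOK 115439 479 = true := by decide +kernel

theorem chk_rows10_2 : cert.rowsOK 115918 479 = true := by decide +kernel

theorem chk_rows10_3 : cert.rowsOK 116397 479 = true := by decide +kernel

theorem chk_rows10_4 : cert.rowsOK 116876 479 = true := by decide +kernel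

theorem chk_rows10_5 : cert.rowsOK 117355 479 = true := by decide +kernel

theorem chk_rows10_6 : cert.rowsOK 117834 479 = true := by decide +kernel

theorem chk_rows10_7 : cert.rowsOK 118313 479 = true := by decide +kernel

theorem chk_rows10_8 : cert.rowsOK 118792 479 = true := by decide +kernel

theorem chk_rows10_9 : cert.rowsOK 119271 479 = true := by decide +kernel

theorem chk_rows10_10 : cert.rowsOK 119750 479 = true := by decide +kernel

theorem chk_rows10_11 : cert.rowsOK 120229 479 = true := by decide +kernel

theorem chk_rows10_12 : cert.rowsOK 120708 479 = true := by decide +kernel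

theorem chk_rows10_13 : cert.rowsOK 121187 479 = true := by decide +kernel

theorem chk_rows10_14 : cert.rowsOK 121666 479 = true := by decide +kernel

theorem chk_rows10_15 : cert.rowsOK 122145 479 = true := by decide +kernel

theorem chk_rows10_16 : cert.rowsOK 122624 479 = true := by decide +kernel

theorem chk_rows10_17 : cert.rowsOK 123103 479 = true := by decide +kernel

theorem chk_rows10_18 : cert.rowsOK 123582 479 = true := by decide +kernel

theorem chk_rows10_19 : cert.rowsOK 124061 479 = true := by decide +kernel

theorem chk_rows10_20 : cert.rowsOK 124540 479 = true := by decide +kernel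

theorem chk_rows10_21 : cert.rowsOK 125019 479 = true := by decide +kernel

theorem chk_rows10_22 : cert.rowsOK 125498 479 = true := by decide +kernel

theorem chk_rows10_23 : cert.rowsOK 125977 479 = true := by decide +kernel

theorem chk_range10 : ∀ a, 114960 ≤ a → a < 126456 → ∀ x < cert.c.g, cert.slotOK a x = true := by
  refine cert.range_of_chunks 114960 479 24 (by norm_num) ?_
  intro k hk
  interval_cases k
  · exact chk_rows10_0
  · exact chk_rows10_1
  · exact chk_rows10_2
  · exact chk_rows10_3
  · exact chk_rows10_4
  · exact chk_rows10_5
  · exact chk_rows10_6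
  · exact chk_rows10_7
  · exact chk_rows10_8
  · exact chk_rows10_9
  · exact chk_rows10_10
  · exact chk_rows10_11
  · exact chk_rows10_12
  · exact chk_rows10_13
  · exact chk_rows10_14
  · exact chk_rows10_15
  · exact chk_rows10_16
  · exact chk_rows10_17
  · exact chk_rows10_18
  · exact chk_rows10_19
  · exact chk_rows10_20
  · exact chk_rows10_21
  · exact chk_rows10_22
  · exact chk_rows10_23

end Cfsg.Agent.Lib.Lead.HNP.HNTC
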