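import Cfsg.Agent.Lib.Lead.HNP.HNTCSCert
import Cfsg.Agent.Lib.Lead.HNP.HNTCSRows10

/-! # HNTC: the kernel check of the rows from 390864 on -/

set_option autoImplicit false

namespace Cfsg.Agent.Lib.Lead.HNP.HNTC

open Cfsg.Agent.Lib.Helper6.TC Cfsg.Agent.Lib.Helper6.TCGS

theorem chk_rows34_0 : cert.rowsOK 390864 479 = true := by decide +kernel

theorem chk_rows34_1 : cert.rowsOK 391343 479 = true := by decide +kernel

theorem chk_rows34_2 : cert.rowsOK 391822 479 = true := by decide +kernel

theorem chk_rows34_3 : cert.rowsOK 392301 479 = true := by decide +kernel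

theorem chk_rows34_4 : cert.rowsOK 392780 479 = true := by decide +kernel

theorem chk_rows34_5 : cert.rowsOK 393259 479 = true := by decide +kernel

theorem chk_rows34_6 : cert.rowsOK 393738 479 = true := by decide +kernel

theorem chk_rows34_7 : cert.rowsOK 394217 479 = true := by decide +kernel

theorem chk_rows34_8 : cert.rowsOK 394696 479 = true := by decide +kernel

theorem chk_rows34_9 : cert.rowsOK 395175 479 = true := by decide +kernel

theorem chk_rows34_10 : cert.rowsOK 395654 479 = true := by decide +kernel

theorem chk_rows34_11 : cert.rowsOK 396133 479 = true := by decide +kernel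

theorem chk_rows34_12 : cert.rowsOK 396612 479 = true := by decide +kernel

theorem chk_rows34_13 : cert.rowsOK 397091 479 = true := by decide +kernel

theorem chk_rows34_14 : cert.rowsOK 397570 479 = true := by decide +kernel

theorem chk_rows34_15 : cert.rowsOK 398049 479 = true := by decide +kernel

theorem chk_rows34_16 : cert.rowsOK 398528 479 = true := by decide +kernel

theorem chk_rows34_17 : cert.rowsOK 399007 479 = true := by decide +kernel

theorem chk_rows34_18 : cert.rowsOK 399486 479 = true := by decide +kernel

theorem chk_rows34_19 : cert.rowsOK 399965 479 = true := by decide +kernel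

theorem chk_rows34_20 : cert.rowsOK 400444 479 = true := by decide +kernel

theorem chk_rows34_21 : cert.rowsOK 400923 479 = true := by decide +kernel

theorem chk_rows34_22 : cert.rowsOK 401402 479 = true := by decide +kernel

theorem chk_rows34_23 : cert.rowsOK 401881 479 = true := by decide +kernel

theorem chk_range34 : ∀ a, 390864 ≤ a → a < 402360 → ∀ x < cert.c.g, cert.slotOK a x = true := by
  refine cert.range_of_chunks 390864 479 24 (by norm_num) ?_
  intro k hk
  interval_cases k
  · exact chk_rows34_0
  · exact chk_rows34_1
  · exact chk_rows34_2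
  · exact chk_rows34_3
  · exact chk_rows34_4
  · exact chk_rows34_5
  · exact chk_rows34_6
  · exact chk_rows34_7
  · exact chk_rows34_8
  · exact chk_rows34_9
  · exact chk_rows34_10
  · exact chk_rows34_11
  · exact chk_rows34_12
  · exact chk_rows34_13
  · exact chk_rows34_14
  · exact chk_rows34_15
  · exact chk_rows34_16
  · exact chk_rows34_17
  · exact chk_rows34_18
  · exact chk_rows34_19
  · exact chk_rows34_20
  · exact chk_rows34_21
  · exact chk_rows34_22
  · exact chk_rows34_23

end Cfsg.Agent.Lib.Lead.HNP.HNTC
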