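import Cfsg.Agent.Lib.Lead.HNP.HNTCSCert
import Cfsg.Agent.Lib.Lead.HNP.HNTCSRows34

/-! # HNTC: the kernel check of the rows from 666768 on -/

set_option autoImplicit false

namespace Cfsg.Agent.Lib.Lead.HNP.HNTC

open Cfsg.Agent.Lib.Helper6.TC Cfsg.Agent.Lib.Helper6.TCGS

theorem chk_rows58_0 : cert.rowsOK 666768 479 = true := by decide +kernel

theorem chk_rows58_1 : cert.rowsOK 667247 479 = true := by decide +kernel

theorem chk_rows58_2 : cert.rowsOK 667726 479 = true := by decide +kernel

theorem chk_rows58_3 : cert.rowsOK 668205 479 = true := by decide +kernel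

theorem chk_rows58_4 : cert.rowsOK 668684 479 = true := by decide +kernel

theorem chk_rows58_5 : cert.rowsOK 669163 479 = true := by decide +kernel

theorem chk_rows58_6 : cert.rowsOK 669642 479 = true := by decide +kernel

theorem chk_rows58_7 : cert.rowsOK 670121 479 = true := by decide +kernel

theorem chk_rows58_8 : cert.rowsOK 670600 479 = true := by decide +kernel

theorem chk_rows58_9 : cert.rowsOK 671079 479 = true := by decide +kernel

theorem chk_rows58_10 : cert.rowsOK 671558 479 = true := by decide +kernel

theorem chk_rows58_11 : cert.rowsOK 672037 479 = true := by decide +kernel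

theorem chk_rows58_12 : cert.rowsOK 672516 479 = true := by decide +kernel

theorem chk_rows58_13 : cert.rowsOK 672995 479 = true := by decide +kernel

theorem chk_rows58_14 : cert.rowsOK 673474 479 = true := by decide +kernel

theorem chk_rows58_15 : cert.rowsOK 673953 479 = true := by decide +kernel

theorem chk_rows58_16 : cert.rowsOK 674432 479 = true := by decide +kernel

theorem chk_rows58_17 : cert.rowsOK 674911 479 = true := by decide +kernel

theorem chk_rows58_18 : cert.rowsOK 675390 479 = true := by decide +kernel

theorem chk_rows58_19 : cert.rowsOK 675869 479 = true := by decide +kernel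

theorem chk_rows58_20 : cert.rowsOK 676348 479 = true := by decide +kernel

theorem chk_rows58_21 : cert.rowsOK 676827 479 = true := by decide +kernel

theorem chk_rows58_22 : cert.rowsOK 677306 479 = true := by decide +kernel

theorem chk_rows58_23 : cert.rowsOK 677785 479 = true := by decide +kernel

theorem chk_range58 : ∀ a, 666768 ≤ a → a < 678264 → ∀ x < cert.c.g, cert.slotOK a x = true := by
  refine cert.range_of_chunks 666768 479 24 (by norm_num) ?_
  intro k hk
  interval_cases k
  · exact chk_rows58_0
  · exact chk_rows58_1
  · exact chk_rows58_2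
  · exact chk_rows58_3
  · exact chk_rows58_4
  · exact chk_rows58_5
  · exact chk_rows58_6
  · exact chk_rows58_7
  · exact chk_rows58_8
  · exact chk_rows58_9
  · exact chk_rows58_10
  · exact chk_rows58_11
  · exact chk_rows58_12
  · exact chk_rows58_13
  · exact chk_rows58_14
  · exact chk_rows58_15
  · exact chk_rows58_16
  · exact chk_rows58_17
  · exact chk_rows58_18
  · exact chk_rows58_19
  · exact chk_rows58_20
  · exact chk_rows58_21
  · exact chk_rows58_22
  · exact chk_rows58_23

end Cfsg.Agent.Lib.Lead.HNP.HNTC
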