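import Cfsg.Agent.Lib.Lead.HNP.HNTCSCert
import Cfsg.Agent.Lib.Lead.HNP.HNTCSRows58

/-! # HNTC: the kernel check of the rows from 942672 on -/

set_option autoImplicit false

namespace Cfsg.Agent.Lib.Lead.HNP.HNTC

open Cfsg.Agent.Lib.Helper6.TC Cfsg.Agent.Lib.Helper6.TCGS

theorem chk_rows82_0 : cert.rowsOK 942672 479 = true := by decide +kernel

theorem chk_rows82_1 : cert.rowsOK 943151 479 = true := by decide +kernel

theorem chk_rows82_2 : cert.rowsOK 943630 479 = true := by decide +kernel

theorem chk_rows82_3 : cert.rowsOK 944109 479 = true := by decide +kernel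

theorem chk_rows82_4 : cert.rowsOK 944588 479 = true := by decide +kernel

theorem chk_rows82_5 : cert.rowsOK 945067 479 = true := by decide +kernel

theorem chk_rows82_6 : cert.rowsOK 945546 479 = true := by decide +kernel

theorem chk_rows82_7 : cert.rowsOK 946025 479 = true := by decide +kernel

theorem chk_rows82_8 : cert.rowsOK 946504 479 = true := by decide +kernel

theorem chk_rows82_9 : cert.rowsOK 946983 479 = true := by decide +kernel

theorem chk_rows82_10 : cert.rowsOK 947462 479 = true := by decide +kernel

theorem chk_rows82_11 : cert.rowsOK 947941 479 = true := by decide +kernel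

theorem chk_rows82_12 : cert.rowsOK 948420 479 = true := by decide +kernel

theorem chk_rows82_13 : cert.rowsOK 948899 479 = true := by decide +kernel

theorem chk_rows82_14 : cert.rowsOK 949378 479 = true := by decide +kernel

theorem chk_rows82_15 : cert.rowsOK 949857 479 = true := by decide +kernel

theorem chk_rows82_16 : cert.rowsOK 950336 479 = true := by decide +kernel

theorem chk_rows82_17 : cert.rowsOK 950815 479 = true := by decide +kernel

theorem chk_rows82_18 : cert.rowsOK 951294 479 = true := by decide +kernel

theorem chk_rows82_19 : cert.rowsOK 951773 479 = true := by decide +kernel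

theorem chk_rows82_20 : cert.rowsOK 952252 479 = true := by decide +kernel

theorem chk_rows82_21 : cert.rowsOK 952731 479 = true := by decide +kernel

theorem chk_rows82_22 : cert.rowsOK 953210 479 = true := by decide +kernel

theorem chk_rows82_23 : cert.rowsOK 953689 479 = true := by decide +kernel

theorem chk_range82 : ∀ a, 942672 ≤ a → a < 954168 → ∀ x < cert.c.g, cert.slotOK a x = true := by
  refine cert.range_of_chunks 942672 479 24 (by norm_num) ?_
  intro k hk
  interval_cases k
  · exact chk_rows82_0
  · exact chk_rows82_1
  · exact chk_rows82_2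
  · exact chk_rows82_3
  · exact chk_rows82_4
  · exact chk_rows82_5
  · exact chk_rows82_6
  · exact chk_rows82_7
  · exact chk_rows82_8
  · exact chk_rows82_9
  · exact chk_rows82_10
  · exact chk_rows82_11
  · exact chk_rows82_12
  · exact chk_rows82_13
  · exact chk_rows82_14
  · exact chk_rows82_15
  · exact chk_rows82_16
  · exact chk_rows82_17
  · exact chk_rows82_18
  · exact chk_rows82_19
  · exact chk_rows82_20
  · exact chk_rows82_21
  · exact chk_rows82_22
  · exact chk_rows82_23

end Cfsg.Agent.Lib.Lead.HNP.HNTC
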