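import Cfsg.Agent.Lib.Lead.HNP.HNTCSCert
import Cfsg.Agent.Lib.Lead.HNP.HNTCSRows82

/-! # HNTC: the kernel check of the rows from 1218576 on -/

set_option autoImplicit false

namespace Cfsg.Agent.Lib.Lead.HNP.HNTC

open Cfsg.Agent.Lib.Helper6.TC Cfsg.Agent.Lib.Helper6.TCGS

theorem chk_rows106_0 : cert.rowsOK 1218576 479 = true := by decide +kernel

theorem chk_rows106_1 : cert.rowsOK 1219055 479 = true := by decide +kernel

theorem chk_rows106_2 : cert.rowsOK 1219534 479 = true := by decide +kernel

theorem chk_rows106_3 : cert.rowsOK 1220013 479 = true := by decide +kernel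

theorem chk_rows106_4 : cert.rowsOK 1220492 479 = true := by decide +kernel

theorem chk_rows106_5 : cert.rowsOK 1220971 479 = true := by decide +kernel

theorem chk_rows106_6 : cert.rowsOK 1221450 479 = true := by decide +kernel

theorem chk_rows106_7 : cert.rowsOK 1221929 479 = true := by decide +kernel

theorem chk_rows106_8 : cert.rowsOK 1222408 479 = true := by decide +kernel

theorem chk_rows106_9 : cert.rowsOK 1222887 479 = true := by decide +kernel

theorem chk_rows106_10 : cert.rowsOK 1223366 479 = true := by decide +kernel

theorem chk_rows106_11 : cert.rowsOK 1223845 479 = true := by decide +kernel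

theorem chk_rows106_12 : cert.rowsOK 1224324 479 = true := by decide +kernel

theorem chk_rows106_13 : cert.rowsOK 1224803 479 = true := by decide +kernel

theorem chk_rows106_14 : cert.rowsOK 1225282 479 = true := by decide +kernel

theorem chk_rows106_15 : cert.rowsOK 1225761 479 = true := by decide +kernel

theorem chk_rows106_16 : cert.rowsOK 1226240 479 = true := by decide +kernel

theorem chk_rows106_17 : cert.rowsOK 1226719 479 = true := by decide +kernel

theorem chk_rows106_18 : cert.rowsOK 1227198 479 = true := by decide +kernel

theorem chk_rows106_19 : cert.rowsOK 1227677 479 = true := by decide +kernel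

theorem chk_rows106_20 : cert.rowsOK 1228156 479 = true := by decide +kernel

theorem chk_rows106_21 : cert.rowsOK 1228635 479 = true := by decide +kernel

theorem chk_rows106_22 : cert.rowsOK 1229114 479 = true := by decide +kernel

theorem chk_rows106_23 : cert.rowsOK 1229593 479 = true := by decide +kernel

theorem chk_range106 : ∀ a, 1218576 ≤ a → a < 1230072 → ∀ x < cert.c.g, cert.slotOK a x = true := by
  refine cert.range_of_chunks 1218576 479 24 (by norm_num) ?_
  intro k hk
  interval_cases k
  · exact chk_rows106_0
  · exact chk_rows106_1
  · exact chk_rows106_2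
  · exact chk_rows106_3
  · exact chk_rows106_4
  · exact chk_rows106_5
  · exact chk_rows106_6
  · exact chk_rows106_7
  · exact chk_rows106_8
  · exact chk_rows106_9
  · exact chk_rows106_10
  · exact chk_rows106_11
  · exact chk_rows106_12
  · exact chk_rows106_13
  · exact chk_rows106_14
  · exact chk_rows106_15
  · exact chk_rows106_16
  · exact chk_rows106_17
  · exact chk_rows106_18
  · exact chk_rows106_19
  · exact chk_rows106_20
  · exact chk_rows106_21
  · exact chk_rows106_22
  · exact chk_rows106_23

end Cfsg.Agent.Lib.Lead.HNP.HNTC
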