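import Cfsg.Agent.Lib.Lead.HNP.HNTCSCert
import Cfsg.Agent.Lib.Lead.HNP.HNTCSRows106

/-! # HNTC: the kernel check of the rows from 1494480 on -/

set_option autoImplicit false

namespace Cfsg.Agent.Lib.Lead.HNP.HNTC

open Cfsg.Agent.Lib.Helper6.TC Cfsg.Agent.Lib.Helper6.TCGS

theorem chk_rows130_0 : cert.rowsOK 1494480 479 = true := by decide +kernel

theorem chk_rows130_1 : cert.rowsOK 1494959 479 = true := by decide +kernel

theorem chk_rows130_2 : cert.rowsOK 1495438 479 = true := by decide +kernel

theorem chk_rows130_3 : cert.rowsOK 1495917 479 = true := by decide +kernel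

theorem chk_rows130_4 : cert.rowsOK 1496396 479 = true := by decide +kernel

theorem chk_rows130_5 : cert.rowsOK 1496875 479 = true := by decide +kernel

theorem chk_rows130_6 : cert.rowsOK 1497354 479 = true := by decide +kernel

theorem chk_rows130_7 : cert.rowsOK 1497833 479 = true := by decide +kernel

theorem chk_rows130_8 : cert.rowsOK 1498312 479 = true := by decide +kernel

theorem chk_rows130_9 : cert.rowsOK 1498791 479 = true := by decide +kernel

theorem chk_rows130_10 : cert.rowsOK 1499270 479 = true := by decide +kernel

theorem chk_rows130_11 : cert.rowsOK 1499749 479 = true := by decide +kernel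

theorem chk_rows130_12 : cert.rowsOK 1500228 479 = true := by decide +kernel

theorem chk_rows130_13 : cert.rowsOK 1500707 479 = true := by decide +kernel

theorem chk_rows130_14 : cert.rowsOK 1501186 479 = true := by decide +kernel

theorem chk_rows130_15 : cert.rowsOK 1501665 479 = true := by decide +kernel

theorem chk_rows130_16 : cert.rowsOK 1502144 479 = true := by decide +kernel

theorem chk_rows130_17 : cert.rowsOK 1502623 479 = true := by decide +kernel

theorem chk_rows130_18 : cert.rowsOK 1503102 479 = true := by decide +kernel

theorem chk_rows130_19 : cert.rowsOK 1503581 479 = true := by decide +kernel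

theorem chk_rows130_20 : cert.rowsOK 1504060 479 = true := by decide +kernel

theorem chk_rows130_21 : cert.rowsOK 1504539 479 = true := by decide +kernel

theorem chk_rows130_22 : cert.rowsOK 1505018 479 = true := by decide +kernel

theorem chk_rows130_23 : cert.rowsOK 1505497 479 = true := by decide +kernel

theorem chk_range130 : ∀ a, 1494480 ≤ a → a < 1505976 → ∀ x < cert.c.g, cert.slotOK a x = true := by
  refine cert.range_of_chunks 1494480 479 24 (by norm_num) ?_
  intro k hk
  interval_cases k
  · exact chk_rows130_0
  · exact chk_rows130_1
  · exact chk_rows130_2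
  · exact chk_rows130_3
  · exact chk_rows130_4
  · exact chk_rows130_5
  · exact chk_rows130_6
  · exact chk_rows130_7
  · exact chk_rows130_8
  · exact chk_rows130_9
  · exact chk_rows130_10
  · exact chk_rows130_11
  · exact chk_rows130_12
  · exact chk_rows130_13
  · exact chk_rows130_14
  · exact chk_rows130_15
  · exact chk_rows130_16
  · exact chk_rows130_17
  · exact chk_rows130_18
  · exact chk_rows130_19
  · exact chk_rows130_20
  · exact chk_rows130_21
  · exact chk_rows130_22
  · exact chk_rows130_23

end Cfsg.Agent.Lib.Lead.HNP.HNTC
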