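import Cfsg.Agent.Lib.Lead.HNP.HNTCSCert
import Cfsg.Agent.Lib.Helper6.TCGIndex
import Cfsg.Agent.Lib.Lead.HNP.HNTCSRows130

/-! # HNTC: the kernel check that the first rows are closed, part 20 -/

set_option autoImplicit false

namespace Cfsg.Agent.Lib.Lead.HNP.HNTC

open Cfsg.Agent.Lib.Helper6.TC Cfsg.Agent.Lib.Helper6.TCGS

theorem chk_fin180 : cert.finalOKc 1539000 360000 2000 = true := by decide +kernel

theorem chk_fin181 : cert.finalOKc 1539000 362000 2000 = true := by decide +kernel

theorem chk_fin182 : cert.finalOKc 1539000 364000 2000 = true := by decide +kernel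

theorem chk_fin183 : cert.finalOKc 1539000 366000 2000 = true := by decide +kernel

theorem chk_fin184 : cert.finalOKc 1539000 368000 2000 = true := by decide +kernel

theorem chk_fin185 : cert.finalOKc 1539000 370000 2000 = true := by decide +kernel

theorem chk_fin186 : cert.finalOKc 1539000 372000 2000 = true := by decide +kernel

theorem chk_fin187 : cert.finalOKc 1539000 374000 2000 = true := by decide +kernel

theorem chk_fin188 : cert.finalOKc 1539000 376000 2000 = true := by decide +kernel


end Cfsg.Agent.Lib.Lead.HNP.HNTC
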