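import Cfsg.Agent.Lib.Lead.HNP.HNTCSCert
import Cfsg.Agent.Lib.Helper6.TCGIndex
import Cfsg.Agent.Lib.Lead.HNP.HNTCSFin20

/-! # HNTC: the kernel check that the first rows are closed, part 44 -/

set_option autoImplicit false

namespace Cfsg.Agent.Lib.Lead.HNP.HNTC

open Cfsg.Agent.Lib.Helper6.TC Cfsg.Agent.Lib.Helper6.TCGS

theorem chk_fin396 : cert.finalOKc 1539000 792000 2000 = true := by decide +kernel

theorem chk_fin397 : cert.finalOKc 1539000 794000 2000 = true := by decide +kernel

theorem chk_fin398 : cert.finalOKc 1539000 796000 2000 = true := by decide +kernel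

theorem chk_fin399 : cert.finalOKc 1539000 798000 2000 = true := by decide +kernel

theorem chk_fin400 : cert.finalOKc 1539000 800000 2000 = true := by decide +kernel

theorem chk_fin401 : cert.finalOKc 1539000 802000 2000 = true := by decide +kernel

theorem chk_fin402 : cert.finalOKc 1539000 804000 2000 = true := by decide +kernel

theorem chk_fin403 : cert.finalOKc 1539000 806000 2000 = true := by decide +kernel

theorem chk_fin404 : cert.finalOKc 1539000 808000 2000 = true := by decide +kernel


end Cfsg.Agent.Lib.Lead.HNP.HNTC
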