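import Cfsg.Agent.Lib.Lead.HNP.HNTCSCert
import Cfsg.Agent.Lib.Helper6.TCGIndex
import Cfsg.Agent.Lib.Lead.HNP.HNTCSFin44

/-! # HNTC: the kernel check that the first rows are closed, part 68 -/

set_option autoImplicit false

namespace Cfsg.Agent.Lib.Lead.HNP.HNTC

open Cfsg.Agent.Lib.Helper6.TC Cfsg.Agent.Lib.Helper6.TCGS

theorem chk_fin612 : cert.finalOKc 1539000 1224000 2000 = true := by decide +kernel

theorem chk_fin613 : cert.finalOKc 1539000 1226000 2000 = true := by decide +kernel

theorem chk_fin614 : cert.finalOKc 1539000 1228000 2000 = true := by decide +kernel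

theorem chk_fin615 : cert.finalOKc 1539000 1230000 2000 = true := by decide +kernel

theorem chk_fin616 : cert.finalOKc 1539000 1232000 2000 = true := by decide +kernel

theorem chk_fin617 : cert.finalOKc 1539000 1234000 2000 = true := by decide +kernel

theorem chk_fin618 : cert.finalOKc 1539000 1236000 2000 = true := by decide +kernel

theorem chk_fin619 : cert.finalOKc 1539000 1238000 2000 = true := by decide +kernel

theorem chk_fin620 : cert.finalOKc 1539000 1240000 2000 = true := by decide +kernel


end Cfsg.Agent.Lib.Lead.HNP.HNTC
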