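import Cfsg.Agent.Lib.Lead.HNP.HNTCData
import Cfsg.Agent.Lib.Helper6.TCRel3
import Cfsg.Agent.Lib.Lead.HNP.HNTCSFin68

/-! # HNTC: the kernel check of a part of the relators on the coset table -/

set_option autoImplicit false

namespace Cfsg.Agent.Lib.Lead.HNP.HNTC

open Cfsg.Agent.Lib.Helper6.TC

theorem chk_pow1_8_0 : tab.minOKc [0, 0, 2, 0, 0, 3] 1 639960 5333 = true := by decide +kernel

theorem chk_pow1_8_1 : tab.minOKc [0, 0, 2, 0, 0, 3] 1 645293 5333 = true := by decide +kernel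

theorem chk_pow1_8_2 : tab.minOKc [0, 0, 2, 0, 0, 3] 1 650626 5333 = true := by decide +kernel

theorem chk_pow1_8_3 : tab.minOKc [0, 0, 2, 0, 0, 3] 1 655959 5333 = true := by decide +kernel

theorem chk_pow1_8_4 : tab.minOKc [0, 0, 2, 0, 0, 3] 1 661292 5333 = true := by decide +kernel

theorem chk_pow1_8_5 : tab.minOKc [0, 0, 2, 0, 0, 3] 1 666625 5333 = true := by decide +kernel

theorem chk_pow1_8_6 : tab.minOKc [0, 0, 2, 0, 0, 3] 1 671958 5333 = true := by decide +kernel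

theorem chk_pow1_8_7 : tab.minOKc [0, 0, 2, 0, 0, 3] 1 677291 5333 = true := by decide +kernel

theorem chk_pow1_8_8 : tab.minOKc [0, 0, 2, 0, 0, 3] 1 682624 5333 = true := by decide +kernel

theorem chk_pow1_8_9 : tab.minOKc [0, 0, 2, 0, 0, 3] 1 687957 5333 = true := by decide +kernel

theorem chk_pow1_8_10 : tab.minOKc [0, 0, 2, 0, 0, 3] 1 693290 5333 = true := by decide +kernel

theorem chk_pow1_8_11 : tab.minOKc [0, 0, 2, 0, 0, 3] 1 698623 5333 = true := by decide +kernel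

theorem chk_pow1_8_12 : tab.minOKc [0, 0, 2, 0, 0, 3] 1 703956 5333 = true := by decide +kernel

theorem chk_pow1_8_13 : tab.minOKc [0, 0, 2, 0, 0, 3] 1 709289 5333 = true := by decide +kernel

theorem chk_pow1_8_14 : tab.minOKc [0, 0, 2, 0, 0, 3] 1 714622 5333 = true := by decide +kernel

theorem chk_pow1_8 : tab.minOKc [0, 0, 2, 0, 0, 3] 1 639960 79995 = true := by
  refine tab.minOKc_of_chunks [0, 0, 2, 0, 0, 3] 1 639960 5333 15 (by norm_num) ?_
  intro i hi
  interval_cases i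
  · exact chk_pow1_8_0
  · exact chk_pow1_8_1
  · exact chk_pow1_8_2
  · exact chk_pow1_8_3
  · exact chk_pow1_8_4
  · exact chk_pow1_8_5
  · exact chk_pow1_8_6
  · exact chk_pow1_8_7
  · exact chk_pow1_8_8
  · exact chk_pow1_8_9
  · exact chk_pow1_8_10
  · exact chk_pow1_8_11
  · exact chk_pow1_8_12
  · exact chk_pow1_8_13
  · exact chk_pow1_8_14

theorem chk_pow1_9_0 : tab.minOKc [0, 0, 2, 0, 0, 3] 1 719955 5333 = true := by decide +kernel

theorem chk_pow1_9_1 : tab.minOKc [0, 0, 2, 0, 0, 3] 1 725288 5333 = true := by decide +kernel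

theorem chk_pow1_9_2 : tab.minOKc [0, 0, 2, 0, 0, 3] 1 730621 5333 = true := by decide +kernel

theorem chk_pow1_9_3 : tab.minOKc [0, 0, 2, 0, 0, 3] 1 735954 5333 = true := by decide +kernel

theorem chk_pow1_9_4 : tab.minOKc [0, 0, 2, 0, 0, 3] 1 741287 5333 = true := by decide +kernel

theorem chk_pow1_9_5 : tab.minOKc [0, 0, 2, 0, 0, 3] 1 746620 5333 = true := by decide +kernel

theorem chk_pow1_9_6 : tab.minOKc [0, 0, 2, 0, 0, 3] 1 751953 5333 = true := by decide +kernel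

theorem chk_pow1_9_7 : tab.minOKc [0, 0, 2, 0, 0, 3] 1 757286 5333 = true := by decide +kernel

theorem chk_pow1_9_8 : tab.minOKc [0, 0, 2, 0, 0, 3] 1 762619 5333 = true := by decide +kernel

theorem chk_pow1_9_9 : tab.minOKc [0, 0, 2, 0, 0, 3] 1 767952 5333 = true := by decide +kernel

theorem chk_pow1_9_10 : tab.minOKc [0, 0, 2, 0, 0, 3] 1 773285 5333 = true := by decide +kernel

theorem chk_pow1_9_11 : tab.minOKc [0, 0, 2, 0, 0, 3] 1 778618 5333 = true := by decide +kernel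

theorem chk_pow1_9_12 : tab.minOKc [0, 0, 2, 0, 0, 3] 1 783951 5333 = true := by decide +kernel

theorem chk_pow1_9_13 : tab.minOKc [0, 0, 2, 0, 0, 3] 1 789284 5333 = true := by decide +kernel

theorem chk_pow1_9_14 : tab.minOKc [0, 0, 2, 0, 0, 3] 1 794617 5333 = true := by decide +kernel

theorem chk_pow1_9 : tab.minOKc [0, 0, 2, 0, 0, 3] 1 719955 79995 = true := by
  refine tab.minOKc_of_chunks [0, 0, 2, 0, 0, 3] 1 719955 5333 15 (by norm_num) ?_
  intro i hi
  interval_cases i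
  · exact chk_pow1_9_0
  · exact chk_pow1_9_1
  · exact chk_pow1_9_2
  · exact chk_pow1_9_3
  · exact chk_pow1_9_4
  · exact chk_pow1_9_5
  · exact chk_pow1_9_6
  · exact chk_pow1_9_7
  · exact chk_pow1_9_8
  · exact chk_pow1_9_9
  · exact chk_pow1_9_10
  · exact chk_pow1_9_11
  · exact chk_pow1_9_12
  · exact chk_pow1_9_13
  · exact chk_pow1_9_14


end Cfsg.Agent.Lib.Lead.HNP.HNTC
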