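import Cfsg.Agent.Lib.Lead.HNP.HNTCData
import Cfsg.Agent.Lib.Helper6.TCRel3
import Cfsg.Agent.Lib.Lead.HNP.HNTCRel30

/-! # HNTC: the kernel check of a part of the relators on the coset table -/

set_option autoImplicit false

namespace Cfsg.Agent.Lib.Lead.HNP.HNTC

open Cfsg.Agent.Lib.Helper6.TC

theorem chk_pow8_10_0 : tab.minOKc [5, 2, 1, 3, 3, 1, 3, 1, 3, 4, 2, 0, 2, 0, 2, 2, 0, 3, 1, 1] 1 240000 1600 = true := by decide +kernel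

theorem chk_pow8_10_1 : tab.minOKc [5, 2, 1, 3, 3, 1, 3, 1, 3, 4, 2, 0, 2, 0, 2, 2, 0, 3, 1, 1] 1 241600 1600 = true := by decide +kernel

theorem chk_pow8_10_2 : tab.minOKc [5, 2, 1, 3, 3, 1, 3, 1, 3, 4, 2, 0, 2, 0, 2, 2, 0, 3, 1, 1] 1 243200 1600 = true := by decide +kernel

theorem chk_pow8_10_3 : tab.minOKc [5, 2, 1, 3, 3, 1, 3, 1, 3, 4, 2, 0, 2, 0, 2, 2, 0, 3, 1, 1] 1 244800 1600 = true := by decide +kernel

theorem chk_pow8_10_4 : tab.minOKc [5, 2, 1, 3, 3, 1, 3, 1, 3, 4, 2, 0, 2, 0, 2, 2, 0, 3, 1, 1] 1 246400 1600 = true := by decide +kernel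

theorem chk_pow8_10_5 : tab.minOKc [5, 2, 1, 3, 3, 1, 3, 1, 3, 4, 2, 0, 2, 0, 2, 2, 0, 3, 1, 1] 1 248000 1600 = true := by decide +kernel

theorem chk_pow8_10_6 : tab.minOKc [5, 2, 1, 3, 3, 1, 3, 1, 3, 4, 2, 0, 2, 0, 2, 2, 0, 3, 1, 1] 1 249600 1600 = true := by decide +kernel

theorem chk_pow8_10_7 : tab.minOKc [5, 2, 1, 3, 3, 1, 3, 1, 3, 4, 2, 0, 2, 0, 2, 2, 0, 3, 1, 1] 1 251200 1600 = true := by decide +kernel

theorem chk_pow8_10_8 : tab.minOKc [5, 2, 1, 3, 3, 1, 3, 1, 3, 4, 2, 0, 2, 0, 2, 2, 0, 3, 1, 1] 1 252800 1600 = true := by decide +kernel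

theorem chk_pow8_10_9 : tab.minOKc [5, 2, 1, 3, 3, 1, 3, 1, 3, 4, 2, 0, 2, 0, 2, 2, 0, 3, 1, 1] 1 254400 1600 = true := by decide +kernel

theorem chk_pow8_10_10 : tab.minOKc [5, 2, 1, 3, 3, 1, 3, 1, 3, 4, 2, 0, 2, 0, 2, 2, 0, 3, 1, 1] 1 256000 1600 = true := by decide +kernel

theorem chk_pow8_10_11 : tab.minOKc [5, 2, 1, 3, 3, 1, 3, 1, 3, 4, 2, 0, 2, 0, 2, 2, 0, 3, 1, 1] 1 257600 1600 = true := by decide +kernel

theorem chk_pow8_10_12 : tab.minOKc [5, 2, 1, 3, 3, 1, 3, 1, 3, 4, 2, 0, 2, 0, 2, 2, 0, 3, 1, 1] 1 259200 1600 = true := by decide +kernel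

theorem chk_pow8_10_13 : tab.minOKc [5, 2, 1, 3, 3, 1, 3, 1, 3, 4, 2, 0, 2, 0, 2, 2, 0, 3, 1, 1] 1 260800 1600 = true := by decide +kernel

theorem chk_pow8_10_14 : tab.minOKc [5, 2, 1, 3, 3, 1, 3, 1, 3, 4, 2, 0, 2, 0, 2, 2, 0, 3, 1, 1] 1 262400 1600 = true := by decide +kernel

theorem chk_pow8_10 : tab.minOKc [5, 2, 1, 3, 3, 1, 3, 1, 3, 4, 2, 0, 2, 0, 2, 2, 0, 3, 1, 1] 1 240000 24000 = true := by
  refine tab.minOKc_of_chunks [5, 2, 1, 3, 3, 1, 3, 1, 3, 4, 2, 0, 2, 0, 2, 2, 0, 3, 1, 1] 1 240000 1600 15 (by norm_num) ?_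
  intro i hi
  interval_cases i
  · exact chk_pow8_10_0
  · exact chk_pow8_10_1
  · exact chk_pow8_10_2
  · exact chk_pow8_10_3
  · exact chk_pow8_10_4
  · exact chk_pow8_10_5
  · exact chk_pow8_10_6
  · exact chk_pow8_10_7
  · exact chk_pow8_10_8
  · exact chk_pow8_10_9
  · exact chk_pow8_10_10
  · exact chk_pow8_10_11
  · exact chk_pow8_10_12
  · exact chk_pow8_10_13
  · exact chk_pow8_10_14

theorem chk_pow8_11_0 : tab.minOKc [5, 2, 1, 3, 3, 1, 3, 1, 3, 4, 2, 0, 2, 0, 2, 2, 0, 3, 1, 1] 1 264000 1600 = true := by decide +kernel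

theorem chk_pow8_11_1 : tab.minOKc [5, 2, 1, 3, 3, 1, 3, 1, 3, 4, 2, 0, 2, 0, 2, 2, 0, 3, 1, 1] 1 265600 1600 = true := by decide +kernel

theorem chk_pow8_11_2 : tab.minOKc [5, 2, 1, 3, 3, 1, 3, 1, 3, 4, 2, 0, 2, 0, 2, 2, 0, 3, 1, 1] 1 267200 1600 = true := by decide +kernel

theorem chk_pow8_11_3 : tab.minOKc [5, 2, 1, 3, 3, 1, 3, 1, 3, 4, 2, 0, 2, 0, 2, 2, 0, 3, 1, 1] 1 268800 1600 = true := by decide +kernel

theorem chk_pow8_11_4 : tab.minOKc [5, 2, 1, 3, 3, 1, 3, 1, 3, 4, 2, 0, 2, 0, 2, 2, 0, 3, 1, 1] 1 270400 1600 = true := by decide +kernel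

theorem chk_pow8_11_5 : tab.minOKc [5, 2, 1, 3, 3, 1, 3, 1, 3, 4, 2, 0, 2, 0, 2, 2, 0, 3, 1, 1] 1 272000 1600 = true := by decide +kernel

theorem chk_pow8_11_6 : tab.minOKc [5, 2, 1, 3, 3, 1, 3, 1, 3, 4, 2, 0, 2, 0, 2, 2, 0, 3, 1, 1] 1 273600 1600 = true := by decide +kernel

theorem chk_pow8_11_7 : tab.minOKc [5, 2, 1, 3, 3, 1, 3, 1, 3, 4, 2, 0, 2, 0, 2, 2, 0, 3, 1, 1] 1 275200 1600 = true := by decide +kernel

theorem chk_pow8_11_8 : tab.minOKc [5, 2, 1, 3, 3, 1, 3, 1, 3, 4, 2, 0, 2, 0, 2, 2, 0, 3, 1, 1] 1 276800 1600 = true := by decide +kernel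

theorem chk_pow8_11_9 : tab.minOKc [5, 2, 1, 3, 3, 1, 3, 1, 3, 4, 2, 0, 2, 0, 2, 2, 0, 3, 1, 1] 1 278400 1600 = true := by decide +kernel

theorem chk_pow8_11_10 : tab.minOKc [5, 2, 1, 3, 3, 1, 3, 1, 3, 4, 2, 0, 2, 0, 2, 2, 0, 3, 1, 1] 1 280000 1600 = true := by decide +kernel

theorem chk_pow8_11_11 : tab.minOKc [5, 2, 1, 3, 3, 1, 3, 1, 3, 4, 2, 0, 2, 0, 2, 2, 0, 3, 1, 1] 1 281600 1600 = true := by decide +kernel

theorem chk_pow8_11_12 : tab.minOKc [5, 2, 1, 3, 3, 1, 3, 1, 3, 4, 2, 0, 2, 0, 2, 2, 0, 3, 1, 1] 1 283200 1600 = true := by decide +kernel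

theorem chk_pow8_11_13 : tab.minOKc [5, 2, 1, 3, 3, 1, 3, 1, 3, 4, 2, 0, 2, 0, 2, 2, 0, 3, 1, 1] 1 284800 1600 = true := by decide +kernel

theorem chk_pow8_11_14 : tab.minOKc [5, 2, 1, 3, 3, 1, 3, 1, 3, 4, 2, 0, 2, 0, 2, 2, 0, 3, 1, 1] 1 286400 1600 = true := by decide +kernel

theorem chk_pow8_11 : tab.minOKc [5, 2, 1, 3, 3, 1, 3, 1, 3, 4, 2, 0, 2, 0, 2, 2, 0, 3, 1, 1] 1 264000 24000 = true := by
  refine tab.minOKc_of_chunks [5, 2, 1, 3, 3, 1, 3, 1, 3, 4, 2, 0, 2, 0, 2, 2, 0, 3, 1, 1] 1 264000 1600 15 (by norm_num) ?_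
  intro i hi
  interval_cases i
  · exact chk_pow8_11_0
  · exact chk_pow8_11_1
  · exact chk_pow8_11_2
  · exact chk_pow8_11_3
  · exact chk_pow8_11_4
  · exact chk_pow8_11_5
  · exact chk_pow8_11_6
  · exact chk_pow8_11_7
  · exact chk_pow8_11_8
  · exact chk_pow8_11_9
  · exact chk_pow8_11_10
  · exact chk_pow8_11_11
  · exact chk_pow8_11_12
  · exact chk_pow8_11_13
  · exact chk_pow8_11_14


end Cfsg.Agent.Lib.Lead.HNP.HNTC
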