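import Cfsg.Agent.Lib.Lead.HNP.HNTCData
import Cfsg.Agent.Lib.Helper6.TCRel3
import Cfsg.Agent.Lib.Lead.HNP.HNTCRel54

/-! # HNTC: the kernel check of a part of the relators on the coset table -/

set_option autoImplicit false

namespace Cfsg.Agent.Lib.Lead.HNP.HNTC

open Cfsg.Agent.Lib.Helper6.TC

theorem chk_pow8_58_0 : tab.minOKc [5, 2, 1, 3, 3, 1, 3, 1, 3, 4, 2, 0, 2, 0, 2, 2, 0, 3, 1, 1] 1 1392000 1600 = true := by decide +kernel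

theorem chk_pow8_58_1 : tab.minOKc [5, 2, 1, 3, 3, 1, 3, 1, 3, 4, 2, 0, 2, 0, 2, 2, 0, 3, 1, 1] 1 1393600 1600 = true := by decide +kernel

theorem chk_pow8_58_2 : tab.minOKc [5, 2, 1, 3, 3, 1, 3, 1, 3, 4, 2, 0, 2, 0, 2, 2, 0, 3, 1, 1] 1 1395200 1600 = true := by decide +kernel

theorem chk_pow8_58_3 : tab.minOKc [5, 2, 1, 3, 3, 1, 3, 1, 3, 4, 2, 0, 2, 0, 2, 2, 0, 3, 1, 1] 1 1396800 1600 = true := by decide +kernel

theorem chk_pow8_58_4 : tab.minOKc [5, 2, 1, 3, 3, 1, 3, 1, 3, 4, 2, 0, 2, 0, 2, 2, 0, 3, 1, 1] 1 1398400 1600 = true := by decide +kernel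

theorem chk_pow8_58_5 : tab.minOKc [5, 2, 1, 3, 3, 1, 3, 1, 3, 4, 2, 0, 2, 0, 2, 2, 0, 3, 1, 1] 1 1400000 1600 = true := by decide +kernel

theorem chk_pow8_58_6 : tab.minOKc [5, 2, 1, 3, 3, 1, 3, 1, 3, 4, 2, 0, 2, 0, 2, 2, 0, 3, 1, 1] 1 1401600 1600 = true := by decide +kernel

theorem chk_pow8_58_7 : tab.minOKc [5, 2, 1, 3, 3, 1, 3, 1, 3, 4, 2, 0, 2, 0, 2, 2, 0, 3, 1, 1] 1 1403200 1600 = true := by decide +kernel

theorem chk_pow8_58_8 : tab.minOKc [5, 2, 1, 3, 3, 1, 3, 1, 3, 4, 2, 0, 2, 0, 2, 2, 0, 3, 1, 1] 1 1404800 1600 = true := by decide +kernel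

theorem chk_pow8_58_9 : tab.minOKc [5, 2, 1, 3, 3, 1, 3, 1, 3, 4, 2, 0, 2, 0, 2, 2, 0, 3, 1, 1] 1 1406400 1600 = true := by decide +kernel

theorem chk_pow8_58_10 : tab.minOKc [5, 2, 1, 3, 3, 1, 3, 1, 3, 4, 2, 0, 2, 0, 2, 2, 0, 3, 1, 1] 1 1408000 1600 = true := by decide +kernel

theorem chk_pow8_58_11 : tab.minOKc [5, 2, 1, 3, 3, 1, 3, 1, 3, 4, 2, 0, 2, 0, 2, 2, 0, 3, 1, 1] 1 1409600 1600 = true := by decide +kernel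

theorem chk_pow8_58_12 : tab.minOKc [5, 2, 1, 3, 3, 1, 3, 1, 3, 4, 2, 0, 2, 0, 2, 2, 0, 3, 1, 1] 1 1411200 1600 = true := by decide +kernel

theorem chk_pow8_58_13 : tab.minOKc [5, 2, 1, 3, 3, 1, 3, 1, 3, 4, 2, 0, 2, 0, 2, 2, 0, 3, 1, 1] 1 1412800 1600 = true := by decide +kernel

theorem chk_pow8_58_14 : tab.minOKc [5, 2, 1, 3, 3, 1, 3, 1, 3, 4, 2, 0, 2, 0, 2, 2, 0, 3, 1, 1] 1 1414400 1600 = true := by decide +kernel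

theorem chk_pow8_58 : tab.minOKc [5, 2, 1, 3, 3, 1, 3, 1, 3, 4, 2, 0, 2, 0, 2, 2, 0, 3, 1, 1] 1 1392000 24000 = true := by
  refine tab.minOKc_of_chunks [5, 2, 1, 3, 3, 1, 3, 1, 3, 4, 2, 0, 2, 0, 2, 2, 0, 3, 1, 1] 1 1392000 1600 15 (by norm_num) ?_
  intro i hi
  interval_cases i
  · exact chk_pow8_58_0
  · exact chk_pow8_58_1
  · exact chk_pow8_58_2
  · exact chk_pow8_58_3
  · exact chk_pow8_58_4
  · exact chk_pow8_58_5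
  · exact chk_pow8_58_6
  · exact chk_pow8_58_7
  · exact chk_pow8_58_8
  · exact chk_pow8_58_9
  · exact chk_pow8_58_10
  · exact chk_pow8_58_11
  · exact chk_pow8_58_12
  · exact chk_pow8_58_13
  · exact chk_pow8_58_14

theorem chk_pow8_59_0 : tab.minOKc [5, 2, 1, 3, 3, 1, 3, 1, 3, 4, 2, 0, 2, 0, 2, 2, 0, 3, 1, 1] 1 1416000 1600 = true := by decide +kernel

theorem chk_pow8_59_1 : tab.minOKc [5, 2, 1, 3, 3, 1, 3, 1, 3, 4, 2, 0, 2, 0, 2, 2, 0, 3, 1, 1] 1 1417600 1600 = true := by decide +kernel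

theorem chk_pow8_59_2 : tab.minOKc [5, 2, 1, 3, 3, 1, 3, 1, 3, 4, 2, 0, 2, 0, 2, 2, 0, 3, 1, 1] 1 1419200 1600 = true := by decide +kernel

theorem chk_pow8_59_3 : tab.minOKc [5, 2, 1, 3, 3, 1, 3, 1, 3, 4, 2, 0, 2, 0, 2, 2, 0, 3, 1, 1] 1 1420800 1600 = true := by decide +kernel

theorem chk_pow8_59_4 : tab.minOKc [5, 2, 1, 3, 3, 1, 3, 1, 3, 4, 2, 0, 2, 0, 2, 2, 0, 3, 1, 1] 1 1422400 1600 = true := by decide +kernel

theorem chk_pow8_59_5 : tab.minOKc [5, 2, 1, 3, 3, 1, 3, 1, 3, 4, 2, 0, 2, 0, 2, 2, 0, 3, 1, 1] 1 1424000 1600 = true := by decide +kernel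

theorem chk_pow8_59_6 : tab.minOKc [5, 2, 1, 3, 3, 1, 3, 1, 3, 4, 2, 0, 2, 0, 2, 2, 0, 3, 1, 1] 1 1425600 1600 = true := by decide +kernel

theorem chk_pow8_59_7 : tab.minOKc [5, 2, 1, 3, 3, 1, 3, 1, 3, 4, 2, 0, 2, 0, 2, 2, 0, 3, 1, 1] 1 1427200 1600 = true := by decide +kernel

theorem chk_pow8_59_8 : tab.minOKc [5, 2, 1, 3, 3, 1, 3, 1, 3, 4, 2, 0, 2, 0, 2, 2, 0, 3, 1, 1] 1 1428800 1600 = true := by decide +kernel

theorem chk_pow8_59_9 : tab.minOKc [5, 2, 1, 3, 3, 1, 3, 1, 3, 4, 2, 0, 2, 0, 2, 2, 0, 3, 1, 1] 1 1430400 1600 = true := by decide +kernel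

theorem chk_pow8_59_10 : tab.minOKc [5, 2, 1, 3, 3, 1, 3, 1, 3, 4, 2, 0, 2, 0, 2, 2, 0, 3, 1, 1] 1 1432000 1600 = true := by decide +kernel

theorem chk_pow8_59_11 : tab.minOKc [5, 2, 1, 3, 3, 1, 3, 1, 3, 4, 2, 0, 2, 0, 2, 2, 0, 3, 1, 1] 1 1433600 1600 = true := by decide +kernel

theorem chk_pow8_59_12 : tab.minOKc [5, 2, 1, 3, 3, 1, 3, 1, 3, 4, 2, 0, 2, 0, 2, 2, 0, 3, 1, 1] 1 1435200 1600 = true := by decide +kernel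

theorem chk_pow8_59_13 : tab.minOKc [5, 2, 1, 3, 3, 1, 3, 1, 3, 4, 2, 0, 2, 0, 2, 2, 0, 3, 1, 1] 1 1436800 1600 = true := by decide +kernel

theorem chk_pow8_59_14 : tab.minOKc [5, 2, 1, 3, 3, 1, 3, 1, 3, 4, 2, 0, 2, 0, 2, 2, 0, 3, 1, 1] 1 1438400 1600 = true := by decide +kernel

theorem chk_pow8_59 : tab.minOKc [5, 2, 1, 3, 3, 1, 3, 1, 3, 4, 2, 0, 2, 0, 2, 2, 0, 3, 1, 1] 1 1416000 24000 = true := by
  refine tab.minOKc_of_chunks [5, 2, 1, 3, 3, 1, 3, 1, 3, 4, 2, 0, 2, 0, 2, 2, 0, 3, 1, 1] 1 1416000 1600 15 (by norm_num) ?_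
  intro i hi
  interval_cases i
  · exact chk_pow8_59_0
  · exact chk_pow8_59_1
  · exact chk_pow8_59_2
  · exact chk_pow8_59_3
  · exact chk_pow8_59_4
  · exact chk_pow8_59_5
  · exact chk_pow8_59_6
  · exact chk_pow8_59_7
  · exact chk_pow8_59_8
  · exact chk_pow8_59_9
  · exact chk_pow8_59_10
  · exact chk_pow8_59_11
  · exact chk_pow8_59_12
  · exact chk_pow8_59_13
  · exact chk_pow8_59_14


end Cfsg.Agent.Lib.Lead.HNP.HNTC
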