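import Cfsg.Agent.Lib.Lead.HNP.HNTCSCert
import Cfsg.Agent.Lib.Lead.HNP.HNTCSRows11

/-! # HNTC: the kernel check of the rows from 402360 on -/

set_option autoImplicit false

namespace Cfsg.Agent.Lib.Lead.HNP.HNTC

open Cfsg.Agent.Lib.Helper6.TC Cfsg.Agent.Lib.Helper6.TCGS

theorem chk_rows35_0 : cert.rowsOK 402360 479 = true := by decide +kernel

theorem chk_rows35_1 : cert.rowsOK 402839 479 = true := by decide +kernel

theorem chk_rows35_2 : cert.rowsOK 403318 479 = true := by decide +kernel

theorem chk_rows35_3 : cert.rowsOK 403797 479 = true := by decide +kernel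

theorem chk_rows35_4 : cert.rowsOK 404276 479 = true := by decide +kernel

theorem chk_rows35_5 : cert.rowsOK 404755 479 = true := by decide +kernel

theorem chk_rows35_6 : cert.rowsOK 405234 479 = true := by decide +kernel

theorem chk_rows35_7 : cert.rowsOK 405713 479 = true := by decide +kernel

theorem chk_rows35_8 : cert.rowsOK 406192 479 = true := by decide +kernel

theorem chk_rows35_9 : cert.rowsOK 406671 479 = true := by decide +kernel

theorem chk_rows35_10 : cert.rowsOK 407150 479 = true := by decide +kernel

theorem chk_rows35_11 : cert.rowsOK 407629 479 = true := by decide +kernel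

theorem chk_rows35_12 : cert.rowsOK 408108 479 = true := by decide +kernel

theorem chk_rows35_13 : cert.rowsOK 408587 479 = true := by decide +kernel

theorem chk_rows35_14 : cert.rowsOK 409066 479 = true := by decide +kernel

theorem chk_rows35_15 : cert.rowsOK 409545 479 = true := by decide +kernel

theorem chk_rows35_16 : cert.rowsOK 410024 479 = true := by decide +kernel

theorem chk_rows35_17 : cert.rowsOK 410503 479 = true := by decide +kernel

theorem chk_rows35_18 : cert.rowsOK 410982 479 = true := by decide +kernel

theorem chk_rows35_19 : cert.rowsOK 411461 479 = true := by decide +kernel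

theorem chk_rows35_20 : cert.rowsOK 411940 479 = true := by decide +kernel

theorem chk_rows35_21 : cert.rowsOK 412419 479 = true := by decide +kernel

theorem chk_rows35_22 : cert.rowsOK 412898 479 = true := by decide +kernel

theorem chk_rows35_23 : cert.rowsOK 413377 479 = true := by decide +kernel

theorem chk_range35 : ∀ a, 402360 ≤ a → a < 413856 → ∀ x < cert.c.g, cert.slotOK a x = true := by
  refine cert.range_of_chunks 402360 479 24 (by norm_num) ?_
  intro k hk
  interval_cases k
  · exact chk_rows35_0
  · exact chk_rows35_1
  · exact chk_rows35_2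
  · exact chk_rows35_3
  · exact chk_rows35_4
  · exact chk_rows35_5
  · exact chk_rows35_6
  · exact chk_rows35_7
  · exact chk_rows35_8
  · exact chk_rows35_9
  · exact chk_rows35_10
  · exact chk_rows35_11
  · exact chk_rows35_12
  · exact chk_rows35_13
  · exact chk_rows35_14
  · exact chk_rows35_15
  · exact chk_rows35_16
  · exact chk_rows35_17
  · exact chk_rows35_18
  · exact chk_rows35_19
  · exact chk_rows35_20
  · exact chk_rows35_21
  · exact chk_rows35_22
  · exact chk_rows35_23

end Cfsg.Agent.Lib.Lead.HNP.HNTC
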