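import Cfsg.Agent.Lib.Lead.HNP.HNTCSCert
import Cfsg.Agent.Lib.Lead.HNP.HNTCSRows35

/-! # HNTC: the kernel check of the rows from 678264 on -/

set_option autoImplicit false

namespace Cfsg.Agent.Lib.Lead.HNP.HNTC

open Cfsg.Agent.Lib.Helper6.TC Cfsg.Agent.Lib.Helper6.TCGS

theorem chk_rows59_0 : cert.rowsOK 678264 479 = true := by decide +kernel

theorem chk_rows59_1 : cert.rowsOK 678743 479 = true := by decide +kernel

theorem chk_rows59_2 : cert.rowsOK 679222 479 = true := by decide +kernel

theorem chk_rows59_3 : cert.rowsOK 679701 479 = true := by decide +kernel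

theorem chk_rows59_4 : cert.rowsOK 680180 479 = true := by decide +kernel

theorem chk_rows59_5 : cert.rowsOK 680659 479 = true := by decide +kernel

theorem chk_rows59_6 : cert.rowsOK 681138 479 = true := by decide +kernel

theorem chk_rows59_7 : cert.rowsOK 681617 479 = true := by decide +kernel

theorem chk_rows59_8 : cert.rowsOK 682096 479 = true := by decide +kernel

theorem chk_rows59_9 : cert.rowsOK 682575 479 = true := by decide +kernel

theorem chk_rows59_10 : cert.rowsOK 683054 479 = true := by decide +kernel

theorem chk_rows59_11 : cert.rowsOK 683533 479 = true := by decide +kernel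

theorem chk_rows59_12 : cert.rowsOK 684012 479 = true := by decide +kernel

theorem chk_rows59_13 : cert.rowsOK 684491 479 = true := by decide +kernel

theorem chk_rows59_14 : cert.rowsOK 684970 479 = true := by decide +kernel

theorem chk_rows59_15 : cert.rowsOK 685449 479 = true := by decide +kernel

theorem chk_rows59_16 : cert.rowsOK 685928 479 = true := by decide +kernel

theorem chk_rows59_17 : cert.rowsOK 686407 479 = true := by decide +kernel

theorem chk_rows59_18 : cert.rowsOK 686886 479 = true := by decide +kernel

theorem chk_rows59_19 : cert.rowsOK 687365 479 = true := by decide +kernel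

theorem chk_rows59_20 : cert.rowsOK 687844 479 = true := by decide +kernel

theorem chk_rows59_21 : cert.rowsOK 688323 479 = true := by decide +kernel

theorem chk_rows59_22 : cert.rowsOK 688802 479 = true := by decide +kernel

theorem chk_rows59_23 : cert.rowsOK 689281 479 = true := by decide +kernel

theorem chk_range59 : ∀ a, 678264 ≤ a → a < 689760 → ∀ x < cert.c.g, cert.slotOK a x = true := by
  refine cert.range_of_chunks 678264 479 24 (by norm_num) ?_
  intro k hk
  interval_cases k
  · exact chk_rows59_0
  · exact chk_rows59_1
  · exact chk_rows59_2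
  · exact chk_rows59_3
  · exact chk_rows59_4
  · exact chk_rows59_5
  · exact chk_rows59_6
  · exact chk_rows59_7
  · exact chk_rows59_8
  · exact chk_rows59_9
  · exact chk_rows59_10
  · exact chk_rows59_11
  · exact chk_rows59_12
  · exact chk_rows59_13
  · exact chk_rows59_14
  · exact chk_rows59_15
  · exact chk_rows59_16
  · exact chk_rows59_17
  · exact chk_rows59_18
  · exact chk_rows59_19
  · exact chk_rows59_20
  · exact chk_rows59_21
  · exact chk_rows59_22
  · exact chk_rows59_23

end Cfsg.Agent.Lib.Lead.HNP.HNTC
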