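import Cfsg.Agent.Lib.Lead.HNP.HNTCSCert
import Cfsg.Agent.Lib.Lead.HNP.HNTCSRows59

/-! # HNTC: the kernel check of the rows from 954168 on -/

set_option autoImplicit false

namespace Cfsg.Agent.Lib.Lead.HNP.HNTC

open Cfsg.Agent.Lib.Helper6.TC Cfsg.Agent.Lib.Helper6.TCGS

theorem chk_rows83_0 : cert.rowsOK 954168 479 = true := by decide +kernel

theorem chk_rows83_1 : cert.rowsOK 954647 479 = true := by decide +kernel

theorem chk_rows83_2 : cert.rowsOK 955126 479 = true := by decide +kernel

theorem chk_rows83_3 : cert.rowsOK 955605 479 = true := by decide +kernel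

theorem chk_rows83_4 : cert.rowsOK 956084 479 = true := by decide +kernel

theorem chk_rows83_5 : cert.rowsOK 956563 479 = true := by decide +kernel

theorem chk_rows83_6 : cert.rowsOK 957042 479 = true := by decide +kernel

theorem chk_rows83_7 : cert.rowsOK 957521 479 = true := by decide +kernel

theorem chk_rows83_8 : cert.rowsOK 958000 479 = true := by decide +kernel

theorem chk_rows83_9 : cert.rowsOK 958479 479 = true := by decide +kernel

theorem chk_rows83_10 : cert.rowsOK 958958 479 = true := by decide +kernel

theorem chk_rows83_11 : cert.rowsOK 959437 479 = true := by decide +kernel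

theorem chk_rows83_12 : cert.rowsOK 959916 479 = true := by decide +kernel

theorem chk_rows83_13 : cert.rowsOK 960395 479 = true := by decide +kernel

theorem chk_rows83_14 : cert.rowsOK 960874 479 = true := by decide +kernel

theorem chk_rows83_15 : cert.rowsOK 961353 479 = true := by decide +kernel

theorem chk_rows83_16 : cert.rowsOK 961832 479 = true := by decide +kernel

theorem chk_rows83_17 : cert.rowsOK 962311 479 = true := by decide +kernel

theorem chk_rows83_18 : cert.rowsOK 962790 479 = true := by decide +kernel

theorem chk_rows83_19 : cert.rowsOK 963269 479 = true := by decide +kernel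

theorem chk_rows83_20 : cert.rowsOK 963748 479 = true := by decide +kernel

theorem chk_rows83_21 : cert.rowsOK 964227 479 = true := by decide +kernel

theorem chk_rows83_22 : cert.rowsOK 964706 479 = true := by decide +kernel

theorem chk_rows83_23 : cert.rowsOK 965185 479 = true := by decide +kernel

theorem chk_range83 : ∀ a, 954168 ≤ a → a < 965664 → ∀ x < cert.c.g, cert.slotOK a x = true := by
  refine cert.range_of_chunks 954168 479 24 (by norm_num) ?_
  intro k hk
  interval_cases k
  · exact chk_rows83_0
  · exact chk_rows83_1
  · exact chk_rows83_2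
  · exact chk_rows83_3
  · exact chk_rows83_4
  · exact chk_rows83_5
  · exact chk_rows83_6
  · exact chk_rows83_7
  · exact chk_rows83_8
  · exact chk_rows83_9
  · exact chk_rows83_10
  · exact chk_rows83_11
  · exact chk_rows83_12
  · exact chk_rows83_13
  · exact chk_rows83_14
  · exact chk_rows83_15
  · exact chk_rows83_16
  · exact chk_rows83_17
  · exact chk_rows83_18
  · exact chk_rows83_19
  · exact chk_rows83_20
  · exact chk_rows83_21
  · exact chk_rows83_22
  · exact chk_rows83_23

end Cfsg.Agent.Lib.Lead.HNP.HNTC
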