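import Cfsg.Agent.Lib.Lead.HNP.HNTCSCert
import Cfsg.Agent.Lib.Lead.HNP.HNTCSRows83

/-! # HNTC: the kernel check of the rows from 1230072 on -/

set_option autoImplicit false

namespace Cfsg.Agent.Lib.Lead.HNP.HNTC

open Cfsg.Agent.Lib.Helper6.TC Cfsg.Agent.Lib.Helper6.TCGS

theorem chk_rows107_0 : cert.rowsOK 1230072 479 = true := by decide +kernel

theorem chk_rows107_1 : cert.rowsOK 1230551 479 = true := by decide +kernel

theorem chk_rows107_2 : cert.rowsOK 1231030 479 = true := by decide +kernel

theorem chk_rows107_3 : cert.rowsOK 1231509 479 = true := by decide +kernel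

theorem chk_rows107_4 : cert.rowsOK 1231988 479 = true := by decide +kernel

theorem chk_rows107_5 : cert.rowsOK 1232467 479 = true := by decide +kernel

theorem chk_rows107_6 : cert.rowsOK 1232946 479 = true := by decide +kernel

theorem chk_rows107_7 : cert.rowsOK 1233425 479 = true := by decide +kernel

theorem chk_rows107_8 : cert.rowsOK 1233904 479 = true := by decide +kernel

theorem chk_rows107_9 : cert.rowsOK 1234383 479 = true := by decide +kernel

theorem chk_rows107_10 : cert.rowsOK 1234862 479 = true := by decide +kernel

theorem chk_rows107_11 : cert.rowsOK 1235341 479 = true := by decide +kernel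

theorem chk_rows107_12 : cert.rowsOK 1235820 479 = true := by decide +kernel

theorem chk_rows107_13 : cert.rowsOK 1236299 479 = true := by decide +kernel

theorem chk_rows107_14 : cert.rowsOK 1236778 479 = true := by decide +kernel

theorem chk_rows107_15 : cert.rowsOK 1237257 479 = true := by decide +kernel

theorem chk_rows107_16 : cert.rowsOK 1237736 479 = true := by decide +kernel

theorem chk_rows107_17 : cert.rowsOK 1238215 479 = true := by decide +kernel

theorem chk_rows107_18 : cert.rowsOK 1238694 479 = true := by decide +kernel

theorem chk_rows107_19 : cert.rowsOK 1239173 479 = true := by decide +kernel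

theorem chk_rows107_20 : cert.rowsOK 1239652 479 = true := by decide +kernel

theorem chk_rows107_21 : cert.rowsOK 1240131 479 = true := by decide +kernel

theorem chk_rows107_22 : cert.rowsOK 1240610 479 = true := by decide +kernel

theorem chk_rows107_23 : cert.rowsOK 1241089 479 = true := by decide +kernel

theorem chk_range107 : ∀ a, 1230072 ≤ a → a < 1241568 → ∀ x < cert.c.g, cert.slotOK a x = true := by
  refine cert.range_of_chunks 1230072 479 24 (by norm_num) ?_
  intro k hk
  interval_cases k
  · exact chk_rows107_0
  · exact chk_rows107_1
  · exact chk_rows107_2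
  · exact chk_rows107_3
  · exact chk_rows107_4
  · exact chk_rows107_5
  · exact chk_rows107_6
  · exact chk_rows107_7
  · exact chk_rows107_8
  · exact chk_rows107_9
  · exact chk_rows107_10
  · exact chk_rows107_11
  · exact chk_rows107_12
  · exact chk_rows107_13
  · exact chk_rows107_14
  · exact chk_rows107_15
  · exact chk_rows107_16
  · exact chk_rows107_17
  · exact chk_rows107_18
  · exact chk_rows107_19
  · exact chk_rows107_20
  · exact chk_rows107_21
  · exact chk_rows107_22
  · exact chk_rows107_23

end Cfsg.Agent.Lib.Lead.HNP.HNTC
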