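import Cfsg.Agent.Lib.Lead.HNP.HNTCSCert
import Cfsg.Agent.Lib.Lead.HNP.HNTCSRows107

/-! # HNTC: the kernel check of the rows from 1505976 on -/

set_option autoImplicit false

namespace Cfsg.Agent.Lib.Lead.HNP.HNTC

open Cfsg.Agent.Lib.Helper6.TC Cfsg.Agent.Lib.Helper6.TCGS

theorem chk_rows131_0 : cert.rowsOK 1505976 479 = true := by decide +kernel

theorem chk_rows131_1 : cert.rowsOK 1506455 479 = true := by decide +kernel

theorem chk_rows131_2 : cert.rowsOK 1506934 479 = true := by decide +kernel

theorem chk_rows131_3 : cert.rowsOK 1507413 479 = true := by decide +kernel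

theorem chk_rows131_4 : cert.rowsOK 1507892 479 = true := by decide +kernel

theorem chk_rows131_5 : cert.rowsOK 1508371 479 = true := by decide +kernel

theorem chk_rows131_6 : cert.rowsOK 1508850 479 = true := by decide +kernel

theorem chk_rows131_7 : cert.rowsOK 1509329 479 = true := by decide +kernel

theorem chk_rows131_8 : cert.rowsOK 1509808 479 = true := by decide +kernel

theorem chk_rows131_9 : cert.rowsOK 1510287 479 = true := by decide +kernel

theorem chk_rows131_10 : cert.rowsOK 1510766 479 = true := by decide +kernel

theorem chk_rows131_11 : cert.rowsOK 1511245 479 = true := by decide +kernel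

theorem chk_rows131_12 : cert.rowsOK 1511724 479 = true := by decide +kernel

theorem chk_rows131_13 : cert.rowsOK 1512203 479 = true := by decide +kernel

theorem chk_rows131_14 : cert.rowsOK 1512682 479 = true := by decide +kernel

theorem chk_rows131_15 : cert.rowsOK 1513161 479 = true := by decide +kernel

theorem chk_rows131_16 : cert.rowsOK 1513640 479 = true := by decide +kernel

theorem chk_rows131_17 : cert.rowsOK 1514119 479 = true := by decide +kernel

theorem chk_rows131_18 : cert.rowsOK 1514598 479 = true := by decide +kernel

theorem chk_rows131_19 : cert.rowsOK 1515077 479 = true := by decide +kernel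

theorem chk_rows131_20 : cert.rowsOK 1515556 479 = true := by decide +kernel

theorem chk_rows131_21 : cert.rowsOK 1516035 479 = true := by decide +kernel

theorem chk_rows131_22 : cert.rowsOK 1516514 479 = true := by decide +kernel

theorem chk_rows131_23 : cert.rowsOK 1516993 479 = true := by decide +kernel

theorem chk_range131 : ∀ a, 1505976 ≤ a → a < 1517472 → ∀ x < cert.c.g, cert.slotOK a x = true := by
  refine cert.range_of_chunks 1505976 479 24 (by norm_num) ?_
  intro k hk
  interval_cases k
  · exact chk_rows131_0
  · exact chk_rows131_1
  · exact chk_rows131_2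
  · exact chk_rows131_3
  · exact chk_rows131_4
  · exact chk_rows131_5
  · exact chk_rows131_6
  · exact chk_rows131_7
  · exact chk_rows131_8
  · exact chk_rows131_9
  · exact chk_rows131_10
  · exact chk_rows131_11
  · exact chk_rows131_12
  · exact chk_rows131_13
  · exact chk_rows131_14
  · exact chk_rows131_15
  · exact chk_rows131_16
  · exact chk_rows131_17
  · exact chk_rows131_18
  · exact chk_rows131_19
  · exact chk_rows131_20
  · exact chk_rows131_21
  · exact chk_rows131_22
  · exact chk_rows131_23

end Cfsg.Agent.Lib.Lead.HNP.HNTC
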