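import Cfsg.Agent.Lib.Lead.HNP.HNTCSCert
import Cfsg.Agent.Lib.Helper6.TCGIndex
import Cfsg.Agent.Lib.Lead.HNP.HNTCSRows131

/-! # HNTC: the kernel check that the first rows are closed, part 21 -/

set_option autoImplicit false

namespace Cfsg.Agent.Lib.Lead.HNP.HNTC

open Cfsg.Agent.Lib.Helper6.TC Cfsg.Agent.Lib.Helper6.TCGS

theorem chk_fin189 : cert.finalOKc 1539000 378000 2000 = true := by decide +kernel

theorem chk_fin190 : cert.finalOKc 1539000 380000 2000 = true := by decide +kernel

theorem chk_fin191 : cert.finalOKc 1539000 382000 2000 = true := by decide +kernel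

theorem chk_fin192 : cert.finalOKc 1539000 384000 2000 = true := by decide +kernel

theorem chk_fin193 : cert.finalOKc 1539000 386000 2000 = true := by decide +kernel

theorem chk_fin194 : cert.finalOKc 1539000 388000 2000 = true := by decide +kernel

theorem chk_fin195 : cert.finalOKc 1539000 390000 2000 = true := by decide +kernel

theorem chk_fin196 : cert.finalOKc 1539000 392000 2000 = true := by decide +kernel

theorem chk_fin197 : cert.finalOKc 1539000 394000 2000 = true := by decide +kernel


end Cfsg.Agent.Lib.Lead.HNP.HNTC
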