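import Cfsg.Agent.Lib.Lead.HNP.HNTCSCert
import Cfsg.Agent.Lib.Helper6.TCGIndex
import Cfsg.Agent.Lib.Lead.HNP.HNTCSFin21

/-! # HNTC: the kernel check that the first rows are closed, part 45 -/

set_option autoImplicit false

namespace Cfsg.Agent.Lib.Lead.HNP.HNTC

open Cfsg.Agent.Lib.Helper6.TC Cfsg.Agent.Lib.Helper6.TCGS

theorem chk_fin405 : cert.finalOKc 1539000 810000 2000 = true := by decide +kernel

theorem chk_fin406 : cert.finalOKc 1539000 812000 2000 = true := by decide +kernel

theorem chk_fin407 : cert.finalOKc 1539000 814000 2000 = true := by decide +kernel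

theorem chk_fin408 : cert.finalOKc 1539000 816000 2000 = true := by decide +kernel

theorem chk_fin409 : cert.finalOKc 1539000 818000 2000 = true := by decide +kernel

theorem chk_fin410 : cert.finalOKc 1539000 820000 2000 = true := by decide +kernel

theorem chk_fin411 : cert.finalOKc 1539000 822000 2000 = true := by decide +kernel

theorem chk_fin412 : cert.finalOKc 1539000 824000 2000 = true := by decide +kernel

theorem chk_fin413 : cert.finalOKc 1539000 826000 2000 = true := by decide +kernel


end Cfsg.Agent.Lib.Lead.HNP.HNTC
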