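import Cfsg.Agent.Lib.Lead.HNP.HNTCSCert
import Cfsg.Agent.Lib.Helper6.TCGIndex
import Cfsg.Agent.Lib.Lead.HNP.HNTCSFin45

/-! # HNTC: the kernel check that the first rows are closed, part 69 -/

set_option autoImplicit false

namespace Cfsg.Agent.Lib.Lead.HNP.HNTC

open Cfsg.Agent.Lib.Helper6.TC Cfsg.Agent.Lib.Helper6.TCGS

theorem chk_fin621 : cert.finalOKc 1539000 1242000 2000 = true := by decide +kernel

theorem chk_fin622 : cert.finalOKc 1539000 1244000 2000 = true := by decide +kernel

theorem chk_fin623 : cert.finalOKc 1539000 1246000 2000 = true := by decide +kernel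

theorem chk_fin624 : cert.finalOKc 1539000 1248000 2000 = true := by decide +kernel

theorem chk_fin625 : cert.finalOKc 1539000 1250000 2000 = true := by decide +kernel

theorem chk_fin626 : cert.finalOKc 1539000 1252000 2000 = true := by decide +kernel

theorem chk_fin627 : cert.finalOKc 1539000 1254000 2000 = true := by decide +kernel

theorem chk_fin628 : cert.finalOKc 1539000 1256000 2000 = true := by decide +kernel

theorem chk_fin629 : cert.finalOKc 1539000 1258000 2000 = true := by decide +kernel


end Cfsg.Agent.Lib.Lead.HNP.HNTC
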