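import Cfsg.Agent.Lib.Lead.HNP.HNTCData
import Cfsg.Agent.Lib.Helper6.TCRel3
import Cfsg.Agent.Lib.Lead.HNP.HNTCSFin69

/-! # HNTC: the kernel check of a part of the relators on the coset table -/

set_option autoImplicit false

namespace Cfsg.Agent.Lib.Lead.HNP.HNTC

open Cfsg.Agent.Lib.Helper6.TC

theorem chk_pow1_10_0 : tab.minOKc [0, 0, 2, 0, 0, 3] 1 799950 5333 = true := by decide +kernel

theorem chk_pow1_10_1 : tab.minOKc [0, 0, 2, 0, 0, 3] 1 805283 5333 = true := by decide +kernel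

theorem chk_pow1_10_2 : tab.minOKc [0, 0, 2, 0, 0, 3] 1 810616 5333 = true := by decide +kernel

theorem chk_pow1_10_3 : tab.minOKc [0, 0, 2, 0, 0, 3] 1 815949 5333 = true := by decide +kernel

theorem chk_pow1_10_4 : tab.minOKc [0, 0, 2, 0, 0, 3] 1 821282 5333 = true := by decide +kernel

theorem chk_pow1_10_5 : tab.minOKc [0, 0, 2, 0, 0, 3] 1 826615 5333 = true := by decide +kernel

theorem chk_pow1_10_6 : tab.minOKc [0, 0, 2, 0, 0, 3] 1 831948 5333 = true := by decide +kernel

theorem chk_pow1_10_7 : tab.minOKc [0, 0, 2, 0, 0, 3] 1 837281 5333 = true := by decide +kernel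

theorem chk_pow1_10_8 : tab.minOKc [0, 0, 2, 0, 0, 3] 1 842614 5333 = true := by decide +kernel

theorem chk_pow1_10_9 : tab.minOKc [0, 0, 2, 0, 0, 3] 1 847947 5333 = true := by decide +kernel

theorem chk_pow1_10_10 : tab.minOKc [0, 0, 2, 0, 0, 3] 1 853280 5333 = true := by decide +kernel

theorem chk_pow1_10_11 : tab.minOKc [0, 0, 2, 0, 0, 3] 1 858613 5333 = true := by decide +kernel

theorem chk_pow1_10_12 : tab.minOKc [0, 0, 2, 0, 0, 3] 1 863946 5333 = true := by decide +kernel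

theorem chk_pow1_10_13 : tab.minOKc [0, 0, 2, 0, 0, 3] 1 869279 5333 = true := by decide +kernel

theorem chk_pow1_10_14 : tab.minOKc [0, 0, 2, 0, 0, 3] 1 874612 5333 = true := by decide +kernel

theorem chk_pow1_10 : tab.minOKc [0, 0, 2, 0, 0, 3] 1 799950 79995 = true := by
  refine tab.minOKc_of_chunks [0, 0, 2, 0, 0, 3] 1 799950 5333 15 (by norm_num) ?_
  intro i hi
  interval_cases i
  · exact chk_pow1_10_0
  · exact chk_pow1_10_1
  · exact chk_pow1_10_2
  · exact chk_pow1_10_3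
  · exact chk_pow1_10_4
  · exact chk_pow1_10_5
  · exact chk_pow1_10_6
  · exact chk_pow1_10_7
  · exact chk_pow1_10_8
  · exact chk_pow1_10_9
  · exact chk_pow1_10_10
  · exact chk_pow1_10_11
  · exact chk_pow1_10_12
  · exact chk_pow1_10_13
  · exact chk_pow1_10_14

theorem chk_pow1_11_0 : tab.minOKc [0, 0, 2, 0, 0, 3] 1 879945 5333 = true := by decide +kernel

theorem chk_pow1_11_1 : tab.minOKc [0, 0, 2, 0, 0, 3] 1 885278 5333 = true := by decide +kernel

theorem chk_pow1_11_2 : tab.minOKc [0, 0, 2, 0, 0, 3] 1 890611 5333 = true := by decide +kernel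

theorem chk_pow1_11_3 : tab.minOKc [0, 0, 2, 0, 0, 3] 1 895944 5333 = true := by decide +kernel

theorem chk_pow1_11_4 : tab.minOKc [0, 0, 2, 0, 0, 3] 1 901277 5333 = true := by decide +kernel

theorem chk_pow1_11_5 : tab.minOKc [0, 0, 2, 0, 0, 3] 1 906610 5333 = true := by decide +kernel

theorem chk_pow1_11_6 : tab.minOKc [0, 0, 2, 0, 0, 3] 1 911943 5333 = true := by decide +kernel

theorem chk_pow1_11_7 : tab.minOKc [0, 0, 2, 0, 0, 3] 1 917276 5333 = true := by decide +kernel

theorem chk_pow1_11_8 : tab.minOKc [0, 0, 2, 0, 0, 3] 1 922609 5333 = true := by decide +kernel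

theorem chk_pow1_11_9 : tab.minOKc [0, 0, 2, 0, 0, 3] 1 927942 5333 = true := by decide +kernel

theorem chk_pow1_11_10 : tab.minOKc [0, 0, 2, 0, 0, 3] 1 933275 5333 = true := by decide +kernel

theorem chk_pow1_11_11 : tab.minOKc [0, 0, 2, 0, 0, 3] 1 938608 5333 = true := by decide +kernel

theorem chk_pow1_11_12 : tab.minOKc [0, 0, 2, 0, 0, 3] 1 943941 5333 = true := by decide +kernel

theorem chk_pow1_11_13 : tab.minOKc [0, 0, 2, 0, 0, 3] 1 949274 5333 = true := by decide +kernel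

theorem chk_pow1_11_14 : tab.minOKc [0, 0, 2, 0, 0, 3] 1 954607 5333 = true := by decide +kernel

theorem chk_pow1_11 : tab.minOKc [0, 0, 2, 0, 0, 3] 1 879945 79995 = true := by
  refine tab.minOKc_of_chunks [0, 0, 2, 0, 0, 3] 1 879945 5333 15 (by norm_num) ?_
  intro i hi
  interval_cases i
  · exact chk_pow1_11_0
  · exact chk_pow1_11_1
  · exact chk_pow1_11_2
  · exact chk_pow1_11_3
  · exact chk_pow1_11_4
  · exact chk_pow1_11_5
  · exact chk_pow1_11_6
  · exact chk_pow1_11_7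
  · exact chk_pow1_11_8
  · exact chk_pow1_11_9
  · exact chk_pow1_11_10
  · exact chk_pow1_11_11
  · exact chk_pow1_11_12
  · exact chk_pow1_11_13
  · exact chk_pow1_11_14


end Cfsg.Agent.Lib.Lead.HNP.HNTC
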