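import Cfsg.Agent.Lib.Lead.HNP.HNTCData
import Cfsg.Agent.Lib.Helper6.TCRel3
import Cfsg.Agent.Lib.Lead.HNP.HNTCRel7

/-! # HNTC: the kernel check of a part of the relators on the coset table -/

set_option autoImplicit false

namespace Cfsg.Agent.Lib.Lead.HNP.HNTC

open Cfsg.Agent.Lib.Helper6.TC

theorem chk_pow4_2_0 : tab.minOKc [0, 2] 8 480000 16000 = true := by decide +kernel

theorem chk_pow4_2_1 : tab.minOKc [0, 2] 8 496000 16000 = true := by decide +kernel

theorem chk_pow4_2_2 : tab.minOKc [0, 2] 8 512000 16000 = true := by decide +kernel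

theorem chk_pow4_2_3 : tab.minOKc [0, 2] 8 528000 16000 = true := by decide +kernel

theorem chk_pow4_2_4 : tab.minOKc [0, 2] 8 544000 16000 = true := by decide +kernel

theorem chk_pow4_2_5 : tab.minOKc [0, 2] 8 560000 16000 = true := by decide +kernel

theorem chk_pow4_2_6 : tab.minOKc [0, 2] 8 576000 16000 = true := by decide +kernel

theorem chk_pow4_2_7 : tab.minOKc [0, 2] 8 592000 16000 = true := by decide +kernel

theorem chk_pow4_2_8 : tab.minOKc [0, 2] 8 608000 16000 = true := by decide +kernel

theorem chk_pow4_2_9 : tab.minOKc [0, 2] 8 624000 16000 = true := by decide +kernel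

theorem chk_pow4_2_10 : tab.minOKc [0, 2] 8 640000 16000 = true := by decide +kernel

theorem chk_pow4_2_11 : tab.minOKc [0, 2] 8 656000 16000 = true := by decide +kernel

theorem chk_pow4_2_12 : tab.minOKc [0, 2] 8 672000 16000 = true := by decide +kernel

theorem chk_pow4_2_13 : tab.minOKc [0, 2] 8 688000 16000 = true := by decide +kernel

theorem chk_pow4_2_14 : tab.minOKc [0, 2] 8 704000 16000 = true := by decide +kernel

theorem chk_pow4_2 : tab.minOKc [0, 2] 8 480000 240000 = true := by
  refine tab.minOKc_of_chunks [0, 2] 8 480000 16000 15 (by norm_num) ?_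
  intro i hi
  interval_cases i
  · exact chk_pow4_2_0
  · exact chk_pow4_2_1
  · exact chk_pow4_2_2
  · exact chk_pow4_2_3
  · exact chk_pow4_2_4
  · exact chk_pow4_2_5
  · exact chk_pow4_2_6
  · exact chk_pow4_2_7
  · exact chk_pow4_2_8
  · exact chk_pow4_2_9
  · exact chk_pow4_2_10
  · exact chk_pow4_2_11
  · exact chk_pow4_2_12
  · exact chk_pow4_2_13
  · exact chk_pow4_2_14

theorem chk_pow4_3_0 : tab.minOKc [0, 2] 8 720000 16000 = true := by decide +kernel

theorem chk_pow4_3_1 : tab.minOKc [0, 2] 8 736000 16000 = true := by decide +kernel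

theorem chk_pow4_3_2 : tab.minOKc [0, 2] 8 752000 16000 = true := by decide +kernel

theorem chk_pow4_3_3 : tab.minOKc [0, 2] 8 768000 16000 = true := by decide +kernel

theorem chk_pow4_3_4 : tab.minOKc [0, 2] 8 784000 16000 = true := by decide +kernel

theorem chk_pow4_3_5 : tab.minOKc [0, 2] 8 800000 16000 = true := by decide +kernel

theorem chk_pow4_3_6 : tab.minOKc [0, 2] 8 816000 16000 = true := by decide +kernel

theorem chk_pow4_3_7 : tab.minOKc [0, 2] 8 832000 16000 = true := by decide +kernel

theorem chk_pow4_3_8 : tab.minOKc [0, 2] 8 848000 16000 = true := by decide +kernel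

theorem chk_pow4_3_9 : tab.minOKc [0, 2] 8 864000 16000 = true := by decide +kernel

theorem chk_pow4_3_10 : tab.minOKc [0, 2] 8 880000 16000 = true := by decide +kernel

theorem chk_pow4_3_11 : tab.minOKc [0, 2] 8 896000 16000 = true := by decide +kernel

theorem chk_pow4_3_12 : tab.minOKc [0, 2] 8 912000 16000 = true := by decide +kernel

theorem chk_pow4_3_13 : tab.minOKc [0, 2] 8 928000 16000 = true := by decide +kernel

theorem chk_pow4_3_14 : tab.minOKc [0, 2] 8 944000 16000 = true := by decide +kernel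

theorem chk_pow4_3 : tab.minOKc [0, 2] 8 720000 240000 = true := by
  refine tab.minOKc_of_chunks [0, 2] 8 720000 16000 15 (by norm_num) ?_
  intro i hi
  interval_cases i
  · exact chk_pow4_3_0
  · exact chk_pow4_3_1
  · exact chk_pow4_3_2
  · exact chk_pow4_3_3
  · exact chk_pow4_3_4
  · exact chk_pow4_3_5
  · exact chk_pow4_3_6
  · exact chk_pow4_3_7
  · exact chk_pow4_3_8
  · exact chk_pow4_3_9
  · exact chk_pow4_3_10
  · exact chk_pow4_3_11
  · exact chk_pow4_3_12
  · exact chk_pow4_3_13
  · exact chk_pow4_3_14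


end Cfsg.Agent.Lib.Lead.HNP.HNTC
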