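import Cfsg.Agent.Lib.Lead.HNP.HNTCData
import Cfsg.Agent.Lib.Helper6.TCRel3
import Cfsg.Agent.Lib.Lead.HNP.HNTCRel31

/-! # HNTC: the kernel check of a part of the relators on the coset table -/

set_option autoImplicit false

namespace Cfsg.Agent.Lib.Lead.HNP.HNTC

open Cfsg.Agent.Lib.Helper6.TC

theorem chk_pow8_12_0 : tab.minOKc [5, 2, 1, 3, 3, 1, 3, 1, 3, 4, 2, 0, 2, 0, 2, 2, 0, 3, 1, 1] 1 288000 1600 = true := by decide +kernel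

theorem chk_pow8_12_1 : tab.minOKc [5, 2, 1, 3, 3, 1, 3, 1, 3, 4, 2, 0, 2, 0, 2, 2, 0, 3, 1, 1] 1 289600 1600 = true := by decide +kernel

theorem chk_pow8_12_2 : tab.minOKc [5, 2, 1, 3, 3, 1, 3, 1, 3, 4, 2, 0, 2, 0, 2, 2, 0, 3, 1, 1] 1 291200 1600 = true := by decide +kernel

theorem chk_pow8_12_3 : tab.minOKc [5, 2, 1, 3, 3, 1, 3, 1, 3, 4, 2, 0, 2, 0, 2, 2, 0, 3, 1, 1] 1 292800 1600 = true := by decide +kernel

theorem chk_pow8_12_4 : tab.minOKc [5, 2, 1, 3, 3, 1, 3, 1, 3, 4, 2, 0, 2, 0, 2, 2, 0, 3, 1, 1] 1 294400 1600 = true := by decide +kernel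

theorem chk_pow8_12_5 : tab.minOKc [5, 2, 1, 3, 3, 1, 3, 1, 3, 4, 2, 0, 2, 0, 2, 2, 0, 3, 1, 1] 1 296000 1600 = true := by decide +kernel

theorem chk_pow8_12_6 : tab.minOKc [5, 2, 1, 3, 3, 1, 3, 1, 3, 4, 2, 0, 2, 0, 2, 2, 0, 3, 1, 1] 1 297600 1600 = true := by decide +kernel

theorem chk_pow8_12_7 : tab.minOKc [5, 2, 1, 3, 3, 1, 3, 1, 3, 4, 2, 0, 2, 0, 2, 2, 0, 3, 1, 1] 1 299200 1600 = true := by decide +kernel

theorem chk_pow8_12_8 : tab.minOKc [5, 2, 1, 3, 3, 1, 3, 1, 3, 4, 2, 0, 2, 0, 2, 2, 0, 3, 1, 1] 1 300800 1600 = true := by decide +kernel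

theorem chk_pow8_12_9 : tab.minOKc [5, 2, 1, 3, 3, 1, 3, 1, 3, 4, 2, 0, 2, 0, 2, 2, 0, 3, 1, 1] 1 302400 1600 = true := by decide +kernel

theorem chk_pow8_12_10 : tab.minOKc [5, 2, 1, 3, 3, 1, 3, 1, 3, 4, 2, 0, 2, 0, 2, 2, 0, 3, 1, 1] 1 304000 1600 = true := by decide +kernel

theorem chk_pow8_12_11 : tab.minOKc [5, 2, 1, 3, 3, 1, 3, 1, 3, 4, 2, 0, 2, 0, 2, 2, 0, 3, 1, 1] 1 305600 1600 = true := by decide +kernel

theorem chk_pow8_12_12 : tab.minOKc [5, 2, 1, 3, 3, 1, 3, 1, 3, 4, 2, 0, 2, 0, 2, 2, 0, 3, 1, 1] 1 307200 1600 = true := by decide +kernel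

theorem chk_pow8_12_13 : tab.minOKc [5, 2, 1, 3, 3, 1, 3, 1, 3, 4, 2, 0, 2, 0, 2, 2, 0, 3, 1, 1] 1 308800 1600 = true := by decide +kernel

theorem chk_pow8_12_14 : tab.minOKc [5, 2, 1, 3, 3, 1, 3, 1, 3, 4, 2, 0, 2, 0, 2, 2, 0, 3, 1, 1] 1 310400 1600 = true := by decide +kernel

theorem chk_pow8_12 : tab.minOKc [5, 2, 1, 3, 3, 1, 3, 1, 3, 4, 2, 0, 2, 0, 2, 2, 0, 3, 1, 1] 1 288000 24000 = true := by
  refine tab.minOKc_of_chunks [5, 2, 1, 3, 3, 1, 3, 1, 3, 4, 2, 0, 2, 0, 2, 2, 0, 3, 1, 1] 1 288000 1600 15 (by norm_num) ?_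
  intro i hi
  interval_cases i
  · exact chk_pow8_12_0
  · exact chk_pow8_12_1
  · exact chk_pow8_12_2
  · exact chk_pow8_12_3
  · exact chk_pow8_12_4
  · exact chk_pow8_12_5
  · exact chk_pow8_12_6
  · exact chk_pow8_12_7
  · exact chk_pow8_12_8
  · exact chk_pow8_12_9
  · exact chk_pow8_12_10
  · exact chk_pow8_12_11
  · exact chk_pow8_12_12
  · exact chk_pow8_12_13
  · exact chk_pow8_12_14

theorem chk_pow8_13_0 : tab.minOKc [5, 2, 1, 3, 3, 1, 3, 1, 3, 4, 2, 0, 2, 0, 2, 2, 0, 3, 1, 1] 1 312000 1600 = true := by decide +kernel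

theorem chk_pow8_13_1 : tab.minOKc [5, 2, 1, 3, 3, 1, 3, 1, 3, 4, 2, 0, 2, 0, 2, 2, 0, 3, 1, 1] 1 313600 1600 = true := by decide +kernel

theorem chk_pow8_13_2 : tab.minOKc [5, 2, 1, 3, 3, 1, 3, 1, 3, 4, 2, 0, 2, 0, 2, 2, 0, 3, 1, 1] 1 315200 1600 = true := by decide +kernel

theorem chk_pow8_13_3 : tab.minOKc [5, 2, 1, 3, 3, 1, 3, 1, 3, 4, 2, 0, 2, 0, 2, 2, 0, 3, 1, 1] 1 316800 1600 = true := by decide +kernel

theorem chk_pow8_13_4 : tab.minOKc [5, 2, 1, 3, 3, 1, 3, 1, 3, 4, 2, 0, 2, 0, 2, 2, 0, 3, 1, 1] 1 318400 1600 = true := by decide +kernel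

theorem chk_pow8_13_5 : tab.minOKc [5, 2, 1, 3, 3, 1, 3, 1, 3, 4, 2, 0, 2, 0, 2, 2, 0, 3, 1, 1] 1 320000 1600 = true := by decide +kernel

theorem chk_pow8_13_6 : tab.minOKc [5, 2, 1, 3, 3, 1, 3, 1, 3, 4, 2, 0, 2, 0, 2, 2, 0, 3, 1, 1] 1 321600 1600 = true := by decide +kernel

theorem chk_pow8_13_7 : tab.minOKc [5, 2, 1, 3, 3, 1, 3, 1, 3, 4, 2, 0, 2, 0, 2, 2, 0, 3, 1, 1] 1 323200 1600 = true := by decide +kernel

theorem chk_pow8_13_8 : tab.minOKc [5, 2, 1, 3, 3, 1, 3, 1, 3, 4, 2, 0, 2, 0, 2, 2, 0, 3, 1, 1] 1 324800 1600 = true := by decide +kernel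

theorem chk_pow8_13_9 : tab.minOKc [5, 2, 1, 3, 3, 1, 3, 1, 3, 4, 2, 0, 2, 0, 2, 2, 0, 3, 1, 1] 1 326400 1600 = true := by decide +kernel

theorem chk_pow8_13_10 : tab.minOKc [5, 2, 1, 3, 3, 1, 3, 1, 3, 4, 2, 0, 2, 0, 2, 2, 0, 3, 1, 1] 1 328000 1600 = true := by decide +kernel

theorem chk_pow8_13_11 : tab.minOKc [5, 2, 1, 3, 3, 1, 3, 1, 3, 4, 2, 0, 2, 0, 2, 2, 0, 3, 1, 1] 1 329600 1600 = true := by decide +kernel

theorem chk_pow8_13_12 : tab.minOKc [5, 2, 1, 3, 3, 1, 3, 1, 3, 4, 2, 0, 2, 0, 2, 2, 0, 3, 1, 1] 1 331200 1600 = true := by decide +kernel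

theorem chk_pow8_13_13 : tab.minOKc [5, 2, 1, 3, 3, 1, 3, 1, 3, 4, 2, 0, 2, 0, 2, 2, 0, 3, 1, 1] 1 332800 1600 = true := by decide +kernel

theorem chk_pow8_13_14 : tab.minOKc [5, 2, 1, 3, 3, 1, 3, 1, 3, 4, 2, 0, 2, 0, 2, 2, 0, 3, 1, 1] 1 334400 1600 = true := by decide +kernel

theorem chk_pow8_13 : tab.minOKc [5, 2, 1, 3, 3, 1, 3, 1, 3, 4, 2, 0, 2, 0, 2, 2, 0, 3, 1, 1] 1 312000 24000 = true := by
  refine tab.minOKc_of_chunks [5, 2, 1, 3, 3, 1, 3, 1, 3, 4, 2, 0, 2, 0, 2, 2, 0, 3, 1, 1] 1 312000 1600 15 (by norm_num) ?_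
  intro i hi
  interval_cases i
  · exact chk_pow8_13_0
  · exact chk_pow8_13_1
  · exact chk_pow8_13_2
  · exact chk_pow8_13_3
  · exact chk_pow8_13_4
  · exact chk_pow8_13_5
  · exact chk_pow8_13_6
  · exact chk_pow8_13_7
  · exact chk_pow8_13_8
  · exact chk_pow8_13_9
  · exact chk_pow8_13_10
  · exact chk_pow8_13_11
  · exact chk_pow8_13_12
  · exact chk_pow8_13_13
  · exact chk_pow8_13_14


end Cfsg.Agent.Lib.Lead.HNP.HNTC
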