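import Cfsg.Agent.Lib.Lead.HNP.HNTCData
import Cfsg.Agent.Lib.Helper6.TCRel3
import Cfsg.Agent.Lib.Lead.HNP.HNTCRel55

/-! # HNTC: the kernel check of a part of the relators on the coset table -/

set_option autoImplicit false

namespace Cfsg.Agent.Lib.Lead.HNP.HNTC

open Cfsg.Agent.Lib.Helper6.TC

theorem chk_pow8_60_0 : tab.minOKc [5, 2, 1, 3, 3, 1, 3, 1, 3, 4, 2, 0, 2, 0, 2, 2, 0, 3, 1, 1] 1 1440000 1600 = true := by decide +kernel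

theorem chk_pow8_60_1 : tab.minOKc [5, 2, 1, 3, 3, 1, 3, 1, 3, 4, 2, 0, 2, 0, 2, 2, 0, 3, 1, 1] 1 1441600 1600 = true := by decide +kernel

theorem chk_pow8_60_2 : tab.minOKc [5, 2, 1, 3, 3, 1, 3, 1, 3, 4, 2, 0, 2, 0, 2, 2, 0, 3, 1, 1] 1 1443200 1600 = true := by decide +kernel

theorem chk_pow8_60_3 : tab.minOKc [5, 2, 1, 3, 3, 1, 3, 1, 3, 4, 2, 0, 2, 0, 2, 2, 0, 3, 1, 1] 1 1444800 1600 = true := by decide +kernel

theorem chk_pow8_60_4 : tab.minOKc [5, 2, 1, 3, 3, 1, 3, 1, 3, 4, 2, 0, 2, 0, 2, 2, 0, 3, 1, 1] 1 1446400 1600 = true := by decide +kernel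

theorem chk_pow8_60_5 : tab.minOKc [5, 2, 1, 3, 3, 1, 3, 1, 3, 4, 2, 0, 2, 0, 2, 2, 0, 3, 1, 1] 1 1448000 1600 = true := by decide +kernel

theorem chk_pow8_60_6 : tab.minOKc [5, 2, 1, 3, 3, 1, 3, 1, 3, 4, 2, 0, 2, 0, 2, 2, 0, 3, 1, 1] 1 1449600 1600 = true := by decide +kernel

theorem chk_pow8_60_7 : tab.minOKc [5, 2, 1, 3, 3, 1, 3, 1, 3, 4, 2, 0, 2, 0, 2, 2, 0, 3, 1, 1] 1 1451200 1600 = true := by decide +kernel

theorem chk_pow8_60_8 : tab.minOKc [5, 2, 1, 3, 3, 1, 3, 1, 3, 4, 2, 0, 2, 0, 2, 2, 0, 3, 1, 1] 1 1452800 1600 = true := by decide +kernel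

theorem chk_pow8_60_9 : tab.minOKc [5, 2, 1, 3, 3, 1, 3, 1, 3, 4, 2, 0, 2, 0, 2, 2, 0, 3, 1, 1] 1 1454400 1600 = true := by decide +kernel

theorem chk_pow8_60_10 : tab.minOKc [5, 2, 1, 3, 3, 1, 3, 1, 3, 4, 2, 0, 2, 0, 2, 2, 0, 3, 1, 1] 1 1456000 1600 = true := by decide +kernel

theorem chk_pow8_60_11 : tab.minOKc [5, 2, 1, 3, 3, 1, 3, 1, 3, 4, 2, 0, 2, 0, 2, 2, 0, 3, 1, 1] 1 1457600 1600 = true := by decide +kernel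

theorem chk_pow8_60_12 : tab.minOKc [5, 2, 1, 3, 3, 1, 3, 1, 3, 4, 2, 0, 2, 0, 2, 2, 0, 3, 1, 1] 1 1459200 1600 = true := by decide +kernel

theorem chk_pow8_60_13 : tab.minOKc [5, 2, 1, 3, 3, 1, 3, 1, 3, 4, 2, 0, 2, 0, 2, 2, 0, 3, 1, 1] 1 1460800 1600 = true := by decide +kernel

theorem chk_pow8_60_14 : tab.minOKc [5, 2, 1, 3, 3, 1, 3, 1, 3, 4, 2, 0, 2, 0, 2, 2, 0, 3, 1, 1] 1 1462400 1600 = true := by decide +kernel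

theorem chk_pow8_60 : tab.minOKc [5, 2, 1, 3, 3, 1, 3, 1, 3, 4, 2, 0, 2, 0, 2, 2, 0, 3, 1, 1] 1 1440000 24000 = true := by
  refine tab.minOKc_of_chunks [5, 2, 1, 3, 3, 1, 3, 1, 3, 4, 2, 0, 2, 0, 2, 2, 0, 3, 1, 1] 1 1440000 1600 15 (by norm_num) ?_
  intro i hi
  interval_cases i
  · exact chk_pow8_60_0
  · exact chk_pow8_60_1
  · exact chk_pow8_60_2
  · exact chk_pow8_60_3
  · exact chk_pow8_60_4
  · exact chk_pow8_60_5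
  · exact chk_pow8_60_6
  · exact chk_pow8_60_7
  · exact chk_pow8_60_8
  · exact chk_pow8_60_9
  · exact chk_pow8_60_10
  · exact chk_pow8_60_11
  · exact chk_pow8_60_12
  · exact chk_pow8_60_13
  · exact chk_pow8_60_14

theorem chk_pow8_61_0 : tab.minOKc [5, 2, 1, 3, 3, 1, 3, 1, 3, 4, 2, 0, 2, 0, 2, 2, 0, 3, 1, 1] 1 1464000 1600 = true := by decide +kernel

theorem chk_pow8_61_1 : tab.minOKc [5, 2, 1, 3, 3, 1, 3, 1, 3, 4, 2, 0, 2, 0, 2, 2, 0, 3, 1, 1] 1 1465600 1600 = true := by decide +kernel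

theorem chk_pow8_61_2 : tab.minOKc [5, 2, 1, 3, 3, 1, 3, 1, 3, 4, 2, 0, 2, 0, 2, 2, 0, 3, 1, 1] 1 1467200 1600 = true := by decide +kernel

theorem chk_pow8_61_3 : tab.minOKc [5, 2, 1, 3, 3, 1, 3, 1, 3, 4, 2, 0, 2, 0, 2, 2, 0, 3, 1, 1] 1 1468800 1600 = true := by decide +kernel

theorem chk_pow8_61_4 : tab.minOKc [5, 2, 1, 3, 3, 1, 3, 1, 3, 4, 2, 0, 2, 0, 2, 2, 0, 3, 1, 1] 1 1470400 1600 = true := by decide +kernel

theorem chk_pow8_61_5 : tab.minOKc [5, 2, 1, 3, 3, 1, 3, 1, 3, 4, 2, 0, 2, 0, 2, 2, 0, 3, 1, 1] 1 1472000 1600 = true := by decide +kernel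

theorem chk_pow8_61_6 : tab.minOKc [5, 2, 1, 3, 3, 1, 3, 1, 3, 4, 2, 0, 2, 0, 2, 2, 0, 3, 1, 1] 1 1473600 1600 = true := by decide +kernel

theorem chk_pow8_61_7 : tab.minOKc [5, 2, 1, 3, 3, 1, 3, 1, 3, 4, 2, 0, 2, 0, 2, 2, 0, 3, 1, 1] 1 1475200 1600 = true := by decide +kernel

theorem chk_pow8_61_8 : tab.minOKc [5, 2, 1, 3, 3, 1, 3, 1, 3, 4, 2, 0, 2, 0, 2, 2, 0, 3, 1, 1] 1 1476800 1600 = true := by decide +kernel

theorem chk_pow8_61_9 : tab.minOKc [5, 2, 1, 3, 3, 1, 3, 1, 3, 4, 2, 0, 2, 0, 2, 2, 0, 3, 1, 1] 1 1478400 1600 = true := by decide +kernel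

theorem chk_pow8_61_10 : tab.minOKc [5, 2, 1, 3, 3, 1, 3, 1, 3, 4, 2, 0, 2, 0, 2, 2, 0, 3, 1, 1] 1 1480000 1600 = true := by decide +kernel

theorem chk_pow8_61_11 : tab.minOKc [5, 2, 1, 3, 3, 1, 3, 1, 3, 4, 2, 0, 2, 0, 2, 2, 0, 3, 1, 1] 1 1481600 1600 = true := by decide +kernel

theorem chk_pow8_61_12 : tab.minOKc [5, 2, 1, 3, 3, 1, 3, 1, 3, 4, 2, 0, 2, 0, 2, 2, 0, 3, 1, 1] 1 1483200 1600 = true := by decide +kernel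

theorem chk_pow8_61_13 : tab.minOKc [5, 2, 1, 3, 3, 1, 3, 1, 3, 4, 2, 0, 2, 0, 2, 2, 0, 3, 1, 1] 1 1484800 1600 = true := by decide +kernel

theorem chk_pow8_61_14 : tab.minOKc [5, 2, 1, 3, 3, 1, 3, 1, 3, 4, 2, 0, 2, 0, 2, 2, 0, 3, 1, 1] 1 1486400 1600 = true := by decide +kernel

theorem chk_pow8_61 : tab.minOKc [5, 2, 1, 3, 3, 1, 3, 1, 3, 4, 2, 0, 2, 0, 2, 2, 0, 3, 1, 1] 1 1464000 24000 = true := by
  refine tab.minOKc_of_chunks [5, 2, 1, 3, 3, 1, 3, 1, 3, 4, 2, 0, 2, 0, 2, 2, 0, 3, 1, 1] 1 1464000 1600 15 (by norm_num) ?_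
  intro i hi
  interval_cases i
  · exact chk_pow8_61_0
  · exact chk_pow8_61_1
  · exact chk_pow8_61_2
  · exact chk_pow8_61_3
  · exact chk_pow8_61_4
  · exact chk_pow8_61_5
  · exact chk_pow8_61_6
  · exact chk_pow8_61_7
  · exact chk_pow8_61_8
  · exact chk_pow8_61_9
  · exact chk_pow8_61_10
  · exact chk_pow8_61_11
  · exact chk_pow8_61_12
  · exact chk_pow8_61_13
  · exact chk_pow8_61_14


end Cfsg.Agent.Lib.Lead.HNP.HNTC
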