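import Cfsg.Agent.Lib.Lead.HNP.HNTCSCert

/-! # HNTC: the kernel check of the rows from 149448 on -/

set_option autoImplicit false

namespace Cfsg.Agent.Lib.Lead.HNP.HNTC

open Cfsg.Agent.Lib.Helper6.TC Cfsg.Agent.Lib.Helper6.TCGS

theorem chk_rows13_0 : cert.rowsOK 149448 479 = true := by decide +kernel

theorem chk_rows13_1 : cert.rowsOK 149927 479 = true := by decide +kernel

theorem chk_rows13_2 : cert.rowsOK 150406 479 = true := by decide +kernel

theorem chk_rows13_3 : cert.rowsOK 150885 479 = true := by decide +kernel

theorem chk_rows13_4 : cert.rowsOK 151364 479 = true := by decide +kernel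

theorem chk_rows13_5 : cert.rowsOK 151843 479 = true := by decide +kernel

theorem chk_rows13_6 : cert.rowsOK 152322 479 = true := by decide +kernel

theorem chk_rows13_7 : cert.rowsOK 152801 479 = true := by decide +kernel

theorem chk_rows13_8 : cert.rowsOK 153280 479 = true := by decide +kernel

theorem chk_rows13_9 : cert.rowsOK 153759 479 = true := by decide +kernel

theorem chk_rows13_10 : cert.rowsOK 154238 479 = true := by decide +kernel

theorem chk_rows13_11 : cert.rowsOK 154717 479 = true := by decide +kernel

theorem chk_rows13_12 : cert.rowsOK 155196 479 = true := by decide +kernel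

theorem chk_rows13_13 : cert.rowsOK 155675 479 = true := by decide +kernel

theorem chk_rows13_14 : cert.rowsOK 156154 479 = true := by decide +kernel

theorem chk_rows13_15 : cert.rowsOK 156633 479 = true := by decide +kernel

theorem chk_rows13_16 : cert.rowsOK 157112 479 = true := by decide +kernel

theorem chk_rows13_17 : cert.rowsOK 157591 479 = true := by decide +kernel

theorem chk_rows13_18 : cert.rowsOK 158070 479 = true := by decide +kernel

theorem chk_rows13_19 : cert.rowsOK 158549 479 = true := by decide +kernel

theorem chk_rows13_20 : cert.rowsOK 159028 479 = true := by decide +kernel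

theorem chk_rows13_21 : cert.rowsOK 159507 479 = true := by decide +kernel

theorem chk_rows13_22 : cert.rowsOK 159986 479 = true := by decide +kernel

theorem chk_rows13_23 : cert.rowsOK 160465 479 = true := by decide +kernel

theorem chk_range13 : ∀ a, 149448 ≤ a → a < 160944 → ∀ x < cert.c.g, cert.slotOK a x = true := by
  refine cert.range_of_chunks 149448 479 24 (by norm_num) ?_
  intro k hk
  interval_cases k
  · exact chk_rows13_0
  · exact chk_rows13_1
  · exact chk_rows13_2
  · exact chk_rows13_3
  · exact chk_rows13_4
  · exact chk_rows13_5
  · exact chk_rows13_6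
  · exact chk_rows13_7
  · exact chk_rows13_8
  · exact chk_rows13_9
  · exact chk_rows13_10
  · exact chk_rows13_11
  · exact chk_rows13_12
  · exact chk_rows13_13
  · exact chk_rows13_14
  · exact chk_rows13_15
  · exact chk_rows13_16
  · exact chk_rows13_17
  · exact chk_rows13_18
  · exact chk_rows13_19
  · exact chk_rows13_20
  · exact chk_rows13_21
  · exact chk_rows13_22
  · exact chk_rows13_23

end Cfsg.Agent.Lib.Lead.HNP.HNTC
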