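import Cfsg.Agent.Lib.Lead.HNP.HNTCSCert
import Cfsg.Agent.Lib.Lead.HNP.HNTCSRows13

/-! # HNTC: the kernel check of the rows from 425352 on -/

set_option autoImplicit false

namespace Cfsg.Agent.Lib.Lead.HNP.HNTC

open Cfsg.Agent.Lib.Helper6.TC Cfsg.Agent.Lib.Helper6.TCGS

theorem chk_rows37_0 : cert.rowsOK 425352 479 = true := by decide +kernel

theorem chk_rows37_1 : cert.rowsOK 425831 479 = true := by decide +kernel

theorem chk_rows37_2 : cert.rowsOK 426310 479 = true := by decide +kernel

theorem chk_rows37_3 : cert.rowsOK 426789 479 = true := by decide +kernel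

theorem chk_rows37_4 : cert.rowsOK 427268 479 = true := by decide +kernel

theorem chk_rows37_5 : cert.rowsOK 427747 479 = true := by decide +kernel

theorem chk_rows37_6 : cert.rowsOK 428226 479 = true := by decide +kernel

theorem chk_rows37_7 : cert.rowsOK 428705 479 = true := by decide +kernel

theorem chk_rows37_8 : cert.rowsOK 429184 479 = true := by decide +kernel

theorem chk_rows37_9 : cert.rowsOK 429663 479 = true := by decide +kernel

theorem chk_rows37_10 : cert.rowsOK 430142 479 = true := by decide +kernel

theorem chk_rows37_11 : cert.rowsOK 430621 479 = true := by decide +kernel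

theorem chk_rows37_12 : cert.rowsOK 431100 479 = true := by decide +kernel

theorem chk_rows37_13 : cert.rowsOK 431579 479 = true := by decide +kernel

theorem chk_rows37_14 : cert.rowsOK 432058 479 = true := by decide +kernel

theorem chk_rows37_15 : cert.rowsOK 432537 479 = true := by decide +kernel

theorem chk_rows37_16 : cert.rowsOK 433016 479 = true := by decide +kernel

theorem chk_rows37_17 : cert.rowsOK 433495 479 = true := by decide +kernel

theorem chk_rows37_18 : cert.rowsOK 433974 479 = true := by decide +kernel

theorem chk_rows37_19 : cert.rowsOK 434453 479 = true := by decide +kernel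

theorem chk_rows37_20 : cert.rowsOK 434932 479 = true := by decide +kernel

theorem chk_rows37_21 : cert.rowsOK 435411 479 = true := by decide +kernel

theorem chk_rows37_22 : cert.rowsOK 435890 479 = true := by decide +kernel

theorem chk_rows37_23 : cert.rowsOK 436369 479 = true := by decide +kernel

theorem chk_range37 : ∀ a, 425352 ≤ a → a < 436848 → ∀ x < cert.c.g, cert.slotOK a x = true := by
  refine cert.range_of_chunks 425352 479 24 (by norm_num) ?_
  intro k hk
  interval_cases k
  · exact chk_rows37_0
  · exact chk_rows37_1
  · exact chk_rows37_2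
  · exact chk_rows37_3
  · exact chk_rows37_4
  · exact chk_rows37_5
  · exact chk_rows37_6
  · exact chk_rows37_7
  · exact chk_rows37_8
  · exact chk_rows37_9
  · exact chk_rows37_10
  · exact chk_rows37_11
  · exact chk_rows37_12
  · exact chk_rows37_13
  · exact chk_rows37_14
  · exact chk_rows37_15
  · exact chk_rows37_16
  · exact chk_rows37_17
  · exact chk_rows37_18
  · exact chk_rows37_19
  · exact chk_rows37_20
  · exact chk_rows37_21
  · exact chk_rows37_22
  · exact chk_rows37_23

end Cfsg.Agent.Lib.Lead.HNP.HNTC
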