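import Cfsg.Agent.Lib.Lead.HNP.HNTCSCert
import Cfsg.Agent.Lib.Lead.HNP.HNTCSRows37

/-! # HNTC: the kernel check of the rows from 701256 on -/

set_option autoImplicit false

namespace Cfsg.Agent.Lib.Lead.HNP.HNTC

open Cfsg.Agent.Lib.Helper6.TC Cfsg.Agent.Lib.Helper6.TCGS

theorem chk_rows61_0 : cert.rowsOK 701256 479 = true := by decide +kernel

theorem chk_rows61_1 : cert.rowsOK 701735 479 = true := by decide +kernel

theorem chk_rows61_2 : cert.rowsOK 702214 479 = true := by decide +kernel

theorem chk_rows61_3 : cert.rowsOK 702693 479 = true := by decide +kernel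

theorem chk_rows61_4 : cert.rowsOK 703172 479 = true := by decide +kernel

theorem chk_rows61_5 : cert.rowsOK 703651 479 = true := by decide +kernel

theorem chk_rows61_6 : cert.rowsOK 704130 479 = true := by decide +kernel

theorem chk_rows61_7 : cert.rowsOK 704609 479 = true := by decide +kernel

theorem chk_rows61_8 : cert.rowsOK 705088 479 = true := by decide +kernel

theorem chk_rows61_9 : cert.rowsOK 705567 479 = true := by decide +kernel

theorem chk_rows61_10 : cert.rowsOK 706046 479 = true := by decide +kernel

theorem chk_rows61_11 : cert.rowsOK 706525 479 = true := by decide +kernel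

theorem chk_rows61_12 : cert.rowsOK 707004 479 = true := by decide +kernel

theorem chk_rows61_13 : cert.rowsOK 707483 479 = true := by decide +kernel

theorem chk_rows61_14 : cert.rowsOK 707962 479 = true := by decide +kernel

theorem chk_rows61_15 : cert.rowsOK 708441 479 = true := by decide +kernel

theorem chk_rows61_16 : cert.rowsOK 708920 479 = true := by decide +kernel

theorem chk_rows61_17 : cert.rowsOK 709399 479 = true := by decide +kernel

theorem chk_rows61_18 : cert.rowsOK 709878 479 = true := by decide +kernel

theorem chk_rows61_19 : cert.rowsOK 710357 479 = true := by decide +kernel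

theorem chk_rows61_20 : cert.rowsOK 710836 479 = true := by decide +kernel

theorem chk_rows61_21 : cert.rowsOK 711315 479 = true := by decide +kernel

theorem chk_rows61_22 : cert.rowsOK 711794 479 = true := by decide +kernel

theorem chk_rows61_23 : cert.rowsOK 712273 479 = true := by decide +kernel

theorem chk_range61 : ∀ a, 701256 ≤ a → a < 712752 → ∀ x < cert.c.g, cert.slotOK a x = true := by
  refine cert.range_of_chunks 701256 479 24 (by norm_num) ?_
  intro k hk
  interval_cases k
  · exact chk_rows61_0
  · exact chk_rows61_1
  · exact chk_rows61_2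
  · exact chk_rows61_3
  · exact chk_rows61_4
  · exact chk_rows61_5
  · exact chk_rows61_6
  · exact chk_rows61_7
  · exact chk_rows61_8
  · exact chk_rows61_9
  · exact chk_rows61_10
  · exact chk_rows61_11
  · exact chk_rows61_12
  · exact chk_rows61_13
  · exact chk_rows61_14
  · exact chk_rows61_15
  · exact chk_rows61_16
  · exact chk_rows61_17
  · exact chk_rows61_18
  · exact chk_rows61_19
  · exact chk_rows61_20
  · exact chk_rows61_21
  · exact chk_rows61_22
  · exact chk_rows61_23

end Cfsg.Agent.Lib.Lead.HNP.HNTC
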