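import Cfsg.Agent.Lib.Lead.HNP.HNTCSCert
import Cfsg.Agent.Lib.Lead.HNP.HNTCSRows61

/-! # HNTC: the kernel check of the rows from 977160 on -/

set_option autoImplicit false

namespace Cfsg.Agent.Lib.Lead.HNP.HNTC

open Cfsg.Agent.Lib.Helper6.TC Cfsg.Agent.Lib.Helper6.TCGS

theorem chk_rows85_0 : cert.rowsOK 977160 479 = true := by decide +kernel

theorem chk_rows85_1 : cert.rowsOK 977639 479 = true := by decide +kernel

theorem chk_rows85_2 : cert.rowsOK 978118 479 = true := by decide +kernel

theorem chk_rows85_3 : cert.rowsOK 978597 479 = true := by decide +kernel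

theorem chk_rows85_4 : cert.rowsOK 979076 479 = true := by decide +kernel

theorem chk_rows85_5 : cert.rowsOK 979555 479 = true := by decide +kernel

theorem chk_rows85_6 : cert.rowsOK 980034 479 = true := by decide +kernel

theorem chk_rows85_7 : cert.rowsOK 980513 479 = true := by decide +kernel

theorem chk_rows85_8 : cert.rowsOK 980992 479 = true := by decide +kernel

theorem chk_rows85_9 : cert.rowsOK 981471 479 = true := by decide +kernel

theorem chk_rows85_10 : cert.rowsOK 981950 479 = true := by decide +kernel

theorem chk_rows85_11 : cert.rowsOK 982429 479 = true := by decide +kernel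

theorem chk_rows85_12 : cert.rowsOK 982908 479 = true := by decide +kernel

theorem chk_rows85_13 : cert.rowsOK 983387 479 = true := by decide +kernel

theorem chk_rows85_14 : cert.rowsOK 983866 479 = true := by decide +kernel

theorem chk_rows85_15 : cert.rowsOK 984345 479 = true := by decide +kernel

theorem chk_rows85_16 : cert.rowsOK 984824 479 = true := by decide +kernel

theorem chk_rows85_17 : cert.rowsOK 985303 479 = true := by decide +kernel

theorem chk_rows85_18 : cert.rowsOK 985782 479 = true := by decide +kernel

theorem chk_rows85_19 : cert.rowsOK 986261 479 = true := by decide +kernel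

theorem chk_rows85_20 : cert.rowsOK 986740 479 = true := by decide +kernel

theorem chk_rows85_21 : cert.rowsOK 987219 479 = true := by decide +kernel

theorem chk_rows85_22 : cert.rowsOK 987698 479 = true := by decide +kernel

theorem chk_rows85_23 : cert.rowsOK 988177 479 = true := by decide +kernel

theorem chk_range85 : ∀ a, 977160 ≤ a → a < 988656 → ∀ x < cert.c.g, cert.slotOK a x = true := by
  refine cert.range_of_chunks 977160 479 24 (by norm_num) ?_
  intro k hk
  interval_cases k
  · exact chk_rows85_0
  · exact chk_rows85_1
  · exact chk_rows85_2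
  · exact chk_rows85_3
  · exact chk_rows85_4
  · exact chk_rows85_5
  · exact chk_rows85_6
  · exact chk_rows85_7
  · exact chk_rows85_8
  · exact chk_rows85_9
  · exact chk_rows85_10
  · exact chk_rows85_11
  · exact chk_rows85_12
  · exact chk_rows85_13
  · exact chk_rows85_14
  · exact chk_rows85_15
  · exact chk_rows85_16
  · exact chk_rows85_17
  · exact chk_rows85_18
  · exact chk_rows85_19
  · exact chk_rows85_20
  · exact chk_rows85_21
  · exact chk_rows85_22
  · exact chk_rows85_23

end Cfsg.Agent.Lib.Lead.HNP.HNTC
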