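import Cfsg.Agent.Lib.Lead.HNP.HNTCSCert
import Cfsg.Agent.Lib.Lead.HNP.HNTCSRows85

/-! # HNTC: the kernel check of the rows from 1253064 on -/

set_option autoImplicit false

namespace Cfsg.Agent.Lib.Lead.HNP.HNTC

open Cfsg.Agent.Lib.Helper6.TC Cfsg.Agent.Lib.Helper6.TCGS

theorem chk_rows109_0 : cert.rowsOK 1253064 479 = true := by decide +kernel

theorem chk_rows109_1 : cert.rowsOK 1253543 479 = true := by decide +kernel

theorem chk_rows109_2 : cert.rowsOK 1254022 479 = true := by decide +kernel

theorem chk_rows109_3 : cert.rowsOK 1254501 479 = true := by decide +kernel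

theorem chk_rows109_4 : cert.rowsOK 1254980 479 = true := by decide +kernel

theorem chk_rows109_5 : cert.rowsOK 1255459 479 = true := by decide +kernel

theorem chk_rows109_6 : cert.rowsOK 1255938 479 = true := by decide +kernel

theorem chk_rows109_7 : cert.rowsOK 1256417 479 = true := by decide +kernel

theorem chk_rows109_8 : cert.rowsOK 1256896 479 = true := by decide +kernel

theorem chk_rows109_9 : cert.rowsOK 1257375 479 = true := by decide +kernel

theorem chk_rows109_10 : cert.rowsOK 1257854 479 = true := by decide +kernel

theorem chk_rows109_11 : cert.rowsOK 1258333 479 = true := by decide +kernel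

theorem chk_rows109_12 : cert.rowsOK 1258812 479 = true := by decide +kernel

theorem chk_rows109_13 : cert.rowsOK 1259291 479 = true := by decide +kernel

theorem chk_rows109_14 : cert.rowsOK 1259770 479 = true := by decide +kernel

theorem chk_rows109_15 : cert.rowsOK 1260249 479 = true := by decide +kernel

theorem chk_rows109_16 : cert.rowsOK 1260728 479 = true := by decide +kernel

theorem chk_rows109_17 : cert.rowsOK 1261207 479 = true := by decide +kernel

theorem chk_rows109_18 : cert.rowsOK 1261686 479 = true := by decide +kernel

theorem chk_rows109_19 : cert.rowsOK 1262165 479 = true := by decide +kernel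

theorem chk_rows109_20 : cert.rowsOK 1262644 479 = true := by decide +kernel

theorem chk_rows109_21 : cert.rowsOK 1263123 479 = true := by decide +kernel

theorem chk_rows109_22 : cert.rowsOK 1263602 479 = true := by decide +kernel

theorem chk_rows109_23 : cert.rowsOK 1264081 479 = true := by decide +kernel

theorem chk_range109 : ∀ a, 1253064 ≤ a → a < 1264560 → ∀ x < cert.c.g, cert.slotOK a x = true := by
  refine cert.range_of_chunks 1253064 479 24 (by norm_num) ?_
  intro k hk
  interval_cases k
  · exact chk_rows109_0
  · exact chk_rows109_1
  · exact chk_rows109_2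
  · exact chk_rows109_3
  · exact chk_rows109_4
  · exact chk_rows109_5
  · exact chk_rows109_6
  · exact chk_rows109_7
  · exact chk_rows109_8
  · exact chk_rows109_9
  · exact chk_rows109_10
  · exact chk_rows109_11
  · exact chk_rows109_12
  · exact chk_rows109_13
  · exact chk_rows109_14
  · exact chk_rows109_15
  · exact chk_rows109_16
  · exact chk_rows109_17
  · exact chk_rows109_18
  · exact chk_rows109_19
  · exact chk_rows109_20
  · exact chk_rows109_21
  · exact chk_rows109_22
  · exact chk_rows109_23

end Cfsg.Agent.Lib.Lead.HNP.HNTC
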