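import Cfsg.Agent.Lib.Lead.HNP.HNTCSCert
import Cfsg.Agent.Lib.Lead.HNP.HNTCSRows109

/-! # HNTC: the kernel check of the rows from 1528968 on -/

set_option autoImplicit false

namespace Cfsg.Agent.Lib.Lead.HNP.HNTC

open Cfsg.Agent.Lib.Helper6.TC Cfsg.Agent.Lib.Helper6.TCGS

theorem chk_rows133_0 : cert.rowsOK 1528968 479 = true := by decide +kernel

theorem chk_rows133_1 : cert.rowsOK 1529447 479 = true := by decide +kernel

theorem chk_rows133_2 : cert.rowsOK 1529926 479 = true := by decide +kernel

theorem chk_rows133_3 : cert.rowsOK 1530405 479 = true := by decide +kernel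

theorem chk_rows133_4 : cert.rowsOK 1530884 479 = true := by decide +kernel

theorem chk_rows133_5 : cert.rowsOK 1531363 479 = true := by decide +kernel

theorem chk_rows133_6 : cert.rowsOK 1531842 479 = true := by decide +kernel

theorem chk_rows133_7 : cert.rowsOK 1532321 479 = true := by decide +kernel

theorem chk_rows133_8 : cert.rowsOK 1532800 479 = true := by decide +kernel

theorem chk_rows133_9 : cert.rowsOK 1533279 479 = true := by decide +kernel

theorem chk_rows133_10 : cert.rowsOK 1533758 479 = true := by decide +kernel

theorem chk_rows133_11 : cert.rowsOK 1534237 479 = true := by decide +kernel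

theorem chk_rows133_12 : cert.rowsOK 1534716 479 = true := by decide +kernel

theorem chk_rows133_13 : cert.rowsOK 1535195 479 = true := by decide +kernel

theorem chk_rows133_14 : cert.rowsOK 1535674 479 = true := by decide +kernel

theorem chk_rows133_15 : cert.rowsOK 1536153 479 = true := by decide +kernel

theorem chk_rows133_16 : cert.rowsOK 1536632 479 = true := by decide +kernel

theorem chk_rows133_17 : cert.rowsOK 1537111 479 = true := by decide +kernel

theorem chk_rows133_18 : cert.rowsOK 1537590 479 = true := by decide +kernel

theorem chk_rows133_19 : cert.rowsOK 1538069 479 = true := by decide +kernel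

theorem chk_rows133_20 : cert.rowsOK 1538548 479 = true := by decide +kernel

theorem chk_rows133_21 : cert.rowsOK 1539027 479 = true := by decide +kernel

theorem chk_rows133_22 : cert.rowsOK 1539506 479 = true := by decide +kernel

theorem chk_rows133_23 : cert.rowsOK 1539985 479 = true := by decide +kernel

theorem chk_range133 : ∀ a, 1528968 ≤ a → a < 1540464 → ∀ x < cert.c.g, cert.slotOK a x = true := by
  refine cert.range_of_chunks 1528968 479 24 (by norm_num) ?_
  intro k hk
  interval_cases k
  · exact chk_rows133_0
  · exact chk_rows133_1
  · exact chk_rows133_2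
  · exact chk_rows133_3
  · exact chk_rows133_4
  · exact chk_rows133_5
  · exact chk_rows133_6
  · exact chk_rows133_7
  · exact chk_rows133_8
  · exact chk_rows133_9
  · exact chk_rows133_10
  · exact chk_rows133_11
  · exact chk_rows133_12
  · exact chk_rows133_13
  · exact chk_rows133_14
  · exact chk_rows133_15
  · exact chk_rows133_16
  · exact chk_rows133_17
  · exact chk_rows133_18
  · exact chk_rows133_19
  · exact chk_rows133_20
  · exact chk_rows133_21
  · exact chk_rows133_22
  · exact chk_rows133_23

end Cfsg.Agent.Lib.Lead.HNP.HNTC
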