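import Cfsg.Agent.Lib.Lead.HNP.HNTCSCert
import Cfsg.Agent.Lib.Helper6.TCGIndex
import Cfsg.Agent.Lib.Lead.HNP.HNTCSRows133

/-! # HNTC: the kernel check that the first rows are closed, part 23 -/

set_option autoImplicit false

namespace Cfsg.Agent.Lib.Lead.HNP.HNTC

open Cfsg.Agent.Lib.Helper6.TC Cfsg.Agent.Lib.Helper6.TCGS

theorem chk_fin207 : cert.finalOKc 1539000 414000 2000 = true := by decide +kernel

theorem chk_fin208 : cert.finalOKc 1539000 416000 2000 = true := by decide +kernel

theorem chk_fin209 : cert.finalOKc 1539000 418000 2000 = true := by decide +kernel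

theorem chk_fin210 : cert.finalOKc 1539000 420000 2000 = true := by decide +kernel

theorem chk_fin211 : cert.finalOKc 1539000 422000 2000 = true := by decide +kernel

theorem chk_fin212 : cert.finalOKc 1539000 424000 2000 = true := by decide +kernel

theorem chk_fin213 : cert.finalOKc 1539000 426000 2000 = true := by decide +kernel

theorem chk_fin214 : cert.finalOKc 1539000 428000 2000 = true := by decide +kernel

theorem chk_fin215 : cert.finalOKc 1539000 430000 2000 = true := by decide +kernel


end Cfsg.Agent.Lib.Lead.HNP.HNTC
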