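import Cfsg.Agent.Lib.Lead.HNP.HNTCSCert
import Cfsg.Agent.Lib.Helper6.TCGIndex
import Cfsg.Agent.Lib.Lead.HNP.HNTCSFin23

/-! # HNTC: the kernel check that the first rows are closed, part 47 -/

set_option autoImplicit false

namespace Cfsg.Agent.Lib.Lead.HNP.HNTC

open Cfsg.Agent.Lib.Helper6.TC Cfsg.Agent.Lib.Helper6.TCGS

theorem chk_fin423 : cert.finalOKc 1539000 846000 2000 = true := by decide +kernel

theorem chk_fin424 : cert.finalOKc 1539000 848000 2000 = true := by decide +kernel

theorem chk_fin425 : cert.finalOKc 1539000 850000 2000 = true := by decide +kernel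

theorem chk_fin426 : cert.finalOKc 1539000 852000 2000 = true := by decide +kernel

theorem chk_fin427 : cert.finalOKc 1539000 854000 2000 = true := by decide +kernel

theorem chk_fin428 : cert.finalOKc 1539000 856000 2000 = true := by decide +kernel

theorem chk_fin429 : cert.finalOKc 1539000 858000 2000 = true := by decide +kernel

theorem chk_fin430 : cert.finalOKc 1539000 860000 2000 = true := by decide +kernel

theorem chk_fin431 : cert.finalOKc 1539000 862000 2000 = true := by decide +kernel


end Cfsg.Agent.Lib.Lead.HNP.HNTC
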