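import Cfsg.Agent.Lib.Lead.HNP.HNTCSCert
import Cfsg.Agent.Lib.Helper6.TCGIndex
import Cfsg.Agent.Lib.Lead.HNP.HNTCSFin47

/-! # HNTC: the kernel check that the first rows are closed, part 71 -/

set_option autoImplicit false

namespace Cfsg.Agent.Lib.Lead.HNP.HNTC

open Cfsg.Agent.Lib.Helper6.TC Cfsg.Agent.Lib.Helper6.TCGS

theorem chk_fin639 : cert.finalOKc 1539000 1278000 2000 = true := by decide +kernel

theorem chk_fin640 : cert.finalOKc 1539000 1280000 2000 = true := by decide +kernel

theorem chk_fin641 : cert.finalOKc 1539000 1282000 2000 = true := by decide +kernel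

theorem chk_fin642 : cert.finalOKc 1539000 1284000 2000 = true := by decide +kernel

theorem chk_fin643 : cert.finalOKc 1539000 1286000 2000 = true := by decide +kernel

theorem chk_fin644 : cert.finalOKc 1539000 1288000 2000 = true := by decide +kernel

theorem chk_fin645 : cert.finalOKc 1539000 1290000 2000 = true := by decide +kernel

theorem chk_fin646 : cert.finalOKc 1539000 1292000 2000 = true := by decide +kernel

theorem chk_fin647 : cert.finalOKc 1539000 1294000 2000 = true := by decide +kernel


end Cfsg.Agent.Lib.Lead.HNP.HNTC
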