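import Cfsg.Agent.Lib.Lead.HNP.HNTCData
import Cfsg.Agent.Lib.Helper6.TCRel3
import Cfsg.Agent.Lib.Lead.HNP.HNTCSFin71

/-! # HNTC: the kernel check of a part of the relators on the coset table -/

set_option autoImplicit false

namespace Cfsg.Agent.Lib.Lead.HNP.HNTC

open Cfsg.Agent.Lib.Helper6.TC

theorem chk_pow1_14_0 : tab.minOKc [0, 0, 2, 0, 0, 3] 1 1119930 5333 = true := by decide +kernel

theorem chk_pow1_14_1 : tab.minOKc [0, 0, 2, 0, 0, 3] 1 1125263 5333 = true := by decide +kernel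

theorem chk_pow1_14_2 : tab.minOKc [0, 0, 2, 0, 0, 3] 1 1130596 5333 = true := by decide +kernel

theorem chk_pow1_14_3 : tab.minOKc [0, 0, 2, 0, 0, 3] 1 1135929 5333 = true := by decide +kernel

theorem chk_pow1_14_4 : tab.minOKc [0, 0, 2, 0, 0, 3] 1 1141262 5333 = true := by decide +kernel

theorem chk_pow1_14_5 : tab.minOKc [0, 0, 2, 0, 0, 3] 1 1146595 5333 = true := by decide +kernel

theorem chk_pow1_14_6 : tab.minOKc [0, 0, 2, 0, 0, 3] 1 1151928 5333 = true := by decide +kernel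

theorem chk_pow1_14_7 : tab.minOKc [0, 0, 2, 0, 0, 3] 1 1157261 5333 = true := by decide +kernel

theorem chk_pow1_14_8 : tab.minOKc [0, 0, 2, 0, 0, 3] 1 1162594 5333 = true := by decide +kernel

theorem chk_pow1_14_9 : tab.minOKc [0, 0, 2, 0, 0, 3] 1 1167927 5333 = true := by decide +kernel

theorem chk_pow1_14_10 : tab.minOKc [0, 0, 2, 0, 0, 3] 1 1173260 5333 = true := by decide +kernel

theorem chk_pow1_14_11 : tab.minOKc [0, 0, 2, 0, 0, 3] 1 1178593 5333 = true := by decide +kernel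

theorem chk_pow1_14_12 : tab.minOKc [0, 0, 2, 0, 0, 3] 1 1183926 5333 = true := by decide +kernel

theorem chk_pow1_14_13 : tab.minOKc [0, 0, 2, 0, 0, 3] 1 1189259 5333 = true := by decide +kernel

theorem chk_pow1_14_14 : tab.minOKc [0, 0, 2, 0, 0, 3] 1 1194592 5333 = true := by decide +kernel

theorem chk_pow1_14 : tab.minOKc [0, 0, 2, 0, 0, 3] 1 1119930 79995 = true := by
  refine tab.minOKc_of_chunks [0, 0, 2, 0, 0, 3] 1 1119930 5333 15 (by norm_num) ?_
  intro i hi
  interval_cases i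
  · exact chk_pow1_14_0
  · exact chk_pow1_14_1
  · exact chk_pow1_14_2
  · exact chk_pow1_14_3
  · exact chk_pow1_14_4
  · exact chk_pow1_14_5
  · exact chk_pow1_14_6
  · exact chk_pow1_14_7
  · exact chk_pow1_14_8
  · exact chk_pow1_14_9
  · exact chk_pow1_14_10
  · exact chk_pow1_14_11
  · exact chk_pow1_14_12
  · exact chk_pow1_14_13
  · exact chk_pow1_14_14

theorem chk_pow1_15_0 : tab.minOKc [0, 0, 2, 0, 0, 3] 1 1199925 5333 = true := by decide +kernel

theorem chk_pow1_15_1 : tab.minOKc [0, 0, 2, 0, 0, 3] 1 1205258 5333 = true := by decide +kernel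

theorem chk_pow1_15_2 : tab.minOKc [0, 0, 2, 0, 0, 3] 1 1210591 5333 = true := by decide +kernel

theorem chk_pow1_15_3 : tab.minOKc [0, 0, 2, 0, 0, 3] 1 1215924 5333 = true := by decide +kernel

theorem chk_pow1_15_4 : tab.minOKc [0, 0, 2, 0, 0, 3] 1 1221257 5333 = true := by decide +kernel

theorem chk_pow1_15_5 : tab.minOKc [0, 0, 2, 0, 0, 3] 1 1226590 5333 = true := by decide +kernel

theorem chk_pow1_15_6 : tab.minOKc [0, 0, 2, 0, 0, 3] 1 1231923 5333 = true := by decide +kernel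

theorem chk_pow1_15_7 : tab.minOKc [0, 0, 2, 0, 0, 3] 1 1237256 5333 = true := by decide +kernel

theorem chk_pow1_15_8 : tab.minOKc [0, 0, 2, 0, 0, 3] 1 1242589 5333 = true := by decide +kernel

theorem chk_pow1_15_9 : tab.minOKc [0, 0, 2, 0, 0, 3] 1 1247922 5333 = true := by decide +kernel

theorem chk_pow1_15_10 : tab.minOKc [0, 0, 2, 0, 0, 3] 1 1253255 5333 = true := by decide +kernel

theorem chk_pow1_15_11 : tab.minOKc [0, 0, 2, 0, 0, 3] 1 1258588 5333 = true := by decide +kernel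

theorem chk_pow1_15_12 : tab.minOKc [0, 0, 2, 0, 0, 3] 1 1263921 5333 = true := by decide +kernel

theorem chk_pow1_15_13 : tab.minOKc [0, 0, 2, 0, 0, 3] 1 1269254 5333 = true := by decide +kernel

theorem chk_pow1_15_14 : tab.minOKc [0, 0, 2, 0, 0, 3] 1 1274587 5333 = true := by decide +kernel

theorem chk_pow1_15 : tab.minOKc [0, 0, 2, 0, 0, 3] 1 1199925 79995 = true := by
  refine tab.minOKc_of_chunks [0, 0, 2, 0, 0, 3] 1 1199925 5333 15 (by norm_num) ?_
  intro i hi
  interval_cases i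
  · exact chk_pow1_15_0
  · exact chk_pow1_15_1
  · exact chk_pow1_15_2
  · exact chk_pow1_15_3
  · exact chk_pow1_15_4
  · exact chk_pow1_15_5
  · exact chk_pow1_15_6
  · exact chk_pow1_15_7
  · exact chk_pow1_15_8
  · exact chk_pow1_15_9
  · exact chk_pow1_15_10
  · exact chk_pow1_15_11
  · exact chk_pow1_15_12
  · exact chk_pow1_15_13
  · exact chk_pow1_15_14


end Cfsg.Agent.Lib.Lead.HNP.HNTC
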