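import Cfsg.Agent.Lib.Lead.HNP.HNTCData
import Cfsg.Agent.Lib.Helper6.TCRel3
import Cfsg.Agent.Lib.Lead.HNP.HNTCRel9

/-! # HNTC: the kernel check of a part of the relators on the coset table -/

set_option autoImplicit false

namespace Cfsg.Agent.Lib.Lead.HNP.HNTC

open Cfsg.Agent.Lib.Helper6.TC

theorem chk_pow4_6_0 : tab.minOKc [0, 2] 8 1440000 16000 = true := by decide +kernel

theorem chk_pow4_6_1 : tab.minOKc [0, 2] 8 1456000 16000 = true := by decide +kernel

theorem chk_pow4_6_2 : tab.minOKc [0, 2] 8 1472000 16000 = true := by decide +kernel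

theorem chk_pow4_6_3 : tab.minOKc [0, 2] 8 1488000 16000 = true := by decide +kernel

theorem chk_pow4_6_4 : tab.minOKc [0, 2] 8 1504000 16000 = true := by decide +kernel

theorem chk_pow4_6_5 : tab.minOKc [0, 2] 8 1520000 16000 = true := by decide +kernel

theorem chk_pow4_6_6 : tab.minOKc [0, 2] 8 1536000 16000 = true := by decide +kernel

theorem chk_pow4_6_7 : tab.minOKc [0, 2] 8 1552000 16000 = true := by decide +kernel

theorem chk_pow4_6_8 : tab.minOKc [0, 2] 8 1568000 16000 = true := by decide +kernel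

theorem chk_pow4_6_9 : tab.minOKc [0, 2] 8 1584000 16000 = true := by decide +kernel

theorem chk_pow4_6_10 : tab.minOKc [0, 2] 8 1600000 16000 = true := by decide +kernel

theorem chk_pow4_6_11 : tab.minOKc [0, 2] 8 1616000 16000 = true := by decide +kernel

theorem chk_pow4_6_12 : tab.minOKc [0, 2] 8 1632000 16000 = true := by decide +kernel

theorem chk_pow4_6_13 : tab.minOKc [0, 2] 8 1648000 16000 = true := by decide +kernel

theorem chk_pow4_6_14 : tab.minOKc [0, 2] 8 1664000 16000 = true := by decide +kernel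

theorem chk_pow4_6 : tab.minOKc [0, 2] 8 1440000 240000 = true := by
  refine tab.minOKc_of_chunks [0, 2] 8 1440000 16000 15 (by norm_num) ?_
  intro i hi
  interval_cases i
  · exact chk_pow4_6_0
  · exact chk_pow4_6_1
  · exact chk_pow4_6_2
  · exact chk_pow4_6_3
  · exact chk_pow4_6_4
  · exact chk_pow4_6_5
  · exact chk_pow4_6_6
  · exact chk_pow4_6_7
  · exact chk_pow4_6_8
  · exact chk_pow4_6_9
  · exact chk_pow4_6_10
  · exact chk_pow4_6_11
  · exact chk_pow4_6_12
  · exact chk_pow4_6_13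
  · exact chk_pow4_6_14

theorem chk_pow5_0_0 : tab.minOKc [0, 2, 0, 2, 2, 2] 4 0 5333 = true := by decide +kernel

theorem chk_pow5_0_1 : tab.minOKc [0, 2, 0, 2, 2, 2] 4 5333 5333 = true := by decide +kernel

theorem chk_pow5_0_2 : tab.minOKc [0, 2, 0, 2, 2, 2] 4 10666 5333 = true := by decide +kernel

theorem chk_pow5_0_3 : tab.minOKc [0, 2, 0, 2, 2, 2] 4 15999 5333 = true := by decide +kernel

theorem chk_pow5_0_4 : tab.minOKc [0, 2, 0, 2, 2, 2] 4 21332 5333 = true := by decide +kernel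

theorem chk_pow5_0_5 : tab.minOKc [0, 2, 0, 2, 2, 2] 4 26665 5333 = true := by decide +kernel

theorem chk_pow5_0_6 : tab.minOKc [0, 2, 0, 2, 2, 2] 4 31998 5333 = true := by decide +kernel

theorem chk_pow5_0_7 : tab.minOKc [0, 2, 0, 2, 2, 2] 4 37331 5333 = true := by decide +kernel

theorem chk_pow5_0_8 : tab.minOKc [0, 2, 0, 2, 2, 2] 4 42664 5333 = true := by decide +kernel

theorem chk_pow5_0_9 : tab.minOKc [0, 2, 0, 2, 2, 2] 4 47997 5333 = true := by decide +kernel

theorem chk_pow5_0_10 : tab.minOKc [0, 2, 0, 2, 2, 2] 4 53330 5333 = true := by decide +kernel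

theorem chk_pow5_0_11 : tab.minOKc [0, 2, 0, 2, 2, 2] 4 58663 5333 = true := by decide +kernel

theorem chk_pow5_0_12 : tab.minOKc [0, 2, 0, 2, 2, 2] 4 63996 5333 = true := by decide +kernel

theorem chk_pow5_0_13 : tab.minOKc [0, 2, 0, 2, 2, 2] 4 69329 5333 = true := by decide +kernel

theorem chk_pow5_0_14 : tab.minOKc [0, 2, 0, 2, 2, 2] 4 74662 5333 = true := by decide +kernel

theorem chk_pow5_0 : tab.minOKc [0, 2, 0, 2, 2, 2] 4 0 79995 = true := by
  refine tab.minOKc_of_chunks [0, 2, 0, 2, 2, 2] 4 0 5333 15 (by norm_num) ?_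
  intro i hi
  interval_cases i
  · exact chk_pow5_0_0
  · exact chk_pow5_0_1
  · exact chk_pow5_0_2
  · exact chk_pow5_0_3
  · exact chk_pow5_0_4
  · exact chk_pow5_0_5
  · exact chk_pow5_0_6
  · exact chk_pow5_0_7
  · exact chk_pow5_0_8
  · exact chk_pow5_0_9
  · exact chk_pow5_0_10
  · exact chk_pow5_0_11
  · exact chk_pow5_0_12
  · exact chk_pow5_0_13
  · exact chk_pow5_0_14


end Cfsg.Agent.Lib.Lead.HNP.HNTC
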