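import Cfsg.Agent.Lib.Lead.HNP.HNTCData
import Cfsg.Agent.Lib.Helper6.TCRel3
import Cfsg.Agent.Lib.Lead.HNP.HNTCRel33

/-! # HNTC: the kernel check of a part of the relators on the coset table -/

set_option autoImplicit false

namespace Cfsg.Agent.Lib.Lead.HNP.HNTC

open Cfsg.Agent.Lib.Helper6.TC

theorem chk_pow8_16_0 : tab.minOKc [5, 2, 1, 3, 3, 1, 3, 1, 3, 4, 2, 0, 2, 0, 2, 2, 0, 3, 1, 1] 1 384000 1600 = true := by decide +kernel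

theorem chk_pow8_16_1 : tab.minOKc [5, 2, 1, 3, 3, 1, 3, 1, 3, 4, 2, 0, 2, 0, 2, 2, 0, 3, 1, 1] 1 385600 1600 = true := by decide +kernel

theorem chk_pow8_16_2 : tab.minOKc [5, 2, 1, 3, 3, 1, 3, 1, 3, 4, 2, 0, 2, 0, 2, 2, 0, 3, 1, 1] 1 387200 1600 = true := by decide +kernel

theorem chk_pow8_16_3 : tab.minOKc [5, 2, 1, 3, 3, 1, 3, 1, 3, 4, 2, 0, 2, 0, 2, 2, 0, 3, 1, 1] 1 388800 1600 = true := by decide +kernel

theorem chk_pow8_16_4 : tab.minOKc [5, 2, 1, 3, 3, 1, 3, 1, 3, 4, 2, 0, 2, 0, 2, 2, 0, 3, 1, 1] 1 390400 1600 = true := by decide +kernel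

theorem chk_pow8_16_5 : tab.minOKc [5, 2, 1, 3, 3, 1, 3, 1, 3, 4, 2, 0, 2, 0, 2, 2, 0, 3, 1, 1] 1 392000 1600 = true := by decide +kernel

theorem chk_pow8_16_6 : tab.minOKc [5, 2, 1, 3, 3, 1, 3, 1, 3, 4, 2, 0, 2, 0, 2, 2, 0, 3, 1, 1] 1 393600 1600 = true := by decide +kernel

theorem chk_pow8_16_7 : tab.minOKc [5, 2, 1, 3, 3, 1, 3, 1, 3, 4, 2, 0, 2, 0, 2, 2, 0, 3, 1, 1] 1 395200 1600 = true := by decide +kernel

theorem chk_pow8_16_8 : tab.minOKc [5, 2, 1, 3, 3, 1, 3, 1, 3, 4, 2, 0, 2, 0, 2, 2, 0, 3, 1, 1] 1 396800 1600 = true := by decide +kernel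

theorem chk_pow8_16_9 : tab.minOKc [5, 2, 1, 3, 3, 1, 3, 1, 3, 4, 2, 0, 2, 0, 2, 2, 0, 3, 1, 1] 1 398400 1600 = true := by decide +kernel

theorem chk_pow8_16_10 : tab.minOKc [5, 2, 1, 3, 3, 1, 3, 1, 3, 4, 2, 0, 2, 0, 2, 2, 0, 3, 1, 1] 1 400000 1600 = true := by decide +kernel

theorem chk_pow8_16_11 : tab.minOKc [5, 2, 1, 3, 3, 1, 3, 1, 3, 4, 2, 0, 2, 0, 2, 2, 0, 3, 1, 1] 1 401600 1600 = true := by decide +kernel

theorem chk_pow8_16_12 : tab.minOKc [5, 2, 1, 3, 3, 1, 3, 1, 3, 4, 2, 0, 2, 0, 2, 2, 0, 3, 1, 1] 1 403200 1600 = true := by decide +kernel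

theorem chk_pow8_16_13 : tab.minOKc [5, 2, 1, 3, 3, 1, 3, 1, 3, 4, 2, 0, 2, 0, 2, 2, 0, 3, 1, 1] 1 404800 1600 = true := by decide +kernel

theorem chk_pow8_16_14 : tab.minOKc [5, 2, 1, 3, 3, 1, 3, 1, 3, 4, 2, 0, 2, 0, 2, 2, 0, 3, 1, 1] 1 406400 1600 = true := by decide +kernel

theorem chk_pow8_16 : tab.minOKc [5, 2, 1, 3, 3, 1, 3, 1, 3, 4, 2, 0, 2, 0, 2, 2, 0, 3, 1, 1] 1 384000 24000 = true := by
  refine tab.minOKc_of_chunks [5, 2, 1, 3, 3, 1, 3, 1, 3, 4, 2, 0, 2, 0, 2, 2, 0, 3, 1, 1] 1 384000 1600 15 (by norm_num) ?_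
  intro i hi
  interval_cases i
  · exact chk_pow8_16_0
  · exact chk_pow8_16_1
  · exact chk_pow8_16_2
  · exact chk_pow8_16_3
  · exact chk_pow8_16_4
  · exact chk_pow8_16_5
  · exact chk_pow8_16_6
  · exact chk_pow8_16_7
  · exact chk_pow8_16_8
  · exact chk_pow8_16_9
  · exact chk_pow8_16_10
  · exact chk_pow8_16_11
  · exact chk_pow8_16_12
  · exact chk_pow8_16_13
  · exact chk_pow8_16_14

theorem chk_pow8_17_0 : tab.minOKc [5, 2, 1, 3, 3, 1, 3, 1, 3, 4, 2, 0, 2, 0, 2, 2, 0, 3, 1, 1] 1 408000 1600 = true := by decide +kernel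

theorem chk_pow8_17_1 : tab.minOKc [5, 2, 1, 3, 3, 1, 3, 1, 3, 4, 2, 0, 2, 0, 2, 2, 0, 3, 1, 1] 1 409600 1600 = true := by decide +kernel

theorem chk_pow8_17_2 : tab.minOKc [5, 2, 1, 3, 3, 1, 3, 1, 3, 4, 2, 0, 2, 0, 2, 2, 0, 3, 1, 1] 1 411200 1600 = true := by decide +kernel

theorem chk_pow8_17_3 : tab.minOKc [5, 2, 1, 3, 3, 1, 3, 1, 3, 4, 2, 0, 2, 0, 2, 2, 0, 3, 1, 1] 1 412800 1600 = true := by decide +kernel

theorem chk_pow8_17_4 : tab.minOKc [5, 2, 1, 3, 3, 1, 3, 1, 3, 4, 2, 0, 2, 0, 2, 2, 0, 3, 1, 1] 1 414400 1600 = true := by decide +kernel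

theorem chk_pow8_17_5 : tab.minOKc [5, 2, 1, 3, 3, 1, 3, 1, 3, 4, 2, 0, 2, 0, 2, 2, 0, 3, 1, 1] 1 416000 1600 = true := by decide +kernel

theorem chk_pow8_17_6 : tab.minOKc [5, 2, 1, 3, 3, 1, 3, 1, 3, 4, 2, 0, 2, 0, 2, 2, 0, 3, 1, 1] 1 417600 1600 = true := by decide +kernel

theorem chk_pow8_17_7 : tab.minOKc [5, 2, 1, 3, 3, 1, 3, 1, 3, 4, 2, 0, 2, 0, 2, 2, 0, 3, 1, 1] 1 419200 1600 = true := by decide +kernel

theorem chk_pow8_17_8 : tab.minOKc [5, 2, 1, 3, 3, 1, 3, 1, 3, 4, 2, 0, 2, 0, 2, 2, 0, 3, 1, 1] 1 420800 1600 = true := by decide +kernel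

theorem chk_pow8_17_9 : tab.minOKc [5, 2, 1, 3, 3, 1, 3, 1, 3, 4, 2, 0, 2, 0, 2, 2, 0, 3, 1, 1] 1 422400 1600 = true := by decide +kernel

theorem chk_pow8_17_10 : tab.minOKc [5, 2, 1, 3, 3, 1, 3, 1, 3, 4, 2, 0, 2, 0, 2, 2, 0, 3, 1, 1] 1 424000 1600 = true := by decide +kernel

theorem chk_pow8_17_11 : tab.minOKc [5, 2, 1, 3, 3, 1, 3, 1, 3, 4, 2, 0, 2, 0, 2, 2, 0, 3, 1, 1] 1 425600 1600 = true := by decide +kernel

theorem chk_pow8_17_12 : tab.minOKc [5, 2, 1, 3, 3, 1, 3, 1, 3, 4, 2, 0, 2, 0, 2, 2, 0, 3, 1, 1] 1 427200 1600 = true := by decide +kernel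

theorem chk_pow8_17_13 : tab.minOKc [5, 2, 1, 3, 3, 1, 3, 1, 3, 4, 2, 0, 2, 0, 2, 2, 0, 3, 1, 1] 1 428800 1600 = true := by decide +kernel

theorem chk_pow8_17_14 : tab.minOKc [5, 2, 1, 3, 3, 1, 3, 1, 3, 4, 2, 0, 2, 0, 2, 2, 0, 3, 1, 1] 1 430400 1600 = true := by decide +kernel

theorem chk_pow8_17 : tab.minOKc [5, 2, 1, 3, 3, 1, 3, 1, 3, 4, 2, 0, 2, 0, 2, 2, 0, 3, 1, 1] 1 408000 24000 = true := by
  refine tab.minOKc_of_chunks [5, 2, 1, 3, 3, 1, 3, 1, 3, 4, 2, 0, 2, 0, 2, 2, 0, 3, 1, 1] 1 408000 1600 15 (by norm_num) ?_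
  intro i hi
  interval_cases i
  · exact chk_pow8_17_0
  · exact chk_pow8_17_1
  · exact chk_pow8_17_2
  · exact chk_pow8_17_3
  · exact chk_pow8_17_4
  · exact chk_pow8_17_5
  · exact chk_pow8_17_6
  · exact chk_pow8_17_7
  · exact chk_pow8_17_8
  · exact chk_pow8_17_9
  · exact chk_pow8_17_10
  · exact chk_pow8_17_11
  · exact chk_pow8_17_12
  · exact chk_pow8_17_13
  · exact chk_pow8_17_14


end Cfsg.Agent.Lib.Lead.HNP.HNTC
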