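import Cfsg.Agent.Lib.Lead.HNP.HNTCData
import Cfsg.Agent.Lib.Helper6.TCRel3
import Cfsg.Agent.Lib.Lead.HNP.HNTCRel10

/-! # HNTC: the kernel check of a part of the relators on the coset table -/

set_option autoImplicit false

namespace Cfsg.Agent.Lib.Lead.HNP.HNTC

open Cfsg.Agent.Lib.Helper6.TC

theorem chk_pow5_1_0 : tab.minOKc [0, 2, 0, 2, 2, 2] 4 79995 5333 = true := by decide +kernel

theorem chk_pow5_1_1 : tab.minOKc [0, 2, 0, 2, 2, 2] 4 85328 5333 = true := by decide +kernel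

theorem chk_pow5_1_2 : tab.minOKc [0, 2, 0, 2, 2, 2] 4 90661 5333 = true := by decide +kernel

theorem chk_pow5_1_3 : tab.minOKc [0, 2, 0, 2, 2, 2] 4 95994 5333 = true := by decide +kernel

theorem chk_pow5_1_4 : tab.minOKc [0, 2, 0, 2, 2, 2] 4 101327 5333 = true := by decide +kernel

theorem chk_pow5_1_5 : tab.minOKc [0, 2, 0, 2, 2, 2] 4 106660 5333 = true := by decide +kernel

theorem chk_pow5_1_6 : tab.minOKc [0, 2, 0, 2, 2, 2] 4 111993 5333 = true := by decide +kernel

theorem chk_pow5_1_7 : tab.minOKc [0, 2, 0, 2, 2, 2] 4 117326 5333 = true := by decide +kernel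

theorem chk_pow5_1_8 : tab.minOKc [0, 2, 0, 2, 2, 2] 4 122659 5333 = true := by decide +kernel

theorem chk_pow5_1_9 : tab.minOKc [0, 2, 0, 2, 2, 2] 4 127992 5333 = true := by decide +kernel

theorem chk_pow5_1_10 : tab.minOKc [0, 2, 0, 2, 2, 2] 4 133325 5333 = true := by decide +kernel

theorem chk_pow5_1_11 : tab.minOKc [0, 2, 0, 2, 2, 2] 4 138658 5333 = true := by decide +kernel

theorem chk_pow5_1_12 : tab.minOKc [0, 2, 0, 2, 2, 2] 4 143991 5333 = true := by decide +kernel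

theorem chk_pow5_1_13 : tab.minOKc [0, 2, 0, 2, 2, 2] 4 149324 5333 = true := by decide +kernel

theorem chk_pow5_1_14 : tab.minOKc [0, 2, 0, 2, 2, 2] 4 154657 5333 = true := by decide +kernel

theorem chk_pow5_1 : tab.minOKc [0, 2, 0, 2, 2, 2] 4 79995 79995 = true := by
  refine tab.minOKc_of_chunks [0, 2, 0, 2, 2, 2] 4 79995 5333 15 (by norm_num) ?_
  intro i hi
  interval_cases i
  · exact chk_pow5_1_0
  · exact chk_pow5_1_1
  · exact chk_pow5_1_2
  · exact chk_pow5_1_3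
  · exact chk_pow5_1_4
  · exact chk_pow5_1_5
  · exact chk_pow5_1_6
  · exact chk_pow5_1_7
  · exact chk_pow5_1_8
  · exact chk_pow5_1_9
  · exact chk_pow5_1_10
  · exact chk_pow5_1_11
  · exact chk_pow5_1_12
  · exact chk_pow5_1_13
  · exact chk_pow5_1_14

theorem chk_pow5_2_0 : tab.minOKc [0, 2, 0, 2, 2, 2] 4 159990 5333 = true := by decide +kernel

theorem chk_pow5_2_1 : tab.minOKc [0, 2, 0, 2, 2, 2] 4 165323 5333 = true := by decide +kernel

theorem chk_pow5_2_2 : tab.minOKc [0, 2, 0, 2, 2, 2] 4 170656 5333 = true := by decide +kernel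

theorem chk_pow5_2_3 : tab.minOKc [0, 2, 0, 2, 2, 2] 4 175989 5333 = true := by decide +kernel

theorem chk_pow5_2_4 : tab.minOKc [0, 2, 0, 2, 2, 2] 4 181322 5333 = true := by decide +kernel

theorem chk_pow5_2_5 : tab.minOKc [0, 2, 0, 2, 2, 2] 4 186655 5333 = true := by decide +kernel

theorem chk_pow5_2_6 : tab.minOKc [0, 2, 0, 2, 2, 2] 4 191988 5333 = true := by decide +kernel

theorem chk_pow5_2_7 : tab.minOKc [0, 2, 0, 2, 2, 2] 4 197321 5333 = true := by decide +kernel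

theorem chk_pow5_2_8 : tab.minOKc [0, 2, 0, 2, 2, 2] 4 202654 5333 = true := by decide +kernel

theorem chk_pow5_2_9 : tab.minOKc [0, 2, 0, 2, 2, 2] 4 207987 5333 = true := by decide +kernel

theorem chk_pow5_2_10 : tab.minOKc [0, 2, 0, 2, 2, 2] 4 213320 5333 = true := by decide +kernel

theorem chk_pow5_2_11 : tab.minOKc [0, 2, 0, 2, 2, 2] 4 218653 5333 = true := by decide +kernel

theorem chk_pow5_2_12 : tab.minOKc [0, 2, 0, 2, 2, 2] 4 223986 5333 = true := by decide +kernel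

theorem chk_pow5_2_13 : tab.minOKc [0, 2, 0, 2, 2, 2] 4 229319 5333 = true := by decide +kernel

theorem chk_pow5_2_14 : tab.minOKc [0, 2, 0, 2, 2, 2] 4 234652 5333 = true := by decide +kernel

theorem chk_pow5_2 : tab.minOKc [0, 2, 0, 2, 2, 2] 4 159990 79995 = true := by
  refine tab.minOKc_of_chunks [0, 2, 0, 2, 2, 2] 4 159990 5333 15 (by norm_num) ?_
  intro i hi
  interval_cases i
  · exact chk_pow5_2_0
  · exact chk_pow5_2_1
  · exact chk_pow5_2_2
  · exact chk_pow5_2_3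
  · exact chk_pow5_2_4
  · exact chk_pow5_2_5
  · exact chk_pow5_2_6
  · exact chk_pow5_2_7
  · exact chk_pow5_2_8
  · exact chk_pow5_2_9
  · exact chk_pow5_2_10
  · exact chk_pow5_2_11
  · exact chk_pow5_2_12
  · exact chk_pow5_2_13
  · exact chk_pow5_2_14


end Cfsg.Agent.Lib.Lead.HNP.HNTC
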