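import Cfsg.Agent.Lib.Lead.HNP.HNTCData
import Cfsg.Agent.Lib.Helper6.TCRel3
import Cfsg.Agent.Lib.Lead.HNP.HNTCRel34

/-! # HNTC: the kernel check of a part of the relators on the coset table -/

set_option autoImplicit false

namespace Cfsg.Agent.Lib.Lead.HNP.HNTC

open Cfsg.Agent.Lib.Helper6.TC

theorem chk_pow8_18_0 : tab.minOKc [5, 2, 1, 3, 3, 1, 3, 1, 3, 4, 2, 0, 2, 0, 2, 2, 0, 3, 1, 1] 1 432000 1600 = true := by decide +kernel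

theorem chk_pow8_18_1 : tab.minOKc [5, 2, 1, 3, 3, 1, 3, 1, 3, 4, 2, 0, 2, 0, 2, 2, 0, 3, 1, 1] 1 433600 1600 = true := by decide +kernel

theorem chk_pow8_18_2 : tab.minOKc [5, 2, 1, 3, 3, 1, 3, 1, 3, 4, 2, 0, 2, 0, 2, 2, 0, 3, 1, 1] 1 435200 1600 = true := by decide +kernel

theorem chk_pow8_18_3 : tab.minOKc [5, 2, 1, 3, 3, 1, 3, 1, 3, 4, 2, 0, 2, 0, 2, 2, 0, 3, 1, 1] 1 436800 1600 = true := by decide +kernel

theorem chk_pow8_18_4 : tab.minOKc [5, 2, 1, 3, 3, 1, 3, 1, 3, 4, 2, 0, 2, 0, 2, 2, 0, 3, 1, 1] 1 438400 1600 = true := by decide +kernel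

theorem chk_pow8_18_5 : tab.minOKc [5, 2, 1, 3, 3, 1, 3, 1, 3, 4, 2, 0, 2, 0, 2, 2, 0, 3, 1, 1] 1 440000 1600 = true := by decide +kernel

theorem chk_pow8_18_6 : tab.minOKc [5, 2, 1, 3, 3, 1, 3, 1, 3, 4, 2, 0, 2, 0, 2, 2, 0, 3, 1, 1] 1 441600 1600 = true := by decide +kernel

theorem chk_pow8_18_7 : tab.minOKc [5, 2, 1, 3, 3, 1, 3, 1, 3, 4, 2, 0, 2, 0, 2, 2, 0, 3, 1, 1] 1 443200 1600 = true := by decide +kernel

theorem chk_pow8_18_8 : tab.minOKc [5, 2, 1, 3, 3, 1, 3, 1, 3, 4, 2, 0, 2, 0, 2, 2, 0, 3, 1, 1] 1 444800 1600 = true := by decide +kernel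

theorem chk_pow8_18_9 : tab.minOKc [5, 2, 1, 3, 3, 1, 3, 1, 3, 4, 2, 0, 2, 0, 2, 2, 0, 3, 1, 1] 1 446400 1600 = true := by decide +kernel

theorem chk_pow8_18_10 : tab.minOKc [5, 2, 1, 3, 3, 1, 3, 1, 3, 4, 2, 0, 2, 0, 2, 2, 0, 3, 1, 1] 1 448000 1600 = true := by decide +kernel

theorem chk_pow8_18_11 : tab.minOKc [5, 2, 1, 3, 3, 1, 3, 1, 3, 4, 2, 0, 2, 0, 2, 2, 0, 3, 1, 1] 1 449600 1600 = true := by decide +kernel

theorem chk_pow8_18_12 : tab.minOKc [5, 2, 1, 3, 3, 1, 3, 1, 3, 4, 2, 0, 2, 0, 2, 2, 0, 3, 1, 1] 1 451200 1600 = true := by decide +kernel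

theorem chk_pow8_18_13 : tab.minOKc [5, 2, 1, 3, 3, 1, 3, 1, 3, 4, 2, 0, 2, 0, 2, 2, 0, 3, 1, 1] 1 452800 1600 = true := by decide +kernel

theorem chk_pow8_18_14 : tab.minOKc [5, 2, 1, 3, 3, 1, 3, 1, 3, 4, 2, 0, 2, 0, 2, 2, 0, 3, 1, 1] 1 454400 1600 = true := by decide +kernel

theorem chk_pow8_18 : tab.minOKc [5, 2, 1, 3, 3, 1, 3, 1, 3, 4, 2, 0, 2, 0, 2, 2, 0, 3, 1, 1] 1 432000 24000 = true := by
  refine tab.minOKc_of_chunks [5, 2, 1, 3, 3, 1, 3, 1, 3, 4, 2, 0, 2, 0, 2, 2, 0, 3, 1, 1] 1 432000 1600 15 (by norm_num) ?_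
  intro i hi
  interval_cases i
  · exact chk_pow8_18_0
  · exact chk_pow8_18_1
  · exact chk_pow8_18_2
  · exact chk_pow8_18_3
  · exact chk_pow8_18_4
  · exact chk_pow8_18_5
  · exact chk_pow8_18_6
  · exact chk_pow8_18_7
  · exact chk_pow8_18_8
  · exact chk_pow8_18_9
  · exact chk_pow8_18_10
  · exact chk_pow8_18_11
  · exact chk_pow8_18_12
  · exact chk_pow8_18_13
  · exact chk_pow8_18_14

theorem chk_pow8_19_0 : tab.minOKc [5, 2, 1, 3, 3, 1, 3, 1, 3, 4, 2, 0, 2, 0, 2, 2, 0, 3, 1, 1] 1 456000 1600 = true := by decide +kernel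

theorem chk_pow8_19_1 : tab.minOKc [5, 2, 1, 3, 3, 1, 3, 1, 3, 4, 2, 0, 2, 0, 2, 2, 0, 3, 1, 1] 1 457600 1600 = true := by decide +kernel

theorem chk_pow8_19_2 : tab.minOKc [5, 2, 1, 3, 3, 1, 3, 1, 3, 4, 2, 0, 2, 0, 2, 2, 0, 3, 1, 1] 1 459200 1600 = true := by decide +kernel

theorem chk_pow8_19_3 : tab.minOKc [5, 2, 1, 3, 3, 1, 3, 1, 3, 4, 2, 0, 2, 0, 2, 2, 0, 3, 1, 1] 1 460800 1600 = true := by decide +kernel

theorem chk_pow8_19_4 : tab.minOKc [5, 2, 1, 3, 3, 1, 3, 1, 3, 4, 2, 0, 2, 0, 2, 2, 0, 3, 1, 1] 1 462400 1600 = true := by decide +kernel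

theorem chk_pow8_19_5 : tab.minOKc [5, 2, 1, 3, 3, 1, 3, 1, 3, 4, 2, 0, 2, 0, 2, 2, 0, 3, 1, 1] 1 464000 1600 = true := by decide +kernel

theorem chk_pow8_19_6 : tab.minOKc [5, 2, 1, 3, 3, 1, 3, 1, 3, 4, 2, 0, 2, 0, 2, 2, 0, 3, 1, 1] 1 465600 1600 = true := by decide +kernel

theorem chk_pow8_19_7 : tab.minOKc [5, 2, 1, 3, 3, 1, 3, 1, 3, 4, 2, 0, 2, 0, 2, 2, 0, 3, 1, 1] 1 467200 1600 = true := by decide +kernel

theorem chk_pow8_19_8 : tab.minOKc [5, 2, 1, 3, 3, 1, 3, 1, 3, 4, 2, 0, 2, 0, 2, 2, 0, 3, 1, 1] 1 468800 1600 = true := by decide +kernel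

theorem chk_pow8_19_9 : tab.minOKc [5, 2, 1, 3, 3, 1, 3, 1, 3, 4, 2, 0, 2, 0, 2, 2, 0, 3, 1, 1] 1 470400 1600 = true := by decide +kernel

theorem chk_pow8_19_10 : tab.minOKc [5, 2, 1, 3, 3, 1, 3, 1, 3, 4, 2, 0, 2, 0, 2, 2, 0, 3, 1, 1] 1 472000 1600 = true := by decide +kernel

theorem chk_pow8_19_11 : tab.minOKc [5, 2, 1, 3, 3, 1, 3, 1, 3, 4, 2, 0, 2, 0, 2, 2, 0, 3, 1, 1] 1 473600 1600 = true := by decide +kernel

theorem chk_pow8_19_12 : tab.minOKc [5, 2, 1, 3, 3, 1, 3, 1, 3, 4, 2, 0, 2, 0, 2, 2, 0, 3, 1, 1] 1 475200 1600 = true := by decide +kernel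

theorem chk_pow8_19_13 : tab.minOKc [5, 2, 1, 3, 3, 1, 3, 1, 3, 4, 2, 0, 2, 0, 2, 2, 0, 3, 1, 1] 1 476800 1600 = true := by decide +kernel

theorem chk_pow8_19_14 : tab.minOKc [5, 2, 1, 3, 3, 1, 3, 1, 3, 4, 2, 0, 2, 0, 2, 2, 0, 3, 1, 1] 1 478400 1600 = true := by decide +kernel

theorem chk_pow8_19 : tab.minOKc [5, 2, 1, 3, 3, 1, 3, 1, 3, 4, 2, 0, 2, 0, 2, 2, 0, 3, 1, 1] 1 456000 24000 = true := by
  refine tab.minOKc_of_chunks [5, 2, 1, 3, 3, 1, 3, 1, 3, 4, 2, 0, 2, 0, 2, 2, 0, 3, 1, 1] 1 456000 1600 15 (by norm_num) ?_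
  intro i hi
  interval_cases i
  · exact chk_pow8_19_0
  · exact chk_pow8_19_1
  · exact chk_pow8_19_2
  · exact chk_pow8_19_3
  · exact chk_pow8_19_4
  · exact chk_pow8_19_5
  · exact chk_pow8_19_6
  · exact chk_pow8_19_7
  · exact chk_pow8_19_8
  · exact chk_pow8_19_9
  · exact chk_pow8_19_10
  · exact chk_pow8_19_11
  · exact chk_pow8_19_12
  · exact chk_pow8_19_13
  · exact chk_pow8_19_14


end Cfsg.Agent.Lib.Lead.HNP.HNTC
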