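import Cfsg.Agent.Lib.Lead.HNP.HNTCSCert

/-! # HNTC: the kernel check of the rows from 172440 on -/

set_option autoImplicit false

namespace Cfsg.Agent.Lib.Lead.HNP.HNTC

open Cfsg.Agent.Lib.Helper6.TC Cfsg.Agent.Lib.Helper6.TCGS

theorem chk_rows15_0 : cert.rowsOK 172440 479 = true := by decide +kernel

theorem chk_rows15_1 : cert.rowsOK 172919 479 = true := by decide +kernel

theorem chk_rows15_2 : cert.rowsOK 173398 479 = true := by decide +kernel

theorem chk_rows15_3 : cert.rowsOK 173877 479 = true := by decide +kernel

theorem chk_rows15_4 : cert.rowsOK 174356 479 = true := by decide +kernel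

theorem chk_rows15_5 : cert.rowsOK 174835 479 = true := by decide +kernel

theorem chk_rows15_6 : cert.rowsOK 175314 479 = true := by decide +kernel

theorem chk_rows15_7 : cert.rowsOK 175793 479 = true := by decide +kernel

theorem chk_rows15_8 : cert.rowsOK 176272 479 = true := by decide +kernel

theorem chk_rows15_9 : cert.rowsOK 176751 479 = true := by decide +kernel

theorem chk_rows15_10 : cert.rowsOK 177230 479 = true := by decide +kernel

theorem chk_rows15_11 : cert.rowsOK 177709 479 = true := by decide +kernel

theorem chk_rows15_12 : cert.rowsOK 178188 479 = true := by decide +kernel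

theorem chk_rows15_13 : cert.rowsOK 178667 479 = true := by decide +kernel

theorem chk_rows15_14 : cert.rowsOK 179146 479 = true := by decide +kernel

theorem chk_rows15_15 : cert.rowsOK 179625 479 = true := by decide +kernel

theorem chk_rows15_16 : cert.rowsOK 180104 479 = true := by decide +kernel

theorem chk_rows15_17 : cert.rowsOK 180583 479 = true := by decide +kernel

theorem chk_rows15_18 : cert.rowsOK 181062 479 = true := by decide +kernel

theorem chk_rows15_19 : cert.rowsOK 181541 479 = true := by decide +kernel

theorem chk_rows15_20 : cert.rowsOK 182020 479 = true := by decide +kernel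

theorem chk_rows15_21 : cert.rowsOK 182499 479 = true := by decide +kernel

theorem chk_rows15_22 : cert.rowsOK 182978 479 = true := by decide +kernel

theorem chk_rows15_23 : cert.rowsOK 183457 479 = true := by decide +kernel

theorem chk_range15 : ∀ a, 172440 ≤ a → a < 183936 → ∀ x < cert.c.g, cert.slotOK a x = true := by
  refine cert.range_of_chunks 172440 479 24 (by norm_num) ?_
  intro k hk
  interval_cases k
  · exact chk_rows15_0
  · exact chk_rows15_1
  · exact chk_rows15_2
  · exact chk_rows15_3
  · exact chk_rows15_4
  · exact chk_rows15_5
  · exact chk_rows15_6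
  · exact chk_rows15_7
  · exact chk_rows15_8
  · exact chk_rows15_9
  · exact chk_rows15_10
  · exact chk_rows15_11
  · exact chk_rows15_12
  · exact chk_rows15_13
  · exact chk_rows15_14
  · exact chk_rows15_15
  · exact chk_rows15_16
  · exact chk_rows15_17
  · exact chk_rows15_18
  · exact chk_rows15_19
  · exact chk_rows15_20
  · exact chk_rows15_21
  · exact chk_rows15_22
  · exact chk_rows15_23

end Cfsg.Agent.Lib.Lead.HNP.HNTC
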