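import Cfsg.Agent.Lib.Lead.HNP.HNTCSCert
import Cfsg.Agent.Lib.Lead.HNP.HNTCSRows15

/-! # HNTC: the kernel check of the rows from 448344 on -/

set_option autoImplicit false

namespace Cfsg.Agent.Lib.Lead.HNP.HNTC

open Cfsg.Agent.Lib.Helper6.TC Cfsg.Agent.Lib.Helper6.TCGS

theorem chk_rows39_0 : cert.rowsOK 448344 479 = true := by decide +kernel

theorem chk_rows39_1 : cert.rowsOK 448823 479 = true := by decide +kernel

theorem chk_rows39_2 : cert.rowsOK 449302 479 = true := by decide +kernel

theorem chk_rows39_3 : cert.rowsOK 449781 479 = true := by decide +kernel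

theorem chk_rows39_4 : cert.rowsOK 450260 479 = true := by decide +kernel

theorem chk_rows39_5 : cert.rowsOK 450739 479 = true := by decide +kernel

theorem chk_rows39_6 : cert.rowsOK 451218 479 = true := by decide +kernel

theorem chk_rows39_7 : cert.rowsOK 451697 479 = true := by decide +kernel

theorem chk_rows39_8 : cert.rowsOK 452176 479 = true := by decide +kernel

theorem chk_rows39_9 : cert.rowsOK 452655 479 = true := by decide +kernel

theorem chk_rows39_10 : cert.rowsOK 453134 479 = true := by decide +kernel

theorem chk_rows39_11 : cert.rowsOK 453613 479 = true := by decide +kernel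

theorem chk_rows39_12 : cert.rowsOK 454092 479 = true := by decide +kernel

theorem chk_rows39_13 : cert.rowsOK 454571 479 = true := by decide +kernel

theorem chk_rows39_14 : cert.rowsOK 455050 479 = true := by decide +kernel

theorem chk_rows39_15 : cert.rowsOK 455529 479 = true := by decide +kernel

theorem chk_rows39_16 : cert.rowsOK 456008 479 = true := by decide +kernel

theorem chk_rows39_17 : cert.rowsOK 456487 479 = true := by decide +kernel

theorem chk_rows39_18 : cert.rowsOK 456966 479 = true := by decide +kernel

theorem chk_rows39_19 : cert.rowsOK 457445 479 = true := by decide +kernel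

theorem chk_rows39_20 : cert.rowsOK 457924 479 = true := by decide +kernel

theorem chk_rows39_21 : cert.rowsOK 458403 479 = true := by decide +kernel

theorem chk_rows39_22 : cert.rowsOK 458882 479 = true := by decide +kernel

theorem chk_rows39_23 : cert.rowsOK 459361 479 = true := by decide +kernel

theorem chk_range39 : ∀ a, 448344 ≤ a → a < 459840 → ∀ x < cert.c.g, cert.slotOK a x = true := by
  refine cert.range_of_chunks 448344 479 24 (by norm_num) ?_
  intro k hk
  interval_cases k
  · exact chk_rows39_0
  · exact chk_rows39_1
  · exact chk_rows39_2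
  · exact chk_rows39_3
  · exact chk_rows39_4
  · exact chk_rows39_5
  · exact chk_rows39_6
  · exact chk_rows39_7
  · exact chk_rows39_8
  · exact chk_rows39_9
  · exact chk_rows39_10
  · exact chk_rows39_11
  · exact chk_rows39_12
  · exact chk_rows39_13
  · exact chk_rows39_14
  · exact chk_rows39_15
  · exact chk_rows39_16
  · exact chk_rows39_17
  · exact chk_rows39_18
  · exact chk_rows39_19
  · exact chk_rows39_20
  · exact chk_rows39_21
  · exact chk_rows39_22
  · exact chk_rows39_23

end Cfsg.Agent.Lib.Lead.HNP.HNTC
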