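import Cfsg.Agent.Lib.Lead.HNP.HNTCSCert
import Cfsg.Agent.Lib.Lead.HNP.HNTCSRows39

/-! # HNTC: the kernel check of the rows from 724248 on -/

set_option autoImplicit false

namespace Cfsg.Agent.Lib.Lead.HNP.HNTC

open Cfsg.Agent.Lib.Helper6.TC Cfsg.Agent.Lib.Helper6.TCGS

theorem chk_rows63_0 : cert.rowsOK 724248 479 = true := by decide +kernel

theorem chk_rows63_1 : cert.rowsOK 724727 479 = true := by decide +kernel

theorem chk_rows63_2 : cert.rowsOK 725206 479 = true := by decide +kernel

theorem chk_rows63_3 : cert.rowsOK 725685 479 = true := by decide +kernel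

theorem chk_rows63_4 : cert.rowsOK 726164 479 = true := by decide +kernel

theorem chk_rows63_5 : cert.rowsOK 726643 479 = true := by decide +kernel

theorem chk_rows63_6 : cert.rowsOK 727122 479 = true := by decide +kernel

theorem chk_rows63_7 : cert.rowsOK 727601 479 = true := by decide +kernel

theorem chk_rows63_8 : cert.rowsOK 728080 479 = true := by decide +kernel

theorem chk_rows63_9 : cert.rowsOK 728559 479 = true := by decide +kernel

theorem chk_rows63_10 : cert.rowsOK 729038 479 = true := by decide +kernel

theorem chk_rows63_11 : cert.rowsOK 729517 479 = true := by decide +kernel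

theorem chk_rows63_12 : cert.rowsOK 729996 479 = true := by decide +kernel

theorem chk_rows63_13 : cert.rowsOK 730475 479 = true := by decide +kernel

theorem chk_rows63_14 : cert.rowsOK 730954 479 = true := by decide +kernel

theorem chk_rows63_15 : cert.rowsOK 731433 479 = true := by decide +kernel

theorem chk_rows63_16 : cert.rowsOK 731912 479 = true := by decide +kernel

theorem chk_rows63_17 : cert.rowsOK 732391 479 = true := by decide +kernel

theorem chk_rows63_18 : cert.rowsOK 732870 479 = true := by decide +kernel

theorem chk_rows63_19 : cert.rowsOK 733349 479 = true := by decide +kernel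

theorem chk_rows63_20 : cert.rowsOK 733828 479 = true := by decide +kernel

theorem chk_rows63_21 : cert.rowsOK 734307 479 = true := by decide +kernel

theorem chk_rows63_22 : cert.rowsOK 734786 479 = true := by decide +kernel

theorem chk_rows63_23 : cert.rowsOK 735265 479 = true := by decide +kernel

theorem chk_range63 : ∀ a, 724248 ≤ a → a < 735744 → ∀ x < cert.c.g, cert.slotOK a x = true := by
  refine cert.range_of_chunks 724248 479 24 (by norm_num) ?_
  intro k hk
  interval_cases k
  · exact chk_rows63_0
  · exact chk_rows63_1
  · exact chk_rows63_2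
  · exact chk_rows63_3
  · exact chk_rows63_4
  · exact chk_rows63_5
  · exact chk_rows63_6
  · exact chk_rows63_7
  · exact chk_rows63_8
  · exact chk_rows63_9
  · exact chk_rows63_10
  · exact chk_rows63_11
  · exact chk_rows63_12
  · exact chk_rows63_13
  · exact chk_rows63_14
  · exact chk_rows63_15
  · exact chk_rows63_16
  · exact chk_rows63_17
  · exact chk_rows63_18
  · exact chk_rows63_19
  · exact chk_rows63_20
  · exact chk_rows63_21
  · exact chk_rows63_22
  · exact chk_rows63_23

end Cfsg.Agent.Lib.Lead.HNP.HNTC
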