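import Cfsg.Agent.Lib.Lead.HNP.HNTCSCert
import Cfsg.Agent.Lib.Lead.HNP.HNTCSRows63

/-! # HNTC: the kernel check of the rows from 1000152 on -/

set_option autoImplicit false

namespace Cfsg.Agent.Lib.Lead.HNP.HNTC

open Cfsg.Agent.Lib.Helper6.TC Cfsg.Agent.Lib.Helper6.TCGS

theorem chk_rows87_0 : cert.rowsOK 1000152 479 = true := by decide +kernel

theorem chk_rows87_1 : cert.rowsOK 1000631 479 = true := by decide +kernel

theorem chk_rows87_2 : cert.rowsOK 1001110 479 = true := by decide +kernel

theorem chk_rows87_3 : cert.rowsOK 1001589 479 = true := by decide +kernel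

theorem chk_rows87_4 : cert.rowsOK 1002068 479 = true := by decide +kernel

theorem chk_rows87_5 : cert.rowsOK 1002547 479 = true := by decide +kernel

theorem chk_rows87_6 : cert.rowsOK 1003026 479 = true := by decide +kernel

theorem chk_rows87_7 : cert.rowsOK 1003505 479 = true := by decide +kernel

theorem chk_rows87_8 : cert.rowsOK 1003984 479 = true := by decide +kernel

theorem chk_rows87_9 : cert.rowsOK 1004463 479 = true := by decide +kernel

theorem chk_rows87_10 : cert.rowsOK 1004942 479 = true := by decide +kernel

theorem chk_rows87_11 : cert.rowsOK 1005421 479 = true := by decide +kernel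

theorem chk_rows87_12 : cert.rowsOK 1005900 479 = true := by decide +kernel

theorem chk_rows87_13 : cert.rowsOK 1006379 479 = true := by decide +kernel

theorem chk_rows87_14 : cert.rowsOK 1006858 479 = true := by decide +kernel

theorem chk_rows87_15 : cert.rowsOK 1007337 479 = true := by decide +kernel

theorem chk_rows87_16 : cert.rowsOK 1007816 479 = true := by decide +kernel

theorem chk_rows87_17 : cert.rowsOK 1008295 479 = true := by decide +kernel

theorem chk_rows87_18 : cert.rowsOK 1008774 479 = true := by decide +kernel

theorem chk_rows87_19 : cert.rowsOK 1009253 479 = true := by decide +kernel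

theorem chk_rows87_20 : cert.rowsOK 1009732 479 = true := by decide +kernel

theorem chk_rows87_21 : cert.rowsOK 1010211 479 = true := by decide +kernel

theorem chk_rows87_22 : cert.rowsOK 1010690 479 = true := by decide +kernel

theorem chk_rows87_23 : cert.rowsOK 1011169 479 = true := by decide +kernel

theorem chk_range87 : ∀ a, 1000152 ≤ a → a < 1011648 → ∀ x < cert.c.g, cert.slotOK a x = true := by
  refine cert.range_of_chunks 1000152 479 24 (by norm_num) ?_
  intro k hk
  interval_cases k
  · exact chk_rows87_0
  · exact chk_rows87_1
  · exact chk_rows87_2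
  · exact chk_rows87_3
  · exact chk_rows87_4
  · exact chk_rows87_5
  · exact chk_rows87_6
  · exact chk_rows87_7
  · exact chk_rows87_8
  · exact chk_rows87_9
  · exact chk_rows87_10
  · exact chk_rows87_11
  · exact chk_rows87_12
  · exact chk_rows87_13
  · exact chk_rows87_14
  · exact chk_rows87_15
  · exact chk_rows87_16
  · exact chk_rows87_17
  · exact chk_rows87_18
  · exact chk_rows87_19
  · exact chk_rows87_20
  · exact chk_rows87_21
  · exact chk_rows87_22
  · exact chk_rows87_23

end Cfsg.Agent.Lib.Lead.HNP.HNTC
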