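import Cfsg.Agent.Lib.Lead.HNP.HNTCSCert
import Cfsg.Agent.Lib.Lead.HNP.HNTCSRows87

/-! # HNTC: the kernel check of the rows from 1276056 on -/

set_option autoImplicit false

namespace Cfsg.Agent.Lib.Lead.HNP.HNTC

open Cfsg.Agent.Lib.Helper6.TC Cfsg.Agent.Lib.Helper6.TCGS

theorem chk_rows111_0 : cert.rowsOK 1276056 479 = true := by decide +kernel

theorem chk_rows111_1 : cert.rowsOK 1276535 479 = true := by decide +kernel

theorem chk_rows111_2 : cert.rowsOK 1277014 479 = true := by decide +kernel

theorem chk_rows111_3 : cert.rowsOK 1277493 479 = true := by decide +kernel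

theorem chk_rows111_4 : cert.rowsOK 1277972 479 = true := by decide +kernel

theorem chk_rows111_5 : cert.rowsOK 1278451 479 = true := by decide +kernel

theorem chk_rows111_6 : cert.rowsOK 1278930 479 = true := by decide +kernel

theorem chk_rows111_7 : cert.rowsOK 1279409 479 = true := by decide +kernel

theorem chk_rows111_8 : cert.rowsOK 1279888 479 = true := by decide +kernel

theorem chk_rows111_9 : cert.rowsOK 1280367 479 = true := by decide +kernel

theorem chk_rows111_10 : cert.rowsOK 1280846 479 = true := by decide +kernel

theorem chk_rows111_11 : cert.rowsOK 1281325 479 = true := by decide +kernel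

theorem chk_rows111_12 : cert.rowsOK 1281804 479 = true := by decide +kernel

theorem chk_rows111_13 : cert.rowsOK 1282283 479 = true := by decide +kernel

theorem chk_rows111_14 : cert.rowsOK 1282762 479 = true := by decide +kernel

theorem chk_rows111_15 : cert.rowsOK 1283241 479 = true := by decide +kernel

theorem chk_rows111_16 : cert.rowsOK 1283720 479 = true := by decide +kernel

theorem chk_rows111_17 : cert.rowsOK 1284199 479 = true := by decide +kernel

theorem chk_rows111_18 : cert.rowsOK 1284678 479 = true := by decide +kernel

theorem chk_rows111_19 : cert.rowsOK 1285157 479 = true := by decide +kernel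

theorem chk_rows111_20 : cert.rowsOK 1285636 479 = true := by decide +kernel

theorem chk_rows111_21 : cert.rowsOK 1286115 479 = true := by decide +kernel

theorem chk_rows111_22 : cert.rowsOK 1286594 479 = true := by decide +kernel

theorem chk_rows111_23 : cert.rowsOK 1287073 479 = true := by decide +kernel

theorem chk_range111 : ∀ a, 1276056 ≤ a → a < 1287552 → ∀ x < cert.c.g, cert.slotOK a x = true := by
  refine cert.range_of_chunks 1276056 479 24 (by norm_num) ?_
  intro k hk
  interval_cases k
  · exact chk_rows111_0
  · exact chk_rows111_1
  · exact chk_rows111_2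
  · exact chk_rows111_3
  · exact chk_rows111_4
  · exact chk_rows111_5
  · exact chk_rows111_6
  · exact chk_rows111_7
  · exact chk_rows111_8
  · exact chk_rows111_9
  · exact chk_rows111_10
  · exact chk_rows111_11
  · exact chk_rows111_12
  · exact chk_rows111_13
  · exact chk_rows111_14
  · exact chk_rows111_15
  · exact chk_rows111_16
  · exact chk_rows111_17
  · exact chk_rows111_18
  · exact chk_rows111_19
  · exact chk_rows111_20
  · exact chk_rows111_21
  · exact chk_rows111_22
  · exact chk_rows111_23

end Cfsg.Agent.Lib.Lead.HNP.HNTC
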