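import Cfsg.Agent.Lib.Lead.HNP.HNTCSCert
import Cfsg.Agent.Lib.Helper6.TCGIndex
import Cfsg.Agent.Lib.Lead.HNP.HNTCSFin1

/-! # HNTC: the kernel check that the first rows are closed, part 25 -/

set_option autoImplicit false

namespace Cfsg.Agent.Lib.Lead.HNP.HNTC

open Cfsg.Agent.Lib.Helper6.TC Cfsg.Agent.Lib.Helper6.TCGS

theorem chk_fin225 : cert.finalOKc 1539000 450000 2000 = true := by decide +kernel

theorem chk_fin226 : cert.finalOKc 1539000 452000 2000 = true := by decide +kernel

theorem chk_fin227 : cert.finalOKc 1539000 454000 2000 = true := by decide +kernel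

theorem chk_fin228 : cert.finalOKc 1539000 456000 2000 = true := by decide +kernel

theorem chk_fin229 : cert.finalOKc 1539000 458000 2000 = true := by decide +kernel

theorem chk_fin230 : cert.finalOKc 1539000 460000 2000 = true := by decide +kernel

theorem chk_fin231 : cert.finalOKc 1539000 462000 2000 = true := by decide +kernel

theorem chk_fin232 : cert.finalOKc 1539000 464000 2000 = true := by decide +kernel

theorem chk_fin233 : cert.finalOKc 1539000 466000 2000 = true := by decide +kernel


end Cfsg.Agent.Lib.Lead.HNP.HNTC
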