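import Cfsg.Agent.Lib.Lead.HNP.HNTCSCert
import Cfsg.Agent.Lib.Helper6.TCGIndex
import Cfsg.Agent.Lib.Lead.HNP.HNTCSFin25

/-! # HNTC: the kernel check that the first rows are closed, part 49 -/

set_option autoImplicit false

namespace Cfsg.Agent.Lib.Lead.HNP.HNTC

open Cfsg.Agent.Lib.Helper6.TC Cfsg.Agent.Lib.Helper6.TCGS

theorem chk_fin441 : cert.finalOKc 1539000 882000 2000 = true := by decide +kernel

theorem chk_fin442 : cert.finalOKc 1539000 884000 2000 = true := by decide +kernel

theorem chk_fin443 : cert.finalOKc 1539000 886000 2000 = true := by decide +kernel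

theorem chk_fin444 : cert.finalOKc 1539000 888000 2000 = true := by decide +kernel

theorem chk_fin445 : cert.finalOKc 1539000 890000 2000 = true := by decide +kernel

theorem chk_fin446 : cert.finalOKc 1539000 892000 2000 = true := by decide +kernel

theorem chk_fin447 : cert.finalOKc 1539000 894000 2000 = true := by decide +kernel

theorem chk_fin448 : cert.finalOKc 1539000 896000 2000 = true := by decide +kernel

theorem chk_fin449 : cert.finalOKc 1539000 898000 2000 = true := by decide +kernel


end Cfsg.Agent.Lib.Lead.HNP.HNTC
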