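import Cfsg.Agent.Lib.Lead.HNP.HNTCSCert
import Cfsg.Agent.Lib.Helper6.TCGIndex
import Cfsg.Agent.Lib.Lead.HNP.HNTCSFin49

/-! # HNTC: the kernel check that the first rows are closed, part 73 -/

set_option autoImplicit false

namespace Cfsg.Agent.Lib.Lead.HNP.HNTC

open Cfsg.Agent.Lib.Helper6.TC Cfsg.Agent.Lib.Helper6.TCGS

theorem chk_fin657 : cert.finalOKc 1539000 1314000 2000 = true := by decide +kernel

theorem chk_fin658 : cert.finalOKc 1539000 1316000 2000 = true := by decide +kernel

theorem chk_fin659 : cert.finalOKc 1539000 1318000 2000 = true := by decide +kernel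

theorem chk_fin660 : cert.finalOKc 1539000 1320000 2000 = true := by decide +kernel

theorem chk_fin661 : cert.finalOKc 1539000 1322000 2000 = true := by decide +kernel

theorem chk_fin662 : cert.finalOKc 1539000 1324000 2000 = true := by decide +kernel

theorem chk_fin663 : cert.finalOKc 1539000 1326000 2000 = true := by decide +kernel

theorem chk_fin664 : cert.finalOKc 1539000 1328000 2000 = true := by decide +kernel

theorem chk_fin665 : cert.finalOKc 1539000 1330000 2000 = true := by decide +kernel


end Cfsg.Agent.Lib.Lead.HNP.HNTC
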