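import Cfsg.Agent.Lib.Lead.HNP.HNTCData
import Cfsg.Agent.Lib.Helper6.TCRel3
import Cfsg.Agent.Lib.Lead.HNP.HNTCSFin73

/-! # HNTC: the kernel check of a part of the relators on the coset table -/

set_option autoImplicit false

namespace Cfsg.Agent.Lib.Lead.HNP.HNTC

open Cfsg.Agent.Lib.Helper6.TC

theorem chk_pow1_18_0 : tab.minOKc [0, 0, 2, 0, 0, 3] 1 1439910 5333 = true := by decide +kernel

theorem chk_pow1_18_1 : tab.minOKc [0, 0, 2, 0, 0, 3] 1 1445243 5333 = true := by decide +kernel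

theorem chk_pow1_18_2 : tab.minOKc [0, 0, 2, 0, 0, 3] 1 1450576 5333 = true := by decide +kernel

theorem chk_pow1_18_3 : tab.minOKc [0, 0, 2, 0, 0, 3] 1 1455909 5333 = true := by decide +kernel

theorem chk_pow1_18_4 : tab.minOKc [0, 0, 2, 0, 0, 3] 1 1461242 5333 = true := by decide +kernel

theorem chk_pow1_18_5 : tab.minOKc [0, 0, 2, 0, 0, 3] 1 1466575 5333 = true := by decide +kernel

theorem chk_pow1_18_6 : tab.minOKc [0, 0, 2, 0, 0, 3] 1 1471908 5333 = true := by decide +kernel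

theorem chk_pow1_18_7 : tab.minOKc [0, 0, 2, 0, 0, 3] 1 1477241 5333 = true := by decide +kernel

theorem chk_pow1_18_8 : tab.minOKc [0, 0, 2, 0, 0, 3] 1 1482574 5333 = true := by decide +kernel

theorem chk_pow1_18_9 : tab.minOKc [0, 0, 2, 0, 0, 3] 1 1487907 5333 = true := by decide +kernel

theorem chk_pow1_18_10 : tab.minOKc [0, 0, 2, 0, 0, 3] 1 1493240 5333 = true := by decide +kernel

theorem chk_pow1_18_11 : tab.minOKc [0, 0, 2, 0, 0, 3] 1 1498573 5333 = true := by decide +kernel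

theorem chk_pow1_18_12 : tab.minOKc [0, 0, 2, 0, 0, 3] 1 1503906 5333 = true := by decide +kernel

theorem chk_pow1_18_13 : tab.minOKc [0, 0, 2, 0, 0, 3] 1 1509239 5333 = true := by decide +kernel

theorem chk_pow1_18_14 : tab.minOKc [0, 0, 2, 0, 0, 3] 1 1514572 5333 = true := by decide +kernel

theorem chk_pow1_18 : tab.minOKc [0, 0, 2, 0, 0, 3] 1 1439910 79995 = true := by
  refine tab.minOKc_of_chunks [0, 0, 2, 0, 0, 3] 1 1439910 5333 15 (by norm_num) ?_
  intro i hi
  interval_cases i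
  · exact chk_pow1_18_0
  · exact chk_pow1_18_1
  · exact chk_pow1_18_2
  · exact chk_pow1_18_3
  · exact chk_pow1_18_4
  · exact chk_pow1_18_5
  · exact chk_pow1_18_6
  · exact chk_pow1_18_7
  · exact chk_pow1_18_8
  · exact chk_pow1_18_9
  · exact chk_pow1_18_10
  · exact chk_pow1_18_11
  · exact chk_pow1_18_12
  · exact chk_pow1_18_13
  · exact chk_pow1_18_14

theorem chk_pow1_19_0 : tab.minOKc [0, 0, 2, 0, 0, 3] 1 1519905 5333 = true := by decide +kernel

theorem chk_pow1_19_1 : tab.minOKc [0, 0, 2, 0, 0, 3] 1 1525238 5333 = true := by decide +kernel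

theorem chk_pow1_19_2 : tab.minOKc [0, 0, 2, 0, 0, 3] 1 1530571 5333 = true := by decide +kernel

theorem chk_pow1_19_3 : tab.minOKc [0, 0, 2, 0, 0, 3] 1 1535904 5333 = true := by decide +kernel

theorem chk_pow1_19_4 : tab.minOKc [0, 0, 2, 0, 0, 3] 1 1541237 5333 = true := by decide +kernel

theorem chk_pow1_19_5 : tab.minOKc [0, 0, 2, 0, 0, 3] 1 1546570 5333 = true := by decide +kernel

theorem chk_pow1_19_6 : tab.minOKc [0, 0, 2, 0, 0, 3] 1 1551903 5333 = true := by decide +kernel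

theorem chk_pow1_19_7 : tab.minOKc [0, 0, 2, 0, 0, 3] 1 1557236 5333 = true := by decide +kernel

theorem chk_pow1_19_8 : tab.minOKc [0, 0, 2, 0, 0, 3] 1 1562569 5333 = true := by decide +kernel

theorem chk_pow1_19_9 : tab.minOKc [0, 0, 2, 0, 0, 3] 1 1567902 5333 = true := by decide +kernel

theorem chk_pow1_19_10 : tab.minOKc [0, 0, 2, 0, 0, 3] 1 1573235 5333 = true := by decide +kernel

theorem chk_pow1_19_11 : tab.minOKc [0, 0, 2, 0, 0, 3] 1 1578568 5333 = true := by decide +kernel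

theorem chk_pow1_19_12 : tab.minOKc [0, 0, 2, 0, 0, 3] 1 1583901 5333 = true := by decide +kernel

theorem chk_pow1_19_13 : tab.minOKc [0, 0, 2, 0, 0, 3] 1 1589234 5333 = true := by decide +kernel

theorem chk_pow1_19_14 : tab.minOKc [0, 0, 2, 0, 0, 3] 1 1594567 5333 = true := by decide +kernel

theorem chk_pow1_19 : tab.minOKc [0, 0, 2, 0, 0, 3] 1 1519905 79995 = true := by
  refine tab.minOKc_of_chunks [0, 0, 2, 0, 0, 3] 1 1519905 5333 15 (by norm_num) ?_
  intro i hi
  interval_cases i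
  · exact chk_pow1_19_0
  · exact chk_pow1_19_1
  · exact chk_pow1_19_2
  · exact chk_pow1_19_3
  · exact chk_pow1_19_4
  · exact chk_pow1_19_5
  · exact chk_pow1_19_6
  · exact chk_pow1_19_7
  · exact chk_pow1_19_8
  · exact chk_pow1_19_9
  · exact chk_pow1_19_10
  · exact chk_pow1_19_11
  · exact chk_pow1_19_12
  · exact chk_pow1_19_13
  · exact chk_pow1_19_14


end Cfsg.Agent.Lib.Lead.HNP.HNTC
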