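import Cfsg.Agent.Lib.Lead.HNP.HNTCData
import Cfsg.Agent.Lib.Helper6.TCRel3
import Cfsg.Agent.Lib.Lead.HNP.HNTCRel11

/-! # HNTC: the kernel check of a part of the relators on the coset table -/

set_option autoImplicit false

namespace Cfsg.Agent.Lib.Lead.HNP.HNTC

open Cfsg.Agent.Lib.Helper6.TC

theorem chk_pow5_3_0 : tab.minOKc [0, 2, 0, 2, 2, 2] 4 239985 5333 = true := by decide +kernel

theorem chk_pow5_3_1 : tab.minOKc [0, 2, 0, 2, 2, 2] 4 245318 5333 = true := by decide +kernel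

theorem chk_pow5_3_2 : tab.minOKc [0, 2, 0, 2, 2, 2] 4 250651 5333 = true := by decide +kernel

theorem chk_pow5_3_3 : tab.minOKc [0, 2, 0, 2, 2, 2] 4 255984 5333 = true := by decide +kernel

theorem chk_pow5_3_4 : tab.minOKc [0, 2, 0, 2, 2, 2] 4 261317 5333 = true := by decide +kernel

theorem chk_pow5_3_5 : tab.minOKc [0, 2, 0, 2, 2, 2] 4 266650 5333 = true := by decide +kernel

theorem chk_pow5_3_6 : tab.minOKc [0, 2, 0, 2, 2, 2] 4 271983 5333 = true := by decide +kernel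

theorem chk_pow5_3_7 : tab.minOKc [0, 2, 0, 2, 2, 2] 4 277316 5333 = true := by decide +kernel

theorem chk_pow5_3_8 : tab.minOKc [0, 2, 0, 2, 2, 2] 4 282649 5333 = true := by decide +kernel

theorem chk_pow5_3_9 : tab.minOKc [0, 2, 0, 2, 2, 2] 4 287982 5333 = true := by decide +kernel

theorem chk_pow5_3_10 : tab.minOKc [0, 2, 0, 2, 2, 2] 4 293315 5333 = true := by decide +kernel

theorem chk_pow5_3_11 : tab.minOKc [0, 2, 0, 2, 2, 2] 4 298648 5333 = true := by decide +kernel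

theorem chk_pow5_3_12 : tab.minOKc [0, 2, 0, 2, 2, 2] 4 303981 5333 = true := by decide +kernel

theorem chk_pow5_3_13 : tab.minOKc [0, 2, 0, 2, 2, 2] 4 309314 5333 = true := by decide +kernel

theorem chk_pow5_3_14 : tab.minOKc [0, 2, 0, 2, 2, 2] 4 314647 5333 = true := by decide +kernel

theorem chk_pow5_3 : tab.minOKc [0, 2, 0, 2, 2, 2] 4 239985 79995 = true := by
  refine tab.minOKc_of_chunks [0, 2, 0, 2, 2, 2] 4 239985 5333 15 (by norm_num) ?_
  intro i hi
  interval_cases i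
  · exact chk_pow5_3_0
  · exact chk_pow5_3_1
  · exact chk_pow5_3_2
  · exact chk_pow5_3_3
  · exact chk_pow5_3_4
  · exact chk_pow5_3_5
  · exact chk_pow5_3_6
  · exact chk_pow5_3_7
  · exact chk_pow5_3_8
  · exact chk_pow5_3_9
  · exact chk_pow5_3_10
  · exact chk_pow5_3_11
  · exact chk_pow5_3_12
  · exact chk_pow5_3_13
  · exact chk_pow5_3_14

theorem chk_pow5_4_0 : tab.minOKc [0, 2, 0, 2, 2, 2] 4 319980 5333 = true := by decide +kernel

theorem chk_pow5_4_1 : tab.minOKc [0, 2, 0, 2, 2, 2] 4 325313 5333 = true := by decide +kernel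

theorem chk_pow5_4_2 : tab.minOKc [0, 2, 0, 2, 2, 2] 4 330646 5333 = true := by decide +kernel

theorem chk_pow5_4_3 : tab.minOKc [0, 2, 0, 2, 2, 2] 4 335979 5333 = true := by decide +kernel

theorem chk_pow5_4_4 : tab.minOKc [0, 2, 0, 2, 2, 2] 4 341312 5333 = true := by decide +kernel

theorem chk_pow5_4_5 : tab.minOKc [0, 2, 0, 2, 2, 2] 4 346645 5333 = true := by decide +kernel

theorem chk_pow5_4_6 : tab.minOKc [0, 2, 0, 2, 2, 2] 4 351978 5333 = true := by decide +kernel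

theorem chk_pow5_4_7 : tab.minOKc [0, 2, 0, 2, 2, 2] 4 357311 5333 = true := by decide +kernel

theorem chk_pow5_4_8 : tab.minOKc [0, 2, 0, 2, 2, 2] 4 362644 5333 = true := by decide +kernel

theorem chk_pow5_4_9 : tab.minOKc [0, 2, 0, 2, 2, 2] 4 367977 5333 = true := by decide +kernel

theorem chk_pow5_4_10 : tab.minOKc [0, 2, 0, 2, 2, 2] 4 373310 5333 = true := by decide +kernel

theorem chk_pow5_4_11 : tab.minOKc [0, 2, 0, 2, 2, 2] 4 378643 5333 = true := by decide +kernel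

theorem chk_pow5_4_12 : tab.minOKc [0, 2, 0, 2, 2, 2] 4 383976 5333 = true := by decide +kernel

theorem chk_pow5_4_13 : tab.minOKc [0, 2, 0, 2, 2, 2] 4 389309 5333 = true := by decide +kernel

theorem chk_pow5_4_14 : tab.minOKc [0, 2, 0, 2, 2, 2] 4 394642 5333 = true := by decide +kernel

theorem chk_pow5_4 : tab.minOKc [0, 2, 0, 2, 2, 2] 4 319980 79995 = true := by
  refine tab.minOKc_of_chunks [0, 2, 0, 2, 2, 2] 4 319980 5333 15 (by norm_num) ?_
  intro i hi
  interval_cases i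
  · exact chk_pow5_4_0
  · exact chk_pow5_4_1
  · exact chk_pow5_4_2
  · exact chk_pow5_4_3
  · exact chk_pow5_4_4
  · exact chk_pow5_4_5
  · exact chk_pow5_4_6
  · exact chk_pow5_4_7
  · exact chk_pow5_4_8
  · exact chk_pow5_4_9
  · exact chk_pow5_4_10
  · exact chk_pow5_4_11
  · exact chk_pow5_4_12
  · exact chk_pow5_4_13
  · exact chk_pow5_4_14


end Cfsg.Agent.Lib.Lead.HNP.HNTC
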