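import Cfsg.Agent.Lib.Lead.HNP.HNTCData
import Cfsg.Agent.Lib.Helper6.TCRel3
import Cfsg.Agent.Lib.Lead.HNP.HNTCRel35

/-! # HNTC: the kernel check of a part of the relators on the coset table -/

set_option autoImplicit false

namespace Cfsg.Agent.Lib.Lead.HNP.HNTC

open Cfsg.Agent.Lib.Helper6.TC

theorem chk_pow8_20_0 : tab.minOKc [5, 2, 1, 3, 3, 1, 3, 1, 3, 4, 2, 0, 2, 0, 2, 2, 0, 3, 1, 1] 1 480000 1600 = true := by decide +kernel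

theorem chk_pow8_20_1 : tab.minOKc [5, 2, 1, 3, 3, 1, 3, 1, 3, 4, 2, 0, 2, 0, 2, 2, 0, 3, 1, 1] 1 481600 1600 = true := by decide +kernel

theorem chk_pow8_20_2 : tab.minOKc [5, 2, 1, 3, 3, 1, 3, 1, 3, 4, 2, 0, 2, 0, 2, 2, 0, 3, 1, 1] 1 483200 1600 = true := by decide +kernel

theorem chk_pow8_20_3 : tab.minOKc [5, 2, 1, 3, 3, 1, 3, 1, 3, 4, 2, 0, 2, 0, 2, 2, 0, 3, 1, 1] 1 484800 1600 = true := by decide +kernel

theorem chk_pow8_20_4 : tab.minOKc [5, 2, 1, 3, 3, 1, 3, 1, 3, 4, 2, 0, 2, 0, 2, 2, 0, 3, 1, 1] 1 486400 1600 = true := by decide +kernel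

theorem chk_pow8_20_5 : tab.minOKc [5, 2, 1, 3, 3, 1, 3, 1, 3, 4, 2, 0, 2, 0, 2, 2, 0, 3, 1, 1] 1 488000 1600 = true := by decide +kernel

theorem chk_pow8_20_6 : tab.minOKc [5, 2, 1, 3, 3, 1, 3, 1, 3, 4, 2, 0, 2, 0, 2, 2, 0, 3, 1, 1] 1 489600 1600 = true := by decide +kernel

theorem chk_pow8_20_7 : tab.minOKc [5, 2, 1, 3, 3, 1, 3, 1, 3, 4, 2, 0, 2, 0, 2, 2, 0, 3, 1, 1] 1 491200 1600 = true := by decide +kernel

theorem chk_pow8_20_8 : tab.minOKc [5, 2, 1, 3, 3, 1, 3, 1, 3, 4, 2, 0, 2, 0, 2, 2, 0, 3, 1, 1] 1 492800 1600 = true := by decide +kernel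

theorem chk_pow8_20_9 : tab.minOKc [5, 2, 1, 3, 3, 1, 3, 1, 3, 4, 2, 0, 2, 0, 2, 2, 0, 3, 1, 1] 1 494400 1600 = true := by decide +kernel

theorem chk_pow8_20_10 : tab.minOKc [5, 2, 1, 3, 3, 1, 3, 1, 3, 4, 2, 0, 2, 0, 2, 2, 0, 3, 1, 1] 1 496000 1600 = true := by decide +kernel

theorem chk_pow8_20_11 : tab.minOKc [5, 2, 1, 3, 3, 1, 3, 1, 3, 4, 2, 0, 2, 0, 2, 2, 0, 3, 1, 1] 1 497600 1600 = true := by decide +kernel

theorem chk_pow8_20_12 : tab.minOKc [5, 2, 1, 3, 3, 1, 3, 1, 3, 4, 2, 0, 2, 0, 2, 2, 0, 3, 1, 1] 1 499200 1600 = true := by decide +kernel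

theorem chk_pow8_20_13 : tab.minOKc [5, 2, 1, 3, 3, 1, 3, 1, 3, 4, 2, 0, 2, 0, 2, 2, 0, 3, 1, 1] 1 500800 1600 = true := by decide +kernel

theorem chk_pow8_20_14 : tab.minOKc [5, 2, 1, 3, 3, 1, 3, 1, 3, 4, 2, 0, 2, 0, 2, 2, 0, 3, 1, 1] 1 502400 1600 = true := by decide +kernel

theorem chk_pow8_20 : tab.minOKc [5, 2, 1, 3, 3, 1, 3, 1, 3, 4, 2, 0, 2, 0, 2, 2, 0, 3, 1, 1] 1 480000 24000 = true := by
  refine tab.minOKc_of_chunks [5, 2, 1, 3, 3, 1, 3, 1, 3, 4, 2, 0, 2, 0, 2, 2, 0, 3, 1, 1] 1 480000 1600 15 (by norm_num) ?_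
  intro i hi
  interval_cases i
  · exact chk_pow8_20_0
  · exact chk_pow8_20_1
  · exact chk_pow8_20_2
  · exact chk_pow8_20_3
  · exact chk_pow8_20_4
  · exact chk_pow8_20_5
  · exact chk_pow8_20_6
  · exact chk_pow8_20_7
  · exact chk_pow8_20_8
  · exact chk_pow8_20_9
  · exact chk_pow8_20_10
  · exact chk_pow8_20_11
  · exact chk_pow8_20_12
  · exact chk_pow8_20_13
  · exact chk_pow8_20_14

theorem chk_pow8_21_0 : tab.minOKc [5, 2, 1, 3, 3, 1, 3, 1, 3, 4, 2, 0, 2, 0, 2, 2, 0, 3, 1, 1] 1 504000 1600 = true := by decide +kernel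

theorem chk_pow8_21_1 : tab.minOKc [5, 2, 1, 3, 3, 1, 3, 1, 3, 4, 2, 0, 2, 0, 2, 2, 0, 3, 1, 1] 1 505600 1600 = true := by decide +kernel

theorem chk_pow8_21_2 : tab.minOKc [5, 2, 1, 3, 3, 1, 3, 1, 3, 4, 2, 0, 2, 0, 2, 2, 0, 3, 1, 1] 1 507200 1600 = true := by decide +kernel

theorem chk_pow8_21_3 : tab.minOKc [5, 2, 1, 3, 3, 1, 3, 1, 3, 4, 2, 0, 2, 0, 2, 2, 0, 3, 1, 1] 1 508800 1600 = true := by decide +kernel

theorem chk_pow8_21_4 : tab.minOKc [5, 2, 1, 3, 3, 1, 3, 1, 3, 4, 2, 0, 2, 0, 2, 2, 0, 3, 1, 1] 1 510400 1600 = true := by decide +kernel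

theorem chk_pow8_21_5 : tab.minOKc [5, 2, 1, 3, 3, 1, 3, 1, 3, 4, 2, 0, 2, 0, 2, 2, 0, 3, 1, 1] 1 512000 1600 = true := by decide +kernel

theorem chk_pow8_21_6 : tab.minOKc [5, 2, 1, 3, 3, 1, 3, 1, 3, 4, 2, 0, 2, 0, 2, 2, 0, 3, 1, 1] 1 513600 1600 = true := by decide +kernel

theorem chk_pow8_21_7 : tab.minOKc [5, 2, 1, 3, 3, 1, 3, 1, 3, 4, 2, 0, 2, 0, 2, 2, 0, 3, 1, 1] 1 515200 1600 = true := by decide +kernel

theorem chk_pow8_21_8 : tab.minOKc [5, 2, 1, 3, 3, 1, 3, 1, 3, 4, 2, 0, 2, 0, 2, 2, 0, 3, 1, 1] 1 516800 1600 = true := by decide +kernel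

theorem chk_pow8_21_9 : tab.minOKc [5, 2, 1, 3, 3, 1, 3, 1, 3, 4, 2, 0, 2, 0, 2, 2, 0, 3, 1, 1] 1 518400 1600 = true := by decide +kernel

theorem chk_pow8_21_10 : tab.minOKc [5, 2, 1, 3, 3, 1, 3, 1, 3, 4, 2, 0, 2, 0, 2, 2, 0, 3, 1, 1] 1 520000 1600 = true := by decide +kernel

theorem chk_pow8_21_11 : tab.minOKc [5, 2, 1, 3, 3, 1, 3, 1, 3, 4, 2, 0, 2, 0, 2, 2, 0, 3, 1, 1] 1 521600 1600 = true := by decide +kernel

theorem chk_pow8_21_12 : tab.minOKc [5, 2, 1, 3, 3, 1, 3, 1, 3, 4, 2, 0, 2, 0, 2, 2, 0, 3, 1, 1] 1 523200 1600 = true := by decide +kernel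

theorem chk_pow8_21_13 : tab.minOKc [5, 2, 1, 3, 3, 1, 3, 1, 3, 4, 2, 0, 2, 0, 2, 2, 0, 3, 1, 1] 1 524800 1600 = true := by decide +kernel

theorem chk_pow8_21_14 : tab.minOKc [5, 2, 1, 3, 3, 1, 3, 1, 3, 4, 2, 0, 2, 0, 2, 2, 0, 3, 1, 1] 1 526400 1600 = true := by decide +kernel

theorem chk_pow8_21 : tab.minOKc [5, 2, 1, 3, 3, 1, 3, 1, 3, 4, 2, 0, 2, 0, 2, 2, 0, 3, 1, 1] 1 504000 24000 = true := by
  refine tab.minOKc_of_chunks [5, 2, 1, 3, 3, 1, 3, 1, 3, 4, 2, 0, 2, 0, 2, 2, 0, 3, 1, 1] 1 504000 1600 15 (by norm_num) ?_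
  intro i hi
  interval_cases i
  · exact chk_pow8_21_0
  · exact chk_pow8_21_1
  · exact chk_pow8_21_2
  · exact chk_pow8_21_3
  · exact chk_pow8_21_4
  · exact chk_pow8_21_5
  · exact chk_pow8_21_6
  · exact chk_pow8_21_7
  · exact chk_pow8_21_8
  · exact chk_pow8_21_9
  · exact chk_pow8_21_10
  · exact chk_pow8_21_11
  · exact chk_pow8_21_12
  · exact chk_pow8_21_13
  · exact chk_pow8_21_14


end Cfsg.Agent.Lib.Lead.HNP.HNTC
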