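import Cfsg.Agent.Lib.Lead.HNP.HNTCSCert

/-! # HNTC: the kernel check of the rows from 183936 on -/

set_option autoImplicit false

namespace Cfsg.Agent.Lib.Lead.HNP.HNTC

open Cfsg.Agent.Lib.Helper6.TC Cfsg.Agent.Lib.Helper6.TCGS

theorem chk_rows16_0 : cert.rowsOK 183936 479 = true := by decide +kernel

theorem chk_rows16_1 : cert.rowsOK 184415 479 = true := by decide +kernel

theorem chk_rows16_2 : cert.rowsOK 184894 479 = true := by decide +kernel

theorem chk_rows16_3 : cert.rowsOK 185373 479 = true := by decide +kernel

theorem chk_rows16_4 : cert.rowsOK 185852 479 = true := by decide +kernel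

theorem chk_rows16_5 : cert.rowsOK 186331 479 = true := by decide +kernel

theorem chk_rows16_6 : cert.rowsOK 186810 479 = true := by decide +kernel

theorem chk_rows16_7 : cert.rowsOK 187289 479 = true := by decide +kernel

theorem chk_rows16_8 : cert.rowsOK 187768 479 = true := by decide +kernel

theorem chk_rows16_9 : cert.rowsOK 188247 479 = true := by decide +kernel

theorem chk_rows16_10 : cert.rowsOK 188726 479 = true := by decide +kernel

theorem chk_rows16_11 : cert.rowsOK 189205 479 = true := by decide +kernel

theorem chk_rows16_12 : cert.rowsOK 189684 479 = true := by decide +kernel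

theorem chk_rows16_13 : cert.rowsOK 190163 479 = true := by decide +kernel

theorem chk_rows16_14 : cert.rowsOK 190642 479 = true := by decide +kernel

theorem chk_rows16_15 : cert.rowsOK 191121 479 = true := by decide +kernel

theorem chk_rows16_16 : cert.rowsOK 191600 479 = true := by decide +kernel

theorem chk_rows16_17 : cert.rowsOK 192079 479 = true := by decide +kernel

theorem chk_rows16_18 : cert.rowsOK 192558 479 = true := by decide +kernel

theorem chk_rows16_19 : cert.rowsOK 193037 479 = true := by decide +kernel

theorem chk_rows16_20 : cert.rowsOK 193516 479 = true := by decide +kernel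

theorem chk_rows16_21 : cert.rowsOK 193995 479 = true := by decide +kernel

theorem chk_rows16_22 : cert.rowsOK 194474 479 = true := by decide +kernel

theorem chk_rows16_23 : cert.rowsOK 194953 479 = true := by decide +kernel

theorem chk_range16 : ∀ a, 183936 ≤ a → a < 195432 → ∀ x < cert.c.g, cert.slotOK a x = true := by
  refine cert.range_of_chunks 183936 479 24 (by norm_num) ?_
  intro k hk
  interval_cases k
  · exact chk_rows16_0
  · exact chk_rows16_1
  · exact chk_rows16_2
  · exact chk_rows16_3
  · exact chk_rows16_4
  · exact chk_rows16_5
  · exact chk_rows16_6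
  · exact chk_rows16_7
  · exact chk_rows16_8
  · exact chk_rows16_9
  · exact chk_rows16_10
  · exact chk_rows16_11
  · exact chk_rows16_12
  · exact chk_rows16_13
  · exact chk_rows16_14
  · exact chk_rows16_15
  · exact chk_rows16_16
  · exact chk_rows16_17
  · exact chk_rows16_18
  · exact chk_rows16_19
  · exact chk_rows16_20
  · exact chk_rows16_21
  · exact chk_rows16_22
  · exact chk_rows16_23

end Cfsg.Agent.Lib.Lead.HNP.HNTC
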