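import Cfsg.Agent.Lib.Lead.HNP.HNTCSCert
import Cfsg.Agent.Lib.Lead.HNP.HNTCSRows16

/-! # HNTC: the kernel check of the rows from 459840 on -/

set_option autoImplicit false

namespace Cfsg.Agent.Lib.Lead.HNP.HNTC

open Cfsg.Agent.Lib.Helper6.TC Cfsg.Agent.Lib.Helper6.TCGS

theorem chk_rows40_0 : cert.rowsOK 459840 479 = true := by decide +kernel

theorem chk_rows40_1 : cert.rowsOK 460319 479 = true := by decide +kernel

theorem chk_rows40_2 : cert.rowsOK 460798 479 = true := by decide +kernel

theorem chk_rows40_3 : cert.rowsOK 461277 479 = true := by decide +kernel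

theorem chk_rows40_4 : cert.rowsOK 461756 479 = true := by decide +kernel

theorem chk_rows40_5 : cert.rowsOK 462235 479 = true := by decide +kernel

theorem chk_rows40_6 : cert.rowsOK 462714 479 = true := by decide +kernel

theorem chk_rows40_7 : cert.rowsOK 463193 479 = true := by decide +kernel

theorem chk_rows40_8 : cert.rowsOK 463672 479 = true := by decide +kernel

theorem chk_rows40_9 : cert.rowsOK 464151 479 = true := by decide +kernel

theorem chk_rows40_10 : cert.rowsOK 464630 479 = true := by decide +kernel

theorem chk_rows40_11 : cert.rowsOK 465109 479 = true := by decide +kernel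

theorem chk_rows40_12 : cert.rowsOK 465588 479 = true := by decide +kernel

theorem chk_rows40_13 : cert.rowsOK 466067 479 = true := by decide +kernel

theorem chk_rows40_14 : cert.rowsOK 466546 479 = true := by decide +kernel

theorem chk_rows40_15 : cert.rowsOK 467025 479 = true := by decide +kernel

theorem chk_rows40_16 : cert.rowsOK 467504 479 = true := by decide +kernel

theorem chk_rows40_17 : cert.rowsOK 467983 479 = true := by decide +kernel

theorem chk_rows40_18 : cert.rowsOK 468462 479 = true := by decide +kernel

theorem chk_rows40_19 : cert.rowsOK 468941 479 = true := by decide +kernel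

theorem chk_rows40_20 : cert.rowsOK 469420 479 = true := by decide +kernel

theorem chk_rows40_21 : cert.rowsOK 469899 479 = true := by decide +kernel

theorem chk_rows40_22 : cert.rowsOK 470378 479 = true := by decide +kernel

theorem chk_rows40_23 : cert.rowsOK 470857 479 = true := by decide +kernel

theorem chk_range40 : ∀ a, 459840 ≤ a → a < 471336 → ∀ x < cert.c.g, cert.slotOK a x = true := by
  refine cert.range_of_chunks 459840 479 24 (by norm_num) ?_
  intro k hk
  interval_cases k
  · exact chk_rows40_0
  · exact chk_rows40_1
  · exact chk_rows40_2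
  · exact chk_rows40_3
  · exact chk_rows40_4
  · exact chk_rows40_5
  · exact chk_rows40_6
  · exact chk_rows40_7
  · exact chk_rows40_8
  · exact chk_rows40_9
  · exact chk_rows40_10
  · exact chk_rows40_11
  · exact chk_rows40_12
  · exact chk_rows40_13
  · exact chk_rows40_14
  · exact chk_rows40_15
  · exact chk_rows40_16
  · exact chk_rows40_17
  · exact chk_rows40_18
  · exact chk_rows40_19
  · exact chk_rows40_20
  · exact chk_rows40_21
  · exact chk_rows40_22
  · exact chk_rows40_23

end Cfsg.Agent.Lib.Lead.HNP.HNTC
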