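import Cfsg.Agent.Lib.Lead.HNP.HNTCSCert
import Cfsg.Agent.Lib.Lead.HNP.HNTCSRows40

/-! # HNTC: the kernel check of the rows from 735744 on -/

set_option autoImplicit false

namespace Cfsg.Agent.Lib.Lead.HNP.HNTC

open Cfsg.Agent.Lib.Helper6.TC Cfsg.Agent.Lib.Helper6.TCGS

theorem chk_rows64_0 : cert.rowsOK 735744 479 = true := by decide +kernel

theorem chk_rows64_1 : cert.rowsOK 736223 479 = true := by decide +kernel

theorem chk_rows64_2 : cert.rowsOK 736702 479 = true := by decide +kernel

theorem chk_rows64_3 : cert.rowsOK 737181 479 = true := by decide +kernel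

theorem chk_rows64_4 : cert.rowsOK 737660 479 = true := by decide +kernel

theorem chk_rows64_5 : cert.rowsOK 738139 479 = true := by decide +kernel

theorem chk_rows64_6 : cert.rowsOK 738618 479 = true := by decide +kernel

theorem chk_rows64_7 : cert.rowsOK 739097 479 = true := by decide +kernel

theorem chk_rows64_8 : cert.rowsOK 739576 479 = true := by decide +kernel

theorem chk_rows64_9 : cert.rowsOK 740055 479 = true := by decide +kernel

theorem chk_rows64_10 : cert.rowsOK 740534 479 = true := by decide +kernel

theorem chk_rows64_11 : cert.rowsOK 741013 479 = true := by decide +kernel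

theorem chk_rows64_12 : cert.rowsOK 741492 479 = true := by decide +kernel

theorem chk_rows64_13 : cert.rowsOK 741971 479 = true := by decide +kernel

theorem chk_rows64_14 : cert.rowsOK 742450 479 = true := by decide +kernel

theorem chk_rows64_15 : cert.rowsOK 742929 479 = true := by decide +kernel

theorem chk_rows64_16 : cert.rowsOK 743408 479 = true := by decide +kernel

theorem chk_rows64_17 : cert.rowsOK 743887 479 = true := by decide +kernel

theorem chk_rows64_18 : cert.rowsOK 744366 479 = true := by decide +kernel

theorem chk_rows64_19 : cert.rowsOK 744845 479 = true := by decide +kernel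

theorem chk_rows64_20 : cert.rowsOK 745324 479 = true := by decide +kernel

theorem chk_rows64_21 : cert.rowsOK 745803 479 = true := by decide +kernel

theorem chk_rows64_22 : cert.rowsOK 746282 479 = true := by decide +kernel

theorem chk_rows64_23 : cert.rowsOK 746761 479 = true := by decide +kernel

theorem chk_range64 : ∀ a, 735744 ≤ a → a < 747240 → ∀ x < cert.c.g, cert.slotOK a x = true := by
  refine cert.range_of_chunks 735744 479 24 (by norm_num) ?_
  intro k hk
  interval_cases k
  · exact chk_rows64_0
  · exact chk_rows64_1
  · exact chk_rows64_2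
  · exact chk_rows64_3
  · exact chk_rows64_4
  · exact chk_rows64_5
  · exact chk_rows64_6
  · exact chk_rows64_7
  · exact chk_rows64_8
  · exact chk_rows64_9
  · exact chk_rows64_10
  · exact chk_rows64_11
  · exact chk_rows64_12
  · exact chk_rows64_13
  · exact chk_rows64_14
  · exact chk_rows64_15
  · exact chk_rows64_16
  · exact chk_rows64_17
  · exact chk_rows64_18
  · exact chk_rows64_19
  · exact chk_rows64_20
  · exact chk_rows64_21
  · exact chk_rows64_22
  · exact chk_rows64_23

end Cfsg.Agent.Lib.Lead.HNP.HNTC
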