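import Cfsg.Agent.Lib.Lead.HNP.HNTCSCert
import Cfsg.Agent.Lib.Lead.HNP.HNTCSRows64

/-! # HNTC: the kernel check of the rows from 1011648 on -/

set_option autoImplicit false

namespace Cfsg.Agent.Lib.Lead.HNP.HNTC

open Cfsg.Agent.Lib.Helper6.TC Cfsg.Agent.Lib.Helper6.TCGS

theorem chk_rows88_0 : cert.rowsOK 1011648 479 = true := by decide +kernel

theorem chk_rows88_1 : cert.rowsOK 1012127 479 = true := by decide +kernel

theorem chk_rows88_2 : cert.rowsOK 1012606 479 = true := by decide +kernel

theorem chk_rows88_3 : cert.rowsOK 1013085 479 = true := by decide +kernel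

theorem chk_rows88_4 : cert.rowsOK 1013564 479 = true := by decide +kernel

theorem chk_rows88_5 : cert.rowsOK 1014043 479 = true := by decide +kernel

theorem chk_rows88_6 : cert.rowsOK 1014522 479 = true := by decide +kernel

theorem chk_rows88_7 : cert.rowsOK 1015001 479 = true := by decide +kernel

theorem chk_rows88_8 : cert.rowsOK 1015480 479 = true := by decide +kernel

theorem chk_rows88_9 : cert.rowsOK 1015959 479 = true := by decide +kernel

theorem chk_rows88_10 : cert.rowsOK 1016438 479 = true := by decide +kernel

theorem chk_rows88_11 : cert.rowsOK 1016917 479 = true := by decide +kernel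

theorem chk_rows88_12 : cert.rowsOK 1017396 479 = true := by decide +kernel

theorem chk_rows88_13 : cert.rowsOK 1017875 479 = true := by decide +kernel

theorem chk_rows88_14 : cert.rowsOK 1018354 479 = true := by decide +kernel

theorem chk_rows88_15 : cert.rowsOK 1018833 479 = true := by decide +kernel

theorem chk_rows88_16 : cert.rowsOK 1019312 479 = true := by decide +kernel

theorem chk_rows88_17 : cert.rowsOK 1019791 479 = true := by decide +kernel

theorem chk_rows88_18 : cert.rowsOK 1020270 479 = true := by decide +kernel

theorem chk_rows88_19 : cert.rowsOK 1020749 479 = true := by decide +kernel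

theorem chk_rows88_20 : cert.rowsOK 1021228 479 = true := by decide +kernel

theorem chk_rows88_21 : cert.rowsOK 1021707 479 = true := by decide +kernel

theorem chk_rows88_22 : cert.rowsOK 1022186 479 = true := by decide +kernel

theorem chk_rows88_23 : cert.rowsOK 1022665 479 = true := by decide +kernel

theorem chk_range88 : ∀ a, 1011648 ≤ a → a < 1023144 → ∀ x < cert.c.g, cert.slotOK a x = true := by
  refine cert.range_of_chunks 1011648 479 24 (by norm_num) ?_
  intro k hk
  interval_cases k
  · exact chk_rows88_0
  · exact chk_rows88_1
  · exact chk_rows88_2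
  · exact chk_rows88_3
  · exact chk_rows88_4
  · exact chk_rows88_5
  · exact chk_rows88_6
  · exact chk_rows88_7
  · exact chk_rows88_8
  · exact chk_rows88_9
  · exact chk_rows88_10
  · exact chk_rows88_11
  · exact chk_rows88_12
  · exact chk_rows88_13
  · exact chk_rows88_14
  · exact chk_rows88_15
  · exact chk_rows88_16
  · exact chk_rows88_17
  · exact chk_rows88_18
  · exact chk_rows88_19
  · exact chk_rows88_20
  · exact chk_rows88_21
  · exact chk_rows88_22
  · exact chk_rows88_23

end Cfsg.Agent.Lib.Lead.HNP.HNTC
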