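import Cfsg.Agent.Lib.Lead.HNP.HNTCSCert
import Cfsg.Agent.Lib.Lead.HNP.HNTCSRows88

/-! # HNTC: the kernel check of the rows from 1287552 on -/

set_option autoImplicit false

namespace Cfsg.Agent.Lib.Lead.HNP.HNTC

open Cfsg.Agent.Lib.Helper6.TC Cfsg.Agent.Lib.Helper6.TCGS

theorem chk_rows112_0 : cert.rowsOK 1287552 479 = true := by decide +kernel

theorem chk_rows112_1 : cert.rowsOK 1288031 479 = true := by decide +kernel

theorem chk_rows112_2 : cert.rowsOK 1288510 479 = true := by decide +kernel

theorem chk_rows112_3 : cert.rowsOK 1288989 479 = true := by decide +kernel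

theorem chk_rows112_4 : cert.rowsOK 1289468 479 = true := by decide +kernel

theorem chk_rows112_5 : cert.rowsOK 1289947 479 = true := by decide +kernel

theorem chk_rows112_6 : cert.rowsOK 1290426 479 = true := by decide +kernel

theorem chk_rows112_7 : cert.rowsOK 1290905 479 = true := by decide +kernel

theorem chk_rows112_8 : cert.rowsOK 1291384 479 = true := by decide +kernel

theorem chk_rows112_9 : cert.rowsOK 1291863 479 = true := by decide +kernel

theorem chk_rows112_10 : cert.rowsOK 1292342 479 = true := by decide +kernel

theorem chk_rows112_11 : cert.rowsOK 1292821 479 = true := by decide +kernel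

theorem chk_rows112_12 : cert.rowsOK 1293300 479 = true := by decide +kernel

theorem chk_rows112_13 : cert.rowsOK 1293779 479 = true := by decide +kernel

theorem chk_rows112_14 : cert.rowsOK 1294258 479 = true := by decide +kernel

theorem chk_rows112_15 : cert.rowsOK 1294737 479 = true := by decide +kernel

theorem chk_rows112_16 : cert.rowsOK 1295216 479 = true := by decide +kernel

theorem chk_rows112_17 : cert.rowsOK 1295695 479 = true := by decide +kernel

theorem chk_rows112_18 : cert.rowsOK 1296174 479 = true := by decide +kernel

theorem chk_rows112_19 : cert.rowsOK 1296653 479 = true := by decide +kernel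

theorem chk_rows112_20 : cert.rowsOK 1297132 479 = true := by decide +kernel

theorem chk_rows112_21 : cert.rowsOK 1297611 479 = true := by decide +kernel

theorem chk_rows112_22 : cert.rowsOK 1298090 479 = true := by decide +kernel

theorem chk_rows112_23 : cert.rowsOK 1298569 479 = true := by decide +kernel

theorem chk_range112 : ∀ a, 1287552 ≤ a → a < 1299048 → ∀ x < cert.c.g, cert.slotOK a x = true := by
  refine cert.range_of_chunks 1287552 479 24 (by norm_num) ?_
  intro k hk
  interval_cases k
  · exact chk_rows112_0
  · exact chk_rows112_1
  · exact chk_rows112_2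
  · exact chk_rows112_3
  · exact chk_rows112_4
  · exact chk_rows112_5
  · exact chk_rows112_6
  · exact chk_rows112_7
  · exact chk_rows112_8
  · exact chk_rows112_9
  · exact chk_rows112_10
  · exact chk_rows112_11
  · exact chk_rows112_12
  · exact chk_rows112_13
  · exact chk_rows112_14
  · exact chk_rows112_15
  · exact chk_rows112_16
  · exact chk_rows112_17
  · exact chk_rows112_18
  · exact chk_rows112_19
  · exact chk_rows112_20
  · exact chk_rows112_21
  · exact chk_rows112_22
  · exact chk_rows112_23

end Cfsg.Agent.Lib.Lead.HNP.HNTC
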