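import Cfsg.Agent.Lib.Lead.HNP.HNTCSCert
import Cfsg.Agent.Lib.Helper6.TCGIndex
import Cfsg.Agent.Lib.Lead.HNP.HNTCSFin2

/-! # HNTC: the kernel check that the first rows are closed, part 26 -/

set_option autoImplicit false

namespace Cfsg.Agent.Lib.Lead.HNP.HNTC

open Cfsg.Agent.Lib.Helper6.TC Cfsg.Agent.Lib.Helper6.TCGS

theorem chk_fin234 : cert.finalOKc 1539000 468000 2000 = true := by decide +kernel

theorem chk_fin235 : cert.finalOKc 1539000 470000 2000 = true := by decide +kernel

theorem chk_fin236 : cert.finalOKc 1539000 472000 2000 = true := by decide +kernel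

theorem chk_fin237 : cert.finalOKc 1539000 474000 2000 = true := by decide +kernel

theorem chk_fin238 : cert.finalOKc 1539000 476000 2000 = true := by decide +kernel

theorem chk_fin239 : cert.finalOKc 1539000 478000 2000 = true := by decide +kernel

theorem chk_fin240 : cert.finalOKc 1539000 480000 2000 = true := by decide +kernel

theorem chk_fin241 : cert.finalOKc 1539000 482000 2000 = true := by decide +kernel

theorem chk_fin242 : cert.finalOKc 1539000 484000 2000 = true := by decide +kernel


end Cfsg.Agent.Lib.Lead.HNP.HNTC
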