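import Cfsg.Agent.Lib.Lead.HNP.HNTCSCert
import Cfsg.Agent.Lib.Helper6.TCGIndex
import Cfsg.Agent.Lib.Lead.HNP.HNTCSFin26

/-! # HNTC: the kernel check that the first rows are closed, part 50 -/

set_option autoImplicit false

namespace Cfsg.Agent.Lib.Lead.HNP.HNTC

open Cfsg.Agent.Lib.Helper6.TC Cfsg.Agent.Lib.Helper6.TCGS

theorem chk_fin450 : cert.finalOKc 1539000 900000 2000 = true := by decide +kernel

theorem chk_fin451 : cert.finalOKc 1539000 902000 2000 = true := by decide +kernel

theorem chk_fin452 : cert.finalOKc 1539000 904000 2000 = true := by decide +kernel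

theorem chk_fin453 : cert.finalOKc 1539000 906000 2000 = true := by decide +kernel

theorem chk_fin454 : cert.finalOKc 1539000 908000 2000 = true := by decide +kernel

theorem chk_fin455 : cert.finalOKc 1539000 910000 2000 = true := by decide +kernel

theorem chk_fin456 : cert.finalOKc 1539000 912000 2000 = true := by decide +kernel

theorem chk_fin457 : cert.finalOKc 1539000 914000 2000 = true := by decide +kernel

theorem chk_fin458 : cert.finalOKc 1539000 916000 2000 = true := by decide +kernel


end Cfsg.Agent.Lib.Lead.HNP.HNTC
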