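import Cfsg.Agent.Lib.Lead.HNP.HNTCSCert
import Cfsg.Agent.Lib.Helper6.TCGIndex
import Cfsg.Agent.Lib.Lead.HNP.HNTCSFin50

/-! # HNTC: the kernel check that the first rows are closed, part 74 -/

set_option autoImplicit false

namespace Cfsg.Agent.Lib.Lead.HNP.HNTC

open Cfsg.Agent.Lib.Helper6.TC Cfsg.Agent.Lib.Helper6.TCGS

theorem chk_fin666 : cert.finalOKc 1539000 1332000 2000 = true := by decide +kernel

theorem chk_fin667 : cert.finalOKc 1539000 1334000 2000 = true := by decide +kernel

theorem chk_fin668 : cert.finalOKc 1539000 1336000 2000 = true := by decide +kernel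

theorem chk_fin669 : cert.finalOKc 1539000 1338000 2000 = true := by decide +kernel

theorem chk_fin670 : cert.finalOKc 1539000 1340000 2000 = true := by decide +kernel

theorem chk_fin671 : cert.finalOKc 1539000 1342000 2000 = true := by decide +kernel

theorem chk_fin672 : cert.finalOKc 1539000 1344000 2000 = true := by decide +kernel

theorem chk_fin673 : cert.finalOKc 1539000 1346000 2000 = true := by decide +kernel

theorem chk_fin674 : cert.finalOKc 1539000 1348000 2000 = true := by decide +kernel


end Cfsg.Agent.Lib.Lead.HNP.HNTC
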