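import Cfsg.Agent.Lib.Lead.HNP.HNTCData
import Cfsg.Agent.Lib.Helper6.TCRel3
import Cfsg.Agent.Lib.Lead.HNP.HNTCRel12

/-! # HNTC: the kernel check of a part of the relators on the coset table -/

set_option autoImplicit false

namespace Cfsg.Agent.Lib.Lead.HNP.HNTC

open Cfsg.Agent.Lib.Helper6.TC

theorem chk_pow5_5_0 : tab.minOKc [0, 2, 0, 2, 2, 2] 4 399975 5333 = true := by decide +kernel

theorem chk_pow5_5_1 : tab.minOKc [0, 2, 0, 2, 2, 2] 4 405308 5333 = true := by decide +kernel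

theorem chk_pow5_5_2 : tab.minOKc [0, 2, 0, 2, 2, 2] 4 410641 5333 = true := by decide +kernel

theorem chk_pow5_5_3 : tab.minOKc [0, 2, 0, 2, 2, 2] 4 415974 5333 = true := by decide +kernel

theorem chk_pow5_5_4 : tab.minOKc [0, 2, 0, 2, 2, 2] 4 421307 5333 = true := by decide +kernel

theorem chk_pow5_5_5 : tab.minOKc [0, 2, 0, 2, 2, 2] 4 426640 5333 = true := by decide +kernel

theorem chk_pow5_5_6 : tab.minOKc [0, 2, 0, 2, 2, 2] 4 431973 5333 = true := by decide +kernel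

theorem chk_pow5_5_7 : tab.minOKc [0, 2, 0, 2, 2, 2] 4 437306 5333 = true := by decide +kernel

theorem chk_pow5_5_8 : tab.minOKc [0, 2, 0, 2, 2, 2] 4 442639 5333 = true := by decide +kernel

theorem chk_pow5_5_9 : tab.minOKc [0, 2, 0, 2, 2, 2] 4 447972 5333 = true := by decide +kernel

theorem chk_pow5_5_10 : tab.minOKc [0, 2, 0, 2, 2, 2] 4 453305 5333 = true := by decide +kernel

theorem chk_pow5_5_11 : tab.minOKc [0, 2, 0, 2, 2, 2] 4 458638 5333 = true := by decide +kernel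

theorem chk_pow5_5_12 : tab.minOKc [0, 2, 0, 2, 2, 2] 4 463971 5333 = true := by decide +kernel

theorem chk_pow5_5_13 : tab.minOKc [0, 2, 0, 2, 2, 2] 4 469304 5333 = true := by decide +kernel

theorem chk_pow5_5_14 : tab.minOKc [0, 2, 0, 2, 2, 2] 4 474637 5333 = true := by decide +kernel

theorem chk_pow5_5 : tab.minOKc [0, 2, 0, 2, 2, 2] 4 399975 79995 = true := by
  refine tab.minOKc_of_chunks [0, 2, 0, 2, 2, 2] 4 399975 5333 15 (by norm_num) ?_
  intro i hi
  interval_cases i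
  · exact chk_pow5_5_0
  · exact chk_pow5_5_1
  · exact chk_pow5_5_2
  · exact chk_pow5_5_3
  · exact chk_pow5_5_4
  · exact chk_pow5_5_5
  · exact chk_pow5_5_6
  · exact chk_pow5_5_7
  · exact chk_pow5_5_8
  · exact chk_pow5_5_9
  · exact chk_pow5_5_10
  · exact chk_pow5_5_11
  · exact chk_pow5_5_12
  · exact chk_pow5_5_13
  · exact chk_pow5_5_14

theorem chk_pow5_6_0 : tab.minOKc [0, 2, 0, 2, 2, 2] 4 479970 5333 = true := by decide +kernel

theorem chk_pow5_6_1 : tab.minOKc [0, 2, 0, 2, 2, 2] 4 485303 5333 = true := by decide +kernel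

theorem chk_pow5_6_2 : tab.minOKc [0, 2, 0, 2, 2, 2] 4 490636 5333 = true := by decide +kernel

theorem chk_pow5_6_3 : tab.minOKc [0, 2, 0, 2, 2, 2] 4 495969 5333 = true := by decide +kernel

theorem chk_pow5_6_4 : tab.minOKc [0, 2, 0, 2, 2, 2] 4 501302 5333 = true := by decide +kernel

theorem chk_pow5_6_5 : tab.minOKc [0, 2, 0, 2, 2, 2] 4 506635 5333 = true := by decide +kernel

theorem chk_pow5_6_6 : tab.minOKc [0, 2, 0, 2, 2, 2] 4 511968 5333 = true := by decide +kernel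

theorem chk_pow5_6_7 : tab.minOKc [0, 2, 0, 2, 2, 2] 4 517301 5333 = true := by decide +kernel

theorem chk_pow5_6_8 : tab.minOKc [0, 2, 0, 2, 2, 2] 4 522634 5333 = true := by decide +kernel

theorem chk_pow5_6_9 : tab.minOKc [0, 2, 0, 2, 2, 2] 4 527967 5333 = true := by decide +kernel

theorem chk_pow5_6_10 : tab.minOKc [0, 2, 0, 2, 2, 2] 4 533300 5333 = true := by decide +kernel

theorem chk_pow5_6_11 : tab.minOKc [0, 2, 0, 2, 2, 2] 4 538633 5333 = true := by decide +kernel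

theorem chk_pow5_6_12 : tab.minOKc [0, 2, 0, 2, 2, 2] 4 543966 5333 = true := by decide +kernel

theorem chk_pow5_6_13 : tab.minOKc [0, 2, 0, 2, 2, 2] 4 549299 5333 = true := by decide +kernel

theorem chk_pow5_6_14 : tab.minOKc [0, 2, 0, 2, 2, 2] 4 554632 5333 = true := by decide +kernel

theorem chk_pow5_6 : tab.minOKc [0, 2, 0, 2, 2, 2] 4 479970 79995 = true := by
  refine tab.minOKc_of_chunks [0, 2, 0, 2, 2, 2] 4 479970 5333 15 (by norm_num) ?_
  intro i hi
  interval_cases i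
  · exact chk_pow5_6_0
  · exact chk_pow5_6_1
  · exact chk_pow5_6_2
  · exact chk_pow5_6_3
  · exact chk_pow5_6_4
  · exact chk_pow5_6_5
  · exact chk_pow5_6_6
  · exact chk_pow5_6_7
  · exact chk_pow5_6_8
  · exact chk_pow5_6_9
  · exact chk_pow5_6_10
  · exact chk_pow5_6_11
  · exact chk_pow5_6_12
  · exact chk_pow5_6_13
  · exact chk_pow5_6_14


end Cfsg.Agent.Lib.Lead.HNP.HNTC
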