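import Cfsg.Agent.Lib.Lead.HNP.HNTCData
import Cfsg.Agent.Lib.Helper6.TCRel3
import Cfsg.Agent.Lib.Lead.HNP.HNTCRel36

/-! # HNTC: the kernel check of a part of the relators on the coset table -/

set_option autoImplicit false

namespace Cfsg.Agent.Lib.Lead.HNP.HNTC

open Cfsg.Agent.Lib.Helper6.TC

theorem chk_pow8_22_0 : tab.minOKc [5, 2, 1, 3, 3, 1, 3, 1, 3, 4, 2, 0, 2, 0, 2, 2, 0, 3, 1, 1] 1 528000 1600 = true := by decide +kernel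

theorem chk_pow8_22_1 : tab.minOKc [5, 2, 1, 3, 3, 1, 3, 1, 3, 4, 2, 0, 2, 0, 2, 2, 0, 3, 1, 1] 1 529600 1600 = true := by decide +kernel

theorem chk_pow8_22_2 : tab.minOKc [5, 2, 1, 3, 3, 1, 3, 1, 3, 4, 2, 0, 2, 0, 2, 2, 0, 3, 1, 1] 1 531200 1600 = true := by decide +kernel

theorem chk_pow8_22_3 : tab.minOKc [5, 2, 1, 3, 3, 1, 3, 1, 3, 4, 2, 0, 2, 0, 2, 2, 0, 3, 1, 1] 1 532800 1600 = true := by decide +kernel

theorem chk_pow8_22_4 : tab.minOKc [5, 2, 1, 3, 3, 1, 3, 1, 3, 4, 2, 0, 2, 0, 2, 2, 0, 3, 1, 1] 1 534400 1600 = true := by decide +kernel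

theorem chk_pow8_22_5 : tab.minOKc [5, 2, 1, 3, 3, 1, 3, 1, 3, 4, 2, 0, 2, 0, 2, 2, 0, 3, 1, 1] 1 536000 1600 = true := by decide +kernel

theorem chk_pow8_22_6 : tab.minOKc [5, 2, 1, 3, 3, 1, 3, 1, 3, 4, 2, 0, 2, 0, 2, 2, 0, 3, 1, 1] 1 537600 1600 = true := by decide +kernel

theorem chk_pow8_22_7 : tab.minOKc [5, 2, 1, 3, 3, 1, 3, 1, 3, 4, 2, 0, 2, 0, 2, 2, 0, 3, 1, 1] 1 539200 1600 = true := by decide +kernel

theorem chk_pow8_22_8 : tab.minOKc [5, 2, 1, 3, 3, 1, 3, 1, 3, 4, 2, 0, 2, 0, 2, 2, 0, 3, 1, 1] 1 540800 1600 = true := by decide +kernel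

theorem chk_pow8_22_9 : tab.minOKc [5, 2, 1, 3, 3, 1, 3, 1, 3, 4, 2, 0, 2, 0, 2, 2, 0, 3, 1, 1] 1 542400 1600 = true := by decide +kernel

theorem chk_pow8_22_10 : tab.minOKc [5, 2, 1, 3, 3, 1, 3, 1, 3, 4, 2, 0, 2, 0, 2, 2, 0, 3, 1, 1] 1 544000 1600 = true := by decide +kernel

theorem chk_pow8_22_11 : tab.minOKc [5, 2, 1, 3, 3, 1, 3, 1, 3, 4, 2, 0, 2, 0, 2, 2, 0, 3, 1, 1] 1 545600 1600 = true := by decide +kernel

theorem chk_pow8_22_12 : tab.minOKc [5, 2, 1, 3, 3, 1, 3, 1, 3, 4, 2, 0, 2, 0, 2, 2, 0, 3, 1, 1] 1 547200 1600 = true := by decide +kernel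

theorem chk_pow8_22_13 : tab.minOKc [5, 2, 1, 3, 3, 1, 3, 1, 3, 4, 2, 0, 2, 0, 2, 2, 0, 3, 1, 1] 1 548800 1600 = true := by decide +kernel

theorem chk_pow8_22_14 : tab.minOKc [5, 2, 1, 3, 3, 1, 3, 1, 3, 4, 2, 0, 2, 0, 2, 2, 0, 3, 1, 1] 1 550400 1600 = true := by decide +kernel

theorem chk_pow8_22 : tab.minOKc [5, 2, 1, 3, 3, 1, 3, 1, 3, 4, 2, 0, 2, 0, 2, 2, 0, 3, 1, 1] 1 528000 24000 = true := by
  refine tab.minOKc_of_chunks [5, 2, 1, 3, 3, 1, 3, 1, 3, 4, 2, 0, 2, 0, 2, 2, 0, 3, 1, 1] 1 528000 1600 15 (by norm_num) ?_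
  intro i hi
  interval_cases i
  · exact chk_pow8_22_0
  · exact chk_pow8_22_1
  · exact chk_pow8_22_2
  · exact chk_pow8_22_3
  · exact chk_pow8_22_4
  · exact chk_pow8_22_5
  · exact chk_pow8_22_6
  · exact chk_pow8_22_7
  · exact chk_pow8_22_8
  · exact chk_pow8_22_9
  · exact chk_pow8_22_10
  · exact chk_pow8_22_11
  · exact chk_pow8_22_12
  · exact chk_pow8_22_13
  · exact chk_pow8_22_14

theorem chk_pow8_23_0 : tab.minOKc [5, 2, 1, 3, 3, 1, 3, 1, 3, 4, 2, 0, 2, 0, 2, 2, 0, 3, 1, 1] 1 552000 1600 = true := by decide +kernel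

theorem chk_pow8_23_1 : tab.minOKc [5, 2, 1, 3, 3, 1, 3, 1, 3, 4, 2, 0, 2, 0, 2, 2, 0, 3, 1, 1] 1 553600 1600 = true := by decide +kernel

theorem chk_pow8_23_2 : tab.minOKc [5, 2, 1, 3, 3, 1, 3, 1, 3, 4, 2, 0, 2, 0, 2, 2, 0, 3, 1, 1] 1 555200 1600 = true := by decide +kernel

theorem chk_pow8_23_3 : tab.minOKc [5, 2, 1, 3, 3, 1, 3, 1, 3, 4, 2, 0, 2, 0, 2, 2, 0, 3, 1, 1] 1 556800 1600 = true := by decide +kernel

theorem chk_pow8_23_4 : tab.minOKc [5, 2, 1, 3, 3, 1, 3, 1, 3, 4, 2, 0, 2, 0, 2, 2, 0, 3, 1, 1] 1 558400 1600 = true := by decide +kernel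

theorem chk_pow8_23_5 : tab.minOKc [5, 2, 1, 3, 3, 1, 3, 1, 3, 4, 2, 0, 2, 0, 2, 2, 0, 3, 1, 1] 1 560000 1600 = true := by decide +kernel

theorem chk_pow8_23_6 : tab.minOKc [5, 2, 1, 3, 3, 1, 3, 1, 3, 4, 2, 0, 2, 0, 2, 2, 0, 3, 1, 1] 1 561600 1600 = true := by decide +kernel

theorem chk_pow8_23_7 : tab.minOKc [5, 2, 1, 3, 3, 1, 3, 1, 3, 4, 2, 0, 2, 0, 2, 2, 0, 3, 1, 1] 1 563200 1600 = true := by decide +kernel

theorem chk_pow8_23_8 : tab.minOKc [5, 2, 1, 3, 3, 1, 3, 1, 3, 4, 2, 0, 2, 0, 2, 2, 0, 3, 1, 1] 1 564800 1600 = true := by decide +kernel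

theorem chk_pow8_23_9 : tab.minOKc [5, 2, 1, 3, 3, 1, 3, 1, 3, 4, 2, 0, 2, 0, 2, 2, 0, 3, 1, 1] 1 566400 1600 = true := by decide +kernel

theorem chk_pow8_23_10 : tab.minOKc [5, 2, 1, 3, 3, 1, 3, 1, 3, 4, 2, 0, 2, 0, 2, 2, 0, 3, 1, 1] 1 568000 1600 = true := by decide +kernel

theorem chk_pow8_23_11 : tab.minOKc [5, 2, 1, 3, 3, 1, 3, 1, 3, 4, 2, 0, 2, 0, 2, 2, 0, 3, 1, 1] 1 569600 1600 = true := by decide +kernel

theorem chk_pow8_23_12 : tab.minOKc [5, 2, 1, 3, 3, 1, 3, 1, 3, 4, 2, 0, 2, 0, 2, 2, 0, 3, 1, 1] 1 571200 1600 = true := by decide +kernel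

theorem chk_pow8_23_13 : tab.minOKc [5, 2, 1, 3, 3, 1, 3, 1, 3, 4, 2, 0, 2, 0, 2, 2, 0, 3, 1, 1] 1 572800 1600 = true := by decide +kernel

theorem chk_pow8_23_14 : tab.minOKc [5, 2, 1, 3, 3, 1, 3, 1, 3, 4, 2, 0, 2, 0, 2, 2, 0, 3, 1, 1] 1 574400 1600 = true := by decide +kernel

theorem chk_pow8_23 : tab.minOKc [5, 2, 1, 3, 3, 1, 3, 1, 3, 4, 2, 0, 2, 0, 2, 2, 0, 3, 1, 1] 1 552000 24000 = true := by
  refine tab.minOKc_of_chunks [5, 2, 1, 3, 3, 1, 3, 1, 3, 4, 2, 0, 2, 0, 2, 2, 0, 3, 1, 1] 1 552000 1600 15 (by norm_num) ?_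
  intro i hi
  interval_cases i
  · exact chk_pow8_23_0
  · exact chk_pow8_23_1
  · exact chk_pow8_23_2
  · exact chk_pow8_23_3
  · exact chk_pow8_23_4
  · exact chk_pow8_23_5
  · exact chk_pow8_23_6
  · exact chk_pow8_23_7
  · exact chk_pow8_23_8
  · exact chk_pow8_23_9
  · exact chk_pow8_23_10
  · exact chk_pow8_23_11
  · exact chk_pow8_23_12
  · exact chk_pow8_23_13
  · exact chk_pow8_23_14


end Cfsg.Agent.Lib.Lead.HNP.HNTC
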