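import Cfsg.Agent.Lib.Lead.HNP.HNTCSCert
import Cfsg.Agent.Lib.Lead.HNP.HNTCSRows17

/-! # HNTC: the kernel check of the rows from 471336 on -/

set_option autoImplicit false

namespace Cfsg.Agent.Lib.Lead.HNP.HNTC

open Cfsg.Agent.Lib.Helper6.TC Cfsg.Agent.Lib.Helper6.TCGS

theorem chk_rows41_0 : cert.rowsOK 471336 479 = true := by decide +kernel

theorem chk_rows41_1 : cert.rowsOK 471815 479 = true := by decide +kernel

theorem chk_rows41_2 : cert.rowsOK 472294 479 = true := by decide +kernel

theorem chk_rows41_3 : cert.rowsOK 472773 479 = true := by decide +kernel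

theorem chk_rows41_4 : cert.rowsOK 473252 479 = true := by decide +kernel

theorem chk_rows41_5 : cert.rowsOK 473731 479 = true := by decide +kernel

theorem chk_rows41_6 : cert.rowsOK 474210 479 = true := by decide +kernel

theorem chk_rows41_7 : cert.rowsOK 474689 479 = true := by decide +kernel

theorem chk_rows41_8 : cert.rowsOK 475168 479 = true := by decide +kernel

theorem chk_rows41_9 : cert.rowsOK 475647 479 = true := by decide +kernel

theorem chk_rows41_10 : cert.rowsOK 476126 479 = true := by decide +kernel

theorem chk_rows41_11 : cert.rowsOK 476605 479 = true := by decide +kernel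

theorem chk_rows41_12 : cert.rowsOK 477084 479 = true := by decide +kernel

theorem chk_rows41_13 : cert.rowsOK 477563 479 = true := by decide +kernel

theorem chk_rows41_14 : cert.rowsOK 478042 479 = true := by decide +kernel

theorem chk_rows41_15 : cert.rowsOK 478521 479 = true := by decide +kernel

theorem chk_rows41_16 : cert.rowsOK 479000 479 = true := by decide +kernel

theorem chk_rows41_17 : cert.rowsOK 479479 479 = true := by decide +kernel

theorem chk_rows41_18 : cert.rowsOK 479958 479 = true := by decide +kernel

theorem chk_rows41_19 : cert.rowsOK 480437 479 = true := by decide +kernel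

theorem chk_rows41_20 : cert.rowsOK 480916 479 = true := by decide +kernel

theorem chk_rows41_21 : cert.rowsOK 481395 479 = true := by decide +kernel

theorem chk_rows41_22 : cert.rowsOK 481874 479 = true := by decide +kernel

theorem chk_rows41_23 : cert.rowsOK 482353 479 = true := by decide +kernel

theorem chk_range41 : ∀ a, 471336 ≤ a → a < 482832 → ∀ x < cert.c.g, cert.slotOK a x = true := by
  refine cert.range_of_chunks 471336 479 24 (by norm_num) ?_
  intro k hk
  interval_cases k
  · exact chk_rows41_0
  · exact chk_rows41_1
  · exact chk_rows41_2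
  · exact chk_rows41_3
  · exact chk_rows41_4
  · exact chk_rows41_5
  · exact chk_rows41_6
  · exact chk_rows41_7
  · exact chk_rows41_8
  · exact chk_rows41_9
  · exact chk_rows41_10
  · exact chk_rows41_11
  · exact chk_rows41_12
  · exact chk_rows41_13
  · exact chk_rows41_14
  · exact chk_rows41_15
  · exact chk_rows41_16
  · exact chk_rows41_17
  · exact chk_rows41_18
  · exact chk_rows41_19
  · exact chk_rows41_20
  · exact chk_rows41_21
  · exact chk_rows41_22
  · exact chk_rows41_23

end Cfsg.Agent.Lib.Lead.HNP.HNTC
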