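import Cfsg.Agent.Lib.Lead.HNP.HNTCSCert
import Cfsg.Agent.Lib.Lead.HNP.HNTCSRows41

/-! # HNTC: the kernel check of the rows from 747240 on -/

set_option autoImplicit false

namespace Cfsg.Agent.Lib.Lead.HNP.HNTC

open Cfsg.Agent.Lib.Helper6.TC Cfsg.Agent.Lib.Helper6.TCGS

theorem chk_rows65_0 : cert.rowsOK 747240 479 = true := by decide +kernel

theorem chk_rows65_1 : cert.rowsOK 747719 479 = true := by decide +kernel

theorem chk_rows65_2 : cert.rowsOK 748198 479 = true := by decide +kernel

theorem chk_rows65_3 : cert.rowsOK 748677 479 = true := by decide +kernel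

theorem chk_rows65_4 : cert.rowsOK 749156 479 = true := by decide +kernel

theorem chk_rows65_5 : cert.rowsOK 749635 479 = true := by decide +kernel

theorem chk_rows65_6 : cert.rowsOK 750114 479 = true := by decide +kernel

theorem chk_rows65_7 : cert.rowsOK 750593 479 = true := by decide +kernel

theorem chk_rows65_8 : cert.rowsOK 751072 479 = true := by decide +kernel

theorem chk_rows65_9 : cert.rowsOK 751551 479 = true := by decide +kernel

theorem chk_rows65_10 : cert.rowsOK 752030 479 = true := by decide +kernel

theorem chk_rows65_11 : cert.rowsOK 752509 479 = true := by decide +kernel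

theorem chk_rows65_12 : cert.rowsOK 752988 479 = true := by decide +kernel

theorem chk_rows65_13 : cert.rowsOK 753467 479 = true := by decide +kernel

theorem chk_rows65_14 : cert.rowsOK 753946 479 = true := by decide +kernel

theorem chk_rows65_15 : cert.rowsOK 754425 479 = true := by decide +kernel

theorem chk_rows65_16 : cert.rowsOK 754904 479 = true := by decide +kernel

theorem chk_rows65_17 : cert.rowsOK 755383 479 = true := by decide +kernel

theorem chk_rows65_18 : cert.rowsOK 755862 479 = true := by decide +kernel

theorem chk_rows65_19 : cert.rowsOK 756341 479 = true := by decide +kernel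

theorem chk_rows65_20 : cert.rowsOK 756820 479 = true := by decide +kernel

theorem chk_rows65_21 : cert.rowsOK 757299 479 = true := by decide +kernel

theorem chk_rows65_22 : cert.rowsOK 757778 479 = true := by decide +kernel

theorem chk_rows65_23 : cert.rowsOK 758257 479 = true := by decide +kernel

theorem chk_range65 : ∀ a, 747240 ≤ a → a < 758736 → ∀ x < cert.c.g, cert.slotOK a x = true := by
  refine cert.range_of_chunks 747240 479 24 (by norm_num) ?_
  intro k hk
  interval_cases k
  · exact chk_rows65_0
  · exact chk_rows65_1
  · exact chk_rows65_2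
  · exact chk_rows65_3
  · exact chk_rows65_4
  · exact chk_rows65_5
  · exact chk_rows65_6
  · exact chk_rows65_7
  · exact chk_rows65_8
  · exact chk_rows65_9
  · exact chk_rows65_10
  · exact chk_rows65_11
  · exact chk_rows65_12
  · exact chk_rows65_13
  · exact chk_rows65_14
  · exact chk_rows65_15
  · exact chk_rows65_16
  · exact chk_rows65_17
  · exact chk_rows65_18
  · exact chk_rows65_19
  · exact chk_rows65_20
  · exact chk_rows65_21
  · exact chk_rows65_22
  · exact chk_rows65_23

end Cfsg.Agent.Lib.Lead.HNP.HNTC
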