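import Cfsg.Agent.Lib.Lead.HNP.HNTCSCert
import Cfsg.Agent.Lib.Lead.HNP.HNTCSRows65

/-! # HNTC: the kernel check of the rows from 1023144 on -/

set_option autoImplicit false

namespace Cfsg.Agent.Lib.Lead.HNP.HNTC

open Cfsg.Agent.Lib.Helper6.TC Cfsg.Agent.Lib.Helper6.TCGS

theorem chk_rows89_0 : cert.rowsOK 1023144 479 = true := by decide +kernel

theorem chk_rows89_1 : cert.rowsOK 1023623 479 = true := by decide +kernel

theorem chk_rows89_2 : cert.rowsOK 1024102 479 = true := by decide +kernel

theorem chk_rows89_3 : cert.rowsOK 1024581 479 = true := by decide +kernel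

theorem chk_rows89_4 : cert.rowsOK 1025060 479 = true := by decide +kernel

theorem chk_rows89_5 : cert.rowsOK 1025539 479 = true := by decide +kernel

theorem chk_rows89_6 : cert.rowsOK 1026018 479 = true := by decide +kernel

theorem chk_rows89_7 : cert.rowsOK 1026497 479 = true := by decide +kernel

theorem chk_rows89_8 : cert.rowsOK 1026976 479 = true := by decide +kernel

theorem chk_rows89_9 : cert.rowsOK 1027455 479 = true := by decide +kernel

theorem chk_rows89_10 : cert.rowsOK 1027934 479 = true := by decide +kernel

theorem chk_rows89_11 : cert.rowsOK 1028413 479 = true := by decide +kernel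

theorem chk_rows89_12 : cert.rowsOK 1028892 479 = true := by decide +kernel

theorem chk_rows89_13 : cert.rowsOK 1029371 479 = true := by decide +kernel

theorem chk_rows89_14 : cert.rowsOK 1029850 479 = true := by decide +kernel

theorem chk_rows89_15 : cert.rowsOK 1030329 479 = true := by decide +kernel

theorem chk_rows89_16 : cert.rowsOK 1030808 479 = true := by decide +kernel

theorem chk_rows89_17 : cert.rowsOK 1031287 479 = true := by decide +kernel

theorem chk_rows89_18 : cert.rowsOK 1031766 479 = true := by decide +kernel

theorem chk_rows89_19 : cert.rowsOK 1032245 479 = true := by decide +kernel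

theorem chk_rows89_20 : cert.rowsOK 1032724 479 = true := by decide +kernel

theorem chk_rows89_21 : cert.rowsOK 1033203 479 = true := by decide +kernel

theorem chk_rows89_22 : cert.rowsOK 1033682 479 = true := by decide +kernel

theorem chk_rows89_23 : cert.rowsOK 1034161 479 = true := by decide +kernel

theorem chk_range89 : ∀ a, 1023144 ≤ a → a < 1034640 → ∀ x < cert.c.g, cert.slotOK a x = true := by
  refine cert.range_of_chunks 1023144 479 24 (by norm_num) ?_
  intro k hk
  interval_cases k
  · exact chk_rows89_0
  · exact chk_rows89_1
  · exact chk_rows89_2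
  · exact chk_rows89_3
  · exact chk_rows89_4
  · exact chk_rows89_5
  · exact chk_rows89_6
  · exact chk_rows89_7
  · exact chk_rows89_8
  · exact chk_rows89_9
  · exact chk_rows89_10
  · exact chk_rows89_11
  · exact chk_rows89_12
  · exact chk_rows89_13
  · exact chk_rows89_14
  · exact chk_rows89_15
  · exact chk_rows89_16
  · exact chk_rows89_17
  · exact chk_rows89_18
  · exact chk_rows89_19
  · exact chk_rows89_20
  · exact chk_rows89_21
  · exact chk_rows89_22
  · exact chk_rows89_23

end Cfsg.Agent.Lib.Lead.HNP.HNTC
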