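import Cfsg.Agent.Lib.Lead.HNP.HNTCSCert
import Cfsg.Agent.Lib.Lead.HNP.HNTCSRows89

/-! # HNTC: the kernel check of the rows from 1299048 on -/

set_option autoImplicit false

namespace Cfsg.Agent.Lib.Lead.HNP.HNTC

open Cfsg.Agent.Lib.Helper6.TC Cfsg.Agent.Lib.Helper6.TCGS

theorem chk_rows113_0 : cert.rowsOK 1299048 479 = true := by decide +kernel

theorem chk_rows113_1 : cert.rowsOK 1299527 479 = true := by decide +kernel

theorem chk_rows113_2 : cert.rowsOK 1300006 479 = true := by decide +kernel

theorem chk_rows113_3 : cert.rowsOK 1300485 479 = true := by decide +kernel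

theorem chk_rows113_4 : cert.rowsOK 1300964 479 = true := by decide +kernel

theorem chk_rows113_5 : cert.rowsOK 1301443 479 = true := by decide +kernel

theorem chk_rows113_6 : cert.rowsOK 1301922 479 = true := by decide +kernel

theorem chk_rows113_7 : cert.rowsOK 1302401 479 = true := by decide +kernel

theorem chk_rows113_8 : cert.rowsOK 1302880 479 = true := by decide +kernel

theorem chk_rows113_9 : cert.rowsOK 1303359 479 = true := by decide +kernel

theorem chk_rows113_10 : cert.rowsOK 1303838 479 = true := by decide +kernel

theorem chk_rows113_11 : cert.rowsOK 1304317 479 = true := by decide +kernel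

theorem chk_rows113_12 : cert.rowsOK 1304796 479 = true := by decide +kernel

theorem chk_rows113_13 : cert.rowsOK 1305275 479 = true := by decide +kernel

theorem chk_rows113_14 : cert.rowsOK 1305754 479 = true := by decide +kernel

theorem chk_rows113_15 : cert.rowsOK 1306233 479 = true := by decide +kernel

theorem chk_rows113_16 : cert.rowsOK 1306712 479 = true := by decide +kernel

theorem chk_rows113_17 : cert.rowsOK 1307191 479 = true := by decide +kernel

theorem chk_rows113_18 : cert.rowsOK 1307670 479 = true := by decide +kernel

theorem chk_rows113_19 : cert.rowsOK 1308149 479 = true := by decide +kernel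

theorem chk_rows113_20 : cert.rowsOK 1308628 479 = true := by decide +kernel

theorem chk_rows113_21 : cert.rowsOK 1309107 479 = true := by decide +kernel

theorem chk_rows113_22 : cert.rowsOK 1309586 479 = true := by decide +kernel

theorem chk_rows113_23 : cert.rowsOK 1310065 479 = true := by decide +kernel

theorem chk_range113 : ∀ a, 1299048 ≤ a → a < 1310544 → ∀ x < cert.c.g, cert.slotOK a x = true := by
  refine cert.range_of_chunks 1299048 479 24 (by norm_num) ?_
  intro k hk
  interval_cases k
  · exact chk_rows113_0
  · exact chk_rows113_1
  · exact chk_rows113_2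
  · exact chk_rows113_3
  · exact chk_rows113_4
  · exact chk_rows113_5
  · exact chk_rows113_6
  · exact chk_rows113_7
  · exact chk_rows113_8
  · exact chk_rows113_9
  · exact chk_rows113_10
  · exact chk_rows113_11
  · exact chk_rows113_12
  · exact chk_rows113_13
  · exact chk_rows113_14
  · exact chk_rows113_15
  · exact chk_rows113_16
  · exact chk_rows113_17
  · exact chk_rows113_18
  · exact chk_rows113_19
  · exact chk_rows113_20
  · exact chk_rows113_21
  · exact chk_rows113_22
  · exact chk_rows113_23

end Cfsg.Agent.Lib.Lead.HNP.HNTC
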