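import Cfsg.Agent.Lib.Lead.HNP.HNTCSCert
import Cfsg.Agent.Lib.Helper6.TCGIndex
import Cfsg.Agent.Lib.Lead.HNP.HNTCSFin3

/-! # HNTC: the kernel check that the first rows are closed, part 27 -/

set_option autoImplicit false

namespace Cfsg.Agent.Lib.Lead.HNP.HNTC

open Cfsg.Agent.Lib.Helper6.TC Cfsg.Agent.Lib.Helper6.TCGS

theorem chk_fin243 : cert.finalOKc 1539000 486000 2000 = true := by decide +kernel

theorem chk_fin244 : cert.finalOKc 1539000 488000 2000 = true := by decide +kernel

theorem chk_fin245 : cert.finalOKc 1539000 490000 2000 = true := by decide +kernel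

theorem chk_fin246 : cert.finalOKc 1539000 492000 2000 = true := by decide +kernel

theorem chk_fin247 : cert.finalOKc 1539000 494000 2000 = true := by decide +kernel

theorem chk_fin248 : cert.finalOKc 1539000 496000 2000 = true := by decide +kernel

theorem chk_fin249 : cert.finalOKc 1539000 498000 2000 = true := by decide +kernel

theorem chk_fin250 : cert.finalOKc 1539000 500000 2000 = true := by decide +kernel

theorem chk_fin251 : cert.finalOKc 1539000 502000 2000 = true := by decide +kernel


end Cfsg.Agent.Lib.Lead.HNP.HNTC
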