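import Cfsg.Agent.Lib.Lead.HNP.HNTCSCert
import Cfsg.Agent.Lib.Helper6.TCGIndex
import Cfsg.Agent.Lib.Lead.HNP.HNTCSFin27

/-! # HNTC: the kernel check that the first rows are closed, part 51 -/

set_option autoImplicit false

namespace Cfsg.Agent.Lib.Lead.HNP.HNTC

open Cfsg.Agent.Lib.Helper6.TC Cfsg.Agent.Lib.Helper6.TCGS

theorem chk_fin459 : cert.finalOKc 1539000 918000 2000 = true := by decide +kernel

theorem chk_fin460 : cert.finalOKc 1539000 920000 2000 = true := by decide +kernel

theorem chk_fin461 : cert.finalOKc 1539000 922000 2000 = true := by decide +kernel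

theorem chk_fin462 : cert.finalOKc 1539000 924000 2000 = true := by decide +kernel

theorem chk_fin463 : cert.finalOKc 1539000 926000 2000 = true := by decide +kernel

theorem chk_fin464 : cert.finalOKc 1539000 928000 2000 = true := by decide +kernel

theorem chk_fin465 : cert.finalOKc 1539000 930000 2000 = true := by decide +kernel

theorem chk_fin466 : cert.finalOKc 1539000 932000 2000 = true := by decide +kernel

theorem chk_fin467 : cert.finalOKc 1539000 934000 2000 = true := by decide +kernel


end Cfsg.Agent.Lib.Lead.HNP.HNTC
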