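import Cfsg.Agent.Lib.Lead.HNP.HNTCSCert
import Cfsg.Agent.Lib.Helper6.TCGIndex
import Cfsg.Agent.Lib.Lead.HNP.HNTCSFin51

/-! # HNTC: the kernel check that the first rows are closed, part 75 -/

set_option autoImplicit false

namespace Cfsg.Agent.Lib.Lead.HNP.HNTC

open Cfsg.Agent.Lib.Helper6.TC Cfsg.Agent.Lib.Helper6.TCGS

theorem chk_fin675 : cert.finalOKc 1539000 1350000 2000 = true := by decide +kernel

theorem chk_fin676 : cert.finalOKc 1539000 1352000 2000 = true := by decide +kernel

theorem chk_fin677 : cert.finalOKc 1539000 1354000 2000 = true := by decide +kernel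

theorem chk_fin678 : cert.finalOKc 1539000 1356000 2000 = true := by decide +kernel

theorem chk_fin679 : cert.finalOKc 1539000 1358000 2000 = true := by decide +kernel

theorem chk_fin680 : cert.finalOKc 1539000 1360000 2000 = true := by decide +kernel

theorem chk_fin681 : cert.finalOKc 1539000 1362000 2000 = true := by decide +kernel

theorem chk_fin682 : cert.finalOKc 1539000 1364000 2000 = true := by decide +kernel

theorem chk_fin683 : cert.finalOKc 1539000 1366000 2000 = true := by decide +kernel


end Cfsg.Agent.Lib.Lead.HNP.HNTC
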