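import Cfsg.Agent.Lib.Lead.HNP.HNTCData
import Cfsg.Agent.Lib.Helper6.TCRel3
import Cfsg.Agent.Lib.Lead.HNP.HNTCRel13

/-! # HNTC: the kernel check of a part of the relators on the coset table -/

set_option autoImplicit false

namespace Cfsg.Agent.Lib.Lead.HNP.HNTC

open Cfsg.Agent.Lib.Helper6.TC

theorem chk_pow5_7_0 : tab.minOKc [0, 2, 0, 2, 2, 2] 4 559965 5333 = true := by decide +kernel

theorem chk_pow5_7_1 : tab.minOKc [0, 2, 0, 2, 2, 2] 4 565298 5333 = true := by decide +kernel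

theorem chk_pow5_7_2 : tab.minOKc [0, 2, 0, 2, 2, 2] 4 570631 5333 = true := by decide +kernel

theorem chk_pow5_7_3 : tab.minOKc [0, 2, 0, 2, 2, 2] 4 575964 5333 = true := by decide +kernel

theorem chk_pow5_7_4 : tab.minOKc [0, 2, 0, 2, 2, 2] 4 581297 5333 = true := by decide +kernel

theorem chk_pow5_7_5 : tab.minOKc [0, 2, 0, 2, 2, 2] 4 586630 5333 = true := by decide +kernel

theorem chk_pow5_7_6 : tab.minOKc [0, 2, 0, 2, 2, 2] 4 591963 5333 = true := by decide +kernel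

theorem chk_pow5_7_7 : tab.minOKc [0, 2, 0, 2, 2, 2] 4 597296 5333 = true := by decide +kernel

theorem chk_pow5_7_8 : tab.minOKc [0, 2, 0, 2, 2, 2] 4 602629 5333 = true := by decide +kernel

theorem chk_pow5_7_9 : tab.minOKc [0, 2, 0, 2, 2, 2] 4 607962 5333 = true := by decide +kernel

theorem chk_pow5_7_10 : tab.minOKc [0, 2, 0, 2, 2, 2] 4 613295 5333 = true := by decide +kernel

theorem chk_pow5_7_11 : tab.minOKc [0, 2, 0, 2, 2, 2] 4 618628 5333 = true := by decide +kernel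

theorem chk_pow5_7_12 : tab.minOKc [0, 2, 0, 2, 2, 2] 4 623961 5333 = true := by decide +kernel

theorem chk_pow5_7_13 : tab.minOKc [0, 2, 0, 2, 2, 2] 4 629294 5333 = true := by decide +kernel

theorem chk_pow5_7_14 : tab.minOKc [0, 2, 0, 2, 2, 2] 4 634627 5333 = true := by decide +kernel

theorem chk_pow5_7 : tab.minOKc [0, 2, 0, 2, 2, 2] 4 559965 79995 = true := by
  refine tab.minOKc_of_chunks [0, 2, 0, 2, 2, 2] 4 559965 5333 15 (by norm_num) ?_
  intro i hi
  interval_cases i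
  · exact chk_pow5_7_0
  · exact chk_pow5_7_1
  · exact chk_pow5_7_2
  · exact chk_pow5_7_3
  · exact chk_pow5_7_4
  · exact chk_pow5_7_5
  · exact chk_pow5_7_6
  · exact chk_pow5_7_7
  · exact chk_pow5_7_8
  · exact chk_pow5_7_9
  · exact chk_pow5_7_10
  · exact chk_pow5_7_11
  · exact chk_pow5_7_12
  · exact chk_pow5_7_13
  · exact chk_pow5_7_14

theorem chk_pow5_8_0 : tab.minOKc [0, 2, 0, 2, 2, 2] 4 639960 5333 = true := by decide +kernel

theorem chk_pow5_8_1 : tab.minOKc [0, 2, 0, 2, 2, 2] 4 645293 5333 = true := by decide +kernel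

theorem chk_pow5_8_2 : tab.minOKc [0, 2, 0, 2, 2, 2] 4 650626 5333 = true := by decide +kernel

theorem chk_pow5_8_3 : tab.minOKc [0, 2, 0, 2, 2, 2] 4 655959 5333 = true := by decide +kernel

theorem chk_pow5_8_4 : tab.minOKc [0, 2, 0, 2, 2, 2] 4 661292 5333 = true := by decide +kernel

theorem chk_pow5_8_5 : tab.minOKc [0, 2, 0, 2, 2, 2] 4 666625 5333 = true := by decide +kernel

theorem chk_pow5_8_6 : tab.minOKc [0, 2, 0, 2, 2, 2] 4 671958 5333 = true := by decide +kernel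

theorem chk_pow5_8_7 : tab.minOKc [0, 2, 0, 2, 2, 2] 4 677291 5333 = true := by decide +kernel

theorem chk_pow5_8_8 : tab.minOKc [0, 2, 0, 2, 2, 2] 4 682624 5333 = true := by decide +kernel

theorem chk_pow5_8_9 : tab.minOKc [0, 2, 0, 2, 2, 2] 4 687957 5333 = true := by decide +kernel

theorem chk_pow5_8_10 : tab.minOKc [0, 2, 0, 2, 2, 2] 4 693290 5333 = true := by decide +kernel

theorem chk_pow5_8_11 : tab.minOKc [0, 2, 0, 2, 2, 2] 4 698623 5333 = true := by decide +kernel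

theorem chk_pow5_8_12 : tab.minOKc [0, 2, 0, 2, 2, 2] 4 703956 5333 = true := by decide +kernel

theorem chk_pow5_8_13 : tab.minOKc [0, 2, 0, 2, 2, 2] 4 709289 5333 = true := by decide +kernel

theorem chk_pow5_8_14 : tab.minOKc [0, 2, 0, 2, 2, 2] 4 714622 5333 = true := by decide +kernel

theorem chk_pow5_8 : tab.minOKc [0, 2, 0, 2, 2, 2] 4 639960 79995 = true := by
  refine tab.minOKc_of_chunks [0, 2, 0, 2, 2, 2] 4 639960 5333 15 (by norm_num) ?_
  intro i hi
  interval_cases i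
  · exact chk_pow5_8_0
  · exact chk_pow5_8_1
  · exact chk_pow5_8_2
  · exact chk_pow5_8_3
  · exact chk_pow5_8_4
  · exact chk_pow5_8_5
  · exact chk_pow5_8_6
  · exact chk_pow5_8_7
  · exact chk_pow5_8_8
  · exact chk_pow5_8_9
  · exact chk_pow5_8_10
  · exact chk_pow5_8_11
  · exact chk_pow5_8_12
  · exact chk_pow5_8_13
  · exact chk_pow5_8_14


end Cfsg.Agent.Lib.Lead.HNP.HNTC
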