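import Cfsg.Agent.Lib.Lead.HNP.HNTCData
import Cfsg.Agent.Lib.Helper6.TCRel3
import Cfsg.Agent.Lib.Lead.HNP.HNTCRel37

/-! # HNTC: the kernel check of a part of the relators on the coset table -/

set_option autoImplicit false

namespace Cfsg.Agent.Lib.Lead.HNP.HNTC

open Cfsg.Agent.Lib.Helper6.TC

theorem chk_pow8_24_0 : tab.minOKc [5, 2, 1, 3, 3, 1, 3, 1, 3, 4, 2, 0, 2, 0, 2, 2, 0, 3, 1, 1] 1 576000 1600 = true := by decide +kernel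

theorem chk_pow8_24_1 : tab.minOKc [5, 2, 1, 3, 3, 1, 3, 1, 3, 4, 2, 0, 2, 0, 2, 2, 0, 3, 1, 1] 1 577600 1600 = true := by decide +kernel

theorem chk_pow8_24_2 : tab.minOKc [5, 2, 1, 3, 3, 1, 3, 1, 3, 4, 2, 0, 2, 0, 2, 2, 0, 3, 1, 1] 1 579200 1600 = true := by decide +kernel

theorem chk_pow8_24_3 : tab.minOKc [5, 2, 1, 3, 3, 1, 3, 1, 3, 4, 2, 0, 2, 0, 2, 2, 0, 3, 1, 1] 1 580800 1600 = true := by decide +kernel

theorem chk_pow8_24_4 : tab.minOKc [5, 2, 1, 3, 3, 1, 3, 1, 3, 4, 2, 0, 2, 0, 2, 2, 0, 3, 1, 1] 1 582400 1600 = true := by decide +kernel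

theorem chk_pow8_24_5 : tab.minOKc [5, 2, 1, 3, 3, 1, 3, 1, 3, 4, 2, 0, 2, 0, 2, 2, 0, 3, 1, 1] 1 584000 1600 = true := by decide +kernel

theorem chk_pow8_24_6 : tab.minOKc [5, 2, 1, 3, 3, 1, 3, 1, 3, 4, 2, 0, 2, 0, 2, 2, 0, 3, 1, 1] 1 585600 1600 = true := by decide +kernel

theorem chk_pow8_24_7 : tab.minOKc [5, 2, 1, 3, 3, 1, 3, 1, 3, 4, 2, 0, 2, 0, 2, 2, 0, 3, 1, 1] 1 587200 1600 = true := by decide +kernel

theorem chk_pow8_24_8 : tab.minOKc [5, 2, 1, 3, 3, 1, 3, 1, 3, 4, 2, 0, 2, 0, 2, 2, 0, 3, 1, 1] 1 588800 1600 = true := by decide +kernel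

theorem chk_pow8_24_9 : tab.minOKc [5, 2, 1, 3, 3, 1, 3, 1, 3, 4, 2, 0, 2, 0, 2, 2, 0, 3, 1, 1] 1 590400 1600 = true := by decide +kernel

theorem chk_pow8_24_10 : tab.minOKc [5, 2, 1, 3, 3, 1, 3, 1, 3, 4, 2, 0, 2, 0, 2, 2, 0, 3, 1, 1] 1 592000 1600 = true := by decide +kernel

theorem chk_pow8_24_11 : tab.minOKc [5, 2, 1, 3, 3, 1, 3, 1, 3, 4, 2, 0, 2, 0, 2, 2, 0, 3, 1, 1] 1 593600 1600 = true := by decide +kernel

theorem chk_pow8_24_12 : tab.minOKc [5, 2, 1, 3, 3, 1, 3, 1, 3, 4, 2, 0, 2, 0, 2, 2, 0, 3, 1, 1] 1 595200 1600 = true := by decide +kernel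

theorem chk_pow8_24_13 : tab.minOKc [5, 2, 1, 3, 3, 1, 3, 1, 3, 4, 2, 0, 2, 0, 2, 2, 0, 3, 1, 1] 1 596800 1600 = true := by decide +kernel

theorem chk_pow8_24_14 : tab.minOKc [5, 2, 1, 3, 3, 1, 3, 1, 3, 4, 2, 0, 2, 0, 2, 2, 0, 3, 1, 1] 1 598400 1600 = true := by decide +kernel

theorem chk_pow8_24 : tab.minOKc [5, 2, 1, 3, 3, 1, 3, 1, 3, 4, 2, 0, 2, 0, 2, 2, 0, 3, 1, 1] 1 576000 24000 = true := by
  refine tab.minOKc_of_chunks [5, 2, 1, 3, 3, 1, 3, 1, 3, 4, 2, 0, 2, 0, 2, 2, 0, 3, 1, 1] 1 576000 1600 15 (by norm_num) ?_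
  intro i hi
  interval_cases i
  · exact chk_pow8_24_0
  · exact chk_pow8_24_1
  · exact chk_pow8_24_2
  · exact chk_pow8_24_3
  · exact chk_pow8_24_4
  · exact chk_pow8_24_5
  · exact chk_pow8_24_6
  · exact chk_pow8_24_7
  · exact chk_pow8_24_8
  · exact chk_pow8_24_9
  · exact chk_pow8_24_10
  · exact chk_pow8_24_11
  · exact chk_pow8_24_12
  · exact chk_pow8_24_13
  · exact chk_pow8_24_14

theorem chk_pow8_25_0 : tab.minOKc [5, 2, 1, 3, 3, 1, 3, 1, 3, 4, 2, 0, 2, 0, 2, 2, 0, 3, 1, 1] 1 600000 1600 = true := by decide +kernel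

theorem chk_pow8_25_1 : tab.minOKc [5, 2, 1, 3, 3, 1, 3, 1, 3, 4, 2, 0, 2, 0, 2, 2, 0, 3, 1, 1] 1 601600 1600 = true := by decide +kernel

theorem chk_pow8_25_2 : tab.minOKc [5, 2, 1, 3, 3, 1, 3, 1, 3, 4, 2, 0, 2, 0, 2, 2, 0, 3, 1, 1] 1 603200 1600 = true := by decide +kernel

theorem chk_pow8_25_3 : tab.minOKc [5, 2, 1, 3, 3, 1, 3, 1, 3, 4, 2, 0, 2, 0, 2, 2, 0, 3, 1, 1] 1 604800 1600 = true := by decide +kernel

theorem chk_pow8_25_4 : tab.minOKc [5, 2, 1, 3, 3, 1, 3, 1, 3, 4, 2, 0, 2, 0, 2, 2, 0, 3, 1, 1] 1 606400 1600 = true := by decide +kernel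

theorem chk_pow8_25_5 : tab.minOKc [5, 2, 1, 3, 3, 1, 3, 1, 3, 4, 2, 0, 2, 0, 2, 2, 0, 3, 1, 1] 1 608000 1600 = true := by decide +kernel

theorem chk_pow8_25_6 : tab.minOKc [5, 2, 1, 3, 3, 1, 3, 1, 3, 4, 2, 0, 2, 0, 2, 2, 0, 3, 1, 1] 1 609600 1600 = true := by decide +kernel

theorem chk_pow8_25_7 : tab.minOKc [5, 2, 1, 3, 3, 1, 3, 1, 3, 4, 2, 0, 2, 0, 2, 2, 0, 3, 1, 1] 1 611200 1600 = true := by decide +kernel

theorem chk_pow8_25_8 : tab.minOKc [5, 2, 1, 3, 3, 1, 3, 1, 3, 4, 2, 0, 2, 0, 2, 2, 0, 3, 1, 1] 1 612800 1600 = true := by decide +kernel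

theorem chk_pow8_25_9 : tab.minOKc [5, 2, 1, 3, 3, 1, 3, 1, 3, 4, 2, 0, 2, 0, 2, 2, 0, 3, 1, 1] 1 614400 1600 = true := by decide +kernel

theorem chk_pow8_25_10 : tab.minOKc [5, 2, 1, 3, 3, 1, 3, 1, 3, 4, 2, 0, 2, 0, 2, 2, 0, 3, 1, 1] 1 616000 1600 = true := by decide +kernel

theorem chk_pow8_25_11 : tab.minOKc [5, 2, 1, 3, 3, 1, 3, 1, 3, 4, 2, 0, 2, 0, 2, 2, 0, 3, 1, 1] 1 617600 1600 = true := by decide +kernel

theorem chk_pow8_25_12 : tab.minOKc [5, 2, 1, 3, 3, 1, 3, 1, 3, 4, 2, 0, 2, 0, 2, 2, 0, 3, 1, 1] 1 619200 1600 = true := by decide +kernel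

theorem chk_pow8_25_13 : tab.minOKc [5, 2, 1, 3, 3, 1, 3, 1, 3, 4, 2, 0, 2, 0, 2, 2, 0, 3, 1, 1] 1 620800 1600 = true := by decide +kernel

theorem chk_pow8_25_14 : tab.minOKc [5, 2, 1, 3, 3, 1, 3, 1, 3, 4, 2, 0, 2, 0, 2, 2, 0, 3, 1, 1] 1 622400 1600 = true := by decide +kernel

theorem chk_pow8_25 : tab.minOKc [5, 2, 1, 3, 3, 1, 3, 1, 3, 4, 2, 0, 2, 0, 2, 2, 0, 3, 1, 1] 1 600000 24000 = true := by
  refine tab.minOKc_of_chunks [5, 2, 1, 3, 3, 1, 3, 1, 3, 4, 2, 0, 2, 0, 2, 2, 0, 3, 1, 1] 1 600000 1600 15 (by norm_num) ?_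
  intro i hi
  interval_cases i
  · exact chk_pow8_25_0
  · exact chk_pow8_25_1
  · exact chk_pow8_25_2
  · exact chk_pow8_25_3
  · exact chk_pow8_25_4
  · exact chk_pow8_25_5
  · exact chk_pow8_25_6
  · exact chk_pow8_25_7
  · exact chk_pow8_25_8
  · exact chk_pow8_25_9
  · exact chk_pow8_25_10
  · exact chk_pow8_25_11
  · exact chk_pow8_25_12
  · exact chk_pow8_25_13
  · exact chk_pow8_25_14


end Cfsg.Agent.Lib.Lead.HNP.HNTC
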