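import Cfsg.Agent.Lib.Lead.HNP.HNTCSCert
import Cfsg.Agent.Lib.Lead.HNP.HNTCSRows18

/-! # HNTC: the kernel check of the rows from 482832 on -/

set_option autoImplicit false

namespace Cfsg.Agent.Lib.Lead.HNP.HNTC

open Cfsg.Agent.Lib.Helper6.TC Cfsg.Agent.Lib.Helper6.TCGS

theorem chk_rows42_0 : cert.rowsOK 482832 479 = true := by decide +kernel

theorem chk_rows42_1 : cert.rowsOK 483311 479 = true := by decide +kernel

theorem chk_rows42_2 : cert.rowsOK 483790 479 = true := by decide +kernel

theorem chk_rows42_3 : cert.rowsOK 484269 479 = true := by decide +kernel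

theorem chk_rows42_4 : cert.rowsOK 484748 479 = true := by decide +kernel

theorem chk_rows42_5 : cert.rowsOK 485227 479 = true := by decide +kernel

theorem chk_rows42_6 : cert.rowsOK 485706 479 = true := by decide +kernel

theorem chk_rows42_7 : cert.rowsOK 486185 479 = true := by decide +kernel

theorem chk_rows42_8 : cert.rowsOK 486664 479 = true := by decide +kernel

theorem chk_rows42_9 : cert.rowsOK 487143 479 = true := by decide +kernel

theorem chk_rows42_10 : cert.rowsOK 487622 479 = true := by decide +kernel

theorem chk_rows42_11 : cert.rowsOK 488101 479 = true := by decide +kernel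

theorem chk_rows42_12 : cert.rowsOK 488580 479 = true := by decide +kernel

theorem chk_rows42_13 : cert.rowsOK 489059 479 = true := by decide +kernel

theorem chk_rows42_14 : cert.rowsOK 489538 479 = true := by decide +kernel

theorem chk_rows42_15 : cert.rowsOK 490017 479 = true := by decide +kernel

theorem chk_rows42_16 : cert.rowsOK 490496 479 = true := by decide +kernel

theorem chk_rows42_17 : cert.rowsOK 490975 479 = true := by decide +kernel

theorem chk_rows42_18 : cert.rowsOK 491454 479 = true := by decide +kernel

theorem chk_rows42_19 : cert.rowsOK 491933 479 = true := by decide +kernel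

theorem chk_rows42_20 : cert.rowsOK 492412 479 = true := by decide +kernel

theorem chk_rows42_21 : cert.rowsOK 492891 479 = true := by decide +kernel

theorem chk_rows42_22 : cert.rowsOK 493370 479 = true := by decide +kernel

theorem chk_rows42_23 : cert.rowsOK 493849 479 = true := by decide +kernel

theorem chk_range42 : ∀ a, 482832 ≤ a → a < 494328 → ∀ x < cert.c.g, cert.slotOK a x = true := by
  refine cert.range_of_chunks 482832 479 24 (by norm_num) ?_
  intro k hk
  interval_cases k
  · exact chk_rows42_0
  · exact chk_rows42_1
  · exact chk_rows42_2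
  · exact chk_rows42_3
  · exact chk_rows42_4
  · exact chk_rows42_5
  · exact chk_rows42_6
  · exact chk_rows42_7
  · exact chk_rows42_8
  · exact chk_rows42_9
  · exact chk_rows42_10
  · exact chk_rows42_11
  · exact chk_rows42_12
  · exact chk_rows42_13
  · exact chk_rows42_14
  · exact chk_rows42_15
  · exact chk_rows42_16
  · exact chk_rows42_17
  · exact chk_rows42_18
  · exact chk_rows42_19
  · exact chk_rows42_20
  · exact chk_rows42_21
  · exact chk_rows42_22
  · exact chk_rows42_23

end Cfsg.Agent.Lib.Lead.HNP.HNTC
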