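import Cfsg.Agent.Lib.Lead.HNP.HNTCSCert
import Cfsg.Agent.Lib.Lead.HNP.HNTCSRows42

/-! # HNTC: the kernel check of the rows from 758736 on -/

set_option autoImplicit false

namespace Cfsg.Agent.Lib.Lead.HNP.HNTC

open Cfsg.Agent.Lib.Helper6.TC Cfsg.Agent.Lib.Helper6.TCGS

theorem chk_rows66_0 : cert.rowsOK 758736 479 = true := by decide +kernel

theorem chk_rows66_1 : cert.rowsOK 759215 479 = true := by decide +kernel

theorem chk_rows66_2 : cert.rowsOK 759694 479 = true := by decide +kernel

theorem chk_rows66_3 : cert.rowsOK 760173 479 = true := by decide +kernel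

theorem chk_rows66_4 : cert.rowsOK 760652 479 = true := by decide +kernel

theorem chk_rows66_5 : cert.rowsOK 761131 479 = true := by decide +kernel

theorem chk_rows66_6 : cert.rowsOK 761610 479 = true := by decide +kernel

theorem chk_rows66_7 : cert.rowsOK 762089 479 = true := by decide +kernel

theorem chk_rows66_8 : cert.rowsOK 762568 479 = true := by decide +kernel

theorem chk_rows66_9 : cert.rowsOK 763047 479 = true := by decide +kernel

theorem chk_rows66_10 : cert.rowsOK 763526 479 = true := by decide +kernel

theorem chk_rows66_11 : cert.rowsOK 764005 479 = true := by decide +kernel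

theorem chk_rows66_12 : cert.rowsOK 764484 479 = true := by decide +kernel

theorem chk_rows66_13 : cert.rowsOK 764963 479 = true := by decide +kernel

theorem chk_rows66_14 : cert.rowsOK 765442 479 = true := by decide +kernel

theorem chk_rows66_15 : cert.rowsOK 765921 479 = true := by decide +kernel

theorem chk_rows66_16 : cert.rowsOK 766400 479 = true := by decide +kernel

theorem chk_rows66_17 : cert.rowsOK 766879 479 = true := by decide +kernel

theorem chk_rows66_18 : cert.rowsOK 767358 479 = true := by decide +kernel

theorem chk_rows66_19 : cert.rowsOK 767837 479 = true := by decide +kernel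

theorem chk_rows66_20 : cert.rowsOK 768316 479 = true := by decide +kernel

theorem chk_rows66_21 : cert.rowsOK 768795 479 = true := by decide +kernel

theorem chk_rows66_22 : cert.rowsOK 769274 479 = true := by decide +kernel

theorem chk_rows66_23 : cert.rowsOK 769753 479 = true := by decide +kernel

theorem chk_range66 : ∀ a, 758736 ≤ a → a < 770232 → ∀ x < cert.c.g, cert.slotOK a x = true := by
  refine cert.range_of_chunks 758736 479 24 (by norm_num) ?_
  intro k hk
  interval_cases k
  · exact chk_rows66_0
  · exact chk_rows66_1
  · exact chk_rows66_2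
  · exact chk_rows66_3
  · exact chk_rows66_4
  · exact chk_rows66_5
  · exact chk_rows66_6
  · exact chk_rows66_7
  · exact chk_rows66_8
  · exact chk_rows66_9
  · exact chk_rows66_10
  · exact chk_rows66_11
  · exact chk_rows66_12
  · exact chk_rows66_13
  · exact chk_rows66_14
  · exact chk_rows66_15
  · exact chk_rows66_16
  · exact chk_rows66_17
  · exact chk_rows66_18
  · exact chk_rows66_19
  · exact chk_rows66_20
  · exact chk_rows66_21
  · exact chk_rows66_22
  · exact chk_rows66_23

end Cfsg.Agent.Lib.Lead.HNP.HNTC
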