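import Cfsg.Agent.Lib.Lead.HNP.HNTCSCert
import Cfsg.Agent.Lib.Lead.HNP.HNTCSRows66

/-! # HNTC: the kernel check of the rows from 1034640 on -/

set_option autoImplicit false

namespace Cfsg.Agent.Lib.Lead.HNP.HNTC

open Cfsg.Agent.Lib.Helper6.TC Cfsg.Agent.Lib.Helper6.TCGS

theorem chk_rows90_0 : cert.rowsOK 1034640 479 = true := by decide +kernel

theorem chk_rows90_1 : cert.rowsOK 1035119 479 = true := by decide +kernel

theorem chk_rows90_2 : cert.rowsOK 1035598 479 = true := by decide +kernel

theorem chk_rows90_3 : cert.rowsOK 1036077 479 = true := by decide +kernel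

theorem chk_rows90_4 : cert.rowsOK 1036556 479 = true := by decide +kernel

theorem chk_rows90_5 : cert.rowsOK 1037035 479 = true := by decide +kernel

theorem chk_rows90_6 : cert.rowsOK 1037514 479 = true := by decide +kernel

theorem chk_rows90_7 : cert.rowsOK 1037993 479 = true := by decide +kernel

theorem chk_rows90_8 : cert.rowsOK 1038472 479 = true := by decide +kernel

theorem chk_rows90_9 : cert.rowsOK 1038951 479 = true := by decide +kernel

theorem chk_rows90_10 : cert.rowsOK 1039430 479 = true := by decide +kernel

theorem chk_rows90_11 : cert.rowsOK 1039909 479 = true := by decide +kernel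

theorem chk_rows90_12 : cert.rowsOK 1040388 479 = true := by decide +kernel

theorem chk_rows90_13 : cert.rowsOK 1040867 479 = true := by decide +kernel

theorem chk_rows90_14 : cert.rowsOK 1041346 479 = true := by decide +kernel

theorem chk_rows90_15 : cert.rowsOK 1041825 479 = true := by decide +kernel

theorem chk_rows90_16 : cert.rowsOK 1042304 479 = true := by decide +kernel

theorem chk_rows90_17 : cert.rowsOK 1042783 479 = true := by decide +kernel

theorem chk_rows90_18 : cert.rowsOK 1043262 479 = true := by decide +kernel

theorem chk_rows90_19 : cert.rowsOK 1043741 479 = true := by decide +kernel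

theorem chk_rows90_20 : cert.rowsOK 1044220 479 = true := by decide +kernel

theorem chk_rows90_21 : cert.rowsOK 1044699 479 = true := by decide +kernel

theorem chk_rows90_22 : cert.rowsOK 1045178 479 = true := by decide +kernel

theorem chk_rows90_23 : cert.rowsOK 1045657 479 = true := by decide +kernel

theorem chk_range90 : ∀ a, 1034640 ≤ a → a < 1046136 → ∀ x < cert.c.g, cert.slotOK a x = true := by
  refine cert.range_of_chunks 1034640 479 24 (by norm_num) ?_
  intro k hk
  interval_cases k
  · exact chk_rows90_0
  · exact chk_rows90_1
  · exact chk_rows90_2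
  · exact chk_rows90_3
  · exact chk_rows90_4
  · exact chk_rows90_5
  · exact chk_rows90_6
  · exact chk_rows90_7
  · exact chk_rows90_8
  · exact chk_rows90_9
  · exact chk_rows90_10
  · exact chk_rows90_11
  · exact chk_rows90_12
  · exact chk_rows90_13
  · exact chk_rows90_14
  · exact chk_rows90_15
  · exact chk_rows90_16
  · exact chk_rows90_17
  · exact chk_rows90_18
  · exact chk_rows90_19
  · exact chk_rows90_20
  · exact chk_rows90_21
  · exact chk_rows90_22
  · exact chk_rows90_23

end Cfsg.Agent.Lib.Lead.HNP.HNTC
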