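import Cfsg.Agent.Lib.Lead.HNP.HNTCSCert
import Cfsg.Agent.Lib.Lead.HNP.HNTCSRows90

/-! # HNTC: the kernel check of the rows from 1310544 on -/

set_option autoImplicit false

namespace Cfsg.Agent.Lib.Lead.HNP.HNTC

open Cfsg.Agent.Lib.Helper6.TC Cfsg.Agent.Lib.Helper6.TCGS

theorem chk_rows114_0 : cert.rowsOK 1310544 479 = true := by decide +kernel

theorem chk_rows114_1 : cert.rowsOK 1311023 479 = true := by decide +kernel

theorem chk_rows114_2 : cert.rowsOK 1311502 479 = true := by decide +kernel

theorem chk_rows114_3 : cert.rowsOK 1311981 479 = true := by decide +kernel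

theorem chk_rows114_4 : cert.rowsOK 1312460 479 = true := by decide +kernel

theorem chk_rows114_5 : cert.rowsOK 1312939 479 = true := by decide +kernel

theorem chk_rows114_6 : cert.rowsOK 1313418 479 = true := by decide +kernel

theorem chk_rows114_7 : cert.rowsOK 1313897 479 = true := by decide +kernel

theorem chk_rows114_8 : cert.rowsOK 1314376 479 = true := by decide +kernel

theorem chk_rows114_9 : cert.rowsOK 1314855 479 = true := by decide +kernel

theorem chk_rows114_10 : cert.rowsOK 1315334 479 = true := by decide +kernel

theorem chk_rows114_11 : cert.rowsOK 1315813 479 = true := by decide +kernel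

theorem chk_rows114_12 : cert.rowsOK 1316292 479 = true := by decide +kernel

theorem chk_rows114_13 : cert.rowsOK 1316771 479 = true := by decide +kernel

theorem chk_rows114_14 : cert.rowsOK 1317250 479 = true := by decide +kernel

theorem chk_rows114_15 : cert.rowsOK 1317729 479 = true := by decide +kernel

theorem chk_rows114_16 : cert.rowsOK 1318208 479 = true := by decide +kernel

theorem chk_rows114_17 : cert.rowsOK 1318687 479 = true := by decide +kernel

theorem chk_rows114_18 : cert.rowsOK 1319166 479 = true := by decide +kernel

theorem chk_rows114_19 : cert.rowsOK 1319645 479 = true := by decide +kernel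

theorem chk_rows114_20 : cert.rowsOK 1320124 479 = true := by decide +kernel

theorem chk_rows114_21 : cert.rowsOK 1320603 479 = true := by decide +kernel

theorem chk_rows114_22 : cert.rowsOK 1321082 479 = true := by decide +kernel

theorem chk_rows114_23 : cert.rowsOK 1321561 479 = true := by decide +kernel

theorem chk_range114 : ∀ a, 1310544 ≤ a → a < 1322040 → ∀ x < cert.c.g, cert.slotOK a x = true := by
  refine cert.range_of_chunks 1310544 479 24 (by norm_num) ?_
  intro k hk
  interval_cases k
  · exact chk_rows114_0
  · exact chk_rows114_1
  · exact chk_rows114_2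
  · exact chk_rows114_3
  · exact chk_rows114_4
  · exact chk_rows114_5
  · exact chk_rows114_6
  · exact chk_rows114_7
  · exact chk_rows114_8
  · exact chk_rows114_9
  · exact chk_rows114_10
  · exact chk_rows114_11
  · exact chk_rows114_12
  · exact chk_rows114_13
  · exact chk_rows114_14
  · exact chk_rows114_15
  · exact chk_rows114_16
  · exact chk_rows114_17
  · exact chk_rows114_18
  · exact chk_rows114_19
  · exact chk_rows114_20
  · exact chk_rows114_21
  · exact chk_rows114_22
  · exact chk_rows114_23

end Cfsg.Agent.Lib.Lead.HNP.HNTC
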