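import Cfsg.Agent.Lib.Lead.HNP.HNTCSCert
import Cfsg.Agent.Lib.Helper6.TCGIndex
import Cfsg.Agent.Lib.Lead.HNP.HNTCSRows114

/-! # HNTC: the kernel check that the first rows are closed, part 4 -/

set_option autoImplicit false

namespace Cfsg.Agent.Lib.Lead.HNP.HNTC

open Cfsg.Agent.Lib.Helper6.TC Cfsg.Agent.Lib.Helper6.TCGS

theorem chk_fin36 : cert.finalOKc 1539000 72000 2000 = true := by decide +kernel

theorem chk_fin37 : cert.finalOKc 1539000 74000 2000 = true := by decide +kernel

theorem chk_fin38 : cert.finalOKc 1539000 76000 2000 = true := by decide +kernel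

theorem chk_fin39 : cert.finalOKc 1539000 78000 2000 = true := by decide +kernel

theorem chk_fin40 : cert.finalOKc 1539000 80000 2000 = true := by decide +kernel

theorem chk_fin41 : cert.finalOKc 1539000 82000 2000 = true := by decide +kernel

theorem chk_fin42 : cert.finalOKc 1539000 84000 2000 = true := by decide +kernel

theorem chk_fin43 : cert.finalOKc 1539000 86000 2000 = true := by decide +kernel

theorem chk_fin44 : cert.finalOKc 1539000 88000 2000 = true := by decide +kernel


end Cfsg.Agent.Lib.Lead.HNP.HNTC
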