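import Cfsg.Agent.Lib.Lead.HNP.HNTCSCert
import Cfsg.Agent.Lib.Helper6.TCGIndex
import Cfsg.Agent.Lib.Lead.HNP.HNTCSFin4

/-! # HNTC: the kernel check that the first rows are closed, part 28 -/

set_option autoImplicit false

namespace Cfsg.Agent.Lib.Lead.HNP.HNTC

open Cfsg.Agent.Lib.Helper6.TC Cfsg.Agent.Lib.Helper6.TCGS

theorem chk_fin252 : cert.finalOKc 1539000 504000 2000 = true := by decide +kernel

theorem chk_fin253 : cert.finalOKc 1539000 506000 2000 = true := by decide +kernel

theorem chk_fin254 : cert.finalOKc 1539000 508000 2000 = true := by decide +kernel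

theorem chk_fin255 : cert.finalOKc 1539000 510000 2000 = true := by decide +kernel

theorem chk_fin256 : cert.finalOKc 1539000 512000 2000 = true := by decide +kernel

theorem chk_fin257 : cert.finalOKc 1539000 514000 2000 = true := by decide +kernel

theorem chk_fin258 : cert.finalOKc 1539000 516000 2000 = true := by decide +kernel

theorem chk_fin259 : cert.finalOKc 1539000 518000 2000 = true := by decide +kernel

theorem chk_fin260 : cert.finalOKc 1539000 520000 2000 = true := by decide +kernel


end Cfsg.Agent.Lib.Lead.HNP.HNTC
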