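import Cfsg.Agent.Lib.Lead.HNP.HNTCSCert
import Cfsg.Agent.Lib.Helper6.TCGIndex
import Cfsg.Agent.Lib.Lead.HNP.HNTCSFin28

/-! # HNTC: the kernel check that the first rows are closed, part 52 -/

set_option autoImplicit false

namespace Cfsg.Agent.Lib.Lead.HNP.HNTC

open Cfsg.Agent.Lib.Helper6.TC Cfsg.Agent.Lib.Helper6.TCGS

theorem chk_fin468 : cert.finalOKc 1539000 936000 2000 = true := by decide +kernel

theorem chk_fin469 : cert.finalOKc 1539000 938000 2000 = true := by decide +kernel

theorem chk_fin470 : cert.finalOKc 1539000 940000 2000 = true := by decide +kernel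

theorem chk_fin471 : cert.finalOKc 1539000 942000 2000 = true := by decide +kernel

theorem chk_fin472 : cert.finalOKc 1539000 944000 2000 = true := by decide +kernel

theorem chk_fin473 : cert.finalOKc 1539000 946000 2000 = true := by decide +kernel

theorem chk_fin474 : cert.finalOKc 1539000 948000 2000 = true := by decide +kernel

theorem chk_fin475 : cert.finalOKc 1539000 950000 2000 = true := by decide +kernel

theorem chk_fin476 : cert.finalOKc 1539000 952000 2000 = true := by decide +kernel


end Cfsg.Agent.Lib.Lead.HNP.HNTC
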