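import Cfsg.Agent.Lib.Lead.HNP.HNTCSCert
import Cfsg.Agent.Lib.Helper6.TCGIndex
import Cfsg.Agent.Lib.Lead.HNP.HNTCSFin52

/-! # HNTC: the kernel check that the first rows are closed, part 76 -/

set_option autoImplicit false

namespace Cfsg.Agent.Lib.Lead.HNP.HNTC

open Cfsg.Agent.Lib.Helper6.TC Cfsg.Agent.Lib.Helper6.TCGS

theorem chk_fin684 : cert.finalOKc 1539000 1368000 2000 = true := by decide +kernel

theorem chk_fin685 : cert.finalOKc 1539000 1370000 2000 = true := by decide +kernel

theorem chk_fin686 : cert.finalOKc 1539000 1372000 2000 = true := by decide +kernel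

theorem chk_fin687 : cert.finalOKc 1539000 1374000 2000 = true := by decide +kernel

theorem chk_fin688 : cert.finalOKc 1539000 1376000 2000 = true := by decide +kernel

theorem chk_fin689 : cert.finalOKc 1539000 1378000 2000 = true := by decide +kernel

theorem chk_fin690 : cert.finalOKc 1539000 1380000 2000 = true := by decide +kernel

theorem chk_fin691 : cert.finalOKc 1539000 1382000 2000 = true := by decide +kernel

theorem chk_fin692 : cert.finalOKc 1539000 1384000 2000 = true := by decide +kernel


end Cfsg.Agent.Lib.Lead.HNP.HNTC
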