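import Cfsg.Agent.Lib.Lead.HNP.HNTCData
import Cfsg.Agent.Lib.Helper6.TCRel3
import Cfsg.Agent.Lib.Lead.HNP.HNTCRel14

/-! # HNTC: the kernel check of a part of the relators on the coset table -/

set_option autoImplicit false

namespace Cfsg.Agent.Lib.Lead.HNP.HNTC

open Cfsg.Agent.Lib.Helper6.TC

theorem chk_pow5_9_0 : tab.minOKc [0, 2, 0, 2, 2, 2] 4 719955 5333 = true := by decide +kernel

theorem chk_pow5_9_1 : tab.minOKc [0, 2, 0, 2, 2, 2] 4 725288 5333 = true := by decide +kernel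

theorem chk_pow5_9_2 : tab.minOKc [0, 2, 0, 2, 2, 2] 4 730621 5333 = true := by decide +kernel

theorem chk_pow5_9_3 : tab.minOKc [0, 2, 0, 2, 2, 2] 4 735954 5333 = true := by decide +kernel

theorem chk_pow5_9_4 : tab.minOKc [0, 2, 0, 2, 2, 2] 4 741287 5333 = true := by decide +kernel

theorem chk_pow5_9_5 : tab.minOKc [0, 2, 0, 2, 2, 2] 4 746620 5333 = true := by decide +kernel

theorem chk_pow5_9_6 : tab.minOKc [0, 2, 0, 2, 2, 2] 4 751953 5333 = true := by decide +kernel

theorem chk_pow5_9_7 : tab.minOKc [0, 2, 0, 2, 2, 2] 4 757286 5333 = true := by decide +kernel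

theorem chk_pow5_9_8 : tab.minOKc [0, 2, 0, 2, 2, 2] 4 762619 5333 = true := by decide +kernel

theorem chk_pow5_9_9 : tab.minOKc [0, 2, 0, 2, 2, 2] 4 767952 5333 = true := by decide +kernel

theorem chk_pow5_9_10 : tab.minOKc [0, 2, 0, 2, 2, 2] 4 773285 5333 = true := by decide +kernel

theorem chk_pow5_9_11 : tab.minOKc [0, 2, 0, 2, 2, 2] 4 778618 5333 = true := by decide +kernel

theorem chk_pow5_9_12 : tab.minOKc [0, 2, 0, 2, 2, 2] 4 783951 5333 = true := by decide +kernel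

theorem chk_pow5_9_13 : tab.minOKc [0, 2, 0, 2, 2, 2] 4 789284 5333 = true := by decide +kernel

theorem chk_pow5_9_14 : tab.minOKc [0, 2, 0, 2, 2, 2] 4 794617 5333 = true := by decide +kernel

theorem chk_pow5_9 : tab.minOKc [0, 2, 0, 2, 2, 2] 4 719955 79995 = true := by
  refine tab.minOKc_of_chunks [0, 2, 0, 2, 2, 2] 4 719955 5333 15 (by norm_num) ?_
  intro i hi
  interval_cases i
  · exact chk_pow5_9_0
  · exact chk_pow5_9_1
  · exact chk_pow5_9_2
  · exact chk_pow5_9_3
  · exact chk_pow5_9_4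
  · exact chk_pow5_9_5
  · exact chk_pow5_9_6
  · exact chk_pow5_9_7
  · exact chk_pow5_9_8
  · exact chk_pow5_9_9
  · exact chk_pow5_9_10
  · exact chk_pow5_9_11
  · exact chk_pow5_9_12
  · exact chk_pow5_9_13
  · exact chk_pow5_9_14

theorem chk_pow5_10_0 : tab.minOKc [0, 2, 0, 2, 2, 2] 4 799950 5333 = true := by decide +kernel

theorem chk_pow5_10_1 : tab.minOKc [0, 2, 0, 2, 2, 2] 4 805283 5333 = true := by decide +kernel

theorem chk_pow5_10_2 : tab.minOKc [0, 2, 0, 2, 2, 2] 4 810616 5333 = true := by decide +kernel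

theorem chk_pow5_10_3 : tab.minOKc [0, 2, 0, 2, 2, 2] 4 815949 5333 = true := by decide +kernel

theorem chk_pow5_10_4 : tab.minOKc [0, 2, 0, 2, 2, 2] 4 821282 5333 = true := by decide +kernel

theorem chk_pow5_10_5 : tab.minOKc [0, 2, 0, 2, 2, 2] 4 826615 5333 = true := by decide +kernel

theorem chk_pow5_10_6 : tab.minOKc [0, 2, 0, 2, 2, 2] 4 831948 5333 = true := by decide +kernel

theorem chk_pow5_10_7 : tab.minOKc [0, 2, 0, 2, 2, 2] 4 837281 5333 = true := by decide +kernel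

theorem chk_pow5_10_8 : tab.minOKc [0, 2, 0, 2, 2, 2] 4 842614 5333 = true := by decide +kernel

theorem chk_pow5_10_9 : tab.minOKc [0, 2, 0, 2, 2, 2] 4 847947 5333 = true := by decide +kernel

theorem chk_pow5_10_10 : tab.minOKc [0, 2, 0, 2, 2, 2] 4 853280 5333 = true := by decide +kernel

theorem chk_pow5_10_11 : tab.minOKc [0, 2, 0, 2, 2, 2] 4 858613 5333 = true := by decide +kernel

theorem chk_pow5_10_12 : tab.minOKc [0, 2, 0, 2, 2, 2] 4 863946 5333 = true := by decide +kernel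

theorem chk_pow5_10_13 : tab.minOKc [0, 2, 0, 2, 2, 2] 4 869279 5333 = true := by decide +kernel

theorem chk_pow5_10_14 : tab.minOKc [0, 2, 0, 2, 2, 2] 4 874612 5333 = true := by decide +kernel

theorem chk_pow5_10 : tab.minOKc [0, 2, 0, 2, 2, 2] 4 799950 79995 = true := by
  refine tab.minOKc_of_chunks [0, 2, 0, 2, 2, 2] 4 799950 5333 15 (by norm_num) ?_
  intro i hi
  interval_cases i
  · exact chk_pow5_10_0
  · exact chk_pow5_10_1
  · exact chk_pow5_10_2
  · exact chk_pow5_10_3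
  · exact chk_pow5_10_4
  · exact chk_pow5_10_5
  · exact chk_pow5_10_6
  · exact chk_pow5_10_7
  · exact chk_pow5_10_8
  · exact chk_pow5_10_9
  · exact chk_pow5_10_10
  · exact chk_pow5_10_11
  · exact chk_pow5_10_12
  · exact chk_pow5_10_13
  · exact chk_pow5_10_14


end Cfsg.Agent.Lib.Lead.HNP.HNTC
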