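import Cfsg.Agent.Lib.Lead.HNP.HNTCData
import Cfsg.Agent.Lib.Helper6.TCRel3
import Cfsg.Agent.Lib.Lead.HNP.HNTCRel38

/-! # HNTC: the kernel check of a part of the relators on the coset table -/

set_option autoImplicit false

namespace Cfsg.Agent.Lib.Lead.HNP.HNTC

open Cfsg.Agent.Lib.Helper6.TC

theorem chk_pow8_26_0 : tab.minOKc [5, 2, 1, 3, 3, 1, 3, 1, 3, 4, 2, 0, 2, 0, 2, 2, 0, 3, 1, 1] 1 624000 1600 = true := by decide +kernel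

theorem chk_pow8_26_1 : tab.minOKc [5, 2, 1, 3, 3, 1, 3, 1, 3, 4, 2, 0, 2, 0, 2, 2, 0, 3, 1, 1] 1 625600 1600 = true := by decide +kernel

theorem chk_pow8_26_2 : tab.minOKc [5, 2, 1, 3, 3, 1, 3, 1, 3, 4, 2, 0, 2, 0, 2, 2, 0, 3, 1, 1] 1 627200 1600 = true := by decide +kernel

theorem chk_pow8_26_3 : tab.minOKc [5, 2, 1, 3, 3, 1, 3, 1, 3, 4, 2, 0, 2, 0, 2, 2, 0, 3, 1, 1] 1 628800 1600 = true := by decide +kernel

theorem chk_pow8_26_4 : tab.minOKc [5, 2, 1, 3, 3, 1, 3, 1, 3, 4, 2, 0, 2, 0, 2, 2, 0, 3, 1, 1] 1 630400 1600 = true := by decide +kernel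

theorem chk_pow8_26_5 : tab.minOKc [5, 2, 1, 3, 3, 1, 3, 1, 3, 4, 2, 0, 2, 0, 2, 2, 0, 3, 1, 1] 1 632000 1600 = true := by decide +kernel

theorem chk_pow8_26_6 : tab.minOKc [5, 2, 1, 3, 3, 1, 3, 1, 3, 4, 2, 0, 2, 0, 2, 2, 0, 3, 1, 1] 1 633600 1600 = true := by decide +kernel

theorem chk_pow8_26_7 : tab.minOKc [5, 2, 1, 3, 3, 1, 3, 1, 3, 4, 2, 0, 2, 0, 2, 2, 0, 3, 1, 1] 1 635200 1600 = true := by decide +kernel

theorem chk_pow8_26_8 : tab.minOKc [5, 2, 1, 3, 3, 1, 3, 1, 3, 4, 2, 0, 2, 0, 2, 2, 0, 3, 1, 1] 1 636800 1600 = true := by decide +kernel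

theorem chk_pow8_26_9 : tab.minOKc [5, 2, 1, 3, 3, 1, 3, 1, 3, 4, 2, 0, 2, 0, 2, 2, 0, 3, 1, 1] 1 638400 1600 = true := by decide +kernel

theorem chk_pow8_26_10 : tab.minOKc [5, 2, 1, 3, 3, 1, 3, 1, 3, 4, 2, 0, 2, 0, 2, 2, 0, 3, 1, 1] 1 640000 1600 = true := by decide +kernel

theorem chk_pow8_26_11 : tab.minOKc [5, 2, 1, 3, 3, 1, 3, 1, 3, 4, 2, 0, 2, 0, 2, 2, 0, 3, 1, 1] 1 641600 1600 = true := by decide +kernel

theorem chk_pow8_26_12 : tab.minOKc [5, 2, 1, 3, 3, 1, 3, 1, 3, 4, 2, 0, 2, 0, 2, 2, 0, 3, 1, 1] 1 643200 1600 = true := by decide +kernel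

theorem chk_pow8_26_13 : tab.minOKc [5, 2, 1, 3, 3, 1, 3, 1, 3, 4, 2, 0, 2, 0, 2, 2, 0, 3, 1, 1] 1 644800 1600 = true := by decide +kernel

theorem chk_pow8_26_14 : tab.minOKc [5, 2, 1, 3, 3, 1, 3, 1, 3, 4, 2, 0, 2, 0, 2, 2, 0, 3, 1, 1] 1 646400 1600 = true := by decide +kernel

theorem chk_pow8_26 : tab.minOKc [5, 2, 1, 3, 3, 1, 3, 1, 3, 4, 2, 0, 2, 0, 2, 2, 0, 3, 1, 1] 1 624000 24000 = true := by
  refine tab.minOKc_of_chunks [5, 2, 1, 3, 3, 1, 3, 1, 3, 4, 2, 0, 2, 0, 2, 2, 0, 3, 1, 1] 1 624000 1600 15 (by norm_num) ?_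
  intro i hi
  interval_cases i
  · exact chk_pow8_26_0
  · exact chk_pow8_26_1
  · exact chk_pow8_26_2
  · exact chk_pow8_26_3
  · exact chk_pow8_26_4
  · exact chk_pow8_26_5
  · exact chk_pow8_26_6
  · exact chk_pow8_26_7
  · exact chk_pow8_26_8
  · exact chk_pow8_26_9
  · exact chk_pow8_26_10
  · exact chk_pow8_26_11
  · exact chk_pow8_26_12
  · exact chk_pow8_26_13
  · exact chk_pow8_26_14

theorem chk_pow8_27_0 : tab.minOKc [5, 2, 1, 3, 3, 1, 3, 1, 3, 4, 2, 0, 2, 0, 2, 2, 0, 3, 1, 1] 1 648000 1600 = true := by decide +kernel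

theorem chk_pow8_27_1 : tab.minOKc [5, 2, 1, 3, 3, 1, 3, 1, 3, 4, 2, 0, 2, 0, 2, 2, 0, 3, 1, 1] 1 649600 1600 = true := by decide +kernel

theorem chk_pow8_27_2 : tab.minOKc [5, 2, 1, 3, 3, 1, 3, 1, 3, 4, 2, 0, 2, 0, 2, 2, 0, 3, 1, 1] 1 651200 1600 = true := by decide +kernel

theorem chk_pow8_27_3 : tab.minOKc [5, 2, 1, 3, 3, 1, 3, 1, 3, 4, 2, 0, 2, 0, 2, 2, 0, 3, 1, 1] 1 652800 1600 = true := by decide +kernel

theorem chk_pow8_27_4 : tab.minOKc [5, 2, 1, 3, 3, 1, 3, 1, 3, 4, 2, 0, 2, 0, 2, 2, 0, 3, 1, 1] 1 654400 1600 = true := by decide +kernel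

theorem chk_pow8_27_5 : tab.minOKc [5, 2, 1, 3, 3, 1, 3, 1, 3, 4, 2, 0, 2, 0, 2, 2, 0, 3, 1, 1] 1 656000 1600 = true := by decide +kernel

theorem chk_pow8_27_6 : tab.minOKc [5, 2, 1, 3, 3, 1, 3, 1, 3, 4, 2, 0, 2, 0, 2, 2, 0, 3, 1, 1] 1 657600 1600 = true := by decide +kernel

theorem chk_pow8_27_7 : tab.minOKc [5, 2, 1, 3, 3, 1, 3, 1, 3, 4, 2, 0, 2, 0, 2, 2, 0, 3, 1, 1] 1 659200 1600 = true := by decide +kernel

theorem chk_pow8_27_8 : tab.minOKc [5, 2, 1, 3, 3, 1, 3, 1, 3, 4, 2, 0, 2, 0, 2, 2, 0, 3, 1, 1] 1 660800 1600 = true := by decide +kernel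

theorem chk_pow8_27_9 : tab.minOKc [5, 2, 1, 3, 3, 1, 3, 1, 3, 4, 2, 0, 2, 0, 2, 2, 0, 3, 1, 1] 1 662400 1600 = true := by decide +kernel

theorem chk_pow8_27_10 : tab.minOKc [5, 2, 1, 3, 3, 1, 3, 1, 3, 4, 2, 0, 2, 0, 2, 2, 0, 3, 1, 1] 1 664000 1600 = true := by decide +kernel

theorem chk_pow8_27_11 : tab.minOKc [5, 2, 1, 3, 3, 1, 3, 1, 3, 4, 2, 0, 2, 0, 2, 2, 0, 3, 1, 1] 1 665600 1600 = true := by decide +kernel

theorem chk_pow8_27_12 : tab.minOKc [5, 2, 1, 3, 3, 1, 3, 1, 3, 4, 2, 0, 2, 0, 2, 2, 0, 3, 1, 1] 1 667200 1600 = true := by decide +kernel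

theorem chk_pow8_27_13 : tab.minOKc [5, 2, 1, 3, 3, 1, 3, 1, 3, 4, 2, 0, 2, 0, 2, 2, 0, 3, 1, 1] 1 668800 1600 = true := by decide +kernel

theorem chk_pow8_27_14 : tab.minOKc [5, 2, 1, 3, 3, 1, 3, 1, 3, 4, 2, 0, 2, 0, 2, 2, 0, 3, 1, 1] 1 670400 1600 = true := by decide +kernel

theorem chk_pow8_27 : tab.minOKc [5, 2, 1, 3, 3, 1, 3, 1, 3, 4, 2, 0, 2, 0, 2, 2, 0, 3, 1, 1] 1 648000 24000 = true := by
  refine tab.minOKc_of_chunks [5, 2, 1, 3, 3, 1, 3, 1, 3, 4, 2, 0, 2, 0, 2, 2, 0, 3, 1, 1] 1 648000 1600 15 (by norm_num) ?_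
  intro i hi
  interval_cases i
  · exact chk_pow8_27_0
  · exact chk_pow8_27_1
  · exact chk_pow8_27_2
  · exact chk_pow8_27_3
  · exact chk_pow8_27_4
  · exact chk_pow8_27_5
  · exact chk_pow8_27_6
  · exact chk_pow8_27_7
  · exact chk_pow8_27_8
  · exact chk_pow8_27_9
  · exact chk_pow8_27_10
  · exact chk_pow8_27_11
  · exact chk_pow8_27_12
  · exact chk_pow8_27_13
  · exact chk_pow8_27_14


end Cfsg.Agent.Lib.Lead.HNP.HNTC
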