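import Cfsg.Agent.Lib.Lead.HNP.HNTCSCert

/-! # HNTC: the kernel check of the rows from 218424 on -/

set_option autoImplicit false

namespace Cfsg.Agent.Lib.Lead.HNP.HNTC

open Cfsg.Agent.Lib.Helper6.TC Cfsg.Agent.Lib.Helper6.TCGS

theorem chk_rows19_0 : cert.rowsOK 218424 479 = true := by decide +kernel

theorem chk_rows19_1 : cert.rowsOK 218903 479 = true := by decide +kernel

theorem chk_rows19_2 : cert.rowsOK 219382 479 = true := by decide +kernel

theorem chk_rows19_3 : cert.rowsOK 219861 479 = true := by decide +kernel

theorem chk_rows19_4 : cert.rowsOK 220340 479 = true := by decide +kernel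

theorem chk_rows19_5 : cert.rowsOK 220819 479 = true := by decide +kernel

theorem chk_rows19_6 : cert.rowsOK 221298 479 = true := by decide +kernel

theorem chk_rows19_7 : cert.rowsOK 221777 479 = true := by decide +kernel

theorem chk_rows19_8 : cert.rowsOK 222256 479 = true := by decide +kernel

theorem chk_rows19_9 : cert.rowsOK 222735 479 = true := by decide +kernel

theorem chk_rows19_10 : cert.rowsOK 223214 479 = true := by decide +kernel

theorem chk_rows19_11 : cert.rowsOK 223693 479 = true := by decide +kernel

theorem chk_rows19_12 : cert.rowsOK 224172 479 = true := by decide +kernel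

theorem chk_rows19_13 : cert.rowsOK 224651 479 = true := by decide +kernel

theorem chk_rows19_14 : cert.rowsOK 225130 479 = true := by decide +kernel

theorem chk_rows19_15 : cert.rowsOK 225609 479 = true := by decide +kernel

theorem chk_rows19_16 : cert.rowsOK 226088 479 = true := by decide +kernel

theorem chk_rows19_17 : cert.rowsOK 226567 479 = true := by decide +kernel

theorem chk_rows19_18 : cert.rowsOK 227046 479 = true := by decide +kernel

theorem chk_rows19_19 : cert.rowsOK 227525 479 = true := by decide +kernel

theorem chk_rows19_20 : cert.rowsOK 228004 479 = true := by decide +kernel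

theorem chk_rows19_21 : cert.rowsOK 228483 479 = true := by decide +kernel

theorem chk_rows19_22 : cert.rowsOK 228962 479 = true := by decide +kernel

theorem chk_rows19_23 : cert.rowsOK 229441 479 = true := by decide +kernel

theorem chk_range19 : ∀ a, 218424 ≤ a → a < 229920 → ∀ x < cert.c.g, cert.slotOK a x = true := by
  refine cert.range_of_chunks 218424 479 24 (by norm_num) ?_
  intro k hk
  interval_cases k
  · exact chk_rows19_0
  · exact chk_rows19_1
  · exact chk_rows19_2
  · exact chk_rows19_3
  · exact chk_rows19_4
  · exact chk_rows19_5
  · exact chk_rows19_6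
  · exact chk_rows19_7
  · exact chk_rows19_8
  · exact chk_rows19_9
  · exact chk_rows19_10
  · exact chk_rows19_11
  · exact chk_rows19_12
  · exact chk_rows19_13
  · exact chk_rows19_14
  · exact chk_rows19_15
  · exact chk_rows19_16
  · exact chk_rows19_17
  · exact chk_rows19_18
  · exact chk_rows19_19
  · exact chk_rows19_20
  · exact chk_rows19_21
  · exact chk_rows19_22
  · exact chk_rows19_23

end Cfsg.Agent.Lib.Lead.HNP.HNTC
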