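import Cfsg.Agent.Lib.Lead.HNP.HNTCSCert
import Cfsg.Agent.Lib.Lead.HNP.HNTCSRows19

/-! # HNTC: the kernel check of the rows from 494328 on -/

set_option autoImplicit false

namespace Cfsg.Agent.Lib.Lead.HNP.HNTC

open Cfsg.Agent.Lib.Helper6.TC Cfsg.Agent.Lib.Helper6.TCGS

theorem chk_rows43_0 : cert.rowsOK 494328 479 = true := by decide +kernel

theorem chk_rows43_1 : cert.rowsOK 494807 479 = true := by decide +kernel

theorem chk_rows43_2 : cert.rowsOK 495286 479 = true := by decide +kernel

theorem chk_rows43_3 : cert.rowsOK 495765 479 = true := by decide +kernel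

theorem chk_rows43_4 : cert.rowsOK 496244 479 = true := by decide +kernel

theorem chk_rows43_5 : cert.rowsOK 496723 479 = true := by decide +kernel

theorem chk_rows43_6 : cert.rowsOK 497202 479 = true := by decide +kernel

theorem chk_rows43_7 : cert.rowsOK 497681 479 = true := by decide +kernel

theorem chk_rows43_8 : cert.rowsOK 498160 479 = true := by decide +kernel

theorem chk_rows43_9 : cert.rowsOK 498639 479 = true := by decide +kernel

theorem chk_rows43_10 : cert.rowsOK 499118 479 = true := by decide +kernel

theorem chk_rows43_11 : cert.rowsOK 499597 479 = true := by decide +kernel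

theorem chk_rows43_12 : cert.rowsOK 500076 479 = true := by decide +kernel

theorem chk_rows43_13 : cert.rowsOK 500555 479 = true := by decide +kernel

theorem chk_rows43_14 : cert.rowsOK 501034 479 = true := by decide +kernel

theorem chk_rows43_15 : cert.rowsOK 501513 479 = true := by decide +kernel

theorem chk_rows43_16 : cert.rowsOK 501992 479 = true := by decide +kernel

theorem chk_rows43_17 : cert.rowsOK 502471 479 = true := by decide +kernel

theorem chk_rows43_18 : cert.rowsOK 502950 479 = true := by decide +kernel

theorem chk_rows43_19 : cert.rowsOK 503429 479 = true := by decide +kernel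

theorem chk_rows43_20 : cert.rowsOK 503908 479 = true := by decide +kernel

theorem chk_rows43_21 : cert.rowsOK 504387 479 = true := by decide +kernel

theorem chk_rows43_22 : cert.rowsOK 504866 479 = true := by decide +kernel

theorem chk_rows43_23 : cert.rowsOK 505345 479 = true := by decide +kernel

theorem chk_range43 : ∀ a, 494328 ≤ a → a < 505824 → ∀ x < cert.c.g, cert.slotOK a x = true := by
  refine cert.range_of_chunks 494328 479 24 (by norm_num) ?_
  intro k hk
  interval_cases k
  · exact chk_rows43_0
  · exact chk_rows43_1
  · exact chk_rows43_2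
  · exact chk_rows43_3
  · exact chk_rows43_4
  · exact chk_rows43_5
  · exact chk_rows43_6
  · exact chk_rows43_7
  · exact chk_rows43_8
  · exact chk_rows43_9
  · exact chk_rows43_10
  · exact chk_rows43_11
  · exact chk_rows43_12
  · exact chk_rows43_13
  · exact chk_rows43_14
  · exact chk_rows43_15
  · exact chk_rows43_16
  · exact chk_rows43_17
  · exact chk_rows43_18
  · exact chk_rows43_19
  · exact chk_rows43_20
  · exact chk_rows43_21
  · exact chk_rows43_22
  · exact chk_rows43_23

end Cfsg.Agent.Lib.Lead.HNP.HNTC
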