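import Cfsg.Agent.Lib.Lead.HNP.HNTCSCert
import Cfsg.Agent.Lib.Lead.HNP.HNTCSRows43

/-! # HNTC: the kernel check of the rows from 770232 on -/

set_option autoImplicit false

namespace Cfsg.Agent.Lib.Lead.HNP.HNTC

open Cfsg.Agent.Lib.Helper6.TC Cfsg.Agent.Lib.Helper6.TCGS

theorem chk_rows67_0 : cert.rowsOK 770232 479 = true := by decide +kernel

theorem chk_rows67_1 : cert.rowsOK 770711 479 = true := by decide +kernel

theorem chk_rows67_2 : cert.rowsOK 771190 479 = true := by decide +kernel

theorem chk_rows67_3 : cert.rowsOK 771669 479 = true := by decide +kernel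

theorem chk_rows67_4 : cert.rowsOK 772148 479 = true := by decide +kernel

theorem chk_rows67_5 : cert.rowsOK 772627 479 = true := by decide +kernel

theorem chk_rows67_6 : cert.rowsOK 773106 479 = true := by decide +kernel

theorem chk_rows67_7 : cert.rowsOK 773585 479 = true := by decide +kernel

theorem chk_rows67_8 : cert.rowsOK 774064 479 = true := by decide +kernel

theorem chk_rows67_9 : cert.rowsOK 774543 479 = true := by decide +kernel

theorem chk_rows67_10 : cert.rowsOK 775022 479 = true := by decide +kernel

theorem chk_rows67_11 : cert.rowsOK 775501 479 = true := by decide +kernel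

theorem chk_rows67_12 : cert.rowsOK 775980 479 = true := by decide +kernel

theorem chk_rows67_13 : cert.rowsOK 776459 479 = true := by decide +kernel

theorem chk_rows67_14 : cert.rowsOK 776938 479 = true := by decide +kernel

theorem chk_rows67_15 : cert.rowsOK 777417 479 = true := by decide +kernel

theorem chk_rows67_16 : cert.rowsOK 777896 479 = true := by decide +kernel

theorem chk_rows67_17 : cert.rowsOK 778375 479 = true := by decide +kernel

theorem chk_rows67_18 : cert.rowsOK 778854 479 = true := by decide +kernel

theorem chk_rows67_19 : cert.rowsOK 779333 479 = true := by decide +kernel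

theorem chk_rows67_20 : cert.rowsOK 779812 479 = true := by decide +kernel

theorem chk_rows67_21 : cert.rowsOK 780291 479 = true := by decide +kernel

theorem chk_rows67_22 : cert.rowsOK 780770 479 = true := by decide +kernel

theorem chk_rows67_23 : cert.rowsOK 781249 479 = true := by decide +kernel

theorem chk_range67 : ∀ a, 770232 ≤ a → a < 781728 → ∀ x < cert.c.g, cert.slotOK a x = true := by
  refine cert.range_of_chunks 770232 479 24 (by norm_num) ?_
  intro k hk
  interval_cases k
  · exact chk_rows67_0
  · exact chk_rows67_1
  · exact chk_rows67_2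
  · exact chk_rows67_3
  · exact chk_rows67_4
  · exact chk_rows67_5
  · exact chk_rows67_6
  · exact chk_rows67_7
  · exact chk_rows67_8
  · exact chk_rows67_9
  · exact chk_rows67_10
  · exact chk_rows67_11
  · exact chk_rows67_12
  · exact chk_rows67_13
  · exact chk_rows67_14
  · exact chk_rows67_15
  · exact chk_rows67_16
  · exact chk_rows67_17
  · exact chk_rows67_18
  · exact chk_rows67_19
  · exact chk_rows67_20
  · exact chk_rows67_21
  · exact chk_rows67_22
  · exact chk_rows67_23

end Cfsg.Agent.Lib.Lead.HNP.HNTC
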