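import Cfsg.Agent.Lib.Lead.HNP.HNTCSCert
import Cfsg.Agent.Lib.Lead.HNP.HNTCSRows67

/-! # HNTC: the kernel check of the rows from 1046136 on -/

set_option autoImplicit false

namespace Cfsg.Agent.Lib.Lead.HNP.HNTC

open Cfsg.Agent.Lib.Helper6.TC Cfsg.Agent.Lib.Helper6.TCGS

theorem chk_rows91_0 : cert.rowsOK 1046136 479 = true := by decide +kernel

theorem chk_rows91_1 : cert.rowsOK 1046615 479 = true := by decide +kernel

theorem chk_rows91_2 : cert.rowsOK 1047094 479 = true := by decide +kernel

theorem chk_rows91_3 : cert.rowsOK 1047573 479 = true := by decide +kernel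

theorem chk_rows91_4 : cert.rowsOK 1048052 479 = true := by decide +kernel

theorem chk_rows91_5 : cert.rowsOK 1048531 479 = true := by decide +kernel

theorem chk_rows91_6 : cert.rowsOK 1049010 479 = true := by decide +kernel

theorem chk_rows91_7 : cert.rowsOK 1049489 479 = true := by decide +kernel

theorem chk_rows91_8 : cert.rowsOK 1049968 479 = true := by decide +kernel

theorem chk_rows91_9 : cert.rowsOK 1050447 479 = true := by decide +kernel

theorem chk_rows91_10 : cert.rowsOK 1050926 479 = true := by decide +kernel

theorem chk_rows91_11 : cert.rowsOK 1051405 479 = true := by decide +kernel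

theorem chk_rows91_12 : cert.rowsOK 1051884 479 = true := by decide +kernel

theorem chk_rows91_13 : cert.rowsOK 1052363 479 = true := by decide +kernel

theorem chk_rows91_14 : cert.rowsOK 1052842 479 = true := by decide +kernel

theorem chk_rows91_15 : cert.rowsOK 1053321 479 = true := by decide +kernel

theorem chk_rows91_16 : cert.rowsOK 1053800 479 = true := by decide +kernel

theorem chk_rows91_17 : cert.rowsOK 1054279 479 = true := by decide +kernel

theorem chk_rows91_18 : cert.rowsOK 1054758 479 = true := by decide +kernel

theorem chk_rows91_19 : cert.rowsOK 1055237 479 = true := by decide +kernel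

theorem chk_rows91_20 : cert.rowsOK 1055716 479 = true := by decide +kernel

theorem chk_rows91_21 : cert.rowsOK 1056195 479 = true := by decide +kernel

theorem chk_rows91_22 : cert.rowsOK 1056674 479 = true := by decide +kernel

theorem chk_rows91_23 : cert.rowsOK 1057153 479 = true := by decide +kernel

theorem chk_range91 : ∀ a, 1046136 ≤ a → a < 1057632 → ∀ x < cert.c.g, cert.slotOK a x = true := by
  refine cert.range_of_chunks 1046136 479 24 (by norm_num) ?_
  intro k hk
  interval_cases k
  · exact chk_rows91_0
  · exact chk_rows91_1
  · exact chk_rows91_2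
  · exact chk_rows91_3
  · exact chk_rows91_4
  · exact chk_rows91_5
  · exact chk_rows91_6
  · exact chk_rows91_7
  · exact chk_rows91_8
  · exact chk_rows91_9
  · exact chk_rows91_10
  · exact chk_rows91_11
  · exact chk_rows91_12
  · exact chk_rows91_13
  · exact chk_rows91_14
  · exact chk_rows91_15
  · exact chk_rows91_16
  · exact chk_rows91_17
  · exact chk_rows91_18
  · exact chk_rows91_19
  · exact chk_rows91_20
  · exact chk_rows91_21
  · exact chk_rows91_22
  · exact chk_rows91_23

end Cfsg.Agent.Lib.Lead.HNP.HNTC
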