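import Cfsg.Agent.Lib.Lead.HNP.HNTCSCert
import Cfsg.Agent.Lib.Lead.HNP.HNTCSRows91

/-! # HNTC: the kernel check of the rows from 1322040 on -/

set_option autoImplicit false

namespace Cfsg.Agent.Lib.Lead.HNP.HNTC

open Cfsg.Agent.Lib.Helper6.TC Cfsg.Agent.Lib.Helper6.TCGS

theorem chk_rows115_0 : cert.rowsOK 1322040 479 = true := by decide +kernel

theorem chk_rows115_1 : cert.rowsOK 1322519 479 = true := by decide +kernel

theorem chk_rows115_2 : cert.rowsOK 1322998 479 = true := by decide +kernel

theorem chk_rows115_3 : cert.rowsOK 1323477 479 = true := by decide +kernel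

theorem chk_rows115_4 : cert.rowsOK 1323956 479 = true := by decide +kernel

theorem chk_rows115_5 : cert.rowsOK 1324435 479 = true := by decide +kernel

theorem chk_rows115_6 : cert.rowsOK 1324914 479 = true := by decide +kernel

theorem chk_rows115_7 : cert.rowsOK 1325393 479 = true := by decide +kernel

theorem chk_rows115_8 : cert.rowsOK 1325872 479 = true := by decide +kernel

theorem chk_rows115_9 : cert.rowsOK 1326351 479 = true := by decide +kernel

theorem chk_rows115_10 : cert.rowsOK 1326830 479 = true := by decide +kernel

theorem chk_rows115_11 : cert.rowsOK 1327309 479 = true := by decide +kernel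

theorem chk_rows115_12 : cert.rowsOK 1327788 479 = true := by decide +kernel

theorem chk_rows115_13 : cert.rowsOK 1328267 479 = true := by decide +kernel

theorem chk_rows115_14 : cert.rowsOK 1328746 479 = true := by decide +kernel

theorem chk_rows115_15 : cert.rowsOK 1329225 479 = true := by decide +kernel

theorem chk_rows115_16 : cert.rowsOK 1329704 479 = true := by decide +kernel

theorem chk_rows115_17 : cert.rowsOK 1330183 479 = true := by decide +kernel

theorem chk_rows115_18 : cert.rowsOK 1330662 479 = true := by decide +kernel

theorem chk_rows115_19 : cert.rowsOK 1331141 479 = true := by decide +kernel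

theorem chk_rows115_20 : cert.rowsOK 1331620 479 = true := by decide +kernel

theorem chk_rows115_21 : cert.rowsOK 1332099 479 = true := by decide +kernel

theorem chk_rows115_22 : cert.rowsOK 1332578 479 = true := by decide +kernel

theorem chk_rows115_23 : cert.rowsOK 1333057 479 = true := by decide +kernel

theorem chk_range115 : ∀ a, 1322040 ≤ a → a < 1333536 → ∀ x < cert.c.g, cert.slotOK a x = true := by
  refine cert.range_of_chunks 1322040 479 24 (by norm_num) ?_
  intro k hk
  interval_cases k
  · exact chk_rows115_0
  · exact chk_rows115_1
  · exact chk_rows115_2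
  · exact chk_rows115_3
  · exact chk_rows115_4
  · exact chk_rows115_5
  · exact chk_rows115_6
  · exact chk_rows115_7
  · exact chk_rows115_8
  · exact chk_rows115_9
  · exact chk_rows115_10
  · exact chk_rows115_11
  · exact chk_rows115_12
  · exact chk_rows115_13
  · exact chk_rows115_14
  · exact chk_rows115_15
  · exact chk_rows115_16
  · exact chk_rows115_17
  · exact chk_rows115_18
  · exact chk_rows115_19
  · exact chk_rows115_20
  · exact chk_rows115_21
  · exact chk_rows115_22
  · exact chk_rows115_23

end Cfsg.Agent.Lib.Lead.HNP.HNTC
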