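import Cfsg.Agent.Lib.Lead.HNP.HNTCSCert
import Cfsg.Agent.Lib.Helper6.TCGIndex
import Cfsg.Agent.Lib.Lead.HNP.HNTCSFin5

/-! # HNTC: the kernel check that the first rows are closed, part 29 -/

set_option autoImplicit false

namespace Cfsg.Agent.Lib.Lead.HNP.HNTC

open Cfsg.Agent.Lib.Helper6.TC Cfsg.Agent.Lib.Helper6.TCGS

theorem chk_fin261 : cert.finalOKc 1539000 522000 2000 = true := by decide +kernel

theorem chk_fin262 : cert.finalOKc 1539000 524000 2000 = true := by decide +kernel

theorem chk_fin263 : cert.finalOKc 1539000 526000 2000 = true := by decide +kernel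

theorem chk_fin264 : cert.finalOKc 1539000 528000 2000 = true := by decide +kernel

theorem chk_fin265 : cert.finalOKc 1539000 530000 2000 = true := by decide +kernel

theorem chk_fin266 : cert.finalOKc 1539000 532000 2000 = true := by decide +kernel

theorem chk_fin267 : cert.finalOKc 1539000 534000 2000 = true := by decide +kernel

theorem chk_fin268 : cert.finalOKc 1539000 536000 2000 = true := by decide +kernel

theorem chk_fin269 : cert.finalOKc 1539000 538000 2000 = true := by decide +kernel


end Cfsg.Agent.Lib.Lead.HNP.HNTC
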