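import Cfsg.Agent.Lib.Lead.HNP.HNTCSCert
import Cfsg.Agent.Lib.Helper6.TCGIndex
import Cfsg.Agent.Lib.Lead.HNP.HNTCSFin29

/-! # HNTC: the kernel check that the first rows are closed, part 53 -/

set_option autoImplicit false

namespace Cfsg.Agent.Lib.Lead.HNP.HNTC

open Cfsg.Agent.Lib.Helper6.TC Cfsg.Agent.Lib.Helper6.TCGS

theorem chk_fin477 : cert.finalOKc 1539000 954000 2000 = true := by decide +kernel

theorem chk_fin478 : cert.finalOKc 1539000 956000 2000 = true := by decide +kernel

theorem chk_fin479 : cert.finalOKc 1539000 958000 2000 = true := by decide +kernel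

theorem chk_fin480 : cert.finalOKc 1539000 960000 2000 = true := by decide +kernel

theorem chk_fin481 : cert.finalOKc 1539000 962000 2000 = true := by decide +kernel

theorem chk_fin482 : cert.finalOKc 1539000 964000 2000 = true := by decide +kernel

theorem chk_fin483 : cert.finalOKc 1539000 966000 2000 = true := by decide +kernel

theorem chk_fin484 : cert.finalOKc 1539000 968000 2000 = true := by decide +kernel

theorem chk_fin485 : cert.finalOKc 1539000 970000 2000 = true := by decide +kernel


end Cfsg.Agent.Lib.Lead.HNP.HNTC
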