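import Cfsg.Agent.Lib.Lead.HNP.HNTCSCert
import Cfsg.Agent.Lib.Helper6.TCGIndex
import Cfsg.Agent.Lib.Lead.HNP.HNTCSFin53

/-! # HNTC: the kernel check that the first rows are closed, part 77 -/

set_option autoImplicit false

namespace Cfsg.Agent.Lib.Lead.HNP.HNTC

open Cfsg.Agent.Lib.Helper6.TC Cfsg.Agent.Lib.Helper6.TCGS

theorem chk_fin693 : cert.finalOKc 1539000 1386000 2000 = true := by decide +kernel

theorem chk_fin694 : cert.finalOKc 1539000 1388000 2000 = true := by decide +kernel

theorem chk_fin695 : cert.finalOKc 1539000 1390000 2000 = true := by decide +kernel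

theorem chk_fin696 : cert.finalOKc 1539000 1392000 2000 = true := by decide +kernel

theorem chk_fin697 : cert.finalOKc 1539000 1394000 2000 = true := by decide +kernel

theorem chk_fin698 : cert.finalOKc 1539000 1396000 2000 = true := by decide +kernel

theorem chk_fin699 : cert.finalOKc 1539000 1398000 2000 = true := by decide +kernel

theorem chk_fin700 : cert.finalOKc 1539000 1400000 2000 = true := by decide +kernel

theorem chk_fin701 : cert.finalOKc 1539000 1402000 2000 = true := by decide +kernel


end Cfsg.Agent.Lib.Lead.HNP.HNTC
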