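import Cfsg.Agent.Lib.Lead.HNP.HNTCData
import Cfsg.Agent.Lib.Helper6.TCRel3
import Cfsg.Agent.Lib.Lead.HNP.HNTCSFin77

/-! # HNTC: the kernel check of a part of the relators on the coset table -/

set_option autoImplicit false

namespace Cfsg.Agent.Lib.Lead.HNP.HNTC

open Cfsg.Agent.Lib.Helper6.TC

theorem chk_pow2_6_0 : tab.minOKc [1, 3, 0, 2] 3 720000 8000 = true := by decide +kernel

theorem chk_pow2_6_1 : tab.minOKc [1, 3, 0, 2] 3 728000 8000 = true := by decide +kernel

theorem chk_pow2_6_2 : tab.minOKc [1, 3, 0, 2] 3 736000 8000 = true := by decide +kernel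

theorem chk_pow2_6_3 : tab.minOKc [1, 3, 0, 2] 3 744000 8000 = true := by decide +kernel

theorem chk_pow2_6_4 : tab.minOKc [1, 3, 0, 2] 3 752000 8000 = true := by decide +kernel

theorem chk_pow2_6_5 : tab.minOKc [1, 3, 0, 2] 3 760000 8000 = true := by decide +kernel

theorem chk_pow2_6_6 : tab.minOKc [1, 3, 0, 2] 3 768000 8000 = true := by decide +kernel

theorem chk_pow2_6_7 : tab.minOKc [1, 3, 0, 2] 3 776000 8000 = true := by decide +kernel

theorem chk_pow2_6_8 : tab.minOKc [1, 3, 0, 2] 3 784000 8000 = true := by decide +kernel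

theorem chk_pow2_6_9 : tab.minOKc [1, 3, 0, 2] 3 792000 8000 = true := by decide +kernel

theorem chk_pow2_6_10 : tab.minOKc [1, 3, 0, 2] 3 800000 8000 = true := by decide +kernel

theorem chk_pow2_6_11 : tab.minOKc [1, 3, 0, 2] 3 808000 8000 = true := by decide +kernel

theorem chk_pow2_6_12 : tab.minOKc [1, 3, 0, 2] 3 816000 8000 = true := by decide +kernel

theorem chk_pow2_6_13 : tab.minOKc [1, 3, 0, 2] 3 824000 8000 = true := by decide +kernel

theorem chk_pow2_6_14 : tab.minOKc [1, 3, 0, 2] 3 832000 8000 = true := by decide +kernel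

theorem chk_pow2_6 : tab.minOKc [1, 3, 0, 2] 3 720000 120000 = true := by
  refine tab.minOKc_of_chunks [1, 3, 0, 2] 3 720000 8000 15 (by norm_num) ?_
  intro i hi
  interval_cases i
  · exact chk_pow2_6_0
  · exact chk_pow2_6_1
  · exact chk_pow2_6_2
  · exact chk_pow2_6_3
  · exact chk_pow2_6_4
  · exact chk_pow2_6_5
  · exact chk_pow2_6_6
  · exact chk_pow2_6_7
  · exact chk_pow2_6_8
  · exact chk_pow2_6_9
  · exact chk_pow2_6_10
  · exact chk_pow2_6_11
  · exact chk_pow2_6_12
  · exact chk_pow2_6_13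
  · exact chk_pow2_6_14

theorem chk_pow2_7_0 : tab.minOKc [1, 3, 0, 2] 3 840000 8000 = true := by decide +kernel

theorem chk_pow2_7_1 : tab.minOKc [1, 3, 0, 2] 3 848000 8000 = true := by decide +kernel

theorem chk_pow2_7_2 : tab.minOKc [1, 3, 0, 2] 3 856000 8000 = true := by decide +kernel

theorem chk_pow2_7_3 : tab.minOKc [1, 3, 0, 2] 3 864000 8000 = true := by decide +kernel

theorem chk_pow2_7_4 : tab.minOKc [1, 3, 0, 2] 3 872000 8000 = true := by decide +kernel

theorem chk_pow2_7_5 : tab.minOKc [1, 3, 0, 2] 3 880000 8000 = true := by decide +kernel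

theorem chk_pow2_7_6 : tab.minOKc [1, 3, 0, 2] 3 888000 8000 = true := by decide +kernel

theorem chk_pow2_7_7 : tab.minOKc [1, 3, 0, 2] 3 896000 8000 = true := by decide +kernel

theorem chk_pow2_7_8 : tab.minOKc [1, 3, 0, 2] 3 904000 8000 = true := by decide +kernel

theorem chk_pow2_7_9 : tab.minOKc [1, 3, 0, 2] 3 912000 8000 = true := by decide +kernel

theorem chk_pow2_7_10 : tab.minOKc [1, 3, 0, 2] 3 920000 8000 = true := by decide +kernel

theorem chk_pow2_7_11 : tab.minOKc [1, 3, 0, 2] 3 928000 8000 = true := by decide +kernel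

theorem chk_pow2_7_12 : tab.minOKc [1, 3, 0, 2] 3 936000 8000 = true := by decide +kernel

theorem chk_pow2_7_13 : tab.minOKc [1, 3, 0, 2] 3 944000 8000 = true := by decide +kernel

theorem chk_pow2_7_14 : tab.minOKc [1, 3, 0, 2] 3 952000 8000 = true := by decide +kernel

theorem chk_pow2_7 : tab.minOKc [1, 3, 0, 2] 3 840000 120000 = true := by
  refine tab.minOKc_of_chunks [1, 3, 0, 2] 3 840000 8000 15 (by norm_num) ?_
  intro i hi
  interval_cases i
  · exact chk_pow2_7_0
  · exact chk_pow2_7_1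
  · exact chk_pow2_7_2
  · exact chk_pow2_7_3
  · exact chk_pow2_7_4
  · exact chk_pow2_7_5
  · exact chk_pow2_7_6
  · exact chk_pow2_7_7
  · exact chk_pow2_7_8
  · exact chk_pow2_7_9
  · exact chk_pow2_7_10
  · exact chk_pow2_7_11
  · exact chk_pow2_7_12
  · exact chk_pow2_7_13
  · exact chk_pow2_7_14


end Cfsg.Agent.Lib.Lead.HNP.HNTC
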