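import Cfsg.Agent.Lib.Lead.HNP.HNTCData
import Cfsg.Agent.Lib.Helper6.TCRel3
import Cfsg.Agent.Lib.Lead.HNP.HNTCRel15

/-! # HNTC: the kernel check of a part of the relators on the coset table -/

set_option autoImplicit false

namespace Cfsg.Agent.Lib.Lead.HNP.HNTC

open Cfsg.Agent.Lib.Helper6.TC

theorem chk_pow5_11_0 : tab.minOKc [0, 2, 0, 2, 2, 2] 4 879945 5333 = true := by decide +kernel

theorem chk_pow5_11_1 : tab.minOKc [0, 2, 0, 2, 2, 2] 4 885278 5333 = true := by decide +kernel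

theorem chk_pow5_11_2 : tab.minOKc [0, 2, 0, 2, 2, 2] 4 890611 5333 = true := by decide +kernel

theorem chk_pow5_11_3 : tab.minOKc [0, 2, 0, 2, 2, 2] 4 895944 5333 = true := by decide +kernel

theorem chk_pow5_11_4 : tab.minOKc [0, 2, 0, 2, 2, 2] 4 901277 5333 = true := by decide +kernel

theorem chk_pow5_11_5 : tab.minOKc [0, 2, 0, 2, 2, 2] 4 906610 5333 = true := by decide +kernel

theorem chk_pow5_11_6 : tab.minOKc [0, 2, 0, 2, 2, 2] 4 911943 5333 = true := by decide +kernel

theorem chk_pow5_11_7 : tab.minOKc [0, 2, 0, 2, 2, 2] 4 917276 5333 = true := by decide +kernel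

theorem chk_pow5_11_8 : tab.minOKc [0, 2, 0, 2, 2, 2] 4 922609 5333 = true := by decide +kernel

theorem chk_pow5_11_9 : tab.minOKc [0, 2, 0, 2, 2, 2] 4 927942 5333 = true := by decide +kernel

theorem chk_pow5_11_10 : tab.minOKc [0, 2, 0, 2, 2, 2] 4 933275 5333 = true := by decide +kernel

theorem chk_pow5_11_11 : tab.minOKc [0, 2, 0, 2, 2, 2] 4 938608 5333 = true := by decide +kernel

theorem chk_pow5_11_12 : tab.minOKc [0, 2, 0, 2, 2, 2] 4 943941 5333 = true := by decide +kernel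

theorem chk_pow5_11_13 : tab.minOKc [0, 2, 0, 2, 2, 2] 4 949274 5333 = true := by decide +kernel

theorem chk_pow5_11_14 : tab.minOKc [0, 2, 0, 2, 2, 2] 4 954607 5333 = true := by decide +kernel

theorem chk_pow5_11 : tab.minOKc [0, 2, 0, 2, 2, 2] 4 879945 79995 = true := by
  refine tab.minOKc_of_chunks [0, 2, 0, 2, 2, 2] 4 879945 5333 15 (by norm_num) ?_
  intro i hi
  interval_cases i
  · exact chk_pow5_11_0
  · exact chk_pow5_11_1
  · exact chk_pow5_11_2
  · exact chk_pow5_11_3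
  · exact chk_pow5_11_4
  · exact chk_pow5_11_5
  · exact chk_pow5_11_6
  · exact chk_pow5_11_7
  · exact chk_pow5_11_8
  · exact chk_pow5_11_9
  · exact chk_pow5_11_10
  · exact chk_pow5_11_11
  · exact chk_pow5_11_12
  · exact chk_pow5_11_13
  · exact chk_pow5_11_14

theorem chk_pow5_12_0 : tab.minOKc [0, 2, 0, 2, 2, 2] 4 959940 5333 = true := by decide +kernel

theorem chk_pow5_12_1 : tab.minOKc [0, 2, 0, 2, 2, 2] 4 965273 5333 = true := by decide +kernel

theorem chk_pow5_12_2 : tab.minOKc [0, 2, 0, 2, 2, 2] 4 970606 5333 = true := by decide +kernel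

theorem chk_pow5_12_3 : tab.minOKc [0, 2, 0, 2, 2, 2] 4 975939 5333 = true := by decide +kernel

theorem chk_pow5_12_4 : tab.minOKc [0, 2, 0, 2, 2, 2] 4 981272 5333 = true := by decide +kernel

theorem chk_pow5_12_5 : tab.minOKc [0, 2, 0, 2, 2, 2] 4 986605 5333 = true := by decide +kernel

theorem chk_pow5_12_6 : tab.minOKc [0, 2, 0, 2, 2, 2] 4 991938 5333 = true := by decide +kernel

theorem chk_pow5_12_7 : tab.minOKc [0, 2, 0, 2, 2, 2] 4 997271 5333 = true := by decide +kernel

theorem chk_pow5_12_8 : tab.minOKc [0, 2, 0, 2, 2, 2] 4 1002604 5333 = true := by decide +kernel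

theorem chk_pow5_12_9 : tab.minOKc [0, 2, 0, 2, 2, 2] 4 1007937 5333 = true := by decide +kernel

theorem chk_pow5_12_10 : tab.minOKc [0, 2, 0, 2, 2, 2] 4 1013270 5333 = true := by decide +kernel

theorem chk_pow5_12_11 : tab.minOKc [0, 2, 0, 2, 2, 2] 4 1018603 5333 = true := by decide +kernel

theorem chk_pow5_12_12 : tab.minOKc [0, 2, 0, 2, 2, 2] 4 1023936 5333 = true := by decide +kernel

theorem chk_pow5_12_13 : tab.minOKc [0, 2, 0, 2, 2, 2] 4 1029269 5333 = true := by decide +kernel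

theorem chk_pow5_12_14 : tab.minOKc [0, 2, 0, 2, 2, 2] 4 1034602 5333 = true := by decide +kernel

theorem chk_pow5_12 : tab.minOKc [0, 2, 0, 2, 2, 2] 4 959940 79995 = true := by
  refine tab.minOKc_of_chunks [0, 2, 0, 2, 2, 2] 4 959940 5333 15 (by norm_num) ?_
  intro i hi
  interval_cases i
  · exact chk_pow5_12_0
  · exact chk_pow5_12_1
  · exact chk_pow5_12_2
  · exact chk_pow5_12_3
  · exact chk_pow5_12_4
  · exact chk_pow5_12_5
  · exact chk_pow5_12_6
  · exact chk_pow5_12_7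
  · exact chk_pow5_12_8
  · exact chk_pow5_12_9
  · exact chk_pow5_12_10
  · exact chk_pow5_12_11
  · exact chk_pow5_12_12
  · exact chk_pow5_12_13
  · exact chk_pow5_12_14


end Cfsg.Agent.Lib.Lead.HNP.HNTC
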