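import Cfsg.Agent.Lib.Lead.HNP.HNTCData
import Cfsg.Agent.Lib.Helper6.TCRel3
import Cfsg.Agent.Lib.Lead.HNP.HNTCRel39

/-! # HNTC: the kernel check of a part of the relators on the coset table -/

set_option autoImplicit false

namespace Cfsg.Agent.Lib.Lead.HNP.HNTC

open Cfsg.Agent.Lib.Helper6.TC

theorem chk_pow8_28_0 : tab.minOKc [5, 2, 1, 3, 3, 1, 3, 1, 3, 4, 2, 0, 2, 0, 2, 2, 0, 3, 1, 1] 1 672000 1600 = true := by decide +kernel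

theorem chk_pow8_28_1 : tab.minOKc [5, 2, 1, 3, 3, 1, 3, 1, 3, 4, 2, 0, 2, 0, 2, 2, 0, 3, 1, 1] 1 673600 1600 = true := by decide +kernel

theorem chk_pow8_28_2 : tab.minOKc [5, 2, 1, 3, 3, 1, 3, 1, 3, 4, 2, 0, 2, 0, 2, 2, 0, 3, 1, 1] 1 675200 1600 = true := by decide +kernel

theorem chk_pow8_28_3 : tab.minOKc [5, 2, 1, 3, 3, 1, 3, 1, 3, 4, 2, 0, 2, 0, 2, 2, 0, 3, 1, 1] 1 676800 1600 = true := by decide +kernel

theorem chk_pow8_28_4 : tab.minOKc [5, 2, 1, 3, 3, 1, 3, 1, 3, 4, 2, 0, 2, 0, 2, 2, 0, 3, 1, 1] 1 678400 1600 = true := by decide +kernel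

theorem chk_pow8_28_5 : tab.minOKc [5, 2, 1, 3, 3, 1, 3, 1, 3, 4, 2, 0, 2, 0, 2, 2, 0, 3, 1, 1] 1 680000 1600 = true := by decide +kernel

theorem chk_pow8_28_6 : tab.minOKc [5, 2, 1, 3, 3, 1, 3, 1, 3, 4, 2, 0, 2, 0, 2, 2, 0, 3, 1, 1] 1 681600 1600 = true := by decide +kernel

theorem chk_pow8_28_7 : tab.minOKc [5, 2, 1, 3, 3, 1, 3, 1, 3, 4, 2, 0, 2, 0, 2, 2, 0, 3, 1, 1] 1 683200 1600 = true := by decide +kernel

theorem chk_pow8_28_8 : tab.minOKc [5, 2, 1, 3, 3, 1, 3, 1, 3, 4, 2, 0, 2, 0, 2, 2, 0, 3, 1, 1] 1 684800 1600 = true := by decide +kernel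

theorem chk_pow8_28_9 : tab.minOKc [5, 2, 1, 3, 3, 1, 3, 1, 3, 4, 2, 0, 2, 0, 2, 2, 0, 3, 1, 1] 1 686400 1600 = true := by decide +kernel

theorem chk_pow8_28_10 : tab.minOKc [5, 2, 1, 3, 3, 1, 3, 1, 3, 4, 2, 0, 2, 0, 2, 2, 0, 3, 1, 1] 1 688000 1600 = true := by decide +kernel

theorem chk_pow8_28_11 : tab.minOKc [5, 2, 1, 3, 3, 1, 3, 1, 3, 4, 2, 0, 2, 0, 2, 2, 0, 3, 1, 1] 1 689600 1600 = true := by decide +kernel

theorem chk_pow8_28_12 : tab.minOKc [5, 2, 1, 3, 3, 1, 3, 1, 3, 4, 2, 0, 2, 0, 2, 2, 0, 3, 1, 1] 1 691200 1600 = true := by decide +kernel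

theorem chk_pow8_28_13 : tab.minOKc [5, 2, 1, 3, 3, 1, 3, 1, 3, 4, 2, 0, 2, 0, 2, 2, 0, 3, 1, 1] 1 692800 1600 = true := by decide +kernel

theorem chk_pow8_28_14 : tab.minOKc [5, 2, 1, 3, 3, 1, 3, 1, 3, 4, 2, 0, 2, 0, 2, 2, 0, 3, 1, 1] 1 694400 1600 = true := by decide +kernel

theorem chk_pow8_28 : tab.minOKc [5, 2, 1, 3, 3, 1, 3, 1, 3, 4, 2, 0, 2, 0, 2, 2, 0, 3, 1, 1] 1 672000 24000 = true := by
  refine tab.minOKc_of_chunks [5, 2, 1, 3, 3, 1, 3, 1, 3, 4, 2, 0, 2, 0, 2, 2, 0, 3, 1, 1] 1 672000 1600 15 (by norm_num) ?_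
  intro i hi
  interval_cases i
  · exact chk_pow8_28_0
  · exact chk_pow8_28_1
  · exact chk_pow8_28_2
  · exact chk_pow8_28_3
  · exact chk_pow8_28_4
  · exact chk_pow8_28_5
  · exact chk_pow8_28_6
  · exact chk_pow8_28_7
  · exact chk_pow8_28_8
  · exact chk_pow8_28_9
  · exact chk_pow8_28_10
  · exact chk_pow8_28_11
  · exact chk_pow8_28_12
  · exact chk_pow8_28_13
  · exact chk_pow8_28_14

theorem chk_pow8_29_0 : tab.minOKc [5, 2, 1, 3, 3, 1, 3, 1, 3, 4, 2, 0, 2, 0, 2, 2, 0, 3, 1, 1] 1 696000 1600 = true := by decide +kernel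

theorem chk_pow8_29_1 : tab.minOKc [5, 2, 1, 3, 3, 1, 3, 1, 3, 4, 2, 0, 2, 0, 2, 2, 0, 3, 1, 1] 1 697600 1600 = true := by decide +kernel

theorem chk_pow8_29_2 : tab.minOKc [5, 2, 1, 3, 3, 1, 3, 1, 3, 4, 2, 0, 2, 0, 2, 2, 0, 3, 1, 1] 1 699200 1600 = true := by decide +kernel

theorem chk_pow8_29_3 : tab.minOKc [5, 2, 1, 3, 3, 1, 3, 1, 3, 4, 2, 0, 2, 0, 2, 2, 0, 3, 1, 1] 1 700800 1600 = true := by decide +kernel

theorem chk_pow8_29_4 : tab.minOKc [5, 2, 1, 3, 3, 1, 3, 1, 3, 4, 2, 0, 2, 0, 2, 2, 0, 3, 1, 1] 1 702400 1600 = true := by decide +kernel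

theorem chk_pow8_29_5 : tab.minOKc [5, 2, 1, 3, 3, 1, 3, 1, 3, 4, 2, 0, 2, 0, 2, 2, 0, 3, 1, 1] 1 704000 1600 = true := by decide +kernel

theorem chk_pow8_29_6 : tab.minOKc [5, 2, 1, 3, 3, 1, 3, 1, 3, 4, 2, 0, 2, 0, 2, 2, 0, 3, 1, 1] 1 705600 1600 = true := by decide +kernel

theorem chk_pow8_29_7 : tab.minOKc [5, 2, 1, 3, 3, 1, 3, 1, 3, 4, 2, 0, 2, 0, 2, 2, 0, 3, 1, 1] 1 707200 1600 = true := by decide +kernel

theorem chk_pow8_29_8 : tab.minOKc [5, 2, 1, 3, 3, 1, 3, 1, 3, 4, 2, 0, 2, 0, 2, 2, 0, 3, 1, 1] 1 708800 1600 = true := by decide +kernel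

theorem chk_pow8_29_9 : tab.minOKc [5, 2, 1, 3, 3, 1, 3, 1, 3, 4, 2, 0, 2, 0, 2, 2, 0, 3, 1, 1] 1 710400 1600 = true := by decide +kernel

theorem chk_pow8_29_10 : tab.minOKc [5, 2, 1, 3, 3, 1, 3, 1, 3, 4, 2, 0, 2, 0, 2, 2, 0, 3, 1, 1] 1 712000 1600 = true := by decide +kernel

theorem chk_pow8_29_11 : tab.minOKc [5, 2, 1, 3, 3, 1, 3, 1, 3, 4, 2, 0, 2, 0, 2, 2, 0, 3, 1, 1] 1 713600 1600 = true := by decide +kernel

theorem chk_pow8_29_12 : tab.minOKc [5, 2, 1, 3, 3, 1, 3, 1, 3, 4, 2, 0, 2, 0, 2, 2, 0, 3, 1, 1] 1 715200 1600 = true := by decide +kernel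

theorem chk_pow8_29_13 : tab.minOKc [5, 2, 1, 3, 3, 1, 3, 1, 3, 4, 2, 0, 2, 0, 2, 2, 0, 3, 1, 1] 1 716800 1600 = true := by decide +kernel

theorem chk_pow8_29_14 : tab.minOKc [5, 2, 1, 3, 3, 1, 3, 1, 3, 4, 2, 0, 2, 0, 2, 2, 0, 3, 1, 1] 1 718400 1600 = true := by decide +kernel

theorem chk_pow8_29 : tab.minOKc [5, 2, 1, 3, 3, 1, 3, 1, 3, 4, 2, 0, 2, 0, 2, 2, 0, 3, 1, 1] 1 696000 24000 = true := by
  refine tab.minOKc_of_chunks [5, 2, 1, 3, 3, 1, 3, 1, 3, 4, 2, 0, 2, 0, 2, 2, 0, 3, 1, 1] 1 696000 1600 15 (by norm_num) ?_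
  intro i hi
  interval_cases i
  · exact chk_pow8_29_0
  · exact chk_pow8_29_1
  · exact chk_pow8_29_2
  · exact chk_pow8_29_3
  · exact chk_pow8_29_4
  · exact chk_pow8_29_5
  · exact chk_pow8_29_6
  · exact chk_pow8_29_7
  · exact chk_pow8_29_8
  · exact chk_pow8_29_9
  · exact chk_pow8_29_10
  · exact chk_pow8_29_11
  · exact chk_pow8_29_12
  · exact chk_pow8_29_13
  · exact chk_pow8_29_14


end Cfsg.Agent.Lib.Lead.HNP.HNTC
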