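import Cfsg.Agent.Lib.Lead.HNP.HNTCSCert

/-! # HNTC: the kernel check of the rows from 229920 on -/

set_option autoImplicit false

namespace Cfsg.Agent.Lib.Lead.HNP.HNTC

open Cfsg.Agent.Lib.Helper6.TC Cfsg.Agent.Lib.Helper6.TCGS

theorem chk_rows20_0 : cert.rowsOK 229920 479 = true := by decide +kernel

theorem chk_rows20_1 : cert.rowsOK 230399 479 = true := by decide +kernel

theorem chk_rows20_2 : cert.rowsOK 230878 479 = true := by decide +kernel

theorem chk_rows20_3 : cert.rowsOK 231357 479 = true := by decide +kernel

theorem chk_rows20_4 : cert.rowsOK 231836 479 = true := by decide +kernel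

theorem chk_rows20_5 : cert.rowsOK 232315 479 = true := by decide +kernel

theorem chk_rows20_6 : cert.rowsOK 232794 479 = true := by decide +kernel

theorem chk_rows20_7 : cert.rowsOK 233273 479 = true := by decide +kernel

theorem chk_rows20_8 : cert.rowsOK 233752 479 = true := by decide +kernel

theorem chk_rows20_9 : cert.rowsOK 234231 479 = true := by decide +kernel

theorem chk_rows20_10 : cert.rowsOK 234710 479 = true := by decide +kernel

theorem chk_rows20_11 : cert.rowsOK 235189 479 = true := by decide +kernel

theorem chk_rows20_12 : cert.rowsOK 235668 479 = true := by decide +kernel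

theorem chk_rows20_13 : cert.rowsOK 236147 479 = true := by decide +kernel

theorem chk_rows20_14 : cert.rowsOK 236626 479 = true := by decide +kernel

theorem chk_rows20_15 : cert.rowsOK 237105 479 = true := by decide +kernel

theorem chk_rows20_16 : cert.rowsOK 237584 479 = true := by decide +kernel

theorem chk_rows20_17 : cert.rowsOK 238063 479 = true := by decide +kernel

theorem chk_rows20_18 : cert.rowsOK 238542 479 = true := by decide +kernel

theorem chk_rows20_19 : cert.rowsOK 239021 479 = true := by decide +kernel

theorem chk_rows20_20 : cert.rowsOK 239500 479 = true := by decide +kernel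

theorem chk_rows20_21 : cert.rowsOK 239979 479 = true := by decide +kernel

theorem chk_rows20_22 : cert.rowsOK 240458 479 = true := by decide +kernel

theorem chk_rows20_23 : cert.rowsOK 240937 479 = true := by decide +kernel

theorem chk_range20 : ∀ a, 229920 ≤ a → a < 241416 → ∀ x < cert.c.g, cert.slotOK a x = true := by
  refine cert.range_of_chunks 229920 479 24 (by norm_num) ?_
  intro k hk
  interval_cases k
  · exact chk_rows20_0
  · exact chk_rows20_1
  · exact chk_rows20_2
  · exact chk_rows20_3
  · exact chk_rows20_4
  · exact chk_rows20_5
  · exact chk_rows20_6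
  · exact chk_rows20_7
  · exact chk_rows20_8
  · exact chk_rows20_9
  · exact chk_rows20_10
  · exact chk_rows20_11
  · exact chk_rows20_12
  · exact chk_rows20_13
  · exact chk_rows20_14
  · exact chk_rows20_15
  · exact chk_rows20_16
  · exact chk_rows20_17
  · exact chk_rows20_18
  · exact chk_rows20_19
  · exact chk_rows20_20
  · exact chk_rows20_21
  · exact chk_rows20_22
  · exact chk_rows20_23

end Cfsg.Agent.Lib.Lead.HNP.HNTC
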