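import Cfsg.Agent.Lib.Lead.HNP.HNTCSCert
import Cfsg.Agent.Lib.Lead.HNP.HNTCSRows20

/-! # HNTC: the kernel check of the rows from 505824 on -/

set_option autoImplicit false

namespace Cfsg.Agent.Lib.Lead.HNP.HNTC

open Cfsg.Agent.Lib.Helper6.TC Cfsg.Agent.Lib.Helper6.TCGS

theorem chk_rows44_0 : cert.rowsOK 505824 479 = true := by decide +kernel

theorem chk_rows44_1 : cert.rowsOK 506303 479 = true := by decide +kernel

theorem chk_rows44_2 : cert.rowsOK 506782 479 = true := by decide +kernel

theorem chk_rows44_3 : cert.rowsOK 507261 479 = true := by decide +kernel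

theorem chk_rows44_4 : cert.rowsOK 507740 479 = true := by decide +kernel

theorem chk_rows44_5 : cert.rowsOK 508219 479 = true := by decide +kernel

theorem chk_rows44_6 : cert.rowsOK 508698 479 = true := by decide +kernel

theorem chk_rows44_7 : cert.rowsOK 509177 479 = true := by decide +kernel

theorem chk_rows44_8 : cert.rowsOK 509656 479 = true := by decide +kernel

theorem chk_rows44_9 : cert.rowsOK 510135 479 = true := by decide +kernel

theorem chk_rows44_10 : cert.rowsOK 510614 479 = true := by decide +kernel

theorem chk_rows44_11 : cert.rowsOK 511093 479 = true := by decide +kernel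

theorem chk_rows44_12 : cert.rowsOK 511572 479 = true := by decide +kernel

theorem chk_rows44_13 : cert.rowsOK 512051 479 = true := by decide +kernel

theorem chk_rows44_14 : cert.rowsOK 512530 479 = true := by decide +kernel

theorem chk_rows44_15 : cert.rowsOK 513009 479 = true := by decide +kernel

theorem chk_rows44_16 : cert.rowsOK 513488 479 = true := by decide +kernel

theorem chk_rows44_17 : cert.rowsOK 513967 479 = true := by decide +kernel

theorem chk_rows44_18 : cert.rowsOK 514446 479 = true := by decide +kernel

theorem chk_rows44_19 : cert.rowsOK 514925 479 = true := by decide +kernel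

theorem chk_rows44_20 : cert.rowsOK 515404 479 = true := by decide +kernel

theorem chk_rows44_21 : cert.rowsOK 515883 479 = true := by decide +kernel

theorem chk_rows44_22 : cert.rowsOK 516362 479 = true := by decide +kernel

theorem chk_rows44_23 : cert.rowsOK 516841 479 = true := by decide +kernel

theorem chk_range44 : ∀ a, 505824 ≤ a → a < 517320 → ∀ x < cert.c.g, cert.slotOK a x = true := by
  refine cert.range_of_chunks 505824 479 24 (by norm_num) ?_
  intro k hk
  interval_cases k
  · exact chk_rows44_0
  · exact chk_rows44_1
  · exact chk_rows44_2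
  · exact chk_rows44_3
  · exact chk_rows44_4
  · exact chk_rows44_5
  · exact chk_rows44_6
  · exact chk_rows44_7
  · exact chk_rows44_8
  · exact chk_rows44_9
  · exact chk_rows44_10
  · exact chk_rows44_11
  · exact chk_rows44_12
  · exact chk_rows44_13
  · exact chk_rows44_14
  · exact chk_rows44_15
  · exact chk_rows44_16
  · exact chk_rows44_17
  · exact chk_rows44_18
  · exact chk_rows44_19
  · exact chk_rows44_20
  · exact chk_rows44_21
  · exact chk_rows44_22
  · exact chk_rows44_23

end Cfsg.Agent.Lib.Lead.HNP.HNTC
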