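import Cfsg.Agent.Lib.Lead.HNP.HNTCSCert
import Cfsg.Agent.Lib.Lead.HNP.HNTCSRows44

/-! # HNTC: the kernel check of the rows from 781728 on -/

set_option autoImplicit false

namespace Cfsg.Agent.Lib.Lead.HNP.HNTC

open Cfsg.Agent.Lib.Helper6.TC Cfsg.Agent.Lib.Helper6.TCGS

theorem chk_rows68_0 : cert.rowsOK 781728 479 = true := by decide +kernel

theorem chk_rows68_1 : cert.rowsOK 782207 479 = true := by decide +kernel

theorem chk_rows68_2 : cert.rowsOK 782686 479 = true := by decide +kernel

theorem chk_rows68_3 : cert.rowsOK 783165 479 = true := by decide +kernel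

theorem chk_rows68_4 : cert.rowsOK 783644 479 = true := by decide +kernel

theorem chk_rows68_5 : cert.rowsOK 784123 479 = true := by decide +kernel

theorem chk_rows68_6 : cert.rowsOK 784602 479 = true := by decide +kernel

theorem chk_rows68_7 : cert.rowsOK 785081 479 = true := by decide +kernel

theorem chk_rows68_8 : cert.rowsOK 785560 479 = true := by decide +kernel

theorem chk_rows68_9 : cert.rowsOK 786039 479 = true := by decide +kernel

theorem chk_rows68_10 : cert.rowsOK 786518 479 = true := by decide +kernel

theorem chk_rows68_11 : cert.rowsOK 786997 479 = true := by decide +kernel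

theorem chk_rows68_12 : cert.rowsOK 787476 479 = true := by decide +kernel

theorem chk_rows68_13 : cert.rowsOK 787955 479 = true := by decide +kernel

theorem chk_rows68_14 : cert.rowsOK 788434 479 = true := by decide +kernel

theorem chk_rows68_15 : cert.rowsOK 788913 479 = true := by decide +kernel

theorem chk_rows68_16 : cert.rowsOK 789392 479 = true := by decide +kernel

theorem chk_rows68_17 : cert.rowsOK 789871 479 = true := by decide +kernel

theorem chk_rows68_18 : cert.rowsOK 790350 479 = true := by decide +kernel

theorem chk_rows68_19 : cert.rowsOK 790829 479 = true := by decide +kernel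

theorem chk_rows68_20 : cert.rowsOK 791308 479 = true := by decide +kernel

theorem chk_rows68_21 : cert.rowsOK 791787 479 = true := by decide +kernel

theorem chk_rows68_22 : cert.rowsOK 792266 479 = true := by decide +kernel

theorem chk_rows68_23 : cert.rowsOK 792745 479 = true := by decide +kernel

theorem chk_range68 : ∀ a, 781728 ≤ a → a < 793224 → ∀ x < cert.c.g, cert.slotOK a x = true := by
  refine cert.range_of_chunks 781728 479 24 (by norm_num) ?_
  intro k hk
  interval_cases k
  · exact chk_rows68_0
  · exact chk_rows68_1
  · exact chk_rows68_2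
  · exact chk_rows68_3
  · exact chk_rows68_4
  · exact chk_rows68_5
  · exact chk_rows68_6
  · exact chk_rows68_7
  · exact chk_rows68_8
  · exact chk_rows68_9
  · exact chk_rows68_10
  · exact chk_rows68_11
  · exact chk_rows68_12
  · exact chk_rows68_13
  · exact chk_rows68_14
  · exact chk_rows68_15
  · exact chk_rows68_16
  · exact chk_rows68_17
  · exact chk_rows68_18
  · exact chk_rows68_19
  · exact chk_rows68_20
  · exact chk_rows68_21
  · exact chk_rows68_22
  · exact chk_rows68_23

end Cfsg.Agent.Lib.Lead.HNP.HNTC
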