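import Cfsg.Agent.Lib.Lead.HNP.HNTCSCert
import Cfsg.Agent.Lib.Lead.HNP.HNTCSRows68

/-! # HNTC: the kernel check of the rows from 1057632 on -/

set_option autoImplicit false

namespace Cfsg.Agent.Lib.Lead.HNP.HNTC

open Cfsg.Agent.Lib.Helper6.TC Cfsg.Agent.Lib.Helper6.TCGS

theorem chk_rows92_0 : cert.rowsOK 1057632 479 = true := by decide +kernel

theorem chk_rows92_1 : cert.rowsOK 1058111 479 = true := by decide +kernel

theorem chk_rows92_2 : cert.rowsOK 1058590 479 = true := by decide +kernel

theorem chk_rows92_3 : cert.rowsOK 1059069 479 = true := by decide +kernel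

theorem chk_rows92_4 : cert.rowsOK 1059548 479 = true := by decide +kernel

theorem chk_rows92_5 : cert.rowsOK 1060027 479 = true := by decide +kernel

theorem chk_rows92_6 : cert.rowsOK 1060506 479 = true := by decide +kernel

theorem chk_rows92_7 : cert.rowsOK 1060985 479 = true := by decide +kernel

theorem chk_rows92_8 : cert.rowsOK 1061464 479 = true := by decide +kernel

theorem chk_rows92_9 : cert.rowsOK 1061943 479 = true := by decide +kernel

theorem chk_rows92_10 : cert.rowsOK 1062422 479 = true := by decide +kernel

theorem chk_rows92_11 : cert.rowsOK 1062901 479 = true := by decide +kernel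

theorem chk_rows92_12 : cert.rowsOK 1063380 479 = true := by decide +kernel

theorem chk_rows92_13 : cert.rowsOK 1063859 479 = true := by decide +kernel

theorem chk_rows92_14 : cert.rowsOK 1064338 479 = true := by decide +kernel

theorem chk_rows92_15 : cert.rowsOK 1064817 479 = true := by decide +kernel

theorem chk_rows92_16 : cert.rowsOK 1065296 479 = true := by decide +kernel

theorem chk_rows92_17 : cert.rowsOK 1065775 479 = true := by decide +kernel

theorem chk_rows92_18 : cert.rowsOK 1066254 479 = true := by decide +kernel

theorem chk_rows92_19 : cert.rowsOK 1066733 479 = true := by decide +kernel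

theorem chk_rows92_20 : cert.rowsOK 1067212 479 = true := by decide +kernel

theorem chk_rows92_21 : cert.rowsOK 1067691 479 = true := by decide +kernel

theorem chk_rows92_22 : cert.rowsOK 1068170 479 = true := by decide +kernel

theorem chk_rows92_23 : cert.rowsOK 1068649 479 = true := by decide +kernel

theorem chk_range92 : ∀ a, 1057632 ≤ a → a < 1069128 → ∀ x < cert.c.g, cert.slotOK a x = true := by
  refine cert.range_of_chunks 1057632 479 24 (by norm_num) ?_
  intro k hk
  interval_cases k
  · exact chk_rows92_0
  · exact chk_rows92_1
  · exact chk_rows92_2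
  · exact chk_rows92_3
  · exact chk_rows92_4
  · exact chk_rows92_5
  · exact chk_rows92_6
  · exact chk_rows92_7
  · exact chk_rows92_8
  · exact chk_rows92_9
  · exact chk_rows92_10
  · exact chk_rows92_11
  · exact chk_rows92_12
  · exact chk_rows92_13
  · exact chk_rows92_14
  · exact chk_rows92_15
  · exact chk_rows92_16
  · exact chk_rows92_17
  · exact chk_rows92_18
  · exact chk_rows92_19
  · exact chk_rows92_20
  · exact chk_rows92_21
  · exact chk_rows92_22
  · exact chk_rows92_23

end Cfsg.Agent.Lib.Lead.HNP.HNTC
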