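import Cfsg.Agent.Lib.Lead.HNP.HNTCSCert
import Cfsg.Agent.Lib.Lead.HNP.HNTCSRows92

/-! # HNTC: the kernel check of the rows from 1333536 on -/

set_option autoImplicit false

namespace Cfsg.Agent.Lib.Lead.HNP.HNTC

open Cfsg.Agent.Lib.Helper6.TC Cfsg.Agent.Lib.Helper6.TCGS

theorem chk_rows116_0 : cert.rowsOK 1333536 479 = true := by decide +kernel

theorem chk_rows116_1 : cert.rowsOK 1334015 479 = true := by decide +kernel

theorem chk_rows116_2 : cert.rowsOK 1334494 479 = true := by decide +kernel

theorem chk_rows116_3 : cert.rowsOK 1334973 479 = true := by decide +kernel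

theorem chk_rows116_4 : cert.rowsOK 1335452 479 = true := by decide +kernel

theorem chk_rows116_5 : cert.rowsOK 1335931 479 = true := by decide +kernel

theorem chk_rows116_6 : cert.rowsOK 1336410 479 = true := by decide +kernel

theorem chk_rows116_7 : cert.rowsOK 1336889 479 = true := by decide +kernel

theorem chk_rows116_8 : cert.rowsOK 1337368 479 = true := by decide +kernel

theorem chk_rows116_9 : cert.rowsOK 1337847 479 = true := by decide +kernel

theorem chk_rows116_10 : cert.rowsOK 1338326 479 = true := by decide +kernel

theorem chk_rows116_11 : cert.rowsOK 1338805 479 = true := by decide +kernel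

theorem chk_rows116_12 : cert.rowsOK 1339284 479 = true := by decide +kernel

theorem chk_rows116_13 : cert.rowsOK 1339763 479 = true := by decide +kernel

theorem chk_rows116_14 : cert.rowsOK 1340242 479 = true := by decide +kernel

theorem chk_rows116_15 : cert.rowsOK 1340721 479 = true := by decide +kernel

theorem chk_rows116_16 : cert.rowsOK 1341200 479 = true := by decide +kernel

theorem chk_rows116_17 : cert.rowsOK 1341679 479 = true := by decide +kernel

theorem chk_rows116_18 : cert.rowsOK 1342158 479 = true := by decide +kernel

theorem chk_rows116_19 : cert.rowsOK 1342637 479 = true := by decide +kernel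

theorem chk_rows116_20 : cert.rowsOK 1343116 479 = true := by decide +kernel

theorem chk_rows116_21 : cert.rowsOK 1343595 479 = true := by decide +kernel

theorem chk_rows116_22 : cert.rowsOK 1344074 479 = true := by decide +kernel

theorem chk_rows116_23 : cert.rowsOK 1344553 479 = true := by decide +kernel

theorem chk_range116 : ∀ a, 1333536 ≤ a → a < 1345032 → ∀ x < cert.c.g, cert.slotOK a x = true := by
  refine cert.range_of_chunks 1333536 479 24 (by norm_num) ?_
  intro k hk
  interval_cases k
  · exact chk_rows116_0
  · exact chk_rows116_1
  · exact chk_rows116_2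
  · exact chk_rows116_3
  · exact chk_rows116_4
  · exact chk_rows116_5
  · exact chk_rows116_6
  · exact chk_rows116_7
  · exact chk_rows116_8
  · exact chk_rows116_9
  · exact chk_rows116_10
  · exact chk_rows116_11
  · exact chk_rows116_12
  · exact chk_rows116_13
  · exact chk_rows116_14
  · exact chk_rows116_15
  · exact chk_rows116_16
  · exact chk_rows116_17
  · exact chk_rows116_18
  · exact chk_rows116_19
  · exact chk_rows116_20
  · exact chk_rows116_21
  · exact chk_rows116_22
  · exact chk_rows116_23

end Cfsg.Agent.Lib.Lead.HNP.HNTC
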