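import Cfsg.Agent.Lib.Lead.HNP.HNTCSCert
import Cfsg.Agent.Lib.Helper6.TCGIndex
import Cfsg.Agent.Lib.Lead.HNP.HNTCSFin6

/-! # HNTC: the kernel check that the first rows are closed, part 30 -/

set_option autoImplicit false

namespace Cfsg.Agent.Lib.Lead.HNP.HNTC

open Cfsg.Agent.Lib.Helper6.TC Cfsg.Agent.Lib.Helper6.TCGS

theorem chk_fin270 : cert.finalOKc 1539000 540000 2000 = true := by decide +kernel

theorem chk_fin271 : cert.finalOKc 1539000 542000 2000 = true := by decide +kernel

theorem chk_fin272 : cert.finalOKc 1539000 544000 2000 = true := by decide +kernel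

theorem chk_fin273 : cert.finalOKc 1539000 546000 2000 = true := by decide +kernel

theorem chk_fin274 : cert.finalOKc 1539000 548000 2000 = true := by decide +kernel

theorem chk_fin275 : cert.finalOKc 1539000 550000 2000 = true := by decide +kernel

theorem chk_fin276 : cert.finalOKc 1539000 552000 2000 = true := by decide +kernel

theorem chk_fin277 : cert.finalOKc 1539000 554000 2000 = true := by decide +kernel

theorem chk_fin278 : cert.finalOKc 1539000 556000 2000 = true := by decide +kernel


end Cfsg.Agent.Lib.Lead.HNP.HNTC
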