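import Cfsg.Agent.Lib.Lead.HNP.HNTCSCert
import Cfsg.Agent.Lib.Helper6.TCGIndex
import Cfsg.Agent.Lib.Lead.HNP.HNTCSFin30

/-! # HNTC: the kernel check that the first rows are closed, part 54 -/

set_option autoImplicit false

namespace Cfsg.Agent.Lib.Lead.HNP.HNTC

open Cfsg.Agent.Lib.Helper6.TC Cfsg.Agent.Lib.Helper6.TCGS

theorem chk_fin486 : cert.finalOKc 1539000 972000 2000 = true := by decide +kernel

theorem chk_fin487 : cert.finalOKc 1539000 974000 2000 = true := by decide +kernel

theorem chk_fin488 : cert.finalOKc 1539000 976000 2000 = true := by decide +kernel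

theorem chk_fin489 : cert.finalOKc 1539000 978000 2000 = true := by decide +kernel

theorem chk_fin490 : cert.finalOKc 1539000 980000 2000 = true := by decide +kernel

theorem chk_fin491 : cert.finalOKc 1539000 982000 2000 = true := by decide +kernel

theorem chk_fin492 : cert.finalOKc 1539000 984000 2000 = true := by decide +kernel

theorem chk_fin493 : cert.finalOKc 1539000 986000 2000 = true := by decide +kernel

theorem chk_fin494 : cert.finalOKc 1539000 988000 2000 = true := by decide +kernel


end Cfsg.Agent.Lib.Lead.HNP.HNTC
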