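import Cfsg.Agent.Lib.Lead.HNP.HNTCSCert
import Cfsg.Agent.Lib.Helper6.TCGIndex
import Cfsg.Agent.Lib.Lead.HNP.HNTCSFin54

/-! # HNTC: the kernel check that the first rows are closed, part 78 -/

set_option autoImplicit false

namespace Cfsg.Agent.Lib.Lead.HNP.HNTC

open Cfsg.Agent.Lib.Helper6.TC Cfsg.Agent.Lib.Helper6.TCGS

theorem chk_fin702 : cert.finalOKc 1539000 1404000 2000 = true := by decide +kernel

theorem chk_fin703 : cert.finalOKc 1539000 1406000 2000 = true := by decide +kernel

theorem chk_fin704 : cert.finalOKc 1539000 1408000 2000 = true := by decide +kernel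

theorem chk_fin705 : cert.finalOKc 1539000 1410000 2000 = true := by decide +kernel

theorem chk_fin706 : cert.finalOKc 1539000 1412000 2000 = true := by decide +kernel

theorem chk_fin707 : cert.finalOKc 1539000 1414000 2000 = true := by decide +kernel

theorem chk_fin708 : cert.finalOKc 1539000 1416000 2000 = true := by decide +kernel

theorem chk_fin709 : cert.finalOKc 1539000 1418000 2000 = true := by decide +kernel

theorem chk_fin710 : cert.finalOKc 1539000 1420000 2000 = true := by decide +kernel


end Cfsg.Agent.Lib.Lead.HNP.HNTC
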