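import Cfsg.Agent.Lib.Lead.HNP.HNTCData
import Cfsg.Agent.Lib.Helper6.TCRel3
import Cfsg.Agent.Lib.Lead.HNP.HNTCSFin78

/-! # HNTC: the kernel check of a part of the relators on the coset table -/

set_option autoImplicit false

namespace Cfsg.Agent.Lib.Lead.HNP.HNTC

open Cfsg.Agent.Lib.Helper6.TC

theorem chk_pow2_8_0 : tab.minOKc [1, 3, 0, 2] 3 960000 8000 = true := by decide +kernel

theorem chk_pow2_8_1 : tab.minOKc [1, 3, 0, 2] 3 968000 8000 = true := by decide +kernel

theorem chk_pow2_8_2 : tab.minOKc [1, 3, 0, 2] 3 976000 8000 = true := by decide +kernel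

theorem chk_pow2_8_3 : tab.minOKc [1, 3, 0, 2] 3 984000 8000 = true := by decide +kernel

theorem chk_pow2_8_4 : tab.minOKc [1, 3, 0, 2] 3 992000 8000 = true := by decide +kernel

theorem chk_pow2_8_5 : tab.minOKc [1, 3, 0, 2] 3 1000000 8000 = true := by decide +kernel

theorem chk_pow2_8_6 : tab.minOKc [1, 3, 0, 2] 3 1008000 8000 = true := by decide +kernel

theorem chk_pow2_8_7 : tab.minOKc [1, 3, 0, 2] 3 1016000 8000 = true := by decide +kernel

theorem chk_pow2_8_8 : tab.minOKc [1, 3, 0, 2] 3 1024000 8000 = true := by decide +kernel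

theorem chk_pow2_8_9 : tab.minOKc [1, 3, 0, 2] 3 1032000 8000 = true := by decide +kernel

theorem chk_pow2_8_10 : tab.minOKc [1, 3, 0, 2] 3 1040000 8000 = true := by decide +kernel

theorem chk_pow2_8_11 : tab.minOKc [1, 3, 0, 2] 3 1048000 8000 = true := by decide +kernel

theorem chk_pow2_8_12 : tab.minOKc [1, 3, 0, 2] 3 1056000 8000 = true := by decide +kernel

theorem chk_pow2_8_13 : tab.minOKc [1, 3, 0, 2] 3 1064000 8000 = true := by decide +kernel

theorem chk_pow2_8_14 : tab.minOKc [1, 3, 0, 2] 3 1072000 8000 = true := by decide +kernel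

theorem chk_pow2_8 : tab.minOKc [1, 3, 0, 2] 3 960000 120000 = true := by
  refine tab.minOKc_of_chunks [1, 3, 0, 2] 3 960000 8000 15 (by norm_num) ?_
  intro i hi
  interval_cases i
  · exact chk_pow2_8_0
  · exact chk_pow2_8_1
  · exact chk_pow2_8_2
  · exact chk_pow2_8_3
  · exact chk_pow2_8_4
  · exact chk_pow2_8_5
  · exact chk_pow2_8_6
  · exact chk_pow2_8_7
  · exact chk_pow2_8_8
  · exact chk_pow2_8_9
  · exact chk_pow2_8_10
  · exact chk_pow2_8_11
  · exact chk_pow2_8_12
  · exact chk_pow2_8_13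
  · exact chk_pow2_8_14

theorem chk_pow2_9_0 : tab.minOKc [1, 3, 0, 2] 3 1080000 8000 = true := by decide +kernel

theorem chk_pow2_9_1 : tab.minOKc [1, 3, 0, 2] 3 1088000 8000 = true := by decide +kernel

theorem chk_pow2_9_2 : tab.minOKc [1, 3, 0, 2] 3 1096000 8000 = true := by decide +kernel

theorem chk_pow2_9_3 : tab.minOKc [1, 3, 0, 2] 3 1104000 8000 = true := by decide +kernel

theorem chk_pow2_9_4 : tab.minOKc [1, 3, 0, 2] 3 1112000 8000 = true := by decide +kernel

theorem chk_pow2_9_5 : tab.minOKc [1, 3, 0, 2] 3 1120000 8000 = true := by decide +kernel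

theorem chk_pow2_9_6 : tab.minOKc [1, 3, 0, 2] 3 1128000 8000 = true := by decide +kernel

theorem chk_pow2_9_7 : tab.minOKc [1, 3, 0, 2] 3 1136000 8000 = true := by decide +kernel

theorem chk_pow2_9_8 : tab.minOKc [1, 3, 0, 2] 3 1144000 8000 = true := by decide +kernel

theorem chk_pow2_9_9 : tab.minOKc [1, 3, 0, 2] 3 1152000 8000 = true := by decide +kernel

theorem chk_pow2_9_10 : tab.minOKc [1, 3, 0, 2] 3 1160000 8000 = true := by decide +kernel

theorem chk_pow2_9_11 : tab.minOKc [1, 3, 0, 2] 3 1168000 8000 = true := by decide +kernel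

theorem chk_pow2_9_12 : tab.minOKc [1, 3, 0, 2] 3 1176000 8000 = true := by decide +kernel

theorem chk_pow2_9_13 : tab.minOKc [1, 3, 0, 2] 3 1184000 8000 = true := by decide +kernel

theorem chk_pow2_9_14 : tab.minOKc [1, 3, 0, 2] 3 1192000 8000 = true := by decide +kernel

theorem chk_pow2_9 : tab.minOKc [1, 3, 0, 2] 3 1080000 120000 = true := by
  refine tab.minOKc_of_chunks [1, 3, 0, 2] 3 1080000 8000 15 (by norm_num) ?_
  intro i hi
  interval_cases i
  · exact chk_pow2_9_0
  · exact chk_pow2_9_1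
  · exact chk_pow2_9_2
  · exact chk_pow2_9_3
  · exact chk_pow2_9_4
  · exact chk_pow2_9_5
  · exact chk_pow2_9_6
  · exact chk_pow2_9_7
  · exact chk_pow2_9_8
  · exact chk_pow2_9_9
  · exact chk_pow2_9_10
  · exact chk_pow2_9_11
  · exact chk_pow2_9_12
  · exact chk_pow2_9_13
  · exact chk_pow2_9_14


end Cfsg.Agent.Lib.Lead.HNP.HNTC
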