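import Cfsg.Agent.Lib.Lead.HNP.HNTCData
import Cfsg.Agent.Lib.Helper6.TCRel3
import Cfsg.Agent.Lib.Lead.HNP.HNTCRel16

/-! # HNTC: the kernel check of a part of the relators on the coset table -/

set_option autoImplicit false

namespace Cfsg.Agent.Lib.Lead.HNP.HNTC

open Cfsg.Agent.Lib.Helper6.TC

theorem chk_pow5_13_0 : tab.minOKc [0, 2, 0, 2, 2, 2] 4 1039935 5333 = true := by decide +kernel

theorem chk_pow5_13_1 : tab.minOKc [0, 2, 0, 2, 2, 2] 4 1045268 5333 = true := by decide +kernel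

theorem chk_pow5_13_2 : tab.minOKc [0, 2, 0, 2, 2, 2] 4 1050601 5333 = true := by decide +kernel

theorem chk_pow5_13_3 : tab.minOKc [0, 2, 0, 2, 2, 2] 4 1055934 5333 = true := by decide +kernel

theorem chk_pow5_13_4 : tab.minOKc [0, 2, 0, 2, 2, 2] 4 1061267 5333 = true := by decide +kernel

theorem chk_pow5_13_5 : tab.minOKc [0, 2, 0, 2, 2, 2] 4 1066600 5333 = true := by decide +kernel

theorem chk_pow5_13_6 : tab.minOKc [0, 2, 0, 2, 2, 2] 4 1071933 5333 = true := by decide +kernel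

theorem chk_pow5_13_7 : tab.minOKc [0, 2, 0, 2, 2, 2] 4 1077266 5333 = true := by decide +kernel

theorem chk_pow5_13_8 : tab.minOKc [0, 2, 0, 2, 2, 2] 4 1082599 5333 = true := by decide +kernel

theorem chk_pow5_13_9 : tab.minOKc [0, 2, 0, 2, 2, 2] 4 1087932 5333 = true := by decide +kernel

theorem chk_pow5_13_10 : tab.minOKc [0, 2, 0, 2, 2, 2] 4 1093265 5333 = true := by decide +kernel

theorem chk_pow5_13_11 : tab.minOKc [0, 2, 0, 2, 2, 2] 4 1098598 5333 = true := by decide +kernel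

theorem chk_pow5_13_12 : tab.minOKc [0, 2, 0, 2, 2, 2] 4 1103931 5333 = true := by decide +kernel

theorem chk_pow5_13_13 : tab.minOKc [0, 2, 0, 2, 2, 2] 4 1109264 5333 = true := by decide +kernel

theorem chk_pow5_13_14 : tab.minOKc [0, 2, 0, 2, 2, 2] 4 1114597 5333 = true := by decide +kernel

theorem chk_pow5_13 : tab.minOKc [0, 2, 0, 2, 2, 2] 4 1039935 79995 = true := by
  refine tab.minOKc_of_chunks [0, 2, 0, 2, 2, 2] 4 1039935 5333 15 (by norm_num) ?_
  intro i hi
  interval_cases i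
  · exact chk_pow5_13_0
  · exact chk_pow5_13_1
  · exact chk_pow5_13_2
  · exact chk_pow5_13_3
  · exact chk_pow5_13_4
  · exact chk_pow5_13_5
  · exact chk_pow5_13_6
  · exact chk_pow5_13_7
  · exact chk_pow5_13_8
  · exact chk_pow5_13_9
  · exact chk_pow5_13_10
  · exact chk_pow5_13_11
  · exact chk_pow5_13_12
  · exact chk_pow5_13_13
  · exact chk_pow5_13_14

theorem chk_pow5_14_0 : tab.minOKc [0, 2, 0, 2, 2, 2] 4 1119930 5333 = true := by decide +kernel

theorem chk_pow5_14_1 : tab.minOKc [0, 2, 0, 2, 2, 2] 4 1125263 5333 = true := by decide +kernel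

theorem chk_pow5_14_2 : tab.minOKc [0, 2, 0, 2, 2, 2] 4 1130596 5333 = true := by decide +kernel

theorem chk_pow5_14_3 : tab.minOKc [0, 2, 0, 2, 2, 2] 4 1135929 5333 = true := by decide +kernel

theorem chk_pow5_14_4 : tab.minOKc [0, 2, 0, 2, 2, 2] 4 1141262 5333 = true := by decide +kernel

theorem chk_pow5_14_5 : tab.minOKc [0, 2, 0, 2, 2, 2] 4 1146595 5333 = true := by decide +kernel

theorem chk_pow5_14_6 : tab.minOKc [0, 2, 0, 2, 2, 2] 4 1151928 5333 = true := by decide +kernel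

theorem chk_pow5_14_7 : tab.minOKc [0, 2, 0, 2, 2, 2] 4 1157261 5333 = true := by decide +kernel

theorem chk_pow5_14_8 : tab.minOKc [0, 2, 0, 2, 2, 2] 4 1162594 5333 = true := by decide +kernel

theorem chk_pow5_14_9 : tab.minOKc [0, 2, 0, 2, 2, 2] 4 1167927 5333 = true := by decide +kernel

theorem chk_pow5_14_10 : tab.minOKc [0, 2, 0, 2, 2, 2] 4 1173260 5333 = true := by decide +kernel

theorem chk_pow5_14_11 : tab.minOKc [0, 2, 0, 2, 2, 2] 4 1178593 5333 = true := by decide +kernel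

theorem chk_pow5_14_12 : tab.minOKc [0, 2, 0, 2, 2, 2] 4 1183926 5333 = true := by decide +kernel

theorem chk_pow5_14_13 : tab.minOKc [0, 2, 0, 2, 2, 2] 4 1189259 5333 = true := by decide +kernel

theorem chk_pow5_14_14 : tab.minOKc [0, 2, 0, 2, 2, 2] 4 1194592 5333 = true := by decide +kernel

theorem chk_pow5_14 : tab.minOKc [0, 2, 0, 2, 2, 2] 4 1119930 79995 = true := by
  refine tab.minOKc_of_chunks [0, 2, 0, 2, 2, 2] 4 1119930 5333 15 (by norm_num) ?_
  intro i hi
  interval_cases i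
  · exact chk_pow5_14_0
  · exact chk_pow5_14_1
  · exact chk_pow5_14_2
  · exact chk_pow5_14_3
  · exact chk_pow5_14_4
  · exact chk_pow5_14_5
  · exact chk_pow5_14_6
  · exact chk_pow5_14_7
  · exact chk_pow5_14_8
  · exact chk_pow5_14_9
  · exact chk_pow5_14_10
  · exact chk_pow5_14_11
  · exact chk_pow5_14_12
  · exact chk_pow5_14_13
  · exact chk_pow5_14_14


end Cfsg.Agent.Lib.Lead.HNP.HNTC
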