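import Cfsg.Agent.Lib.Lead.HNP.HNTCData
import Cfsg.Agent.Lib.Helper6.TCRel3
import Cfsg.Agent.Lib.Lead.HNP.HNTCRel40

/-! # HNTC: the kernel check of a part of the relators on the coset table -/

set_option autoImplicit false

namespace Cfsg.Agent.Lib.Lead.HNP.HNTC

open Cfsg.Agent.Lib.Helper6.TC

theorem chk_pow8_30_0 : tab.minOKc [5, 2, 1, 3, 3, 1, 3, 1, 3, 4, 2, 0, 2, 0, 2, 2, 0, 3, 1, 1] 1 720000 1600 = true := by decide +kernel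

theorem chk_pow8_30_1 : tab.minOKc [5, 2, 1, 3, 3, 1, 3, 1, 3, 4, 2, 0, 2, 0, 2, 2, 0, 3, 1, 1] 1 721600 1600 = true := by decide +kernel

theorem chk_pow8_30_2 : tab.minOKc [5, 2, 1, 3, 3, 1, 3, 1, 3, 4, 2, 0, 2, 0, 2, 2, 0, 3, 1, 1] 1 723200 1600 = true := by decide +kernel

theorem chk_pow8_30_3 : tab.minOKc [5, 2, 1, 3, 3, 1, 3, 1, 3, 4, 2, 0, 2, 0, 2, 2, 0, 3, 1, 1] 1 724800 1600 = true := by decide +kernel

theorem chk_pow8_30_4 : tab.minOKc [5, 2, 1, 3, 3, 1, 3, 1, 3, 4, 2, 0, 2, 0, 2, 2, 0, 3, 1, 1] 1 726400 1600 = true := by decide +kernel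

theorem chk_pow8_30_5 : tab.minOKc [5, 2, 1, 3, 3, 1, 3, 1, 3, 4, 2, 0, 2, 0, 2, 2, 0, 3, 1, 1] 1 728000 1600 = true := by decide +kernel

theorem chk_pow8_30_6 : tab.minOKc [5, 2, 1, 3, 3, 1, 3, 1, 3, 4, 2, 0, 2, 0, 2, 2, 0, 3, 1, 1] 1 729600 1600 = true := by decide +kernel

theorem chk_pow8_30_7 : tab.minOKc [5, 2, 1, 3, 3, 1, 3, 1, 3, 4, 2, 0, 2, 0, 2, 2, 0, 3, 1, 1] 1 731200 1600 = true := by decide +kernel

theorem chk_pow8_30_8 : tab.minOKc [5, 2, 1, 3, 3, 1, 3, 1, 3, 4, 2, 0, 2, 0, 2, 2, 0, 3, 1, 1] 1 732800 1600 = true := by decide +kernel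

theorem chk_pow8_30_9 : tab.minOKc [5, 2, 1, 3, 3, 1, 3, 1, 3, 4, 2, 0, 2, 0, 2, 2, 0, 3, 1, 1] 1 734400 1600 = true := by decide +kernel

theorem chk_pow8_30_10 : tab.minOKc [5, 2, 1, 3, 3, 1, 3, 1, 3, 4, 2, 0, 2, 0, 2, 2, 0, 3, 1, 1] 1 736000 1600 = true := by decide +kernel

theorem chk_pow8_30_11 : tab.minOKc [5, 2, 1, 3, 3, 1, 3, 1, 3, 4, 2, 0, 2, 0, 2, 2, 0, 3, 1, 1] 1 737600 1600 = true := by decide +kernel

theorem chk_pow8_30_12 : tab.minOKc [5, 2, 1, 3, 3, 1, 3, 1, 3, 4, 2, 0, 2, 0, 2, 2, 0, 3, 1, 1] 1 739200 1600 = true := by decide +kernel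

theorem chk_pow8_30_13 : tab.minOKc [5, 2, 1, 3, 3, 1, 3, 1, 3, 4, 2, 0, 2, 0, 2, 2, 0, 3, 1, 1] 1 740800 1600 = true := by decide +kernel

theorem chk_pow8_30_14 : tab.minOKc [5, 2, 1, 3, 3, 1, 3, 1, 3, 4, 2, 0, 2, 0, 2, 2, 0, 3, 1, 1] 1 742400 1600 = true := by decide +kernel

theorem chk_pow8_30 : tab.minOKc [5, 2, 1, 3, 3, 1, 3, 1, 3, 4, 2, 0, 2, 0, 2, 2, 0, 3, 1, 1] 1 720000 24000 = true := by
  refine tab.minOKc_of_chunks [5, 2, 1, 3, 3, 1, 3, 1, 3, 4, 2, 0, 2, 0, 2, 2, 0, 3, 1, 1] 1 720000 1600 15 (by norm_num) ?_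
  intro i hi
  interval_cases i
  · exact chk_pow8_30_0
  · exact chk_pow8_30_1
  · exact chk_pow8_30_2
  · exact chk_pow8_30_3
  · exact chk_pow8_30_4
  · exact chk_pow8_30_5
  · exact chk_pow8_30_6
  · exact chk_pow8_30_7
  · exact chk_pow8_30_8
  · exact chk_pow8_30_9
  · exact chk_pow8_30_10
  · exact chk_pow8_30_11
  · exact chk_pow8_30_12
  · exact chk_pow8_30_13
  · exact chk_pow8_30_14

theorem chk_pow8_31_0 : tab.minOKc [5, 2, 1, 3, 3, 1, 3, 1, 3, 4, 2, 0, 2, 0, 2, 2, 0, 3, 1, 1] 1 744000 1600 = true := by decide +kernel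

theorem chk_pow8_31_1 : tab.minOKc [5, 2, 1, 3, 3, 1, 3, 1, 3, 4, 2, 0, 2, 0, 2, 2, 0, 3, 1, 1] 1 745600 1600 = true := by decide +kernel

theorem chk_pow8_31_2 : tab.minOKc [5, 2, 1, 3, 3, 1, 3, 1, 3, 4, 2, 0, 2, 0, 2, 2, 0, 3, 1, 1] 1 747200 1600 = true := by decide +kernel

theorem chk_pow8_31_3 : tab.minOKc [5, 2, 1, 3, 3, 1, 3, 1, 3, 4, 2, 0, 2, 0, 2, 2, 0, 3, 1, 1] 1 748800 1600 = true := by decide +kernel

theorem chk_pow8_31_4 : tab.minOKc [5, 2, 1, 3, 3, 1, 3, 1, 3, 4, 2, 0, 2, 0, 2, 2, 0, 3, 1, 1] 1 750400 1600 = true := by decide +kernel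

theorem chk_pow8_31_5 : tab.minOKc [5, 2, 1, 3, 3, 1, 3, 1, 3, 4, 2, 0, 2, 0, 2, 2, 0, 3, 1, 1] 1 752000 1600 = true := by decide +kernel

theorem chk_pow8_31_6 : tab.minOKc [5, 2, 1, 3, 3, 1, 3, 1, 3, 4, 2, 0, 2, 0, 2, 2, 0, 3, 1, 1] 1 753600 1600 = true := by decide +kernel

theorem chk_pow8_31_7 : tab.minOKc [5, 2, 1, 3, 3, 1, 3, 1, 3, 4, 2, 0, 2, 0, 2, 2, 0, 3, 1, 1] 1 755200 1600 = true := by decide +kernel

theorem chk_pow8_31_8 : tab.minOKc [5, 2, 1, 3, 3, 1, 3, 1, 3, 4, 2, 0, 2, 0, 2, 2, 0, 3, 1, 1] 1 756800 1600 = true := by decide +kernel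

theorem chk_pow8_31_9 : tab.minOKc [5, 2, 1, 3, 3, 1, 3, 1, 3, 4, 2, 0, 2, 0, 2, 2, 0, 3, 1, 1] 1 758400 1600 = true := by decide +kernel

theorem chk_pow8_31_10 : tab.minOKc [5, 2, 1, 3, 3, 1, 3, 1, 3, 4, 2, 0, 2, 0, 2, 2, 0, 3, 1, 1] 1 760000 1600 = true := by decide +kernel

theorem chk_pow8_31_11 : tab.minOKc [5, 2, 1, 3, 3, 1, 3, 1, 3, 4, 2, 0, 2, 0, 2, 2, 0, 3, 1, 1] 1 761600 1600 = true := by decide +kernel

theorem chk_pow8_31_12 : tab.minOKc [5, 2, 1, 3, 3, 1, 3, 1, 3, 4, 2, 0, 2, 0, 2, 2, 0, 3, 1, 1] 1 763200 1600 = true := by decide +kernel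

theorem chk_pow8_31_13 : tab.minOKc [5, 2, 1, 3, 3, 1, 3, 1, 3, 4, 2, 0, 2, 0, 2, 2, 0, 3, 1, 1] 1 764800 1600 = true := by decide +kernel

theorem chk_pow8_31_14 : tab.minOKc [5, 2, 1, 3, 3, 1, 3, 1, 3, 4, 2, 0, 2, 0, 2, 2, 0, 3, 1, 1] 1 766400 1600 = true := by decide +kernel

theorem chk_pow8_31 : tab.minOKc [5, 2, 1, 3, 3, 1, 3, 1, 3, 4, 2, 0, 2, 0, 2, 2, 0, 3, 1, 1] 1 744000 24000 = true := by
  refine tab.minOKc_of_chunks [5, 2, 1, 3, 3, 1, 3, 1, 3, 4, 2, 0, 2, 0, 2, 2, 0, 3, 1, 1] 1 744000 1600 15 (by norm_num) ?_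
  intro i hi
  interval_cases i
  · exact chk_pow8_31_0
  · exact chk_pow8_31_1
  · exact chk_pow8_31_2
  · exact chk_pow8_31_3
  · exact chk_pow8_31_4
  · exact chk_pow8_31_5
  · exact chk_pow8_31_6
  · exact chk_pow8_31_7
  · exact chk_pow8_31_8
  · exact chk_pow8_31_9
  · exact chk_pow8_31_10
  · exact chk_pow8_31_11
  · exact chk_pow8_31_12
  · exact chk_pow8_31_13
  · exact chk_pow8_31_14


end Cfsg.Agent.Lib.Lead.HNP.HNTC
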