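import Cfsg.Agent.Lib.Lead.HNP.HNTCSCert

/-! # HNTC: the kernel check of the rows from 241416 on -/

set_option autoImplicit false

namespace Cfsg.Agent.Lib.Lead.HNP.HNTC

open Cfsg.Agent.Lib.Helper6.TC Cfsg.Agent.Lib.Helper6.TCGS

theorem chk_rows21_0 : cert.rowsOK 241416 479 = true := by decide +kernel

theorem chk_rows21_1 : cert.rowsOK 241895 479 = true := by decide +kernel

theorem chk_rows21_2 : cert.rowsOK 242374 479 = true := by decide +kernel

theorem chk_rows21_3 : cert.rowsOK 242853 479 = true := by decide +kernel

theorem chk_rows21_4 : cert.rowsOK 243332 479 = true := by decide +kernel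

theorem chk_rows21_5 : cert.rowsOK 243811 479 = true := by decide +kernel

theorem chk_rows21_6 : cert.rowsOK 244290 479 = true := by decide +kernel

theorem chk_rows21_7 : cert.rowsOK 244769 479 = true := by decide +kernel

theorem chk_rows21_8 : cert.rowsOK 245248 479 = true := by decide +kernel

theorem chk_rows21_9 : cert.rowsOK 245727 479 = true := by decide +kernel

theorem chk_rows21_10 : cert.rowsOK 246206 479 = true := by decide +kernel

theorem chk_rows21_11 : cert.rowsOK 246685 479 = true := by decide +kernel

theorem chk_rows21_12 : cert.rowsOK 247164 479 = true := by decide +kernel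

theorem chk_rows21_13 : cert.rowsOK 247643 479 = true := by decide +kernel

theorem chk_rows21_14 : cert.rowsOK 248122 479 = true := by decide +kernel

theorem chk_rows21_15 : cert.rowsOK 248601 479 = true := by decide +kernel

theorem chk_rows21_16 : cert.rowsOK 249080 479 = true := by decide +kernel

theorem chk_rows21_17 : cert.rowsOK 249559 479 = true := by decide +kernel

theorem chk_rows21_18 : cert.rowsOK 250038 479 = true := by decide +kernel

theorem chk_rows21_19 : cert.rowsOK 250517 479 = true := by decide +kernel

theorem chk_rows21_20 : cert.rowsOK 250996 479 = true := by decide +kernel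

theorem chk_rows21_21 : cert.rowsOK 251475 479 = true := by decide +kernel

theorem chk_rows21_22 : cert.rowsOK 251954 479 = true := by decide +kernel

theorem chk_rows21_23 : cert.rowsOK 252433 479 = true := by decide +kernel

theorem chk_range21 : ∀ a, 241416 ≤ a → a < 252912 → ∀ x < cert.c.g, cert.slotOK a x = true := by
  refine cert.range_of_chunks 241416 479 24 (by norm_num) ?_
  intro k hk
  interval_cases k
  · exact chk_rows21_0
  · exact chk_rows21_1
  · exact chk_rows21_2
  · exact chk_rows21_3
  · exact chk_rows21_4
  · exact chk_rows21_5
  · exact chk_rows21_6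
  · exact chk_rows21_7
  · exact chk_rows21_8
  · exact chk_rows21_9
  · exact chk_rows21_10
  · exact chk_rows21_11
  · exact chk_rows21_12
  · exact chk_rows21_13
  · exact chk_rows21_14
  · exact chk_rows21_15
  · exact chk_rows21_16
  · exact chk_rows21_17
  · exact chk_rows21_18
  · exact chk_rows21_19
  · exact chk_rows21_20
  · exact chk_rows21_21
  · exact chk_rows21_22
  · exact chk_rows21_23

end Cfsg.Agent.Lib.Lead.HNP.HNTC
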