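import Cfsg.Agent.Lib.Lead.HNP.HNTCSCert
import Cfsg.Agent.Lib.Lead.HNP.HNTCSRows21

/-! # HNTC: the kernel check of the rows from 517320 on -/

set_option autoImplicit false

namespace Cfsg.Agent.Lib.Lead.HNP.HNTC

open Cfsg.Agent.Lib.Helper6.TC Cfsg.Agent.Lib.Helper6.TCGS

theorem chk_rows45_0 : cert.rowsOK 517320 479 = true := by decide +kernel

theorem chk_rows45_1 : cert.rowsOK 517799 479 = true := by decide +kernel

theorem chk_rows45_2 : cert.rowsOK 518278 479 = true := by decide +kernel

theorem chk_rows45_3 : cert.rowsOK 518757 479 = true := by decide +kernel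

theorem chk_rows45_4 : cert.rowsOK 519236 479 = true := by decide +kernel

theorem chk_rows45_5 : cert.rowsOK 519715 479 = true := by decide +kernel

theorem chk_rows45_6 : cert.rowsOK 520194 479 = true := by decide +kernel

theorem chk_rows45_7 : cert.rowsOK 520673 479 = true := by decide +kernel

theorem chk_rows45_8 : cert.rowsOK 521152 479 = true := by decide +kernel

theorem chk_rows45_9 : cert.rowsOK 521631 479 = true := by decide +kernel

theorem chk_rows45_10 : cert.rowsOK 522110 479 = true := by decide +kernel

theorem chk_rows45_11 : cert.rowsOK 522589 479 = true := by decide +kernel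

theorem chk_rows45_12 : cert.rowsOK 523068 479 = true := by decide +kernel

theorem chk_rows45_13 : cert.rowsOK 523547 479 = true := by decide +kernel

theorem chk_rows45_14 : cert.rowsOK 524026 479 = true := by decide +kernel

theorem chk_rows45_15 : cert.rowsOK 524505 479 = true := by decide +kernel

theorem chk_rows45_16 : cert.rowsOK 524984 479 = true := by decide +kernel

theorem chk_rows45_17 : cert.rowsOK 525463 479 = true := by decide +kernel

theorem chk_rows45_18 : cert.rowsOK 525942 479 = true := by decide +kernel

theorem chk_rows45_19 : cert.rowsOK 526421 479 = true := by decide +kernel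

theorem chk_rows45_20 : cert.rowsOK 526900 479 = true := by decide +kernel

theorem chk_rows45_21 : cert.rowsOK 527379 479 = true := by decide +kernel

theorem chk_rows45_22 : cert.rowsOK 527858 479 = true := by decide +kernel

theorem chk_rows45_23 : cert.rowsOK 528337 479 = true := by decide +kernel

theorem chk_range45 : ∀ a, 517320 ≤ a → a < 528816 → ∀ x < cert.c.g, cert.slotOK a x = true := by
  refine cert.range_of_chunks 517320 479 24 (by norm_num) ?_
  intro k hk
  interval_cases k
  · exact chk_rows45_0
  · exact chk_rows45_1
  · exact chk_rows45_2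
  · exact chk_rows45_3
  · exact chk_rows45_4
  · exact chk_rows45_5
  · exact chk_rows45_6
  · exact chk_rows45_7
  · exact chk_rows45_8
  · exact chk_rows45_9
  · exact chk_rows45_10
  · exact chk_rows45_11
  · exact chk_rows45_12
  · exact chk_rows45_13
  · exact chk_rows45_14
  · exact chk_rows45_15
  · exact chk_rows45_16
  · exact chk_rows45_17
  · exact chk_rows45_18
  · exact chk_rows45_19
  · exact chk_rows45_20
  · exact chk_rows45_21
  · exact chk_rows45_22
  · exact chk_rows45_23

end Cfsg.Agent.Lib.Lead.HNP.HNTC
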