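import Cfsg.Agent.Lib.Lead.HNP.HNTCSCert
import Cfsg.Agent.Lib.Lead.HNP.HNTCSRows45

/-! # HNTC: the kernel check of the rows from 793224 on -/

set_option autoImplicit false

namespace Cfsg.Agent.Lib.Lead.HNP.HNTC

open Cfsg.Agent.Lib.Helper6.TC Cfsg.Agent.Lib.Helper6.TCGS

theorem chk_rows69_0 : cert.rowsOK 793224 479 = true := by decide +kernel

theorem chk_rows69_1 : cert.rowsOK 793703 479 = true := by decide +kernel

theorem chk_rows69_2 : cert.rowsOK 794182 479 = true := by decide +kernel

theorem chk_rows69_3 : cert.rowsOK 794661 479 = true := by decide +kernel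

theorem chk_rows69_4 : cert.rowsOK 795140 479 = true := by decide +kernel

theorem chk_rows69_5 : cert.rowsOK 795619 479 = true := by decide +kernel

theorem chk_rows69_6 : cert.rowsOK 796098 479 = true := by decide +kernel

theorem chk_rows69_7 : cert.rowsOK 796577 479 = true := by decide +kernel

theorem chk_rows69_8 : cert.rowsOK 797056 479 = true := by decide +kernel

theorem chk_rows69_9 : cert.rowsOK 797535 479 = true := by decide +kernel

theorem chk_rows69_10 : cert.rowsOK 798014 479 = true := by decide +kernel

theorem chk_rows69_11 : cert.rowsOK 798493 479 = true := by decide +kernel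

theorem chk_rows69_12 : cert.rowsOK 798972 479 = true := by decide +kernel

theorem chk_rows69_13 : cert.rowsOK 799451 479 = true := by decide +kernel

theorem chk_rows69_14 : cert.rowsOK 799930 479 = true := by decide +kernel

theorem chk_rows69_15 : cert.rowsOK 800409 479 = true := by decide +kernel

theorem chk_rows69_16 : cert.rowsOK 800888 479 = true := by decide +kernel

theorem chk_rows69_17 : cert.rowsOK 801367 479 = true := by decide +kernel

theorem chk_rows69_18 : cert.rowsOK 801846 479 = true := by decide +kernel

theorem chk_rows69_19 : cert.rowsOK 802325 479 = true := by decide +kernel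

theorem chk_rows69_20 : cert.rowsOK 802804 479 = true := by decide +kernel

theorem chk_rows69_21 : cert.rowsOK 803283 479 = true := by decide +kernel

theorem chk_rows69_22 : cert.rowsOK 803762 479 = true := by decide +kernel

theorem chk_rows69_23 : cert.rowsOK 804241 479 = true := by decide +kernel

theorem chk_range69 : ∀ a, 793224 ≤ a → a < 804720 → ∀ x < cert.c.g, cert.slotOK a x = true := by
  refine cert.range_of_chunks 793224 479 24 (by norm_num) ?_
  intro k hk
  interval_cases k
  · exact chk_rows69_0
  · exact chk_rows69_1
  · exact chk_rows69_2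
  · exact chk_rows69_3
  · exact chk_rows69_4
  · exact chk_rows69_5
  · exact chk_rows69_6
  · exact chk_rows69_7
  · exact chk_rows69_8
  · exact chk_rows69_9
  · exact chk_rows69_10
  · exact chk_rows69_11
  · exact chk_rows69_12
  · exact chk_rows69_13
  · exact chk_rows69_14
  · exact chk_rows69_15
  · exact chk_rows69_16
  · exact chk_rows69_17
  · exact chk_rows69_18
  · exact chk_rows69_19
  · exact chk_rows69_20
  · exact chk_rows69_21
  · exact chk_rows69_22
  · exact chk_rows69_23

end Cfsg.Agent.Lib.Lead.HNP.HNTC
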