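import Cfsg.Agent.Lib.Lead.HNP.HNTCSCert
import Cfsg.Agent.Lib.Lead.HNP.HNTCSRows69

/-! # HNTC: the kernel check of the rows from 1069128 on -/

set_option autoImplicit false

namespace Cfsg.Agent.Lib.Lead.HNP.HNTC

open Cfsg.Agent.Lib.Helper6.TC Cfsg.Agent.Lib.Helper6.TCGS

theorem chk_rows93_0 : cert.rowsOK 1069128 479 = true := by decide +kernel

theorem chk_rows93_1 : cert.rowsOK 1069607 479 = true := by decide +kernel

theorem chk_rows93_2 : cert.rowsOK 1070086 479 = true := by decide +kernel

theorem chk_rows93_3 : cert.rowsOK 1070565 479 = true := by decide +kernel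

theorem chk_rows93_4 : cert.rowsOK 1071044 479 = true := by decide +kernel

theorem chk_rows93_5 : cert.rowsOK 1071523 479 = true := by decide +kernel

theorem chk_rows93_6 : cert.rowsOK 1072002 479 = true := by decide +kernel

theorem chk_rows93_7 : cert.rowsOK 1072481 479 = true := by decide +kernel

theorem chk_rows93_8 : cert.rowsOK 1072960 479 = true := by decide +kernel

theorem chk_rows93_9 : cert.rowsOK 1073439 479 = true := by decide +kernel

theorem chk_rows93_10 : cert.rowsOK 1073918 479 = true := by decide +kernel

theorem chk_rows93_11 : cert.rowsOK 1074397 479 = true := by decide +kernel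

theorem chk_rows93_12 : cert.rowsOK 1074876 479 = true := by decide +kernel

theorem chk_rows93_13 : cert.rowsOK 1075355 479 = true := by decide +kernel

theorem chk_rows93_14 : cert.rowsOK 1075834 479 = true := by decide +kernel

theorem chk_rows93_15 : cert.rowsOK 1076313 479 = true := by decide +kernel

theorem chk_rows93_16 : cert.rowsOK 1076792 479 = true := by decide +kernel

theorem chk_rows93_17 : cert.rowsOK 1077271 479 = true := by decide +kernel

theorem chk_rows93_18 : cert.rowsOK 1077750 479 = true := by decide +kernel

theorem chk_rows93_19 : cert.rowsOK 1078229 479 = true := by decide +kernel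

theorem chk_rows93_20 : cert.rowsOK 1078708 479 = true := by decide +kernel

theorem chk_rows93_21 : cert.rowsOK 1079187 479 = true := by decide +kernel

theorem chk_rows93_22 : cert.rowsOK 1079666 479 = true := by decide +kernel

theorem chk_rows93_23 : cert.rowsOK 1080145 479 = true := by decide +kernel

theorem chk_range93 : ∀ a, 1069128 ≤ a → a < 1080624 → ∀ x < cert.c.g, cert.slotOK a x = true := by
  refine cert.range_of_chunks 1069128 479 24 (by norm_num) ?_
  intro k hk
  interval_cases k
  · exact chk_rows93_0
  · exact chk_rows93_1
  · exact chk_rows93_2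
  · exact chk_rows93_3
  · exact chk_rows93_4
  · exact chk_rows93_5
  · exact chk_rows93_6
  · exact chk_rows93_7
  · exact chk_rows93_8
  · exact chk_rows93_9
  · exact chk_rows93_10
  · exact chk_rows93_11
  · exact chk_rows93_12
  · exact chk_rows93_13
  · exact chk_rows93_14
  · exact chk_rows93_15
  · exact chk_rows93_16
  · exact chk_rows93_17
  · exact chk_rows93_18
  · exact chk_rows93_19
  · exact chk_rows93_20
  · exact chk_rows93_21
  · exact chk_rows93_22
  · exact chk_rows93_23

end Cfsg.Agent.Lib.Lead.HNP.HNTC
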