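import Cfsg.Agent.Lib.Lead.HNP.HNTCSCert
import Cfsg.Agent.Lib.Lead.HNP.HNTCSRows93

/-! # HNTC: the kernel check of the rows from 1345032 on -/

set_option autoImplicit false

namespace Cfsg.Agent.Lib.Lead.HNP.HNTC

open Cfsg.Agent.Lib.Helper6.TC Cfsg.Agent.Lib.Helper6.TCGS

theorem chk_rows117_0 : cert.rowsOK 1345032 479 = true := by decide +kernel

theorem chk_rows117_1 : cert.rowsOK 1345511 479 = true := by decide +kernel

theorem chk_rows117_2 : cert.rowsOK 1345990 479 = true := by decide +kernel

theorem chk_rows117_3 : cert.rowsOK 1346469 479 = true := by decide +kernel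

theorem chk_rows117_4 : cert.rowsOK 1346948 479 = true := by decide +kernel

theorem chk_rows117_5 : cert.rowsOK 1347427 479 = true := by decide +kernel

theorem chk_rows117_6 : cert.rowsOK 1347906 479 = true := by decide +kernel

theorem chk_rows117_7 : cert.rowsOK 1348385 479 = true := by decide +kernel

theorem chk_rows117_8 : cert.rowsOK 1348864 479 = true := by decide +kernel

theorem chk_rows117_9 : cert.rowsOK 1349343 479 = true := by decide +kernel

theorem chk_rows117_10 : cert.rowsOK 1349822 479 = true := by decide +kernel

theorem chk_rows117_11 : cert.rowsOK 1350301 479 = true := by decide +kernel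

theorem chk_rows117_12 : cert.rowsOK 1350780 479 = true := by decide +kernel

theorem chk_rows117_13 : cert.rowsOK 1351259 479 = true := by decide +kernel

theorem chk_rows117_14 : cert.rowsOK 1351738 479 = true := by decide +kernel

theorem chk_rows117_15 : cert.rowsOK 1352217 479 = true := by decide +kernel

theorem chk_rows117_16 : cert.rowsOK 1352696 479 = true := by decide +kernel

theorem chk_rows117_17 : cert.rowsOK 1353175 479 = true := by decide +kernel

theorem chk_rows117_18 : cert.rowsOK 1353654 479 = true := by decide +kernel

theorem chk_rows117_19 : cert.rowsOK 1354133 479 = true := by decide +kernel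

theorem chk_rows117_20 : cert.rowsOK 1354612 479 = true := by decide +kernel

theorem chk_rows117_21 : cert.rowsOK 1355091 479 = true := by decide +kernel

theorem chk_rows117_22 : cert.rowsOK 1355570 479 = true := by decide +kernel

theorem chk_rows117_23 : cert.rowsOK 1356049 479 = true := by decide +kernel

theorem chk_range117 : ∀ a, 1345032 ≤ a → a < 1356528 → ∀ x < cert.c.g, cert.slotOK a x = true := by
  refine cert.range_of_chunks 1345032 479 24 (by norm_num) ?_
  intro k hk
  interval_cases k
  · exact chk_rows117_0
  · exact chk_rows117_1
  · exact chk_rows117_2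
  · exact chk_rows117_3
  · exact chk_rows117_4
  · exact chk_rows117_5
  · exact chk_rows117_6
  · exact chk_rows117_7
  · exact chk_rows117_8
  · exact chk_rows117_9
  · exact chk_rows117_10
  · exact chk_rows117_11
  · exact chk_rows117_12
  · exact chk_rows117_13
  · exact chk_rows117_14
  · exact chk_rows117_15
  · exact chk_rows117_16
  · exact chk_rows117_17
  · exact chk_rows117_18
  · exact chk_rows117_19
  · exact chk_rows117_20
  · exact chk_rows117_21
  · exact chk_rows117_22
  · exact chk_rows117_23

end Cfsg.Agent.Lib.Lead.HNP.HNTC
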