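import Cfsg.Agent.Lib.Lead.HNP.HNTCSCert
import Cfsg.Agent.Lib.Helper6.TCGIndex
import Cfsg.Agent.Lib.Lead.HNP.HNTCSFin7

/-! # HNTC: the kernel check that the first rows are closed, part 31 -/

set_option autoImplicit false

namespace Cfsg.Agent.Lib.Lead.HNP.HNTC

open Cfsg.Agent.Lib.Helper6.TC Cfsg.Agent.Lib.Helper6.TCGS

theorem chk_fin279 : cert.finalOKc 1539000 558000 2000 = true := by decide +kernel

theorem chk_fin280 : cert.finalOKc 1539000 560000 2000 = true := by decide +kernel

theorem chk_fin281 : cert.finalOKc 1539000 562000 2000 = true := by decide +kernel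

theorem chk_fin282 : cert.finalOKc 1539000 564000 2000 = true := by decide +kernel

theorem chk_fin283 : cert.finalOKc 1539000 566000 2000 = true := by decide +kernel

theorem chk_fin284 : cert.finalOKc 1539000 568000 2000 = true := by decide +kernel

theorem chk_fin285 : cert.finalOKc 1539000 570000 2000 = true := by decide +kernel

theorem chk_fin286 : cert.finalOKc 1539000 572000 2000 = true := by decide +kernel

theorem chk_fin287 : cert.finalOKc 1539000 574000 2000 = true := by decide +kernel


end Cfsg.Agent.Lib.Lead.HNP.HNTC
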