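import Cfsg.Agent.Lib.Lead.HNP.HNTCSCert
import Cfsg.Agent.Lib.Helper6.TCGIndex
import Cfsg.Agent.Lib.Lead.HNP.HNTCSFin31

/-! # HNTC: the kernel check that the first rows are closed, part 55 -/

set_option autoImplicit false

namespace Cfsg.Agent.Lib.Lead.HNP.HNTC

open Cfsg.Agent.Lib.Helper6.TC Cfsg.Agent.Lib.Helper6.TCGS

theorem chk_fin495 : cert.finalOKc 1539000 990000 2000 = true := by decide +kernel

theorem chk_fin496 : cert.finalOKc 1539000 992000 2000 = true := by decide +kernel

theorem chk_fin497 : cert.finalOKc 1539000 994000 2000 = true := by decide +kernel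

theorem chk_fin498 : cert.finalOKc 1539000 996000 2000 = true := by decide +kernel

theorem chk_fin499 : cert.finalOKc 1539000 998000 2000 = true := by decide +kernel

theorem chk_fin500 : cert.finalOKc 1539000 1000000 2000 = true := by decide +kernel

theorem chk_fin501 : cert.finalOKc 1539000 1002000 2000 = true := by decide +kernel

theorem chk_fin502 : cert.finalOKc 1539000 1004000 2000 = true := by decide +kernel

theorem chk_fin503 : cert.finalOKc 1539000 1006000 2000 = true := by decide +kernel


end Cfsg.Agent.Lib.Lead.HNP.HNTC
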