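import Cfsg.Agent.Lib.Lead.HNP.HNTCSCert
import Cfsg.Agent.Lib.Helper6.TCGIndex
import Cfsg.Agent.Lib.Lead.HNP.HNTCSFin55

/-! # HNTC: the kernel check that the first rows are closed, part 79 -/

set_option autoImplicit false

namespace Cfsg.Agent.Lib.Lead.HNP.HNTC

open Cfsg.Agent.Lib.Helper6.TC Cfsg.Agent.Lib.Helper6.TCGS

theorem chk_fin711 : cert.finalOKc 1539000 1422000 2000 = true := by decide +kernel

theorem chk_fin712 : cert.finalOKc 1539000 1424000 2000 = true := by decide +kernel

theorem chk_fin713 : cert.finalOKc 1539000 1426000 2000 = true := by decide +kernel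

theorem chk_fin714 : cert.finalOKc 1539000 1428000 2000 = true := by decide +kernel

theorem chk_fin715 : cert.finalOKc 1539000 1430000 2000 = true := by decide +kernel

theorem chk_fin716 : cert.finalOKc 1539000 1432000 2000 = true := by decide +kernel

theorem chk_fin717 : cert.finalOKc 1539000 1434000 2000 = true := by decide +kernel

theorem chk_fin718 : cert.finalOKc 1539000 1436000 2000 = true := by decide +kernel

theorem chk_fin719 : cert.finalOKc 1539000 1438000 2000 = true := by decide +kernel


end Cfsg.Agent.Lib.Lead.HNP.HNTC
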