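import Cfsg.Agent.Lib.Lead.HNP.HNTCData
import Cfsg.Agent.Lib.Helper6.TCRel3
import Cfsg.Agent.Lib.Lead.HNP.HNTCSFin79

/-! # HNTC: the kernel check of a part of the relators on the coset table -/

set_option autoImplicit false

namespace Cfsg.Agent.Lib.Lead.HNP.HNTC

open Cfsg.Agent.Lib.Helper6.TC

theorem chk_pow2_10_0 : tab.minOKc [1, 3, 0, 2] 3 1200000 8000 = true := by decide +kernel

theorem chk_pow2_10_1 : tab.minOKc [1, 3, 0, 2] 3 1208000 8000 = true := by decide +kernel

theorem chk_pow2_10_2 : tab.minOKc [1, 3, 0, 2] 3 1216000 8000 = true := by decide +kernel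

theorem chk_pow2_10_3 : tab.minOKc [1, 3, 0, 2] 3 1224000 8000 = true := by decide +kernel

theorem chk_pow2_10_4 : tab.minOKc [1, 3, 0, 2] 3 1232000 8000 = true := by decide +kernel

theorem chk_pow2_10_5 : tab.minOKc [1, 3, 0, 2] 3 1240000 8000 = true := by decide +kernel

theorem chk_pow2_10_6 : tab.minOKc [1, 3, 0, 2] 3 1248000 8000 = true := by decide +kernel

theorem chk_pow2_10_7 : tab.minOKc [1, 3, 0, 2] 3 1256000 8000 = true := by decide +kernel

theorem chk_pow2_10_8 : tab.minOKc [1, 3, 0, 2] 3 1264000 8000 = true := by decide +kernel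

theorem chk_pow2_10_9 : tab.minOKc [1, 3, 0, 2] 3 1272000 8000 = true := by decide +kernel

theorem chk_pow2_10_10 : tab.minOKc [1, 3, 0, 2] 3 1280000 8000 = true := by decide +kernel

theorem chk_pow2_10_11 : tab.minOKc [1, 3, 0, 2] 3 1288000 8000 = true := by decide +kernel

theorem chk_pow2_10_12 : tab.minOKc [1, 3, 0, 2] 3 1296000 8000 = true := by decide +kernel

theorem chk_pow2_10_13 : tab.minOKc [1, 3, 0, 2] 3 1304000 8000 = true := by decide +kernel

theorem chk_pow2_10_14 : tab.minOKc [1, 3, 0, 2] 3 1312000 8000 = true := by decide +kernel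

theorem chk_pow2_10 : tab.minOKc [1, 3, 0, 2] 3 1200000 120000 = true := by
  refine tab.minOKc_of_chunks [1, 3, 0, 2] 3 1200000 8000 15 (by norm_num) ?_
  intro i hi
  interval_cases i
  · exact chk_pow2_10_0
  · exact chk_pow2_10_1
  · exact chk_pow2_10_2
  · exact chk_pow2_10_3
  · exact chk_pow2_10_4
  · exact chk_pow2_10_5
  · exact chk_pow2_10_6
  · exact chk_pow2_10_7
  · exact chk_pow2_10_8
  · exact chk_pow2_10_9
  · exact chk_pow2_10_10
  · exact chk_pow2_10_11
  · exact chk_pow2_10_12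
  · exact chk_pow2_10_13
  · exact chk_pow2_10_14

theorem chk_pow2_11_0 : tab.minOKc [1, 3, 0, 2] 3 1320000 8000 = true := by decide +kernel

theorem chk_pow2_11_1 : tab.minOKc [1, 3, 0, 2] 3 1328000 8000 = true := by decide +kernel

theorem chk_pow2_11_2 : tab.minOKc [1, 3, 0, 2] 3 1336000 8000 = true := by decide +kernel

theorem chk_pow2_11_3 : tab.minOKc [1, 3, 0, 2] 3 1344000 8000 = true := by decide +kernel

theorem chk_pow2_11_4 : tab.minOKc [1, 3, 0, 2] 3 1352000 8000 = true := by decide +kernel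

theorem chk_pow2_11_5 : tab.minOKc [1, 3, 0, 2] 3 1360000 8000 = true := by decide +kernel

theorem chk_pow2_11_6 : tab.minOKc [1, 3, 0, 2] 3 1368000 8000 = true := by decide +kernel

theorem chk_pow2_11_7 : tab.minOKc [1, 3, 0, 2] 3 1376000 8000 = true := by decide +kernel

theorem chk_pow2_11_8 : tab.minOKc [1, 3, 0, 2] 3 1384000 8000 = true := by decide +kernel

theorem chk_pow2_11_9 : tab.minOKc [1, 3, 0, 2] 3 1392000 8000 = true := by decide +kernel

theorem chk_pow2_11_10 : tab.minOKc [1, 3, 0, 2] 3 1400000 8000 = true := by decide +kernel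

theorem chk_pow2_11_11 : tab.minOKc [1, 3, 0, 2] 3 1408000 8000 = true := by decide +kernel

theorem chk_pow2_11_12 : tab.minOKc [1, 3, 0, 2] 3 1416000 8000 = true := by decide +kernel

theorem chk_pow2_11_13 : tab.minOKc [1, 3, 0, 2] 3 1424000 8000 = true := by decide +kernel

theorem chk_pow2_11_14 : tab.minOKc [1, 3, 0, 2] 3 1432000 8000 = true := by decide +kernel

theorem chk_pow2_11 : tab.minOKc [1, 3, 0, 2] 3 1320000 120000 = true := by
  refine tab.minOKc_of_chunks [1, 3, 0, 2] 3 1320000 8000 15 (by norm_num) ?_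
  intro i hi
  interval_cases i
  · exact chk_pow2_11_0
  · exact chk_pow2_11_1
  · exact chk_pow2_11_2
  · exact chk_pow2_11_3
  · exact chk_pow2_11_4
  · exact chk_pow2_11_5
  · exact chk_pow2_11_6
  · exact chk_pow2_11_7
  · exact chk_pow2_11_8
  · exact chk_pow2_11_9
  · exact chk_pow2_11_10
  · exact chk_pow2_11_11
  · exact chk_pow2_11_12
  · exact chk_pow2_11_13
  · exact chk_pow2_11_14


end Cfsg.Agent.Lib.Lead.HNP.HNTC
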