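import Cfsg.Agent.Lib.Lead.HNP.HNTCData
import Cfsg.Agent.Lib.Helper6.TCRel3
import Cfsg.Agent.Lib.Lead.HNP.HNTCRel17

/-! # HNTC: the kernel check of a part of the relators on the coset table -/

set_option autoImplicit false

namespace Cfsg.Agent.Lib.Lead.HNP.HNTC

open Cfsg.Agent.Lib.Helper6.TC

theorem chk_pow5_15_0 : tab.minOKc [0, 2, 0, 2, 2, 2] 4 1199925 5333 = true := by decide +kernel

theorem chk_pow5_15_1 : tab.minOKc [0, 2, 0, 2, 2, 2] 4 1205258 5333 = true := by decide +kernel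

theorem chk_pow5_15_2 : tab.minOKc [0, 2, 0, 2, 2, 2] 4 1210591 5333 = true := by decide +kernel

theorem chk_pow5_15_3 : tab.minOKc [0, 2, 0, 2, 2, 2] 4 1215924 5333 = true := by decide +kernel

theorem chk_pow5_15_4 : tab.minOKc [0, 2, 0, 2, 2, 2] 4 1221257 5333 = true := by decide +kernel

theorem chk_pow5_15_5 : tab.minOKc [0, 2, 0, 2, 2, 2] 4 1226590 5333 = true := by decide +kernel

theorem chk_pow5_15_6 : tab.minOKc [0, 2, 0, 2, 2, 2] 4 1231923 5333 = true := by decide +kernel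

theorem chk_pow5_15_7 : tab.minOKc [0, 2, 0, 2, 2, 2] 4 1237256 5333 = true := by decide +kernel

theorem chk_pow5_15_8 : tab.minOKc [0, 2, 0, 2, 2, 2] 4 1242589 5333 = true := by decide +kernel

theorem chk_pow5_15_9 : tab.minOKc [0, 2, 0, 2, 2, 2] 4 1247922 5333 = true := by decide +kernel

theorem chk_pow5_15_10 : tab.minOKc [0, 2, 0, 2, 2, 2] 4 1253255 5333 = true := by decide +kernel

theorem chk_pow5_15_11 : tab.minOKc [0, 2, 0, 2, 2, 2] 4 1258588 5333 = true := by decide +kernel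

theorem chk_pow5_15_12 : tab.minOKc [0, 2, 0, 2, 2, 2] 4 1263921 5333 = true := by decide +kernel

theorem chk_pow5_15_13 : tab.minOKc [0, 2, 0, 2, 2, 2] 4 1269254 5333 = true := by decide +kernel

theorem chk_pow5_15_14 : tab.minOKc [0, 2, 0, 2, 2, 2] 4 1274587 5333 = true := by decide +kernel

theorem chk_pow5_15 : tab.minOKc [0, 2, 0, 2, 2, 2] 4 1199925 79995 = true := by
  refine tab.minOKc_of_chunks [0, 2, 0, 2, 2, 2] 4 1199925 5333 15 (by norm_num) ?_
  intro i hi
  interval_cases i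
  · exact chk_pow5_15_0
  · exact chk_pow5_15_1
  · exact chk_pow5_15_2
  · exact chk_pow5_15_3
  · exact chk_pow5_15_4
  · exact chk_pow5_15_5
  · exact chk_pow5_15_6
  · exact chk_pow5_15_7
  · exact chk_pow5_15_8
  · exact chk_pow5_15_9
  · exact chk_pow5_15_10
  · exact chk_pow5_15_11
  · exact chk_pow5_15_12
  · exact chk_pow5_15_13
  · exact chk_pow5_15_14

theorem chk_pow5_16_0 : tab.minOKc [0, 2, 0, 2, 2, 2] 4 1279920 5333 = true := by decide +kernel

theorem chk_pow5_16_1 : tab.minOKc [0, 2, 0, 2, 2, 2] 4 1285253 5333 = true := by decide +kernel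

theorem chk_pow5_16_2 : tab.minOKc [0, 2, 0, 2, 2, 2] 4 1290586 5333 = true := by decide +kernel

theorem chk_pow5_16_3 : tab.minOKc [0, 2, 0, 2, 2, 2] 4 1295919 5333 = true := by decide +kernel

theorem chk_pow5_16_4 : tab.minOKc [0, 2, 0, 2, 2, 2] 4 1301252 5333 = true := by decide +kernel

theorem chk_pow5_16_5 : tab.minOKc [0, 2, 0, 2, 2, 2] 4 1306585 5333 = true := by decide +kernel

theorem chk_pow5_16_6 : tab.minOKc [0, 2, 0, 2, 2, 2] 4 1311918 5333 = true := by decide +kernel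

theorem chk_pow5_16_7 : tab.minOKc [0, 2, 0, 2, 2, 2] 4 1317251 5333 = true := by decide +kernel

theorem chk_pow5_16_8 : tab.minOKc [0, 2, 0, 2, 2, 2] 4 1322584 5333 = true := by decide +kernel

theorem chk_pow5_16_9 : tab.minOKc [0, 2, 0, 2, 2, 2] 4 1327917 5333 = true := by decide +kernel

theorem chk_pow5_16_10 : tab.minOKc [0, 2, 0, 2, 2, 2] 4 1333250 5333 = true := by decide +kernel

theorem chk_pow5_16_11 : tab.minOKc [0, 2, 0, 2, 2, 2] 4 1338583 5333 = true := by decide +kernel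

theorem chk_pow5_16_12 : tab.minOKc [0, 2, 0, 2, 2, 2] 4 1343916 5333 = true := by decide +kernel

theorem chk_pow5_16_13 : tab.minOKc [0, 2, 0, 2, 2, 2] 4 1349249 5333 = true := by decide +kernel

theorem chk_pow5_16_14 : tab.minOKc [0, 2, 0, 2, 2, 2] 4 1354582 5333 = true := by decide +kernel

theorem chk_pow5_16 : tab.minOKc [0, 2, 0, 2, 2, 2] 4 1279920 79995 = true := by
  refine tab.minOKc_of_chunks [0, 2, 0, 2, 2, 2] 4 1279920 5333 15 (by norm_num) ?_
  intro i hi
  interval_cases i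
  · exact chk_pow5_16_0
  · exact chk_pow5_16_1
  · exact chk_pow5_16_2
  · exact chk_pow5_16_3
  · exact chk_pow5_16_4
  · exact chk_pow5_16_5
  · exact chk_pow5_16_6
  · exact chk_pow5_16_7
  · exact chk_pow5_16_8
  · exact chk_pow5_16_9
  · exact chk_pow5_16_10
  · exact chk_pow5_16_11
  · exact chk_pow5_16_12
  · exact chk_pow5_16_13
  · exact chk_pow5_16_14


end Cfsg.Agent.Lib.Lead.HNP.HNTC
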