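import Cfsg.Agent.Lib.Lead.HNP.HNTCData
import Cfsg.Agent.Lib.Helper6.TCRel3
import Cfsg.Agent.Lib.Lead.HNP.HNTCRel41

/-! # HNTC: the kernel check of a part of the relators on the coset table -/

set_option autoImplicit false

namespace Cfsg.Agent.Lib.Lead.HNP.HNTC

open Cfsg.Agent.Lib.Helper6.TC

theorem chk_pow8_32_0 : tab.minOKc [5, 2, 1, 3, 3, 1, 3, 1, 3, 4, 2, 0, 2, 0, 2, 2, 0, 3, 1, 1] 1 768000 1600 = true := by decide +kernel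

theorem chk_pow8_32_1 : tab.minOKc [5, 2, 1, 3, 3, 1, 3, 1, 3, 4, 2, 0, 2, 0, 2, 2, 0, 3, 1, 1] 1 769600 1600 = true := by decide +kernel

theorem chk_pow8_32_2 : tab.minOKc [5, 2, 1, 3, 3, 1, 3, 1, 3, 4, 2, 0, 2, 0, 2, 2, 0, 3, 1, 1] 1 771200 1600 = true := by decide +kernel

theorem chk_pow8_32_3 : tab.minOKc [5, 2, 1, 3, 3, 1, 3, 1, 3, 4, 2, 0, 2, 0, 2, 2, 0, 3, 1, 1] 1 772800 1600 = true := by decide +kernel

theorem chk_pow8_32_4 : tab.minOKc [5, 2, 1, 3, 3, 1, 3, 1, 3, 4, 2, 0, 2, 0, 2, 2, 0, 3, 1, 1] 1 774400 1600 = true := by decide +kernel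

theorem chk_pow8_32_5 : tab.minOKc [5, 2, 1, 3, 3, 1, 3, 1, 3, 4, 2, 0, 2, 0, 2, 2, 0, 3, 1, 1] 1 776000 1600 = true := by decide +kernel

theorem chk_pow8_32_6 : tab.minOKc [5, 2, 1, 3, 3, 1, 3, 1, 3, 4, 2, 0, 2, 0, 2, 2, 0, 3, 1, 1] 1 777600 1600 = true := by decide +kernel

theorem chk_pow8_32_7 : tab.minOKc [5, 2, 1, 3, 3, 1, 3, 1, 3, 4, 2, 0, 2, 0, 2, 2, 0, 3, 1, 1] 1 779200 1600 = true := by decide +kernel

theorem chk_pow8_32_8 : tab.minOKc [5, 2, 1, 3, 3, 1, 3, 1, 3, 4, 2, 0, 2, 0, 2, 2, 0, 3, 1, 1] 1 780800 1600 = true := by decide +kernel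

theorem chk_pow8_32_9 : tab.minOKc [5, 2, 1, 3, 3, 1, 3, 1, 3, 4, 2, 0, 2, 0, 2, 2, 0, 3, 1, 1] 1 782400 1600 = true := by decide +kernel

theorem chk_pow8_32_10 : tab.minOKc [5, 2, 1, 3, 3, 1, 3, 1, 3, 4, 2, 0, 2, 0, 2, 2, 0, 3, 1, 1] 1 784000 1600 = true := by decide +kernel

theorem chk_pow8_32_11 : tab.minOKc [5, 2, 1, 3, 3, 1, 3, 1, 3, 4, 2, 0, 2, 0, 2, 2, 0, 3, 1, 1] 1 785600 1600 = true := by decide +kernel

theorem chk_pow8_32_12 : tab.minOKc [5, 2, 1, 3, 3, 1, 3, 1, 3, 4, 2, 0, 2, 0, 2, 2, 0, 3, 1, 1] 1 787200 1600 = true := by decide +kernel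

theorem chk_pow8_32_13 : tab.minOKc [5, 2, 1, 3, 3, 1, 3, 1, 3, 4, 2, 0, 2, 0, 2, 2, 0, 3, 1, 1] 1 788800 1600 = true := by decide +kernel

theorem chk_pow8_32_14 : tab.minOKc [5, 2, 1, 3, 3, 1, 3, 1, 3, 4, 2, 0, 2, 0, 2, 2, 0, 3, 1, 1] 1 790400 1600 = true := by decide +kernel

theorem chk_pow8_32 : tab.minOKc [5, 2, 1, 3, 3, 1, 3, 1, 3, 4, 2, 0, 2, 0, 2, 2, 0, 3, 1, 1] 1 768000 24000 = true := by
  refine tab.minOKc_of_chunks [5, 2, 1, 3, 3, 1, 3, 1, 3, 4, 2, 0, 2, 0, 2, 2, 0, 3, 1, 1] 1 768000 1600 15 (by norm_num) ?_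
  intro i hi
  interval_cases i
  · exact chk_pow8_32_0
  · exact chk_pow8_32_1
  · exact chk_pow8_32_2
  · exact chk_pow8_32_3
  · exact chk_pow8_32_4
  · exact chk_pow8_32_5
  · exact chk_pow8_32_6
  · exact chk_pow8_32_7
  · exact chk_pow8_32_8
  · exact chk_pow8_32_9
  · exact chk_pow8_32_10
  · exact chk_pow8_32_11
  · exact chk_pow8_32_12
  · exact chk_pow8_32_13
  · exact chk_pow8_32_14

theorem chk_pow8_33_0 : tab.minOKc [5, 2, 1, 3, 3, 1, 3, 1, 3, 4, 2, 0, 2, 0, 2, 2, 0, 3, 1, 1] 1 792000 1600 = true := by decide +kernel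

theorem chk_pow8_33_1 : tab.minOKc [5, 2, 1, 3, 3, 1, 3, 1, 3, 4, 2, 0, 2, 0, 2, 2, 0, 3, 1, 1] 1 793600 1600 = true := by decide +kernel

theorem chk_pow8_33_2 : tab.minOKc [5, 2, 1, 3, 3, 1, 3, 1, 3, 4, 2, 0, 2, 0, 2, 2, 0, 3, 1, 1] 1 795200 1600 = true := by decide +kernel

theorem chk_pow8_33_3 : tab.minOKc [5, 2, 1, 3, 3, 1, 3, 1, 3, 4, 2, 0, 2, 0, 2, 2, 0, 3, 1, 1] 1 796800 1600 = true := by decide +kernel

theorem chk_pow8_33_4 : tab.minOKc [5, 2, 1, 3, 3, 1, 3, 1, 3, 4, 2, 0, 2, 0, 2, 2, 0, 3, 1, 1] 1 798400 1600 = true := by decide +kernel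

theorem chk_pow8_33_5 : tab.minOKc [5, 2, 1, 3, 3, 1, 3, 1, 3, 4, 2, 0, 2, 0, 2, 2, 0, 3, 1, 1] 1 800000 1600 = true := by decide +kernel

theorem chk_pow8_33_6 : tab.minOKc [5, 2, 1, 3, 3, 1, 3, 1, 3, 4, 2, 0, 2, 0, 2, 2, 0, 3, 1, 1] 1 801600 1600 = true := by decide +kernel

theorem chk_pow8_33_7 : tab.minOKc [5, 2, 1, 3, 3, 1, 3, 1, 3, 4, 2, 0, 2, 0, 2, 2, 0, 3, 1, 1] 1 803200 1600 = true := by decide +kernel

theorem chk_pow8_33_8 : tab.minOKc [5, 2, 1, 3, 3, 1, 3, 1, 3, 4, 2, 0, 2, 0, 2, 2, 0, 3, 1, 1] 1 804800 1600 = true := by decide +kernel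

theorem chk_pow8_33_9 : tab.minOKc [5, 2, 1, 3, 3, 1, 3, 1, 3, 4, 2, 0, 2, 0, 2, 2, 0, 3, 1, 1] 1 806400 1600 = true := by decide +kernel

theorem chk_pow8_33_10 : tab.minOKc [5, 2, 1, 3, 3, 1, 3, 1, 3, 4, 2, 0, 2, 0, 2, 2, 0, 3, 1, 1] 1 808000 1600 = true := by decide +kernel

theorem chk_pow8_33_11 : tab.minOKc [5, 2, 1, 3, 3, 1, 3, 1, 3, 4, 2, 0, 2, 0, 2, 2, 0, 3, 1, 1] 1 809600 1600 = true := by decide +kernel

theorem chk_pow8_33_12 : tab.minOKc [5, 2, 1, 3, 3, 1, 3, 1, 3, 4, 2, 0, 2, 0, 2, 2, 0, 3, 1, 1] 1 811200 1600 = true := by decide +kernel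

theorem chk_pow8_33_13 : tab.minOKc [5, 2, 1, 3, 3, 1, 3, 1, 3, 4, 2, 0, 2, 0, 2, 2, 0, 3, 1, 1] 1 812800 1600 = true := by decide +kernel

theorem chk_pow8_33_14 : tab.minOKc [5, 2, 1, 3, 3, 1, 3, 1, 3, 4, 2, 0, 2, 0, 2, 2, 0, 3, 1, 1] 1 814400 1600 = true := by decide +kernel

theorem chk_pow8_33 : tab.minOKc [5, 2, 1, 3, 3, 1, 3, 1, 3, 4, 2, 0, 2, 0, 2, 2, 0, 3, 1, 1] 1 792000 24000 = true := by
  refine tab.minOKc_of_chunks [5, 2, 1, 3, 3, 1, 3, 1, 3, 4, 2, 0, 2, 0, 2, 2, 0, 3, 1, 1] 1 792000 1600 15 (by norm_num) ?_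
  intro i hi
  interval_cases i
  · exact chk_pow8_33_0
  · exact chk_pow8_33_1
  · exact chk_pow8_33_2
  · exact chk_pow8_33_3
  · exact chk_pow8_33_4
  · exact chk_pow8_33_5
  · exact chk_pow8_33_6
  · exact chk_pow8_33_7
  · exact chk_pow8_33_8
  · exact chk_pow8_33_9
  · exact chk_pow8_33_10
  · exact chk_pow8_33_11
  · exact chk_pow8_33_12
  · exact chk_pow8_33_13
  · exact chk_pow8_33_14


end Cfsg.Agent.Lib.Lead.HNP.HNTC
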