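import Cfsg.Agent.Lib.Lead.HNP.HNTCSCert

/-! # HNTC: the kernel check of the rows from 252912 on -/

set_option autoImplicit false

namespace Cfsg.Agent.Lib.Lead.HNP.HNTC

open Cfsg.Agent.Lib.Helper6.TC Cfsg.Agent.Lib.Helper6.TCGS

theorem chk_rows22_0 : cert.rowsOK 252912 479 = true := by decide +kernel

theorem chk_rows22_1 : cert.rowsOK 253391 479 = true := by decide +kernel

theorem chk_rows22_2 : cert.rowsOK 253870 479 = true := by decide +kernel

theorem chk_rows22_3 : cert.rowsOK 254349 479 = true := by decide +kernel

theorem chk_rows22_4 : cert.rowsOK 254828 479 = true := by decide +kernel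

theorem chk_rows22_5 : cert.rowsOK 255307 479 = true := by decide +kernel

theorem chk_rows22_6 : cert.rowsOK 255786 479 = true := by decide +kernel

theorem chk_rows22_7 : cert.rowsOK 256265 479 = true := by decide +kernel

theorem chk_rows22_8 : cert.rowsOK 256744 479 = true := by decide +kernel

theorem chk_rows22_9 : cert.rowsOK 257223 479 = true := by decide +kernel

theorem chk_rows22_10 : cert.rowsOK 257702 479 = true := by decide +kernel

theorem chk_rows22_11 : cert.rowsOK 258181 479 = true := by decide +kernel

theorem chk_rows22_12 : cert.rowsOK 258660 479 = true := by decide +kernel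

theorem chk_rows22_13 : cert.rowsOK 259139 479 = true := by decide +kernel

theorem chk_rows22_14 : cert.rowsOK 259618 479 = true := by decide +kernel

theorem chk_rows22_15 : cert.rowsOK 260097 479 = true := by decide +kernel

theorem chk_rows22_16 : cert.rowsOK 260576 479 = true := by decide +kernel

theorem chk_rows22_17 : cert.rowsOK 261055 479 = true := by decide +kernel

theorem chk_rows22_18 : cert.rowsOK 261534 479 = true := by decide +kernel

theorem chk_rows22_19 : cert.rowsOK 262013 479 = true := by decide +kernel

theorem chk_rows22_20 : cert.rowsOK 262492 479 = true := by decide +kernel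

theorem chk_rows22_21 : cert.rowsOK 262971 479 = true := by decide +kernel

theorem chk_rows22_22 : cert.rowsOK 263450 479 = true := by decide +kernel

theorem chk_rows22_23 : cert.rowsOK 263929 479 = true := by decide +kernel

theorem chk_range22 : ∀ a, 252912 ≤ a → a < 264408 → ∀ x < cert.c.g, cert.slotOK a x = true := by
  refine cert.range_of_chunks 252912 479 24 (by norm_num) ?_
  intro k hk
  interval_cases k
  · exact chk_rows22_0
  · exact chk_rows22_1
  · exact chk_rows22_2
  · exact chk_rows22_3
  · exact chk_rows22_4
  · exact chk_rows22_5
  · exact chk_rows22_6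
  · exact chk_rows22_7
  · exact chk_rows22_8
  · exact chk_rows22_9
  · exact chk_rows22_10
  · exact chk_rows22_11
  · exact chk_rows22_12
  · exact chk_rows22_13
  · exact chk_rows22_14
  · exact chk_rows22_15
  · exact chk_rows22_16
  · exact chk_rows22_17
  · exact chk_rows22_18
  · exact chk_rows22_19
  · exact chk_rows22_20
  · exact chk_rows22_21
  · exact chk_rows22_22
  · exact chk_rows22_23

end Cfsg.Agent.Lib.Lead.HNP.HNTC
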