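import Cfsg.Agent.Lib.Lead.HNP.HNTCSCert
import Cfsg.Agent.Lib.Lead.HNP.HNTCSRows22

/-! # HNTC: the kernel check of the rows from 528816 on -/

set_option autoImplicit false

namespace Cfsg.Agent.Lib.Lead.HNP.HNTC

open Cfsg.Agent.Lib.Helper6.TC Cfsg.Agent.Lib.Helper6.TCGS

theorem chk_rows46_0 : cert.rowsOK 528816 479 = true := by decide +kernel

theorem chk_rows46_1 : cert.rowsOK 529295 479 = true := by decide +kernel

theorem chk_rows46_2 : cert.rowsOK 529774 479 = true := by decide +kernel

theorem chk_rows46_3 : cert.rowsOK 530253 479 = true := by decide +kernel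

theorem chk_rows46_4 : cert.rowsOK 530732 479 = true := by decide +kernel

theorem chk_rows46_5 : cert.rowsOK 531211 479 = true := by decide +kernel

theorem chk_rows46_6 : cert.rowsOK 531690 479 = true := by decide +kernel

theorem chk_rows46_7 : cert.rowsOK 532169 479 = true := by decide +kernel

theorem chk_rows46_8 : cert.rowsOK 532648 479 = true := by decide +kernel

theorem chk_rows46_9 : cert.rowsOK 533127 479 = true := by decide +kernel

theorem chk_rows46_10 : cert.rowsOK 533606 479 = true := by decide +kernel

theorem chk_rows46_11 : cert.rowsOK 534085 479 = true := by decide +kernel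

theorem chk_rows46_12 : cert.rowsOK 534564 479 = true := by decide +kernel

theorem chk_rows46_13 : cert.rowsOK 535043 479 = true := by decide +kernel

theorem chk_rows46_14 : cert.rowsOK 535522 479 = true := by decide +kernel

theorem chk_rows46_15 : cert.rowsOK 536001 479 = true := by decide +kernel

theorem chk_rows46_16 : cert.rowsOK 536480 479 = true := by decide +kernel

theorem chk_rows46_17 : cert.rowsOK 536959 479 = true := by decide +kernel

theorem chk_rows46_18 : cert.rowsOK 537438 479 = true := by decide +kernel

theorem chk_rows46_19 : cert.rowsOK 537917 479 = true := by decide +kernel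

theorem chk_rows46_20 : cert.rowsOK 538396 479 = true := by decide +kernel

theorem chk_rows46_21 : cert.rowsOK 538875 479 = true := by decide +kernel

theorem chk_rows46_22 : cert.rowsOK 539354 479 = true := by decide +kernel

theorem chk_rows46_23 : cert.rowsOK 539833 479 = true := by decide +kernel

theorem chk_range46 : ∀ a, 528816 ≤ a → a < 540312 → ∀ x < cert.c.g, cert.slotOK a x = true := by
  refine cert.range_of_chunks 528816 479 24 (by norm_num) ?_
  intro k hk
  interval_cases k
  · exact chk_rows46_0
  · exact chk_rows46_1
  · exact chk_rows46_2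
  · exact chk_rows46_3
  · exact chk_rows46_4
  · exact chk_rows46_5
  · exact chk_rows46_6
  · exact chk_rows46_7
  · exact chk_rows46_8
  · exact chk_rows46_9
  · exact chk_rows46_10
  · exact chk_rows46_11
  · exact chk_rows46_12
  · exact chk_rows46_13
  · exact chk_rows46_14
  · exact chk_rows46_15
  · exact chk_rows46_16
  · exact chk_rows46_17
  · exact chk_rows46_18
  · exact chk_rows46_19
  · exact chk_rows46_20
  · exact chk_rows46_21
  · exact chk_rows46_22
  · exact chk_rows46_23

end Cfsg.Agent.Lib.Lead.HNP.HNTC
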