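import Cfsg.Agent.Lib.Lead.HNP.HNTCSCert
import Cfsg.Agent.Lib.Lead.HNP.HNTCSRows46

/-! # HNTC: the kernel check of the rows from 804720 on -/

set_option autoImplicit false

namespace Cfsg.Agent.Lib.Lead.HNP.HNTC

open Cfsg.Agent.Lib.Helper6.TC Cfsg.Agent.Lib.Helper6.TCGS

theorem chk_rows70_0 : cert.rowsOK 804720 479 = true := by decide +kernel

theorem chk_rows70_1 : cert.rowsOK 805199 479 = true := by decide +kernel

theorem chk_rows70_2 : cert.rowsOK 805678 479 = true := by decide +kernel

theorem chk_rows70_3 : cert.rowsOK 806157 479 = true := by decide +kernel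

theorem chk_rows70_4 : cert.rowsOK 806636 479 = true := by decide +kernel

theorem chk_rows70_5 : cert.rowsOK 807115 479 = true := by decide +kernel

theorem chk_rows70_6 : cert.rowsOK 807594 479 = true := by decide +kernel

theorem chk_rows70_7 : cert.rowsOK 808073 479 = true := by decide +kernel

theorem chk_rows70_8 : cert.rowsOK 808552 479 = true := by decide +kernel

theorem chk_rows70_9 : cert.rowsOK 809031 479 = true := by decide +kernel

theorem chk_rows70_10 : cert.rowsOK 809510 479 = true := by decide +kernel

theorem chk_rows70_11 : cert.rowsOK 809989 479 = true := by decide +kernel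

theorem chk_rows70_12 : cert.rowsOK 810468 479 = true := by decide +kernel

theorem chk_rows70_13 : cert.rowsOK 810947 479 = true := by decide +kernel

theorem chk_rows70_14 : cert.rowsOK 811426 479 = true := by decide +kernel

theorem chk_rows70_15 : cert.rowsOK 811905 479 = true := by decide +kernel

theorem chk_rows70_16 : cert.rowsOK 812384 479 = true := by decide +kernel

theorem chk_rows70_17 : cert.rowsOK 812863 479 = true := by decide +kernel

theorem chk_rows70_18 : cert.rowsOK 813342 479 = true := by decide +kernel

theorem chk_rows70_19 : cert.rowsOK 813821 479 = true := by decide +kernel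

theorem chk_rows70_20 : cert.rowsOK 814300 479 = true := by decide +kernel

theorem chk_rows70_21 : cert.rowsOK 814779 479 = true := by decide +kernel

theorem chk_rows70_22 : cert.rowsOK 815258 479 = true := by decide +kernel

theorem chk_rows70_23 : cert.rowsOK 815737 479 = true := by decide +kernel

theorem chk_range70 : ∀ a, 804720 ≤ a → a < 816216 → ∀ x < cert.c.g, cert.slotOK a x = true := by
  refine cert.range_of_chunks 804720 479 24 (by norm_num) ?_
  intro k hk
  interval_cases k
  · exact chk_rows70_0
  · exact chk_rows70_1
  · exact chk_rows70_2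
  · exact chk_rows70_3
  · exact chk_rows70_4
  · exact chk_rows70_5
  · exact chk_rows70_6
  · exact chk_rows70_7
  · exact chk_rows70_8
  · exact chk_rows70_9
  · exact chk_rows70_10
  · exact chk_rows70_11
  · exact chk_rows70_12
  · exact chk_rows70_13
  · exact chk_rows70_14
  · exact chk_rows70_15
  · exact chk_rows70_16
  · exact chk_rows70_17
  · exact chk_rows70_18
  · exact chk_rows70_19
  · exact chk_rows70_20
  · exact chk_rows70_21
  · exact chk_rows70_22
  · exact chk_rows70_23

end Cfsg.Agent.Lib.Lead.HNP.HNTC
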