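import Cfsg.Agent.Lib.Lead.HNP.HNTCSCert
import Cfsg.Agent.Lib.Lead.HNP.HNTCSRows70

/-! # HNTC: the kernel check of the rows from 1080624 on -/

set_option autoImplicit false

namespace Cfsg.Agent.Lib.Lead.HNP.HNTC

open Cfsg.Agent.Lib.Helper6.TC Cfsg.Agent.Lib.Helper6.TCGS

theorem chk_rows94_0 : cert.rowsOK 1080624 479 = true := by decide +kernel

theorem chk_rows94_1 : cert.rowsOK 1081103 479 = true := by decide +kernel

theorem chk_rows94_2 : cert.rowsOK 1081582 479 = true := by decide +kernel

theorem chk_rows94_3 : cert.rowsOK 1082061 479 = true := by decide +kernel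

theorem chk_rows94_4 : cert.rowsOK 1082540 479 = true := by decide +kernel

theorem chk_rows94_5 : cert.rowsOK 1083019 479 = true := by decide +kernel

theorem chk_rows94_6 : cert.rowsOK 1083498 479 = true := by decide +kernel

theorem chk_rows94_7 : cert.rowsOK 1083977 479 = true := by decide +kernel

theorem chk_rows94_8 : cert.rowsOK 1084456 479 = true := by decide +kernel

theorem chk_rows94_9 : cert.rowsOK 1084935 479 = true := by decide +kernel

theorem chk_rows94_10 : cert.rowsOK 1085414 479 = true := by decide +kernel

theorem chk_rows94_11 : cert.rowsOK 1085893 479 = true := by decide +kernel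

theorem chk_rows94_12 : cert.rowsOK 1086372 479 = true := by decide +kernel

theorem chk_rows94_13 : cert.rowsOK 1086851 479 = true := by decide +kernel

theorem chk_rows94_14 : cert.rowsOK 1087330 479 = true := by decide +kernel

theorem chk_rows94_15 : cert.rowsOK 1087809 479 = true := by decide +kernel

theorem chk_rows94_16 : cert.rowsOK 1088288 479 = true := by decide +kernel

theorem chk_rows94_17 : cert.rowsOK 1088767 479 = true := by decide +kernel

theorem chk_rows94_18 : cert.rowsOK 1089246 479 = true := by decide +kernel

theorem chk_rows94_19 : cert.rowsOK 1089725 479 = true := by decide +kernel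

theorem chk_rows94_20 : cert.rowsOK 1090204 479 = true := by decide +kernel

theorem chk_rows94_21 : cert.rowsOK 1090683 479 = true := by decide +kernel

theorem chk_rows94_22 : cert.rowsOK 1091162 479 = true := by decide +kernel

theorem chk_rows94_23 : cert.rowsOK 1091641 479 = true := by decide +kernel

theorem chk_range94 : ∀ a, 1080624 ≤ a → a < 1092120 → ∀ x < cert.c.g, cert.slotOK a x = true := by
  refine cert.range_of_chunks 1080624 479 24 (by norm_num) ?_
  intro k hk
  interval_cases k
  · exact chk_rows94_0
  · exact chk_rows94_1
  · exact chk_rows94_2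
  · exact chk_rows94_3
  · exact chk_rows94_4
  · exact chk_rows94_5
  · exact chk_rows94_6
  · exact chk_rows94_7
  · exact chk_rows94_8
  · exact chk_rows94_9
  · exact chk_rows94_10
  · exact chk_rows94_11
  · exact chk_rows94_12
  · exact chk_rows94_13
  · exact chk_rows94_14
  · exact chk_rows94_15
  · exact chk_rows94_16
  · exact chk_rows94_17
  · exact chk_rows94_18
  · exact chk_rows94_19
  · exact chk_rows94_20
  · exact chk_rows94_21
  · exact chk_rows94_22
  · exact chk_rows94_23

end Cfsg.Agent.Lib.Lead.HNP.HNTC
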