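import Cfsg.Agent.Lib.Lead.HNP.HNTCSCert
import Cfsg.Agent.Lib.Lead.HNP.HNTCSRows94

/-! # HNTC: the kernel check of the rows from 1356528 on -/

set_option autoImplicit false

namespace Cfsg.Agent.Lib.Lead.HNP.HNTC

open Cfsg.Agent.Lib.Helper6.TC Cfsg.Agent.Lib.Helper6.TCGS

theorem chk_rows118_0 : cert.rowsOK 1356528 479 = true := by decide +kernel

theorem chk_rows118_1 : cert.rowsOK 1357007 479 = true := by decide +kernel

theorem chk_rows118_2 : cert.rowsOK 1357486 479 = true := by decide +kernel

theorem chk_rows118_3 : cert.rowsOK 1357965 479 = true := by decide +kernel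

theorem chk_rows118_4 : cert.rowsOK 1358444 479 = true := by decide +kernel

theorem chk_rows118_5 : cert.rowsOK 1358923 479 = true := by decide +kernel

theorem chk_rows118_6 : cert.rowsOK 1359402 479 = true := by decide +kernel

theorem chk_rows118_7 : cert.rowsOK 1359881 479 = true := by decide +kernel

theorem chk_rows118_8 : cert.rowsOK 1360360 479 = true := by decide +kernel

theorem chk_rows118_9 : cert.rowsOK 1360839 479 = true := by decide +kernel

theorem chk_rows118_10 : cert.rowsOK 1361318 479 = true := by decide +kernel

theorem chk_rows118_11 : cert.rowsOK 1361797 479 = true := by decide +kernel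

theorem chk_rows118_12 : cert.rowsOK 1362276 479 = true := by decide +kernel

theorem chk_rows118_13 : cert.rowsOK 1362755 479 = true := by decide +kernel

theorem chk_rows118_14 : cert.rowsOK 1363234 479 = true := by decide +kernel

theorem chk_rows118_15 : cert.rowsOK 1363713 479 = true := by decide +kernel

theorem chk_rows118_16 : cert.rowsOK 1364192 479 = true := by decide +kernel

theorem chk_rows118_17 : cert.rowsOK 1364671 479 = true := by decide +kernel

theorem chk_rows118_18 : cert.rowsOK 1365150 479 = true := by decide +kernel

theorem chk_rows118_19 : cert.rowsOK 1365629 479 = true := by decide +kernel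

theorem chk_rows118_20 : cert.rowsOK 1366108 479 = true := by decide +kernel

theorem chk_rows118_21 : cert.rowsOK 1366587 479 = true := by decide +kernel

theorem chk_rows118_22 : cert.rowsOK 1367066 479 = true := by decide +kernel

theorem chk_rows118_23 : cert.rowsOK 1367545 479 = true := by decide +kernel

theorem chk_range118 : ∀ a, 1356528 ≤ a → a < 1368024 → ∀ x < cert.c.g, cert.slotOK a x = true := by
  refine cert.range_of_chunks 1356528 479 24 (by norm_num) ?_
  intro k hk
  interval_cases k
  · exact chk_rows118_0
  · exact chk_rows118_1
  · exact chk_rows118_2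
  · exact chk_rows118_3
  · exact chk_rows118_4
  · exact chk_rows118_5
  · exact chk_rows118_6
  · exact chk_rows118_7
  · exact chk_rows118_8
  · exact chk_rows118_9
  · exact chk_rows118_10
  · exact chk_rows118_11
  · exact chk_rows118_12
  · exact chk_rows118_13
  · exact chk_rows118_14
  · exact chk_rows118_15
  · exact chk_rows118_16
  · exact chk_rows118_17
  · exact chk_rows118_18
  · exact chk_rows118_19
  · exact chk_rows118_20
  · exact chk_rows118_21
  · exact chk_rows118_22
  · exact chk_rows118_23

end Cfsg.Agent.Lib.Lead.HNP.HNTC
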