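import Cfsg.Agent.Lib.Lead.HNP.HNTCSCert
import Cfsg.Agent.Lib.Helper6.TCGIndex
import Cfsg.Agent.Lib.Lead.HNP.HNTCSFin8

/-! # HNTC: the kernel check that the first rows are closed, part 32 -/

set_option autoImplicit false

namespace Cfsg.Agent.Lib.Lead.HNP.HNTC

open Cfsg.Agent.Lib.Helper6.TC Cfsg.Agent.Lib.Helper6.TCGS

theorem chk_fin288 : cert.finalOKc 1539000 576000 2000 = true := by decide +kernel

theorem chk_fin289 : cert.finalOKc 1539000 578000 2000 = true := by decide +kernel

theorem chk_fin290 : cert.finalOKc 1539000 580000 2000 = true := by decide +kernel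

theorem chk_fin291 : cert.finalOKc 1539000 582000 2000 = true := by decide +kernel

theorem chk_fin292 : cert.finalOKc 1539000 584000 2000 = true := by decide +kernel

theorem chk_fin293 : cert.finalOKc 1539000 586000 2000 = true := by decide +kernel

theorem chk_fin294 : cert.finalOKc 1539000 588000 2000 = true := by decide +kernel

theorem chk_fin295 : cert.finalOKc 1539000 590000 2000 = true := by decide +kernel

theorem chk_fin296 : cert.finalOKc 1539000 592000 2000 = true := by decide +kernel


end Cfsg.Agent.Lib.Lead.HNP.HNTC
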