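import Cfsg.Agent.Lib.Lead.HNP.HNTCSCert
import Cfsg.Agent.Lib.Helper6.TCGIndex
import Cfsg.Agent.Lib.Lead.HNP.HNTCSFin32

/-! # HNTC: the kernel check that the first rows are closed, part 56 -/

set_option autoImplicit false

namespace Cfsg.Agent.Lib.Lead.HNP.HNTC

open Cfsg.Agent.Lib.Helper6.TC Cfsg.Agent.Lib.Helper6.TCGS

theorem chk_fin504 : cert.finalOKc 1539000 1008000 2000 = true := by decide +kernel

theorem chk_fin505 : cert.finalOKc 1539000 1010000 2000 = true := by decide +kernel

theorem chk_fin506 : cert.finalOKc 1539000 1012000 2000 = true := by decide +kernel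

theorem chk_fin507 : cert.finalOKc 1539000 1014000 2000 = true := by decide +kernel

theorem chk_fin508 : cert.finalOKc 1539000 1016000 2000 = true := by decide +kernel

theorem chk_fin509 : cert.finalOKc 1539000 1018000 2000 = true := by decide +kernel

theorem chk_fin510 : cert.finalOKc 1539000 1020000 2000 = true := by decide +kernel

theorem chk_fin511 : cert.finalOKc 1539000 1022000 2000 = true := by decide +kernel

theorem chk_fin512 : cert.finalOKc 1539000 1024000 2000 = true := by decide +kernel


end Cfsg.Agent.Lib.Lead.HNP.HNTC
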