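import Cfsg.Agent.Lib.Lead.HNP.HNTCSCert
import Cfsg.Agent.Lib.Helper6.TCGIndex
import Cfsg.Agent.Lib.Lead.HNP.HNTCSFin56

/-! # HNTC: the kernel check that the first rows are closed, part 80 -/

set_option autoImplicit false

namespace Cfsg.Agent.Lib.Lead.HNP.HNTC

open Cfsg.Agent.Lib.Helper6.TC Cfsg.Agent.Lib.Helper6.TCGS

theorem chk_fin720 : cert.finalOKc 1539000 1440000 2000 = true := by decide +kernel

theorem chk_fin721 : cert.finalOKc 1539000 1442000 2000 = true := by decide +kernel

theorem chk_fin722 : cert.finalOKc 1539000 1444000 2000 = true := by decide +kernel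

theorem chk_fin723 : cert.finalOKc 1539000 1446000 2000 = true := by decide +kernel

theorem chk_fin724 : cert.finalOKc 1539000 1448000 2000 = true := by decide +kernel

theorem chk_fin725 : cert.finalOKc 1539000 1450000 2000 = true := by decide +kernel

theorem chk_fin726 : cert.finalOKc 1539000 1452000 2000 = true := by decide +kernel

theorem chk_fin727 : cert.finalOKc 1539000 1454000 2000 = true := by decide +kernel

theorem chk_fin728 : cert.finalOKc 1539000 1456000 2000 = true := by decide +kernel


end Cfsg.Agent.Lib.Lead.HNP.HNTC
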