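import Cfsg.Agent.Lib.Lead.HNP.HNTCData
import Cfsg.Agent.Lib.Helper6.TCRel3
import Cfsg.Agent.Lib.Lead.HNP.HNTCSFin80

/-! # HNTC: the kernel check of a part of the relators on the coset table -/

set_option autoImplicit false

namespace Cfsg.Agent.Lib.Lead.HNP.HNTC

open Cfsg.Agent.Lib.Helper6.TC

theorem chk_pow2_12_0 : tab.minOKc [1, 3, 0, 2] 3 1440000 8000 = true := by decide +kernel

theorem chk_pow2_12_1 : tab.minOKc [1, 3, 0, 2] 3 1448000 8000 = true := by decide +kernel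

theorem chk_pow2_12_2 : tab.minOKc [1, 3, 0, 2] 3 1456000 8000 = true := by decide +kernel

theorem chk_pow2_12_3 : tab.minOKc [1, 3, 0, 2] 3 1464000 8000 = true := by decide +kernel

theorem chk_pow2_12_4 : tab.minOKc [1, 3, 0, 2] 3 1472000 8000 = true := by decide +kernel

theorem chk_pow2_12_5 : tab.minOKc [1, 3, 0, 2] 3 1480000 8000 = true := by decide +kernel

theorem chk_pow2_12_6 : tab.minOKc [1, 3, 0, 2] 3 1488000 8000 = true := by decide +kernel

theorem chk_pow2_12_7 : tab.minOKc [1, 3, 0, 2] 3 1496000 8000 = true := by decide +kernel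

theorem chk_pow2_12_8 : tab.minOKc [1, 3, 0, 2] 3 1504000 8000 = true := by decide +kernel

theorem chk_pow2_12_9 : tab.minOKc [1, 3, 0, 2] 3 1512000 8000 = true := by decide +kernel

theorem chk_pow2_12_10 : tab.minOKc [1, 3, 0, 2] 3 1520000 8000 = true := by decide +kernel

theorem chk_pow2_12_11 : tab.minOKc [1, 3, 0, 2] 3 1528000 8000 = true := by decide +kernel

theorem chk_pow2_12_12 : tab.minOKc [1, 3, 0, 2] 3 1536000 8000 = true := by decide +kernel

theorem chk_pow2_12_13 : tab.minOKc [1, 3, 0, 2] 3 1544000 8000 = true := by decide +kernel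

theorem chk_pow2_12_14 : tab.minOKc [1, 3, 0, 2] 3 1552000 8000 = true := by decide +kernel

theorem chk_pow2_12 : tab.minOKc [1, 3, 0, 2] 3 1440000 120000 = true := by
  refine tab.minOKc_of_chunks [1, 3, 0, 2] 3 1440000 8000 15 (by norm_num) ?_
  intro i hi
  interval_cases i
  · exact chk_pow2_12_0
  · exact chk_pow2_12_1
  · exact chk_pow2_12_2
  · exact chk_pow2_12_3
  · exact chk_pow2_12_4
  · exact chk_pow2_12_5
  · exact chk_pow2_12_6
  · exact chk_pow2_12_7
  · exact chk_pow2_12_8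
  · exact chk_pow2_12_9
  · exact chk_pow2_12_10
  · exact chk_pow2_12_11
  · exact chk_pow2_12_12
  · exact chk_pow2_12_13
  · exact chk_pow2_12_14

theorem chk_pow3_0_0 : tab.minOKc [1, 2, 2, 0, 2, 2, 2] 3 0 4571 = true := by decide +kernel

theorem chk_pow3_0_1 : tab.minOKc [1, 2, 2, 0, 2, 2, 2] 3 4571 4571 = true := by decide +kernel

theorem chk_pow3_0_2 : tab.minOKc [1, 2, 2, 0, 2, 2, 2] 3 9142 4571 = true := by decide +kernel

theorem chk_pow3_0_3 : tab.minOKc [1, 2, 2, 0, 2, 2, 2] 3 13713 4571 = true := by decide +kernel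

theorem chk_pow3_0_4 : tab.minOKc [1, 2, 2, 0, 2, 2, 2] 3 18284 4571 = true := by decide +kernel

theorem chk_pow3_0_5 : tab.minOKc [1, 2, 2, 0, 2, 2, 2] 3 22855 4571 = true := by decide +kernel

theorem chk_pow3_0_6 : tab.minOKc [1, 2, 2, 0, 2, 2, 2] 3 27426 4571 = true := by decide +kernel

theorem chk_pow3_0_7 : tab.minOKc [1, 2, 2, 0, 2, 2, 2] 3 31997 4571 = true := by decide +kernel

theorem chk_pow3_0_8 : tab.minOKc [1, 2, 2, 0, 2, 2, 2] 3 36568 4571 = true := by decide +kernel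

theorem chk_pow3_0_9 : tab.minOKc [1, 2, 2, 0, 2, 2, 2] 3 41139 4571 = true := by decide +kernel

theorem chk_pow3_0_10 : tab.minOKc [1, 2, 2, 0, 2, 2, 2] 3 45710 4571 = true := by decide +kernel

theorem chk_pow3_0_11 : tab.minOKc [1, 2, 2, 0, 2, 2, 2] 3 50281 4571 = true := by decide +kernel

theorem chk_pow3_0_12 : tab.minOKc [1, 2, 2, 0, 2, 2, 2] 3 54852 4571 = true := by decide +kernel

theorem chk_pow3_0_13 : tab.minOKc [1, 2, 2, 0, 2, 2, 2] 3 59423 4571 = true := by decide +kernel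

theorem chk_pow3_0_14 : tab.minOKc [1, 2, 2, 0, 2, 2, 2] 3 63994 4571 = true := by decide +kernel

theorem chk_pow3_0 : tab.minOKc [1, 2, 2, 0, 2, 2, 2] 3 0 68565 = true := by
  refine tab.minOKc_of_chunks [1, 2, 2, 0, 2, 2, 2] 3 0 4571 15 (by norm_num) ?_
  intro i hi
  interval_cases i
  · exact chk_pow3_0_0
  · exact chk_pow3_0_1
  · exact chk_pow3_0_2
  · exact chk_pow3_0_3
  · exact chk_pow3_0_4
  · exact chk_pow3_0_5
  · exact chk_pow3_0_6
  · exact chk_pow3_0_7
  · exact chk_pow3_0_8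
  · exact chk_pow3_0_9
  · exact chk_pow3_0_10
  · exact chk_pow3_0_11
  · exact chk_pow3_0_12
  · exact chk_pow3_0_13
  · exact chk_pow3_0_14


end Cfsg.Agent.Lib.Lead.HNP.HNTC
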