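import Cfsg.Agent.Lib.Lead.HNP.HNTCData
import Cfsg.Agent.Lib.Helper6.TCRel3
import Cfsg.Agent.Lib.Lead.HNP.HNTCRel18

/-! # HNTC: the kernel check of a part of the relators on the coset table -/

set_option autoImplicit false

namespace Cfsg.Agent.Lib.Lead.HNP.HNTC

open Cfsg.Agent.Lib.Helper6.TC

theorem chk_pow5_17_0 : tab.minOKc [0, 2, 0, 2, 2, 2] 4 1359915 5333 = true := by decide +kernel

theorem chk_pow5_17_1 : tab.minOKc [0, 2, 0, 2, 2, 2] 4 1365248 5333 = true := by decide +kernel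

theorem chk_pow5_17_2 : tab.minOKc [0, 2, 0, 2, 2, 2] 4 1370581 5333 = true := by decide +kernel

theorem chk_pow5_17_3 : tab.minOKc [0, 2, 0, 2, 2, 2] 4 1375914 5333 = true := by decide +kernel

theorem chk_pow5_17_4 : tab.minOKc [0, 2, 0, 2, 2, 2] 4 1381247 5333 = true := by decide +kernel

theorem chk_pow5_17_5 : tab.minOKc [0, 2, 0, 2, 2, 2] 4 1386580 5333 = true := by decide +kernel

theorem chk_pow5_17_6 : tab.minOKc [0, 2, 0, 2, 2, 2] 4 1391913 5333 = true := by decide +kernel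

theorem chk_pow5_17_7 : tab.minOKc [0, 2, 0, 2, 2, 2] 4 1397246 5333 = true := by decide +kernel

theorem chk_pow5_17_8 : tab.minOKc [0, 2, 0, 2, 2, 2] 4 1402579 5333 = true := by decide +kernel

theorem chk_pow5_17_9 : tab.minOKc [0, 2, 0, 2, 2, 2] 4 1407912 5333 = true := by decide +kernel

theorem chk_pow5_17_10 : tab.minOKc [0, 2, 0, 2, 2, 2] 4 1413245 5333 = true := by decide +kernel

theorem chk_pow5_17_11 : tab.minOKc [0, 2, 0, 2, 2, 2] 4 1418578 5333 = true := by decide +kernel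

theorem chk_pow5_17_12 : tab.minOKc [0, 2, 0, 2, 2, 2] 4 1423911 5333 = true := by decide +kernel

theorem chk_pow5_17_13 : tab.minOKc [0, 2, 0, 2, 2, 2] 4 1429244 5333 = true := by decide +kernel

theorem chk_pow5_17_14 : tab.minOKc [0, 2, 0, 2, 2, 2] 4 1434577 5333 = true := by decide +kernel

theorem chk_pow5_17 : tab.minOKc [0, 2, 0, 2, 2, 2] 4 1359915 79995 = true := by
  refine tab.minOKc_of_chunks [0, 2, 0, 2, 2, 2] 4 1359915 5333 15 (by norm_num) ?_
  intro i hi
  interval_cases i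
  · exact chk_pow5_17_0
  · exact chk_pow5_17_1
  · exact chk_pow5_17_2
  · exact chk_pow5_17_3
  · exact chk_pow5_17_4
  · exact chk_pow5_17_5
  · exact chk_pow5_17_6
  · exact chk_pow5_17_7
  · exact chk_pow5_17_8
  · exact chk_pow5_17_9
  · exact chk_pow5_17_10
  · exact chk_pow5_17_11
  · exact chk_pow5_17_12
  · exact chk_pow5_17_13
  · exact chk_pow5_17_14

theorem chk_pow5_18_0 : tab.minOKc [0, 2, 0, 2, 2, 2] 4 1439910 5333 = true := by decide +kernel

theorem chk_pow5_18_1 : tab.minOKc [0, 2, 0, 2, 2, 2] 4 1445243 5333 = true := by decide +kernel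

theorem chk_pow5_18_2 : tab.minOKc [0, 2, 0, 2, 2, 2] 4 1450576 5333 = true := by decide +kernel

theorem chk_pow5_18_3 : tab.minOKc [0, 2, 0, 2, 2, 2] 4 1455909 5333 = true := by decide +kernel

theorem chk_pow5_18_4 : tab.minOKc [0, 2, 0, 2, 2, 2] 4 1461242 5333 = true := by decide +kernel

theorem chk_pow5_18_5 : tab.minOKc [0, 2, 0, 2, 2, 2] 4 1466575 5333 = true := by decide +kernel

theorem chk_pow5_18_6 : tab.minOKc [0, 2, 0, 2, 2, 2] 4 1471908 5333 = true := by decide +kernel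

theorem chk_pow5_18_7 : tab.minOKc [0, 2, 0, 2, 2, 2] 4 1477241 5333 = true := by decide +kernel

theorem chk_pow5_18_8 : tab.minOKc [0, 2, 0, 2, 2, 2] 4 1482574 5333 = true := by decide +kernel

theorem chk_pow5_18_9 : tab.minOKc [0, 2, 0, 2, 2, 2] 4 1487907 5333 = true := by decide +kernel

theorem chk_pow5_18_10 : tab.minOKc [0, 2, 0, 2, 2, 2] 4 1493240 5333 = true := by decide +kernel

theorem chk_pow5_18_11 : tab.minOKc [0, 2, 0, 2, 2, 2] 4 1498573 5333 = true := by decide +kernel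

theorem chk_pow5_18_12 : tab.minOKc [0, 2, 0, 2, 2, 2] 4 1503906 5333 = true := by decide +kernel

theorem chk_pow5_18_13 : tab.minOKc [0, 2, 0, 2, 2, 2] 4 1509239 5333 = true := by decide +kernel

theorem chk_pow5_18_14 : tab.minOKc [0, 2, 0, 2, 2, 2] 4 1514572 5333 = true := by decide +kernel

theorem chk_pow5_18 : tab.minOKc [0, 2, 0, 2, 2, 2] 4 1439910 79995 = true := by
  refine tab.minOKc_of_chunks [0, 2, 0, 2, 2, 2] 4 1439910 5333 15 (by norm_num) ?_
  intro i hi
  interval_cases i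
  · exact chk_pow5_18_0
  · exact chk_pow5_18_1
  · exact chk_pow5_18_2
  · exact chk_pow5_18_3
  · exact chk_pow5_18_4
  · exact chk_pow5_18_5
  · exact chk_pow5_18_6
  · exact chk_pow5_18_7
  · exact chk_pow5_18_8
  · exact chk_pow5_18_9
  · exact chk_pow5_18_10
  · exact chk_pow5_18_11
  · exact chk_pow5_18_12
  · exact chk_pow5_18_13
  · exact chk_pow5_18_14


end Cfsg.Agent.Lib.Lead.HNP.HNTC
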