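import Cfsg.Agent.Lib.Lead.HNP.HNTCData
import Cfsg.Agent.Lib.Helper6.TCRel3
import Cfsg.Agent.Lib.Lead.HNP.HNTCRel42

/-! # HNTC: the kernel check of a part of the relators on the coset table -/

set_option autoImplicit false

namespace Cfsg.Agent.Lib.Lead.HNP.HNTC

open Cfsg.Agent.Lib.Helper6.TC

theorem chk_pow8_34_0 : tab.minOKc [5, 2, 1, 3, 3, 1, 3, 1, 3, 4, 2, 0, 2, 0, 2, 2, 0, 3, 1, 1] 1 816000 1600 = true := by decide +kernel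

theorem chk_pow8_34_1 : tab.minOKc [5, 2, 1, 3, 3, 1, 3, 1, 3, 4, 2, 0, 2, 0, 2, 2, 0, 3, 1, 1] 1 817600 1600 = true := by decide +kernel

theorem chk_pow8_34_2 : tab.minOKc [5, 2, 1, 3, 3, 1, 3, 1, 3, 4, 2, 0, 2, 0, 2, 2, 0, 3, 1, 1] 1 819200 1600 = true := by decide +kernel

theorem chk_pow8_34_3 : tab.minOKc [5, 2, 1, 3, 3, 1, 3, 1, 3, 4, 2, 0, 2, 0, 2, 2, 0, 3, 1, 1] 1 820800 1600 = true := by decide +kernel

theorem chk_pow8_34_4 : tab.minOKc [5, 2, 1, 3, 3, 1, 3, 1, 3, 4, 2, 0, 2, 0, 2, 2, 0, 3, 1, 1] 1 822400 1600 = true := by decide +kernel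

theorem chk_pow8_34_5 : tab.minOKc [5, 2, 1, 3, 3, 1, 3, 1, 3, 4, 2, 0, 2, 0, 2, 2, 0, 3, 1, 1] 1 824000 1600 = true := by decide +kernel

theorem chk_pow8_34_6 : tab.minOKc [5, 2, 1, 3, 3, 1, 3, 1, 3, 4, 2, 0, 2, 0, 2, 2, 0, 3, 1, 1] 1 825600 1600 = true := by decide +kernel

theorem chk_pow8_34_7 : tab.minOKc [5, 2, 1, 3, 3, 1, 3, 1, 3, 4, 2, 0, 2, 0, 2, 2, 0, 3, 1, 1] 1 827200 1600 = true := by decide +kernel

theorem chk_pow8_34_8 : tab.minOKc [5, 2, 1, 3, 3, 1, 3, 1, 3, 4, 2, 0, 2, 0, 2, 2, 0, 3, 1, 1] 1 828800 1600 = true := by decide +kernel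

theorem chk_pow8_34_9 : tab.minOKc [5, 2, 1, 3, 3, 1, 3, 1, 3, 4, 2, 0, 2, 0, 2, 2, 0, 3, 1, 1] 1 830400 1600 = true := by decide +kernel

theorem chk_pow8_34_10 : tab.minOKc [5, 2, 1, 3, 3, 1, 3, 1, 3, 4, 2, 0, 2, 0, 2, 2, 0, 3, 1, 1] 1 832000 1600 = true := by decide +kernel

theorem chk_pow8_34_11 : tab.minOKc [5, 2, 1, 3, 3, 1, 3, 1, 3, 4, 2, 0, 2, 0, 2, 2, 0, 3, 1, 1] 1 833600 1600 = true := by decide +kernel

theorem chk_pow8_34_12 : tab.minOKc [5, 2, 1, 3, 3, 1, 3, 1, 3, 4, 2, 0, 2, 0, 2, 2, 0, 3, 1, 1] 1 835200 1600 = true := by decide +kernel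

theorem chk_pow8_34_13 : tab.minOKc [5, 2, 1, 3, 3, 1, 3, 1, 3, 4, 2, 0, 2, 0, 2, 2, 0, 3, 1, 1] 1 836800 1600 = true := by decide +kernel

theorem chk_pow8_34_14 : tab.minOKc [5, 2, 1, 3, 3, 1, 3, 1, 3, 4, 2, 0, 2, 0, 2, 2, 0, 3, 1, 1] 1 838400 1600 = true := by decide +kernel

theorem chk_pow8_34 : tab.minOKc [5, 2, 1, 3, 3, 1, 3, 1, 3, 4, 2, 0, 2, 0, 2, 2, 0, 3, 1, 1] 1 816000 24000 = true := by
  refine tab.minOKc_of_chunks [5, 2, 1, 3, 3, 1, 3, 1, 3, 4, 2, 0, 2, 0, 2, 2, 0, 3, 1, 1] 1 816000 1600 15 (by norm_num) ?_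
  intro i hi
  interval_cases i
  · exact chk_pow8_34_0
  · exact chk_pow8_34_1
  · exact chk_pow8_34_2
  · exact chk_pow8_34_3
  · exact chk_pow8_34_4
  · exact chk_pow8_34_5
  · exact chk_pow8_34_6
  · exact chk_pow8_34_7
  · exact chk_pow8_34_8
  · exact chk_pow8_34_9
  · exact chk_pow8_34_10
  · exact chk_pow8_34_11
  · exact chk_pow8_34_12
  · exact chk_pow8_34_13
  · exact chk_pow8_34_14

theorem chk_pow8_35_0 : tab.minOKc [5, 2, 1, 3, 3, 1, 3, 1, 3, 4, 2, 0, 2, 0, 2, 2, 0, 3, 1, 1] 1 840000 1600 = true := by decide +kernel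

theorem chk_pow8_35_1 : tab.minOKc [5, 2, 1, 3, 3, 1, 3, 1, 3, 4, 2, 0, 2, 0, 2, 2, 0, 3, 1, 1] 1 841600 1600 = true := by decide +kernel

theorem chk_pow8_35_2 : tab.minOKc [5, 2, 1, 3, 3, 1, 3, 1, 3, 4, 2, 0, 2, 0, 2, 2, 0, 3, 1, 1] 1 843200 1600 = true := by decide +kernel

theorem chk_pow8_35_3 : tab.minOKc [5, 2, 1, 3, 3, 1, 3, 1, 3, 4, 2, 0, 2, 0, 2, 2, 0, 3, 1, 1] 1 844800 1600 = true := by decide +kernel

theorem chk_pow8_35_4 : tab.minOKc [5, 2, 1, 3, 3, 1, 3, 1, 3, 4, 2, 0, 2, 0, 2, 2, 0, 3, 1, 1] 1 846400 1600 = true := by decide +kernel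

theorem chk_pow8_35_5 : tab.minOKc [5, 2, 1, 3, 3, 1, 3, 1, 3, 4, 2, 0, 2, 0, 2, 2, 0, 3, 1, 1] 1 848000 1600 = true := by decide +kernel

theorem chk_pow8_35_6 : tab.minOKc [5, 2, 1, 3, 3, 1, 3, 1, 3, 4, 2, 0, 2, 0, 2, 2, 0, 3, 1, 1] 1 849600 1600 = true := by decide +kernel

theorem chk_pow8_35_7 : tab.minOKc [5, 2, 1, 3, 3, 1, 3, 1, 3, 4, 2, 0, 2, 0, 2, 2, 0, 3, 1, 1] 1 851200 1600 = true := by decide +kernel

theorem chk_pow8_35_8 : tab.minOKc [5, 2, 1, 3, 3, 1, 3, 1, 3, 4, 2, 0, 2, 0, 2, 2, 0, 3, 1, 1] 1 852800 1600 = true := by decide +kernel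

theorem chk_pow8_35_9 : tab.minOKc [5, 2, 1, 3, 3, 1, 3, 1, 3, 4, 2, 0, 2, 0, 2, 2, 0, 3, 1, 1] 1 854400 1600 = true := by decide +kernel

theorem chk_pow8_35_10 : tab.minOKc [5, 2, 1, 3, 3, 1, 3, 1, 3, 4, 2, 0, 2, 0, 2, 2, 0, 3, 1, 1] 1 856000 1600 = true := by decide +kernel

theorem chk_pow8_35_11 : tab.minOKc [5, 2, 1, 3, 3, 1, 3, 1, 3, 4, 2, 0, 2, 0, 2, 2, 0, 3, 1, 1] 1 857600 1600 = true := by decide +kernel

theorem chk_pow8_35_12 : tab.minOKc [5, 2, 1, 3, 3, 1, 3, 1, 3, 4, 2, 0, 2, 0, 2, 2, 0, 3, 1, 1] 1 859200 1600 = true := by decide +kernel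

theorem chk_pow8_35_13 : tab.minOKc [5, 2, 1, 3, 3, 1, 3, 1, 3, 4, 2, 0, 2, 0, 2, 2, 0, 3, 1, 1] 1 860800 1600 = true := by decide +kernel

theorem chk_pow8_35_14 : tab.minOKc [5, 2, 1, 3, 3, 1, 3, 1, 3, 4, 2, 0, 2, 0, 2, 2, 0, 3, 1, 1] 1 862400 1600 = true := by decide +kernel

theorem chk_pow8_35 : tab.minOKc [5, 2, 1, 3, 3, 1, 3, 1, 3, 4, 2, 0, 2, 0, 2, 2, 0, 3, 1, 1] 1 840000 24000 = true := by
  refine tab.minOKc_of_chunks [5, 2, 1, 3, 3, 1, 3, 1, 3, 4, 2, 0, 2, 0, 2, 2, 0, 3, 1, 1] 1 840000 1600 15 (by norm_num) ?_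
  intro i hi
  interval_cases i
  · exact chk_pow8_35_0
  · exact chk_pow8_35_1
  · exact chk_pow8_35_2
  · exact chk_pow8_35_3
  · exact chk_pow8_35_4
  · exact chk_pow8_35_5
  · exact chk_pow8_35_6
  · exact chk_pow8_35_7
  · exact chk_pow8_35_8
  · exact chk_pow8_35_9
  · exact chk_pow8_35_10
  · exact chk_pow8_35_11
  · exact chk_pow8_35_12
  · exact chk_pow8_35_13
  · exact chk_pow8_35_14


end Cfsg.Agent.Lib.Lead.HNP.HNTC
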