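import Cfsg.Agent.Lib.Lead.HNP.HNTCSCert

/-! # HNTC: the kernel check of the rows from 0 on -/

set_option autoImplicit false

namespace Cfsg.Agent.Lib.Lead.HNP.HNTC

open Cfsg.Agent.Lib.Helper6.TC Cfsg.Agent.Lib.Helper6.TCGS

theorem chk_rows0_0 : cert.rowsOK 0 479 = true := by decide +kernel

theorem chk_rows0_1 : cert.rowsOK 479 479 = true := by decide +kernel

theorem chk_rows0_2 : cert.rowsOK 958 479 = true := by decide +kernel

theorem chk_rows0_3 : cert.rowsOK 1437 479 = true := by decide +kernel

theorem chk_rows0_4 : cert.rowsOK 1916 479 = true := by decide +kernel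

theorem chk_rows0_5 : cert.rowsOK 2395 479 = true := by decide +kernel

theorem chk_rows0_6 : cert.rowsOK 2874 479 = true := by decide +kernel

theorem chk_rows0_7 : cert.rowsOK 3353 479 = true := by decide +kernel

theorem chk_rows0_8 : cert.rowsOK 3832 479 = true := by decide +kernel

theorem chk_rows0_9 : cert.rowsOK 4311 479 = true := by decide +kernel

theorem chk_rows0_10 : cert.rowsOK 4790 479 = true := by decide +kernel

theorem chk_rows0_11 : cert.rowsOK 5269 479 = true := by decide +kernel

theorem chk_rows0_12 : cert.rowsOK 5748 479 = true := by decide +kernel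

theorem chk_rows0_13 : cert.rowsOK 6227 479 = true := by decide +kernel

theorem chk_rows0_14 : cert.rowsOK 6706 479 = true := by decide +kernel

theorem chk_rows0_15 : cert.rowsOK 7185 479 = true := by decide +kernel

theorem chk_rows0_16 : cert.rowsOK 7664 479 = true := by decide +kernel

theorem chk_rows0_17 : cert.rowsOK 8143 479 = true := by decide +kernel

theorem chk_rows0_18 : cert.rowsOK 8622 479 = true := by decide +kernel

theorem chk_rows0_19 : cert.rowsOK 9101 479 = true := by decide +kernel

theorem chk_rows0_20 : cert.rowsOK 9580 479 = true := by decide +kernel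

theorem chk_rows0_21 : cert.rowsOK 10059 479 = true := by decide +kernel

theorem chk_rows0_22 : cert.rowsOK 10538 479 = true := by decide +kernel

theorem chk_rows0_23 : cert.rowsOK 11017 479 = true := by decide +kernel

theorem chk_range0 : ∀ a, 0 ≤ a → a < 11496 → ∀ x < cert.c.g, cert.slotOK a x = true := by
  refine cert.range_of_chunks 0 479 24 (by norm_num) ?_
  intro k hk
  interval_cases k
  · exact chk_rows0_0
  · exact chk_rows0_1
  · exact chk_rows0_2
  · exact chk_rows0_3
  · exact chk_rows0_4
  · exact chk_rows0_5
  · exact chk_rows0_6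
  · exact chk_rows0_7
  · exact chk_rows0_8
  · exact chk_rows0_9
  · exact chk_rows0_10
  · exact chk_rows0_11
  · exact chk_rows0_12
  · exact chk_rows0_13
  · exact chk_rows0_14
  · exact chk_rows0_15
  · exact chk_rows0_16
  · exact chk_rows0_17
  · exact chk_rows0_18
  · exact chk_rows0_19
  · exact chk_rows0_20
  · exact chk_rows0_21
  · exact chk_rows0_22
  · exact chk_rows0_23

end Cfsg.Agent.Lib.Lead.HNP.HNTC
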