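import Cfsg.Agent.Lib.Lead.HNP.HNTCSCert
import Cfsg.Agent.Lib.Lead.HNP.HNTCSRows0

/-! # HNTC: the kernel check of the rows from 275904 on -/

set_option autoImplicit false

namespace Cfsg.Agent.Lib.Lead.HNP.HNTC

open Cfsg.Agent.Lib.Helper6.TC Cfsg.Agent.Lib.Helper6.TCGS

theorem chk_rows24_0 : cert.rowsOK 275904 479 = true := by decide +kernel

theorem chk_rows24_1 : cert.rowsOK 276383 479 = true := by decide +kernel

theorem chk_rows24_2 : cert.rowsOK 276862 479 = true := by decide +kernel

theorem chk_rows24_3 : cert.rowsOK 277341 479 = true := by decide +kernel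

theorem chk_rows24_4 : cert.rowsOK 277820 479 = true := by decide +kernel

theorem chk_rows24_5 : cert.rowsOK 278299 479 = true := by decide +kernel

theorem chk_rows24_6 : cert.rowsOK 278778 479 = true := by decide +kernel

theorem chk_rows24_7 : cert.rowsOK 279257 479 = true := by decide +kernel

theorem chk_rows24_8 : cert.rowsOK 279736 479 = true := by decide +kernel

theorem chk_rows24_9 : cert.rowsOK 280215 479 = true := by decide +kernel

theorem chk_rows24_10 : cert.rowsOK 280694 479 = true := by decide +kernel

theorem chk_rows24_11 : cert.rowsOK 281173 479 = true := by decide +kernel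

theorem chk_rows24_12 : cert.rowsOK 281652 479 = true := by decide +kernel

theorem chk_rows24_13 : cert.rowsOK 282131 479 = true := by decide +kernel

theorem chk_rows24_14 : cert.rowsOK 282610 479 = true := by decide +kernel

theorem chk_rows24_15 : cert.rowsOK 283089 479 = true := by decide +kernel

theorem chk_rows24_16 : cert.rowsOK 283568 479 = true := by decide +kernel

theorem chk_rows24_17 : cert.rowsOK 284047 479 = true := by decide +kernel

theorem chk_rows24_18 : cert.rowsOK 284526 479 = true := by decide +kernel

theorem chk_rows24_19 : cert.rowsOK 285005 479 = true := by decide +kernel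

theorem chk_rows24_20 : cert.rowsOK 285484 479 = true := by decide +kernel

theorem chk_rows24_21 : cert.rowsOK 285963 479 = true := by decide +kernel

theorem chk_rows24_22 : cert.rowsOK 286442 479 = true := by decide +kernel

theorem chk_rows24_23 : cert.rowsOK 286921 479 = true := by decide +kernel

theorem chk_range24 : ∀ a, 275904 ≤ a → a < 287400 → ∀ x < cert.c.g, cert.slotOK a x = true := by
  refine cert.range_of_chunks 275904 479 24 (by norm_num) ?_
  intro k hk
  interval_cases k
  · exact chk_rows24_0
  · exact chk_rows24_1
  · exact chk_rows24_2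
  · exact chk_rows24_3
  · exact chk_rows24_4
  · exact chk_rows24_5
  · exact chk_rows24_6
  · exact chk_rows24_7
  · exact chk_rows24_8
  · exact chk_rows24_9
  · exact chk_rows24_10
  · exact chk_rows24_11
  · exact chk_rows24_12
  · exact chk_rows24_13
  · exact chk_rows24_14
  · exact chk_rows24_15
  · exact chk_rows24_16
  · exact chk_rows24_17
  · exact chk_rows24_18
  · exact chk_rows24_19
  · exact chk_rows24_20
  · exact chk_rows24_21
  · exact chk_rows24_22
  · exact chk_rows24_23

end Cfsg.Agent.Lib.Lead.HNP.HNTC
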