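import Cfsg.Agent.Lib.Lead.HNP.HNTCSCert
import Cfsg.Agent.Lib.Lead.HNP.HNTCSRows24

/-! # HNTC: the kernel check of the rows from 551808 on -/

set_option autoImplicit false

namespace Cfsg.Agent.Lib.Lead.HNP.HNTC

open Cfsg.Agent.Lib.Helper6.TC Cfsg.Agent.Lib.Helper6.TCGS

theorem chk_rows48_0 : cert.rowsOK 551808 479 = true := by decide +kernel

theorem chk_rows48_1 : cert.rowsOK 552287 479 = true := by decide +kernel

theorem chk_rows48_2 : cert.rowsOK 552766 479 = true := by decide +kernel

theorem chk_rows48_3 : cert.rowsOK 553245 479 = true := by decide +kernel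

theorem chk_rows48_4 : cert.rowsOK 553724 479 = true := by decide +kernel

theorem chk_rows48_5 : cert.rowsOK 554203 479 = true := by decide +kernel

theorem chk_rows48_6 : cert.rowsOK 554682 479 = true := by decide +kernel

theorem chk_rows48_7 : cert.rowsOK 555161 479 = true := by decide +kernel

theorem chk_rows48_8 : cert.rowsOK 555640 479 = true := by decide +kernel

theorem chk_rows48_9 : cert.rowsOK 556119 479 = true := by decide +kernel

theorem chk_rows48_10 : cert.rowsOK 556598 479 = true := by decide +kernel

theorem chk_rows48_11 : cert.rowsOK 557077 479 = true := by decide +kernel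

theorem chk_rows48_12 : cert.rowsOK 557556 479 = true := by decide +kernel

theorem chk_rows48_13 : cert.rowsOK 558035 479 = true := by decide +kernel

theorem chk_rows48_14 : cert.rowsOK 558514 479 = true := by decide +kernel

theorem chk_rows48_15 : cert.rowsOK 558993 479 = true := by decide +kernel

theorem chk_rows48_16 : cert.rowsOK 559472 479 = true := by decide +kernel

theorem chk_rows48_17 : cert.rowsOK 559951 479 = true := by decide +kernel

theorem chk_rows48_18 : cert.rowsOK 560430 479 = true := by decide +kernel

theorem chk_rows48_19 : cert.rowsOK 560909 479 = true := by decide +kernel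

theorem chk_rows48_20 : cert.rowsOK 561388 479 = true := by decide +kernel

theorem chk_rows48_21 : cert.rowsOK 561867 479 = true := by decide +kernel

theorem chk_rows48_22 : cert.rowsOK 562346 479 = true := by decide +kernel

theorem chk_rows48_23 : cert.rowsOK 562825 479 = true := by decide +kernel

theorem chk_range48 : ∀ a, 551808 ≤ a → a < 563304 → ∀ x < cert.c.g, cert.slotOK a x = true := by
  refine cert.range_of_chunks 551808 479 24 (by norm_num) ?_
  intro k hk
  interval_cases k
  · exact chk_rows48_0
  · exact chk_rows48_1
  · exact chk_rows48_2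
  · exact chk_rows48_3
  · exact chk_rows48_4
  · exact chk_rows48_5
  · exact chk_rows48_6
  · exact chk_rows48_7
  · exact chk_rows48_8
  · exact chk_rows48_9
  · exact chk_rows48_10
  · exact chk_rows48_11
  · exact chk_rows48_12
  · exact chk_rows48_13
  · exact chk_rows48_14
  · exact chk_rows48_15
  · exact chk_rows48_16
  · exact chk_rows48_17
  · exact chk_rows48_18
  · exact chk_rows48_19
  · exact chk_rows48_20
  · exact chk_rows48_21
  · exact chk_rows48_22
  · exact chk_rows48_23

end Cfsg.Agent.Lib.Lead.HNP.HNTC
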