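import Cfsg.Agent.Lib.Lead.HNP.HNTCSCert
import Cfsg.Agent.Lib.Lead.HNP.HNTCSRows48

/-! # HNTC: the kernel check of the rows from 827712 on -/

set_option autoImplicit false

namespace Cfsg.Agent.Lib.Lead.HNP.HNTC

open Cfsg.Agent.Lib.Helper6.TC Cfsg.Agent.Lib.Helper6.TCGS

theorem chk_rows72_0 : cert.rowsOK 827712 479 = true := by decide +kernel

theorem chk_rows72_1 : cert.rowsOK 828191 479 = true := by decide +kernel

theorem chk_rows72_2 : cert.rowsOK 828670 479 = true := by decide +kernel

theorem chk_rows72_3 : cert.rowsOK 829149 479 = true := by decide +kernel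

theorem chk_rows72_4 : cert.rowsOK 829628 479 = true := by decide +kernel

theorem chk_rows72_5 : cert.rowsOK 830107 479 = true := by decide +kernel

theorem chk_rows72_6 : cert.rowsOK 830586 479 = true := by decide +kernel

theorem chk_rows72_7 : cert.rowsOK 831065 479 = true := by decide +kernel

theorem chk_rows72_8 : cert.rowsOK 831544 479 = true := by decide +kernel

theorem chk_rows72_9 : cert.rowsOK 832023 479 = true := by decide +kernel

theorem chk_rows72_10 : cert.rowsOK 832502 479 = true := by decide +kernel

theorem chk_rows72_11 : cert.rowsOK 832981 479 = true := by decide +kernel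

theorem chk_rows72_12 : cert.rowsOK 833460 479 = true := by decide +kernel

theorem chk_rows72_13 : cert.rowsOK 833939 479 = true := by decide +kernel

theorem chk_rows72_14 : cert.rowsOK 834418 479 = true := by decide +kernel

theorem chk_rows72_15 : cert.rowsOK 834897 479 = true := by decide +kernel

theorem chk_rows72_16 : cert.rowsOK 835376 479 = true := by decide +kernel

theorem chk_rows72_17 : cert.rowsOK 835855 479 = true := by decide +kernel

theorem chk_rows72_18 : cert.rowsOK 836334 479 = true := by decide +kernel

theorem chk_rows72_19 : cert.rowsOK 836813 479 = true := by decide +kernel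

theorem chk_rows72_20 : cert.rowsOK 837292 479 = true := by decide +kernel

theorem chk_rows72_21 : cert.rowsOK 837771 479 = true := by decide +kernel

theorem chk_rows72_22 : cert.rowsOK 838250 479 = true := by decide +kernel

theorem chk_rows72_23 : cert.rowsOK 838729 479 = true := by decide +kernel

theorem chk_range72 : ∀ a, 827712 ≤ a → a < 839208 → ∀ x < cert.c.g, cert.slotOK a x = true := by
  refine cert.range_of_chunks 827712 479 24 (by norm_num) ?_
  intro k hk
  interval_cases k
  · exact chk_rows72_0
  · exact chk_rows72_1
  · exact chk_rows72_2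
  · exact chk_rows72_3
  · exact chk_rows72_4
  · exact chk_rows72_5
  · exact chk_rows72_6
  · exact chk_rows72_7
  · exact chk_rows72_8
  · exact chk_rows72_9
  · exact chk_rows72_10
  · exact chk_rows72_11
  · exact chk_rows72_12
  · exact chk_rows72_13
  · exact chk_rows72_14
  · exact chk_rows72_15
  · exact chk_rows72_16
  · exact chk_rows72_17
  · exact chk_rows72_18
  · exact chk_rows72_19
  · exact chk_rows72_20
  · exact chk_rows72_21
  · exact chk_rows72_22
  · exact chk_rows72_23

end Cfsg.Agent.Lib.Lead.HNP.HNTC
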