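import Cfsg.Agent.Lib.Lead.HNP.HNTCSCert
import Cfsg.Agent.Lib.Lead.HNP.HNTCSRows72

/-! # HNTC: the kernel check of the rows from 1103616 on -/

set_option autoImplicit false

namespace Cfsg.Agent.Lib.Lead.HNP.HNTC

open Cfsg.Agent.Lib.Helper6.TC Cfsg.Agent.Lib.Helper6.TCGS

theorem chk_rows96_0 : cert.rowsOK 1103616 479 = true := by decide +kernel

theorem chk_rows96_1 : cert.rowsOK 1104095 479 = true := by decide +kernel

theorem chk_rows96_2 : cert.rowsOK 1104574 479 = true := by decide +kernel

theorem chk_rows96_3 : cert.rowsOK 1105053 479 = true := by decide +kernel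

theorem chk_rows96_4 : cert.rowsOK 1105532 479 = true := by decide +kernel

theorem chk_rows96_5 : cert.rowsOK 1106011 479 = true := by decide +kernel

theorem chk_rows96_6 : cert.rowsOK 1106490 479 = true := by decide +kernel

theorem chk_rows96_7 : cert.rowsOK 1106969 479 = true := by decide +kernel

theorem chk_rows96_8 : cert.rowsOK 1107448 479 = true := by decide +kernel

theorem chk_rows96_9 : cert.rowsOK 1107927 479 = true := by decide +kernel

theorem chk_rows96_10 : cert.rowsOK 1108406 479 = true := by decide +kernel

theorem chk_rows96_11 : cert.rowsOK 1108885 479 = true := by decide +kernel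

theorem chk_rows96_12 : cert.rowsOK 1109364 479 = true := by decide +kernel

theorem chk_rows96_13 : cert.rowsOK 1109843 479 = true := by decide +kernel

theorem chk_rows96_14 : cert.rowsOK 1110322 479 = true := by decide +kernel

theorem chk_rows96_15 : cert.rowsOK 1110801 479 = true := by decide +kernel

theorem chk_rows96_16 : cert.rowsOK 1111280 479 = true := by decide +kernel

theorem chk_rows96_17 : cert.rowsOK 1111759 479 = true := by decide +kernel

theorem chk_rows96_18 : cert.rowsOK 1112238 479 = true := by decide +kernel

theorem chk_rows96_19 : cert.rowsOK 1112717 479 = true := by decide +kernel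

theorem chk_rows96_20 : cert.rowsOK 1113196 479 = true := by decide +kernel

theorem chk_rows96_21 : cert.rowsOK 1113675 479 = true := by decide +kernel

theorem chk_rows96_22 : cert.rowsOK 1114154 479 = true := by decide +kernel

theorem chk_rows96_23 : cert.rowsOK 1114633 479 = true := by decide +kernel

theorem chk_range96 : ∀ a, 1103616 ≤ a → a < 1115112 → ∀ x < cert.c.g, cert.slotOK a x = true := by
  refine cert.range_of_chunks 1103616 479 24 (by norm_num) ?_
  intro k hk
  interval_cases k
  · exact chk_rows96_0
  · exact chk_rows96_1
  · exact chk_rows96_2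
  · exact chk_rows96_3
  · exact chk_rows96_4
  · exact chk_rows96_5
  · exact chk_rows96_6
  · exact chk_rows96_7
  · exact chk_rows96_8
  · exact chk_rows96_9
  · exact chk_rows96_10
  · exact chk_rows96_11
  · exact chk_rows96_12
  · exact chk_rows96_13
  · exact chk_rows96_14
  · exact chk_rows96_15
  · exact chk_rows96_16
  · exact chk_rows96_17
  · exact chk_rows96_18
  · exact chk_rows96_19
  · exact chk_rows96_20
  · exact chk_rows96_21
  · exact chk_rows96_22
  · exact chk_rows96_23

end Cfsg.Agent.Lib.Lead.HNP.HNTC
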