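import Cfsg.Agent.Lib.Lead.HNP.HNTCSCert
import Cfsg.Agent.Lib.Lead.HNP.HNTCSRows96

/-! # HNTC: the kernel check of the rows from 1379520 on -/

set_option autoImplicit false

namespace Cfsg.Agent.Lib.Lead.HNP.HNTC

open Cfsg.Agent.Lib.Helper6.TC Cfsg.Agent.Lib.Helper6.TCGS

theorem chk_rows120_0 : cert.rowsOK 1379520 479 = true := by decide +kernel

theorem chk_rows120_1 : cert.rowsOK 1379999 479 = true := by decide +kernel

theorem chk_rows120_2 : cert.rowsOK 1380478 479 = true := by decide +kernel

theorem chk_rows120_3 : cert.rowsOK 1380957 479 = true := by decide +kernel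

theorem chk_rows120_4 : cert.rowsOK 1381436 479 = true := by decide +kernel

theorem chk_rows120_5 : cert.rowsOK 1381915 479 = true := by decide +kernel

theorem chk_rows120_6 : cert.rowsOK 1382394 479 = true := by decide +kernel

theorem chk_rows120_7 : cert.rowsOK 1382873 479 = true := by decide +kernel

theorem chk_rows120_8 : cert.rowsOK 1383352 479 = true := by decide +kernel

theorem chk_rows120_9 : cert.rowsOK 1383831 479 = true := by decide +kernel

theorem chk_rows120_10 : cert.rowsOK 1384310 479 = true := by decide +kernel

theorem chk_rows120_11 : cert.rowsOK 1384789 479 = true := by decide +kernel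

theorem chk_rows120_12 : cert.rowsOK 1385268 479 = true := by decide +kernel

theorem chk_rows120_13 : cert.rowsOK 1385747 479 = true := by decide +kernel

theorem chk_rows120_14 : cert.rowsOK 1386226 479 = true := by decide +kernel

theorem chk_rows120_15 : cert.rowsOK 1386705 479 = true := by decide +kernel

theorem chk_rows120_16 : cert.rowsOK 1387184 479 = true := by decide +kernel

theorem chk_rows120_17 : cert.rowsOK 1387663 479 = true := by decide +kernel

theorem chk_rows120_18 : cert.rowsOK 1388142 479 = true := by decide +kernel

theorem chk_rows120_19 : cert.rowsOK 1388621 479 = true := by decide +kernel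

theorem chk_rows120_20 : cert.rowsOK 1389100 479 = true := by decide +kernel

theorem chk_rows120_21 : cert.rowsOK 1389579 479 = true := by decide +kernel

theorem chk_rows120_22 : cert.rowsOK 1390058 479 = true := by decide +kernel

theorem chk_rows120_23 : cert.rowsOK 1390537 479 = true := by decide +kernel

theorem chk_range120 : ∀ a, 1379520 ≤ a → a < 1391016 → ∀ x < cert.c.g, cert.slotOK a x = true := by
  refine cert.range_of_chunks 1379520 479 24 (by norm_num) ?_
  intro k hk
  interval_cases k
  · exact chk_rows120_0
  · exact chk_rows120_1
  · exact chk_rows120_2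
  · exact chk_rows120_3
  · exact chk_rows120_4
  · exact chk_rows120_5
  · exact chk_rows120_6
  · exact chk_rows120_7
  · exact chk_rows120_8
  · exact chk_rows120_9
  · exact chk_rows120_10
  · exact chk_rows120_11
  · exact chk_rows120_12
  · exact chk_rows120_13
  · exact chk_rows120_14
  · exact chk_rows120_15
  · exact chk_rows120_16
  · exact chk_rows120_17
  · exact chk_rows120_18
  · exact chk_rows120_19
  · exact chk_rows120_20
  · exact chk_rows120_21
  · exact chk_rows120_22
  · exact chk_rows120_23

end Cfsg.Agent.Lib.Lead.HNP.HNTC
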