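import Cfsg.Agent.Lib.Lead.HNP.HNTCSCert
import Cfsg.Agent.Lib.Helper6.TCGIndex
import Cfsg.Agent.Lib.Lead.HNP.HNTCSFin10

/-! # HNTC: the kernel check that the first rows are closed, part 34 -/

set_option autoImplicit false

namespace Cfsg.Agent.Lib.Lead.HNP.HNTC

open Cfsg.Agent.Lib.Helper6.TC Cfsg.Agent.Lib.Helper6.TCGS

theorem chk_fin306 : cert.finalOKc 1539000 612000 2000 = true := by decide +kernel

theorem chk_fin307 : cert.finalOKc 1539000 614000 2000 = true := by decide +kernel

theorem chk_fin308 : cert.finalOKc 1539000 616000 2000 = true := by decide +kernel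

theorem chk_fin309 : cert.finalOKc 1539000 618000 2000 = true := by decide +kernel

theorem chk_fin310 : cert.finalOKc 1539000 620000 2000 = true := by decide +kernel

theorem chk_fin311 : cert.finalOKc 1539000 622000 2000 = true := by decide +kernel

theorem chk_fin312 : cert.finalOKc 1539000 624000 2000 = true := by decide +kernel

theorem chk_fin313 : cert.finalOKc 1539000 626000 2000 = true := by decide +kernel

theorem chk_fin314 : cert.finalOKc 1539000 628000 2000 = true := by decide +kernel


end Cfsg.Agent.Lib.Lead.HNP.HNTC
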