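import Cfsg.Agent.Lib.Lead.HNP.HNTCSCert
import Cfsg.Agent.Lib.Helper6.TCGIndex
import Cfsg.Agent.Lib.Lead.HNP.HNTCSFin34

/-! # HNTC: the kernel check that the first rows are closed, part 58 -/

set_option autoImplicit false

namespace Cfsg.Agent.Lib.Lead.HNP.HNTC

open Cfsg.Agent.Lib.Helper6.TC Cfsg.Agent.Lib.Helper6.TCGS

theorem chk_fin522 : cert.finalOKc 1539000 1044000 2000 = true := by decide +kernel

theorem chk_fin523 : cert.finalOKc 1539000 1046000 2000 = true := by decide +kernel

theorem chk_fin524 : cert.finalOKc 1539000 1048000 2000 = true := by decide +kernel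

theorem chk_fin525 : cert.finalOKc 1539000 1050000 2000 = true := by decide +kernel

theorem chk_fin526 : cert.finalOKc 1539000 1052000 2000 = true := by decide +kernel

theorem chk_fin527 : cert.finalOKc 1539000 1054000 2000 = true := by decide +kernel

theorem chk_fin528 : cert.finalOKc 1539000 1056000 2000 = true := by decide +kernel

theorem chk_fin529 : cert.finalOKc 1539000 1058000 2000 = true := by decide +kernel

theorem chk_fin530 : cert.finalOKc 1539000 1060000 2000 = true := by decide +kernel


end Cfsg.Agent.Lib.Lead.HNP.HNTC
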