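import Cfsg.Agent.Lib.Lead.HNP.HNTCSCert
import Cfsg.Agent.Lib.Helper6.TCGIndex
import Cfsg.Agent.Lib.Lead.HNP.HNTCSFin58

/-! # HNTC: the kernel check that the first rows are closed, part 82 -/

set_option autoImplicit false

namespace Cfsg.Agent.Lib.Lead.HNP.HNTC

open Cfsg.Agent.Lib.Helper6.TC Cfsg.Agent.Lib.Helper6.TCGS

theorem chk_fin738 : cert.finalOKc 1539000 1476000 2000 = true := by decide +kernel

theorem chk_fin739 : cert.finalOKc 1539000 1478000 2000 = true := by decide +kernel

theorem chk_fin740 : cert.finalOKc 1539000 1480000 2000 = true := by decide +kernel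

theorem chk_fin741 : cert.finalOKc 1539000 1482000 2000 = true := by decide +kernel

theorem chk_fin742 : cert.finalOKc 1539000 1484000 2000 = true := by decide +kernel

theorem chk_fin743 : cert.finalOKc 1539000 1486000 2000 = true := by decide +kernel

theorem chk_fin744 : cert.finalOKc 1539000 1488000 2000 = true := by decide +kernel

theorem chk_fin745 : cert.finalOKc 1539000 1490000 2000 = true := by decide +kernel

theorem chk_fin746 : cert.finalOKc 1539000 1492000 2000 = true := by decide +kernel


end Cfsg.Agent.Lib.Lead.HNP.HNTC
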