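import Cfsg.Agent.Lib.Lead.HNP.HNTCData
import Cfsg.Agent.Lib.Helper6.TCRel3
import Cfsg.Agent.Lib.Lead.HNP.HNTCSFin82

/-! # HNTC: the kernel check of a part of the relators on the coset table -/

set_option autoImplicit false

namespace Cfsg.Agent.Lib.Lead.HNP.HNTC

open Cfsg.Agent.Lib.Helper6.TC

theorem chk_pow3_3_0 : tab.minOKc [1, 2, 2, 0, 2, 2, 2] 3 205695 4571 = true := by decide +kernel

theorem chk_pow3_3_1 : tab.minOKc [1, 2, 2, 0, 2, 2, 2] 3 210266 4571 = true := by decide +kernel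

theorem chk_pow3_3_2 : tab.minOKc [1, 2, 2, 0, 2, 2, 2] 3 214837 4571 = true := by decide +kernel

theorem chk_pow3_3_3 : tab.minOKc [1, 2, 2, 0, 2, 2, 2] 3 219408 4571 = true := by decide +kernel

theorem chk_pow3_3_4 : tab.minOKc [1, 2, 2, 0, 2, 2, 2] 3 223979 4571 = true := by decide +kernel

theorem chk_pow3_3_5 : tab.minOKc [1, 2, 2, 0, 2, 2, 2] 3 228550 4571 = true := by decide +kernel

theorem chk_pow3_3_6 : tab.minOKc [1, 2, 2, 0, 2, 2, 2] 3 233121 4571 = true := by decide +kernel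

theorem chk_pow3_3_7 : tab.minOKc [1, 2, 2, 0, 2, 2, 2] 3 237692 4571 = true := by decide +kernel

theorem chk_pow3_3_8 : tab.minOKc [1, 2, 2, 0, 2, 2, 2] 3 242263 4571 = true := by decide +kernel

theorem chk_pow3_3_9 : tab.minOKc [1, 2, 2, 0, 2, 2, 2] 3 246834 4571 = true := by decide +kernel

theorem chk_pow3_3_10 : tab.minOKc [1, 2, 2, 0, 2, 2, 2] 3 251405 4571 = true := by decide +kernel

theorem chk_pow3_3_11 : tab.minOKc [1, 2, 2, 0, 2, 2, 2] 3 255976 4571 = true := by decide +kernel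

theorem chk_pow3_3_12 : tab.minOKc [1, 2, 2, 0, 2, 2, 2] 3 260547 4571 = true := by decide +kernel

theorem chk_pow3_3_13 : tab.minOKc [1, 2, 2, 0, 2, 2, 2] 3 265118 4571 = true := by decide +kernel

theorem chk_pow3_3_14 : tab.minOKc [1, 2, 2, 0, 2, 2, 2] 3 269689 4571 = true := by decide +kernel

theorem chk_pow3_3 : tab.minOKc [1, 2, 2, 0, 2, 2, 2] 3 205695 68565 = true := by
  refine tab.minOKc_of_chunks [1, 2, 2, 0, 2, 2, 2] 3 205695 4571 15 (by norm_num) ?_
  intro i hi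
  interval_cases i
  · exact chk_pow3_3_0
  · exact chk_pow3_3_1
  · exact chk_pow3_3_2
  · exact chk_pow3_3_3
  · exact chk_pow3_3_4
  · exact chk_pow3_3_5
  · exact chk_pow3_3_6
  · exact chk_pow3_3_7
  · exact chk_pow3_3_8
  · exact chk_pow3_3_9
  · exact chk_pow3_3_10
  · exact chk_pow3_3_11
  · exact chk_pow3_3_12
  · exact chk_pow3_3_13
  · exact chk_pow3_3_14

theorem chk_pow3_4_0 : tab.minOKc [1, 2, 2, 0, 2, 2, 2] 3 274260 4571 = true := by decide +kernel

theorem chk_pow3_4_1 : tab.minOKc [1, 2, 2, 0, 2, 2, 2] 3 278831 4571 = true := by decide +kernel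

theorem chk_pow3_4_2 : tab.minOKc [1, 2, 2, 0, 2, 2, 2] 3 283402 4571 = true := by decide +kernel

theorem chk_pow3_4_3 : tab.minOKc [1, 2, 2, 0, 2, 2, 2] 3 287973 4571 = true := by decide +kernel

theorem chk_pow3_4_4 : tab.minOKc [1, 2, 2, 0, 2, 2, 2] 3 292544 4571 = true := by decide +kernel

theorem chk_pow3_4_5 : tab.minOKc [1, 2, 2, 0, 2, 2, 2] 3 297115 4571 = true := by decide +kernel

theorem chk_pow3_4_6 : tab.minOKc [1, 2, 2, 0, 2, 2, 2] 3 301686 4571 = true := by decide +kernel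

theorem chk_pow3_4_7 : tab.minOKc [1, 2, 2, 0, 2, 2, 2] 3 306257 4571 = true := by decide +kernel

theorem chk_pow3_4_8 : tab.minOKc [1, 2, 2, 0, 2, 2, 2] 3 310828 4571 = true := by decide +kernel

theorem chk_pow3_4_9 : tab.minOKc [1, 2, 2, 0, 2, 2, 2] 3 315399 4571 = true := by decide +kernel

theorem chk_pow3_4_10 : tab.minOKc [1, 2, 2, 0, 2, 2, 2] 3 319970 4571 = true := by decide +kernel

theorem chk_pow3_4_11 : tab.minOKc [1, 2, 2, 0, 2, 2, 2] 3 324541 4571 = true := by decide +kernel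

theorem chk_pow3_4_12 : tab.minOKc [1, 2, 2, 0, 2, 2, 2] 3 329112 4571 = true := by decide +kernel

theorem chk_pow3_4_13 : tab.minOKc [1, 2, 2, 0, 2, 2, 2] 3 333683 4571 = true := by decide +kernel

theorem chk_pow3_4_14 : tab.minOKc [1, 2, 2, 0, 2, 2, 2] 3 338254 4571 = true := by decide +kernel

theorem chk_pow3_4 : tab.minOKc [1, 2, 2, 0, 2, 2, 2] 3 274260 68565 = true := by
  refine tab.minOKc_of_chunks [1, 2, 2, 0, 2, 2, 2] 3 274260 4571 15 (by norm_num) ?_
  intro i hi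
  interval_cases i
  · exact chk_pow3_4_0
  · exact chk_pow3_4_1
  · exact chk_pow3_4_2
  · exact chk_pow3_4_3
  · exact chk_pow3_4_4
  · exact chk_pow3_4_5
  · exact chk_pow3_4_6
  · exact chk_pow3_4_7
  · exact chk_pow3_4_8
  · exact chk_pow3_4_9
  · exact chk_pow3_4_10
  · exact chk_pow3_4_11
  · exact chk_pow3_4_12
  · exact chk_pow3_4_13
  · exact chk_pow3_4_14


end Cfsg.Agent.Lib.Lead.HNP.HNTC
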