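import Cfsg.Agent.Lib.Lead.HNP.HNTCData
import Cfsg.Agent.Lib.Helper6.TCRel3
import Cfsg.Agent.Lib.Lead.HNP.HNTCRel44

/-! # HNTC: the kernel check of a part of the relators on the coset table -/

set_option autoImplicit false

namespace Cfsg.Agent.Lib.Lead.HNP.HNTC

open Cfsg.Agent.Lib.Helper6.TC

theorem chk_pow8_38_0 : tab.minOKc [5, 2, 1, 3, 3, 1, 3, 1, 3, 4, 2, 0, 2, 0, 2, 2, 0, 3, 1, 1] 1 912000 1600 = true := by decide +kernel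

theorem chk_pow8_38_1 : tab.minOKc [5, 2, 1, 3, 3, 1, 3, 1, 3, 4, 2, 0, 2, 0, 2, 2, 0, 3, 1, 1] 1 913600 1600 = true := by decide +kernel

theorem chk_pow8_38_2 : tab.minOKc [5, 2, 1, 3, 3, 1, 3, 1, 3, 4, 2, 0, 2, 0, 2, 2, 0, 3, 1, 1] 1 915200 1600 = true := by decide +kernel

theorem chk_pow8_38_3 : tab.minOKc [5, 2, 1, 3, 3, 1, 3, 1, 3, 4, 2, 0, 2, 0, 2, 2, 0, 3, 1, 1] 1 916800 1600 = true := by decide +kernel

theorem chk_pow8_38_4 : tab.minOKc [5, 2, 1, 3, 3, 1, 3, 1, 3, 4, 2, 0, 2, 0, 2, 2, 0, 3, 1, 1] 1 918400 1600 = true := by decide +kernel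

theorem chk_pow8_38_5 : tab.minOKc [5, 2, 1, 3, 3, 1, 3, 1, 3, 4, 2, 0, 2, 0, 2, 2, 0, 3, 1, 1] 1 920000 1600 = true := by decide +kernel

theorem chk_pow8_38_6 : tab.minOKc [5, 2, 1, 3, 3, 1, 3, 1, 3, 4, 2, 0, 2, 0, 2, 2, 0, 3, 1, 1] 1 921600 1600 = true := by decide +kernel

theorem chk_pow8_38_7 : tab.minOKc [5, 2, 1, 3, 3, 1, 3, 1, 3, 4, 2, 0, 2, 0, 2, 2, 0, 3, 1, 1] 1 923200 1600 = true := by decide +kernel

theorem chk_pow8_38_8 : tab.minOKc [5, 2, 1, 3, 3, 1, 3, 1, 3, 4, 2, 0, 2, 0, 2, 2, 0, 3, 1, 1] 1 924800 1600 = true := by decide +kernel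

theorem chk_pow8_38_9 : tab.minOKc [5, 2, 1, 3, 3, 1, 3, 1, 3, 4, 2, 0, 2, 0, 2, 2, 0, 3, 1, 1] 1 926400 1600 = true := by decide +kernel

theorem chk_pow8_38_10 : tab.minOKc [5, 2, 1, 3, 3, 1, 3, 1, 3, 4, 2, 0, 2, 0, 2, 2, 0, 3, 1, 1] 1 928000 1600 = true := by decide +kernel

theorem chk_pow8_38_11 : tab.minOKc [5, 2, 1, 3, 3, 1, 3, 1, 3, 4, 2, 0, 2, 0, 2, 2, 0, 3, 1, 1] 1 929600 1600 = true := by decide +kernel

theorem chk_pow8_38_12 : tab.minOKc [5, 2, 1, 3, 3, 1, 3, 1, 3, 4, 2, 0, 2, 0, 2, 2, 0, 3, 1, 1] 1 931200 1600 = true := by decide +kernel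

theorem chk_pow8_38_13 : tab.minOKc [5, 2, 1, 3, 3, 1, 3, 1, 3, 4, 2, 0, 2, 0, 2, 2, 0, 3, 1, 1] 1 932800 1600 = true := by decide +kernel

theorem chk_pow8_38_14 : tab.minOKc [5, 2, 1, 3, 3, 1, 3, 1, 3, 4, 2, 0, 2, 0, 2, 2, 0, 3, 1, 1] 1 934400 1600 = true := by decide +kernel

theorem chk_pow8_38 : tab.minOKc [5, 2, 1, 3, 3, 1, 3, 1, 3, 4, 2, 0, 2, 0, 2, 2, 0, 3, 1, 1] 1 912000 24000 = true := by
  refine tab.minOKc_of_chunks [5, 2, 1, 3, 3, 1, 3, 1, 3, 4, 2, 0, 2, 0, 2, 2, 0, 3, 1, 1] 1 912000 1600 15 (by norm_num) ?_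
  intro i hi
  interval_cases i
  · exact chk_pow8_38_0
  · exact chk_pow8_38_1
  · exact chk_pow8_38_2
  · exact chk_pow8_38_3
  · exact chk_pow8_38_4
  · exact chk_pow8_38_5
  · exact chk_pow8_38_6
  · exact chk_pow8_38_7
  · exact chk_pow8_38_8
  · exact chk_pow8_38_9
  · exact chk_pow8_38_10
  · exact chk_pow8_38_11
  · exact chk_pow8_38_12
  · exact chk_pow8_38_13
  · exact chk_pow8_38_14

theorem chk_pow8_39_0 : tab.minOKc [5, 2, 1, 3, 3, 1, 3, 1, 3, 4, 2, 0, 2, 0, 2, 2, 0, 3, 1, 1] 1 936000 1600 = true := by decide +kernel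

theorem chk_pow8_39_1 : tab.minOKc [5, 2, 1, 3, 3, 1, 3, 1, 3, 4, 2, 0, 2, 0, 2, 2, 0, 3, 1, 1] 1 937600 1600 = true := by decide +kernel

theorem chk_pow8_39_2 : tab.minOKc [5, 2, 1, 3, 3, 1, 3, 1, 3, 4, 2, 0, 2, 0, 2, 2, 0, 3, 1, 1] 1 939200 1600 = true := by decide +kernel

theorem chk_pow8_39_3 : tab.minOKc [5, 2, 1, 3, 3, 1, 3, 1, 3, 4, 2, 0, 2, 0, 2, 2, 0, 3, 1, 1] 1 940800 1600 = true := by decide +kernel

theorem chk_pow8_39_4 : tab.minOKc [5, 2, 1, 3, 3, 1, 3, 1, 3, 4, 2, 0, 2, 0, 2, 2, 0, 3, 1, 1] 1 942400 1600 = true := by decide +kernel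

theorem chk_pow8_39_5 : tab.minOKc [5, 2, 1, 3, 3, 1, 3, 1, 3, 4, 2, 0, 2, 0, 2, 2, 0, 3, 1, 1] 1 944000 1600 = true := by decide +kernel

theorem chk_pow8_39_6 : tab.minOKc [5, 2, 1, 3, 3, 1, 3, 1, 3, 4, 2, 0, 2, 0, 2, 2, 0, 3, 1, 1] 1 945600 1600 = true := by decide +kernel

theorem chk_pow8_39_7 : tab.minOKc [5, 2, 1, 3, 3, 1, 3, 1, 3, 4, 2, 0, 2, 0, 2, 2, 0, 3, 1, 1] 1 947200 1600 = true := by decide +kernel

theorem chk_pow8_39_8 : tab.minOKc [5, 2, 1, 3, 3, 1, 3, 1, 3, 4, 2, 0, 2, 0, 2, 2, 0, 3, 1, 1] 1 948800 1600 = true := by decide +kernel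

theorem chk_pow8_39_9 : tab.minOKc [5, 2, 1, 3, 3, 1, 3, 1, 3, 4, 2, 0, 2, 0, 2, 2, 0, 3, 1, 1] 1 950400 1600 = true := by decide +kernel

theorem chk_pow8_39_10 : tab.minOKc [5, 2, 1, 3, 3, 1, 3, 1, 3, 4, 2, 0, 2, 0, 2, 2, 0, 3, 1, 1] 1 952000 1600 = true := by decide +kernel

theorem chk_pow8_39_11 : tab.minOKc [5, 2, 1, 3, 3, 1, 3, 1, 3, 4, 2, 0, 2, 0, 2, 2, 0, 3, 1, 1] 1 953600 1600 = true := by decide +kernel

theorem chk_pow8_39_12 : tab.minOKc [5, 2, 1, 3, 3, 1, 3, 1, 3, 4, 2, 0, 2, 0, 2, 2, 0, 3, 1, 1] 1 955200 1600 = true := by decide +kernel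

theorem chk_pow8_39_13 : tab.minOKc [5, 2, 1, 3, 3, 1, 3, 1, 3, 4, 2, 0, 2, 0, 2, 2, 0, 3, 1, 1] 1 956800 1600 = true := by decide +kernel

theorem chk_pow8_39_14 : tab.minOKc [5, 2, 1, 3, 3, 1, 3, 1, 3, 4, 2, 0, 2, 0, 2, 2, 0, 3, 1, 1] 1 958400 1600 = true := by decide +kernel

theorem chk_pow8_39 : tab.minOKc [5, 2, 1, 3, 3, 1, 3, 1, 3, 4, 2, 0, 2, 0, 2, 2, 0, 3, 1, 1] 1 936000 24000 = true := by
  refine tab.minOKc_of_chunks [5, 2, 1, 3, 3, 1, 3, 1, 3, 4, 2, 0, 2, 0, 2, 2, 0, 3, 1, 1] 1 936000 1600 15 (by norm_num) ?_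
  intro i hi
  interval_cases i
  · exact chk_pow8_39_0
  · exact chk_pow8_39_1
  · exact chk_pow8_39_2
  · exact chk_pow8_39_3
  · exact chk_pow8_39_4
  · exact chk_pow8_39_5
  · exact chk_pow8_39_6
  · exact chk_pow8_39_7
  · exact chk_pow8_39_8
  · exact chk_pow8_39_9
  · exact chk_pow8_39_10
  · exact chk_pow8_39_11
  · exact chk_pow8_39_12
  · exact chk_pow8_39_13
  · exact chk_pow8_39_14


end Cfsg.Agent.Lib.Lead.HNP.HNTC
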