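import Cfsg.Agent.Lib.Lead.HNP.HNTCSCert
import Cfsg.Agent.Lib.Lead.HNP.HNTCSRows1

/-! # HNTC: the kernel check of the rows from 287400 on -/

set_option autoImplicit false

namespace Cfsg.Agent.Lib.Lead.HNP.HNTC

open Cfsg.Agent.Lib.Helper6.TC Cfsg.Agent.Lib.Helper6.TCGS

theorem chk_rows25_0 : cert.rowsOK 287400 479 = true := by decide +kernel

theorem chk_rows25_1 : cert.rowsOK 287879 479 = true := by decide +kernel

theorem chk_rows25_2 : cert.rowsOK 288358 479 = true := by decide +kernel

theorem chk_rows25_3 : cert.rowsOK 288837 479 = true := by decide +kernel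

theorem chk_rows25_4 : cert.rowsOK 289316 479 = true := by decide +kernel

theorem chk_rows25_5 : cert.rowsOK 289795 479 = true := by decide +kernel

theorem chk_rows25_6 : cert.rowsOK 290274 479 = true := by decide +kernel

theorem chk_rows25_7 : cert.rowsOK 290753 479 = true := by decide +kernel

theorem chk_rows25_8 : cert.rowsOK 291232 479 = true := by decide +kernel

theorem chk_rows25_9 : cert.rowsOK 291711 479 = true := by decide +kernel

theorem chk_rows25_10 : cert.rowsOK 292190 479 = true := by decide +kernel

theorem chk_rows25_11 : cert.rowsOK 292669 479 = true := by decide +kernel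

theorem chk_rows25_12 : cert.rowsOK 293148 479 = true := by decide +kernel

theorem chk_rows25_13 : cert.rowsOK 293627 479 = true := by decide +kernel

theorem chk_rows25_14 : cert.rowsOK 294106 479 = true := by decide +kernel

theorem chk_rows25_15 : cert.rowsOK 294585 479 = true := by decide +kernel

theorem chk_rows25_16 : cert.rowsOK 295064 479 = true := by decide +kernel

theorem chk_rows25_17 : cert.rowsOK 295543 479 = true := by decide +kernel

theorem chk_rows25_18 : cert.rowsOK 296022 479 = true := by decide +kernel

theorem chk_rows25_19 : cert.rowsOK 296501 479 = true := by decide +kernel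

theorem chk_rows25_20 : cert.rowsOK 296980 479 = true := by decide +kernel

theorem chk_rows25_21 : cert.rowsOK 297459 479 = true := by decide +kernel

theorem chk_rows25_22 : cert.rowsOK 297938 479 = true := by decide +kernel

theorem chk_rows25_23 : cert.rowsOK 298417 479 = true := by decide +kernel

theorem chk_range25 : ∀ a, 287400 ≤ a → a < 298896 → ∀ x < cert.c.g, cert.slotOK a x = true := by
  refine cert.range_of_chunks 287400 479 24 (by norm_num) ?_
  intro k hk
  interval_cases k
  · exact chk_rows25_0
  · exact chk_rows25_1
  · exact chk_rows25_2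
  · exact chk_rows25_3
  · exact chk_rows25_4
  · exact chk_rows25_5
  · exact chk_rows25_6
  · exact chk_rows25_7
  · exact chk_rows25_8
  · exact chk_rows25_9
  · exact chk_rows25_10
  · exact chk_rows25_11
  · exact chk_rows25_12
  · exact chk_rows25_13
  · exact chk_rows25_14
  · exact chk_rows25_15
  · exact chk_rows25_16
  · exact chk_rows25_17
  · exact chk_rows25_18
  · exact chk_rows25_19
  · exact chk_rows25_20
  · exact chk_rows25_21
  · exact chk_rows25_22
  · exact chk_rows25_23

end Cfsg.Agent.Lib.Lead.HNP.HNTC
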