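import Cfsg.Agent.Lib.Lead.HNP.HNTCSCert
import Cfsg.Agent.Lib.Lead.HNP.HNTCSRows25

/-! # HNTC: the kernel check of the rows from 563304 on -/

set_option autoImplicit false

namespace Cfsg.Agent.Lib.Lead.HNP.HNTC

open Cfsg.Agent.Lib.Helper6.TC Cfsg.Agent.Lib.Helper6.TCGS

theorem chk_rows49_0 : cert.rowsOK 563304 479 = true := by decide +kernel

theorem chk_rows49_1 : cert.rowsOK 563783 479 = true := by decide +kernel

theorem chk_rows49_2 : cert.rowsOK 564262 479 = true := by decide +kernel

theorem chk_rows49_3 : cert.rowsOK 564741 479 = true := by decide +kernel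

theorem chk_rows49_4 : cert.rowsOK 565220 479 = true := by decide +kernel

theorem chk_rows49_5 : cert.rowsOK 565699 479 = true := by decide +kernel

theorem chk_rows49_6 : cert.rowsOK 566178 479 = true := by decide +kernel

theorem chk_rows49_7 : cert.rowsOK 566657 479 = true := by decide +kernel

theorem chk_rows49_8 : cert.rowsOK 567136 479 = true := by decide +kernel

theorem chk_rows49_9 : cert.rowsOK 567615 479 = true := by decide +kernel

theorem chk_rows49_10 : cert.rowsOK 568094 479 = true := by decide +kernel

theorem chk_rows49_11 : cert.rowsOK 568573 479 = true := by decide +kernel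

theorem chk_rows49_12 : cert.rowsOK 569052 479 = true := by decide +kernel

theorem chk_rows49_13 : cert.rowsOK 569531 479 = true := by decide +kernel

theorem chk_rows49_14 : cert.rowsOK 570010 479 = true := by decide +kernel

theorem chk_rows49_15 : cert.rowsOK 570489 479 = true := by decide +kernel

theorem chk_rows49_16 : cert.rowsOK 570968 479 = true := by decide +kernel

theorem chk_rows49_17 : cert.rowsOK 571447 479 = true := by decide +kernel

theorem chk_rows49_18 : cert.rowsOK 571926 479 = true := by decide +kernel

theorem chk_rows49_19 : cert.rowsOK 572405 479 = true := by decide +kernel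

theorem chk_rows49_20 : cert.rowsOK 572884 479 = true := by decide +kernel

theorem chk_rows49_21 : cert.rowsOK 573363 479 = true := by decide +kernel

theorem chk_rows49_22 : cert.rowsOK 573842 479 = true := by decide +kernel

theorem chk_rows49_23 : cert.rowsOK 574321 479 = true := by decide +kernel

theorem chk_range49 : ∀ a, 563304 ≤ a → a < 574800 → ∀ x < cert.c.g, cert.slotOK a x = true := by
  refine cert.range_of_chunks 563304 479 24 (by norm_num) ?_
  intro k hk
  interval_cases k
  · exact chk_rows49_0
  · exact chk_rows49_1
  · exact chk_rows49_2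
  · exact chk_rows49_3
  · exact chk_rows49_4
  · exact chk_rows49_5
  · exact chk_rows49_6
  · exact chk_rows49_7
  · exact chk_rows49_8
  · exact chk_rows49_9
  · exact chk_rows49_10
  · exact chk_rows49_11
  · exact chk_rows49_12
  · exact chk_rows49_13
  · exact chk_rows49_14
  · exact chk_rows49_15
  · exact chk_rows49_16
  · exact chk_rows49_17
  · exact chk_rows49_18
  · exact chk_rows49_19
  · exact chk_rows49_20
  · exact chk_rows49_21
  · exact chk_rows49_22
  · exact chk_rows49_23

end Cfsg.Agent.Lib.Lead.HNP.HNTC
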