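import Cfsg.Agent.Lib.Lead.HNP.HNTCSCert
import Cfsg.Agent.Lib.Lead.HNP.HNTCSRows49

/-! # HNTC: the kernel check of the rows from 839208 on -/

set_option autoImplicit false

namespace Cfsg.Agent.Lib.Lead.HNP.HNTC

open Cfsg.Agent.Lib.Helper6.TC Cfsg.Agent.Lib.Helper6.TCGS

theorem chk_rows73_0 : cert.rowsOK 839208 479 = true := by decide +kernel

theorem chk_rows73_1 : cert.rowsOK 839687 479 = true := by decide +kernel

theorem chk_rows73_2 : cert.rowsOK 840166 479 = true := by decide +kernel

theorem chk_rows73_3 : cert.rowsOK 840645 479 = true := by decide +kernel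

theorem chk_rows73_4 : cert.rowsOK 841124 479 = true := by decide +kernel

theorem chk_rows73_5 : cert.rowsOK 841603 479 = true := by decide +kernel

theorem chk_rows73_6 : cert.rowsOK 842082 479 = true := by decide +kernel

theorem chk_rows73_7 : cert.rowsOK 842561 479 = true := by decide +kernel

theorem chk_rows73_8 : cert.rowsOK 843040 479 = true := by decide +kernel

theorem chk_rows73_9 : cert.rowsOK 843519 479 = true := by decide +kernel

theorem chk_rows73_10 : cert.rowsOK 843998 479 = true := by decide +kernel

theorem chk_rows73_11 : cert.rowsOK 844477 479 = true := by decide +kernel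

theorem chk_rows73_12 : cert.rowsOK 844956 479 = true := by decide +kernel

theorem chk_rows73_13 : cert.rowsOK 845435 479 = true := by decide +kernel

theorem chk_rows73_14 : cert.rowsOK 845914 479 = true := by decide +kernel

theorem chk_rows73_15 : cert.rowsOK 846393 479 = true := by decide +kernel

theorem chk_rows73_16 : cert.rowsOK 846872 479 = true := by decide +kernel

theorem chk_rows73_17 : cert.rowsOK 847351 479 = true := by decide +kernel

theorem chk_rows73_18 : cert.rowsOK 847830 479 = true := by decide +kernel

theorem chk_rows73_19 : cert.rowsOK 848309 479 = true := by decide +kernel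

theorem chk_rows73_20 : cert.rowsOK 848788 479 = true := by decide +kernel

theorem chk_rows73_21 : cert.rowsOK 849267 479 = true := by decide +kernel

theorem chk_rows73_22 : cert.rowsOK 849746 479 = true := by decide +kernel

theorem chk_rows73_23 : cert.rowsOK 850225 479 = true := by decide +kernel

theorem chk_range73 : ∀ a, 839208 ≤ a → a < 850704 → ∀ x < cert.c.g, cert.slotOK a x = true := by
  refine cert.range_of_chunks 839208 479 24 (by norm_num) ?_
  intro k hk
  interval_cases k
  · exact chk_rows73_0
  · exact chk_rows73_1
  · exact chk_rows73_2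
  · exact chk_rows73_3
  · exact chk_rows73_4
  · exact chk_rows73_5
  · exact chk_rows73_6
  · exact chk_rows73_7
  · exact chk_rows73_8
  · exact chk_rows73_9
  · exact chk_rows73_10
  · exact chk_rows73_11
  · exact chk_rows73_12
  · exact chk_rows73_13
  · exact chk_rows73_14
  · exact chk_rows73_15
  · exact chk_rows73_16
  · exact chk_rows73_17
  · exact chk_rows73_18
  · exact chk_rows73_19
  · exact chk_rows73_20
  · exact chk_rows73_21
  · exact chk_rows73_22
  · exact chk_rows73_23

end Cfsg.Agent.Lib.Lead.HNP.HNTC
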