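import Cfsg.Agent.Lib.Lead.HNP.HNTCSCert
import Cfsg.Agent.Lib.Lead.HNP.HNTCSRows73

/-! # HNTC: the kernel check of the rows from 1115112 on -/

set_option autoImplicit false

namespace Cfsg.Agent.Lib.Lead.HNP.HNTC

open Cfsg.Agent.Lib.Helper6.TC Cfsg.Agent.Lib.Helper6.TCGS

theorem chk_rows97_0 : cert.rowsOK 1115112 479 = true := by decide +kernel

theorem chk_rows97_1 : cert.rowsOK 1115591 479 = true := by decide +kernel

theorem chk_rows97_2 : cert.rowsOK 1116070 479 = true := by decide +kernel

theorem chk_rows97_3 : cert.rowsOK 1116549 479 = true := by decide +kernel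

theorem chk_rows97_4 : cert.rowsOK 1117028 479 = true := by decide +kernel

theorem chk_rows97_5 : cert.rowsOK 1117507 479 = true := by decide +kernel

theorem chk_rows97_6 : cert.rowsOK 1117986 479 = true := by decide +kernel

theorem chk_rows97_7 : cert.rowsOK 1118465 479 = true := by decide +kernel

theorem chk_rows97_8 : cert.rowsOK 1118944 479 = true := by decide +kernel

theorem chk_rows97_9 : cert.rowsOK 1119423 479 = true := by decide +kernel

theorem chk_rows97_10 : cert.rowsOK 1119902 479 = true := by decide +kernel

theorem chk_rows97_11 : cert.rowsOK 1120381 479 = true := by decide +kernel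

theorem chk_rows97_12 : cert.rowsOK 1120860 479 = true := by decide +kernel

theorem chk_rows97_13 : cert.rowsOK 1121339 479 = true := by decide +kernel

theorem chk_rows97_14 : cert.rowsOK 1121818 479 = true := by decide +kernel

theorem chk_rows97_15 : cert.rowsOK 1122297 479 = true := by decide +kernel

theorem chk_rows97_16 : cert.rowsOK 1122776 479 = true := by decide +kernel

theorem chk_rows97_17 : cert.rowsOK 1123255 479 = true := by decide +kernel

theorem chk_rows97_18 : cert.rowsOK 1123734 479 = true := by decide +kernel

theorem chk_rows97_19 : cert.rowsOK 1124213 479 = true := by decide +kernel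

theorem chk_rows97_20 : cert.rowsOK 1124692 479 = true := by decide +kernel

theorem chk_rows97_21 : cert.rowsOK 1125171 479 = true := by decide +kernel

theorem chk_rows97_22 : cert.rowsOK 1125650 479 = true := by decide +kernel

theorem chk_rows97_23 : cert.rowsOK 1126129 479 = true := by decide +kernel

theorem chk_range97 : ∀ a, 1115112 ≤ a → a < 1126608 → ∀ x < cert.c.g, cert.slotOK a x = true := by
  refine cert.range_of_chunks 1115112 479 24 (by norm_num) ?_
  intro k hk
  interval_cases k
  · exact chk_rows97_0
  · exact chk_rows97_1
  · exact chk_rows97_2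
  · exact chk_rows97_3
  · exact chk_rows97_4
  · exact chk_rows97_5
  · exact chk_rows97_6
  · exact chk_rows97_7
  · exact chk_rows97_8
  · exact chk_rows97_9
  · exact chk_rows97_10
  · exact chk_rows97_11
  · exact chk_rows97_12
  · exact chk_rows97_13
  · exact chk_rows97_14
  · exact chk_rows97_15
  · exact chk_rows97_16
  · exact chk_rows97_17
  · exact chk_rows97_18
  · exact chk_rows97_19
  · exact chk_rows97_20
  · exact chk_rows97_21
  · exact chk_rows97_22
  · exact chk_rows97_23

end Cfsg.Agent.Lib.Lead.HNP.HNTC
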