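import Cfsg.Agent.Lib.Lead.HNP.HNTCSCert
import Cfsg.Agent.Lib.Lead.HNP.HNTCSRows97

/-! # HNTC: the kernel check of the rows from 1391016 on -/

set_option autoImplicit false

namespace Cfsg.Agent.Lib.Lead.HNP.HNTC

open Cfsg.Agent.Lib.Helper6.TC Cfsg.Agent.Lib.Helper6.TCGS

theorem chk_rows121_0 : cert.rowsOK 1391016 479 = true := by decide +kernel

theorem chk_rows121_1 : cert.rowsOK 1391495 479 = true := by decide +kernel

theorem chk_rows121_2 : cert.rowsOK 1391974 479 = true := by decide +kernel

theorem chk_rows121_3 : cert.rowsOK 1392453 479 = true := by decide +kernel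

theorem chk_rows121_4 : cert.rowsOK 1392932 479 = true := by decide +kernel

theorem chk_rows121_5 : cert.rowsOK 1393411 479 = true := by decide +kernel

theorem chk_rows121_6 : cert.rowsOK 1393890 479 = true := by decide +kernel

theorem chk_rows121_7 : cert.rowsOK 1394369 479 = true := by decide +kernel

theorem chk_rows121_8 : cert.rowsOK 1394848 479 = true := by decide +kernel

theorem chk_rows121_9 : cert.rowsOK 1395327 479 = true := by decide +kernel

theorem chk_rows121_10 : cert.rowsOK 1395806 479 = true := by decide +kernel

theorem chk_rows121_11 : cert.rowsOK 1396285 479 = true := by decide +kernel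

theorem chk_rows121_12 : cert.rowsOK 1396764 479 = true := by decide +kernel

theorem chk_rows121_13 : cert.rowsOK 1397243 479 = true := by decide +kernel

theorem chk_rows121_14 : cert.rowsOK 1397722 479 = true := by decide +kernel

theorem chk_rows121_15 : cert.rowsOK 1398201 479 = true := by decide +kernel

theorem chk_rows121_16 : cert.rowsOK 1398680 479 = true := by decide +kernel

theorem chk_rows121_17 : cert.rowsOK 1399159 479 = true := by decide +kernel

theorem chk_rows121_18 : cert.rowsOK 1399638 479 = true := by decide +kernel

theorem chk_rows121_19 : cert.rowsOK 1400117 479 = true := by decide +kernel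

theorem chk_rows121_20 : cert.rowsOK 1400596 479 = true := by decide +kernel

theorem chk_rows121_21 : cert.rowsOK 1401075 479 = true := by decide +kernel

theorem chk_rows121_22 : cert.rowsOK 1401554 479 = true := by decide +kernel

theorem chk_rows121_23 : cert.rowsOK 1402033 479 = true := by decide +kernel

theorem chk_range121 : ∀ a, 1391016 ≤ a → a < 1402512 → ∀ x < cert.c.g, cert.slotOK a x = true := by
  refine cert.range_of_chunks 1391016 479 24 (by norm_num) ?_
  intro k hk
  interval_cases k
  · exact chk_rows121_0
  · exact chk_rows121_1
  · exact chk_rows121_2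
  · exact chk_rows121_3
  · exact chk_rows121_4
  · exact chk_rows121_5
  · exact chk_rows121_6
  · exact chk_rows121_7
  · exact chk_rows121_8
  · exact chk_rows121_9
  · exact chk_rows121_10
  · exact chk_rows121_11
  · exact chk_rows121_12
  · exact chk_rows121_13
  · exact chk_rows121_14
  · exact chk_rows121_15
  · exact chk_rows121_16
  · exact chk_rows121_17
  · exact chk_rows121_18
  · exact chk_rows121_19
  · exact chk_rows121_20
  · exact chk_rows121_21
  · exact chk_rows121_22
  · exact chk_rows121_23

end Cfsg.Agent.Lib.Lead.HNP.HNTC
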