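import Cfsg.Agent.Lib.Lead.HNP.HNTCSCert
import Cfsg.Agent.Lib.Helper6.TCGIndex
import Cfsg.Agent.Lib.Lead.HNP.HNTCSRows121

/-! # HNTC: the kernel check that the first rows are closed, part 11 -/

set_option autoImplicit false

namespace Cfsg.Agent.Lib.Lead.HNP.HNTC

open Cfsg.Agent.Lib.Helper6.TC Cfsg.Agent.Lib.Helper6.TCGS

theorem chk_fin99 : cert.finalOKc 1539000 198000 2000 = true := by decide +kernel

theorem chk_fin100 : cert.finalOKc 1539000 200000 2000 = true := by decide +kernel

theorem chk_fin101 : cert.finalOKc 1539000 202000 2000 = true := by decide +kernel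

theorem chk_fin102 : cert.finalOKc 1539000 204000 2000 = true := by decide +kernel

theorem chk_fin103 : cert.finalOKc 1539000 206000 2000 = true := by decide +kernel

theorem chk_fin104 : cert.finalOKc 1539000 208000 2000 = true := by decide +kernel

theorem chk_fin105 : cert.finalOKc 1539000 210000 2000 = true := by decide +kernel

theorem chk_fin106 : cert.finalOKc 1539000 212000 2000 = true := by decide +kernel

theorem chk_fin107 : cert.finalOKc 1539000 214000 2000 = true := by decide +kernel


end Cfsg.Agent.Lib.Lead.HNP.HNTC
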