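import Cfsg.Agent.Lib.Lead.HNP.HNTCSCert
import Cfsg.Agent.Lib.Helper6.TCGIndex
import Cfsg.Agent.Lib.Lead.HNP.HNTCSFin11

/-! # HNTC: the kernel check that the first rows are closed, part 35 -/

set_option autoImplicit false

namespace Cfsg.Agent.Lib.Lead.HNP.HNTC

open Cfsg.Agent.Lib.Helper6.TC Cfsg.Agent.Lib.Helper6.TCGS

theorem chk_fin315 : cert.finalOKc 1539000 630000 2000 = true := by decide +kernel

theorem chk_fin316 : cert.finalOKc 1539000 632000 2000 = true := by decide +kernel

theorem chk_fin317 : cert.finalOKc 1539000 634000 2000 = true := by decide +kernel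

theorem chk_fin318 : cert.finalOKc 1539000 636000 2000 = true := by decide +kernel

theorem chk_fin319 : cert.finalOKc 1539000 638000 2000 = true := by decide +kernel

theorem chk_fin320 : cert.finalOKc 1539000 640000 2000 = true := by decide +kernel

theorem chk_fin321 : cert.finalOKc 1539000 642000 2000 = true := by decide +kernel

theorem chk_fin322 : cert.finalOKc 1539000 644000 2000 = true := by decide +kernel

theorem chk_fin323 : cert.finalOKc 1539000 646000 2000 = true := by decide +kernel


end Cfsg.Agent.Lib.Lead.HNP.HNTC
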