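import Cfsg.Agent.Lib.Lead.HNP.HNTCSCert
import Cfsg.Agent.Lib.Helper6.TCGIndex
import Cfsg.Agent.Lib.Lead.HNP.HNTCSFin35

/-! # HNTC: the kernel check that the first rows are closed, part 59 -/

set_option autoImplicit false

namespace Cfsg.Agent.Lib.Lead.HNP.HNTC

open Cfsg.Agent.Lib.Helper6.TC Cfsg.Agent.Lib.Helper6.TCGS

theorem chk_fin531 : cert.finalOKc 1539000 1062000 2000 = true := by decide +kernel

theorem chk_fin532 : cert.finalOKc 1539000 1064000 2000 = true := by decide +kernel

theorem chk_fin533 : cert.finalOKc 1539000 1066000 2000 = true := by decide +kernel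

theorem chk_fin534 : cert.finalOKc 1539000 1068000 2000 = true := by decide +kernel

theorem chk_fin535 : cert.finalOKc 1539000 1070000 2000 = true := by decide +kernel

theorem chk_fin536 : cert.finalOKc 1539000 1072000 2000 = true := by decide +kernel

theorem chk_fin537 : cert.finalOKc 1539000 1074000 2000 = true := by decide +kernel

theorem chk_fin538 : cert.finalOKc 1539000 1076000 2000 = true := by decide +kernel

theorem chk_fin539 : cert.finalOKc 1539000 1078000 2000 = true := by decide +kernel


end Cfsg.Agent.Lib.Lead.HNP.HNTC
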