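import Cfsg.Agent.Lib.Lead.HNP.HNTCSCert
import Cfsg.Agent.Lib.Helper6.TCGIndex
import Cfsg.Agent.Lib.Lead.HNP.HNTCSFin59

/-! # HNTC: the kernel check that the first rows are closed, part 83 -/

set_option autoImplicit false

namespace Cfsg.Agent.Lib.Lead.HNP.HNTC

open Cfsg.Agent.Lib.Helper6.TC Cfsg.Agent.Lib.Helper6.TCGS

theorem chk_fin747 : cert.finalOKc 1539000 1494000 2000 = true := by decide +kernel

theorem chk_fin748 : cert.finalOKc 1539000 1496000 2000 = true := by decide +kernel

theorem chk_fin749 : cert.finalOKc 1539000 1498000 2000 = true := by decide +kernel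

theorem chk_fin750 : cert.finalOKc 1539000 1500000 2000 = true := by decide +kernel

theorem chk_fin751 : cert.finalOKc 1539000 1502000 2000 = true := by decide +kernel

theorem chk_fin752 : cert.finalOKc 1539000 1504000 2000 = true := by decide +kernel

theorem chk_fin753 : cert.finalOKc 1539000 1506000 2000 = true := by decide +kernel

theorem chk_fin754 : cert.finalOKc 1539000 1508000 2000 = true := by decide +kernel

theorem chk_fin755 : cert.finalOKc 1539000 1510000 2000 = true := by decide +kernel


end Cfsg.Agent.Lib.Lead.HNP.HNTC
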