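import Cfsg.Agent.Lib.Lead.HNP.HNTCData
import Cfsg.Agent.Lib.Helper6.TCRel3
import Cfsg.Agent.Lib.Lead.HNP.HNTCSFin83

/-! # HNTC: the kernel check of a part of the relators on the coset table -/

set_option autoImplicit false

namespace Cfsg.Agent.Lib.Lead.HNP.HNTC

open Cfsg.Agent.Lib.Helper6.TC

theorem chk_pow3_5_0 : tab.minOKc [1, 2, 2, 0, 2, 2, 2] 3 342825 4571 = true := by decide +kernel

theorem chk_pow3_5_1 : tab.minOKc [1, 2, 2, 0, 2, 2, 2] 3 347396 4571 = true := by decide +kernel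

theorem chk_pow3_5_2 : tab.minOKc [1, 2, 2, 0, 2, 2, 2] 3 351967 4571 = true := by decide +kernel

theorem chk_pow3_5_3 : tab.minOKc [1, 2, 2, 0, 2, 2, 2] 3 356538 4571 = true := by decide +kernel

theorem chk_pow3_5_4 : tab.minOKc [1, 2, 2, 0, 2, 2, 2] 3 361109 4571 = true := by decide +kernel

theorem chk_pow3_5_5 : tab.minOKc [1, 2, 2, 0, 2, 2, 2] 3 365680 4571 = true := by decide +kernel

theorem chk_pow3_5_6 : tab.minOKc [1, 2, 2, 0, 2, 2, 2] 3 370251 4571 = true := by decide +kernel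

theorem chk_pow3_5_7 : tab.minOKc [1, 2, 2, 0, 2, 2, 2] 3 374822 4571 = true := by decide +kernel

theorem chk_pow3_5_8 : tab.minOKc [1, 2, 2, 0, 2, 2, 2] 3 379393 4571 = true := by decide +kernel

theorem chk_pow3_5_9 : tab.minOKc [1, 2, 2, 0, 2, 2, 2] 3 383964 4571 = true := by decide +kernel

theorem chk_pow3_5_10 : tab.minOKc [1, 2, 2, 0, 2, 2, 2] 3 388535 4571 = true := by decide +kernel

theorem chk_pow3_5_11 : tab.minOKc [1, 2, 2, 0, 2, 2, 2] 3 393106 4571 = true := by decide +kernel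

theorem chk_pow3_5_12 : tab.minOKc [1, 2, 2, 0, 2, 2, 2] 3 397677 4571 = true := by decide +kernel

theorem chk_pow3_5_13 : tab.minOKc [1, 2, 2, 0, 2, 2, 2] 3 402248 4571 = true := by decide +kernel

theorem chk_pow3_5_14 : tab.minOKc [1, 2, 2, 0, 2, 2, 2] 3 406819 4571 = true := by decide +kernel

theorem chk_pow3_5 : tab.minOKc [1, 2, 2, 0, 2, 2, 2] 3 342825 68565 = true := by
  refine tab.minOKc_of_chunks [1, 2, 2, 0, 2, 2, 2] 3 342825 4571 15 (by norm_num) ?_
  intro i hi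
  interval_cases i
  · exact chk_pow3_5_0
  · exact chk_pow3_5_1
  · exact chk_pow3_5_2
  · exact chk_pow3_5_3
  · exact chk_pow3_5_4
  · exact chk_pow3_5_5
  · exact chk_pow3_5_6
  · exact chk_pow3_5_7
  · exact chk_pow3_5_8
  · exact chk_pow3_5_9
  · exact chk_pow3_5_10
  · exact chk_pow3_5_11
  · exact chk_pow3_5_12
  · exact chk_pow3_5_13
  · exact chk_pow3_5_14

theorem chk_pow3_6_0 : tab.minOKc [1, 2, 2, 0, 2, 2, 2] 3 411390 4571 = true := by decide +kernel

theorem chk_pow3_6_1 : tab.minOKc [1, 2, 2, 0, 2, 2, 2] 3 415961 4571 = true := by decide +kernel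

theorem chk_pow3_6_2 : tab.minOKc [1, 2, 2, 0, 2, 2, 2] 3 420532 4571 = true := by decide +kernel

theorem chk_pow3_6_3 : tab.minOKc [1, 2, 2, 0, 2, 2, 2] 3 425103 4571 = true := by decide +kernel

theorem chk_pow3_6_4 : tab.minOKc [1, 2, 2, 0, 2, 2, 2] 3 429674 4571 = true := by decide +kernel

theorem chk_pow3_6_5 : tab.minOKc [1, 2, 2, 0, 2, 2, 2] 3 434245 4571 = true := by decide +kernel

theorem chk_pow3_6_6 : tab.minOKc [1, 2, 2, 0, 2, 2, 2] 3 438816 4571 = true := by decide +kernel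

theorem chk_pow3_6_7 : tab.minOKc [1, 2, 2, 0, 2, 2, 2] 3 443387 4571 = true := by decide +kernel

theorem chk_pow3_6_8 : tab.minOKc [1, 2, 2, 0, 2, 2, 2] 3 447958 4571 = true := by decide +kernel

theorem chk_pow3_6_9 : tab.minOKc [1, 2, 2, 0, 2, 2, 2] 3 452529 4571 = true := by decide +kernel

theorem chk_pow3_6_10 : tab.minOKc [1, 2, 2, 0, 2, 2, 2] 3 457100 4571 = true := by decide +kernel

theorem chk_pow3_6_11 : tab.minOKc [1, 2, 2, 0, 2, 2, 2] 3 461671 4571 = true := by decide +kernel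

theorem chk_pow3_6_12 : tab.minOKc [1, 2, 2, 0, 2, 2, 2] 3 466242 4571 = true := by decide +kernel

theorem chk_pow3_6_13 : tab.minOKc [1, 2, 2, 0, 2, 2, 2] 3 470813 4571 = true := by decide +kernel

theorem chk_pow3_6_14 : tab.minOKc [1, 2, 2, 0, 2, 2, 2] 3 475384 4571 = true := by decide +kernel

theorem chk_pow3_6 : tab.minOKc [1, 2, 2, 0, 2, 2, 2] 3 411390 68565 = true := by
  refine tab.minOKc_of_chunks [1, 2, 2, 0, 2, 2, 2] 3 411390 4571 15 (by norm_num) ?_
  intro i hi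
  interval_cases i
  · exact chk_pow3_6_0
  · exact chk_pow3_6_1
  · exact chk_pow3_6_2
  · exact chk_pow3_6_3
  · exact chk_pow3_6_4
  · exact chk_pow3_6_5
  · exact chk_pow3_6_6
  · exact chk_pow3_6_7
  · exact chk_pow3_6_8
  · exact chk_pow3_6_9
  · exact chk_pow3_6_10
  · exact chk_pow3_6_11
  · exact chk_pow3_6_12
  · exact chk_pow3_6_13
  · exact chk_pow3_6_14


end Cfsg.Agent.Lib.Lead.HNP.HNTC
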