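import Cfsg.Agent.Lib.Lead.HNP.HNTCData
import Cfsg.Agent.Lib.Helper6.TCRel3
import Cfsg.Agent.Lib.Lead.HNP.HNTCRel21

/-! # HNTC: the kernel check of a part of the relators on the coset table -/

set_option autoImplicit false

namespace Cfsg.Agent.Lib.Lead.HNP.HNTC

open Cfsg.Agent.Lib.Helper6.TC

theorem chk_pow6_3_0 : tab.minOKc [4] 2 1440000 32000 = true := by decide +kernel

theorem chk_pow6_3_1 : tab.minOKc [4] 2 1472000 32000 = true := by decide +kernel

theorem chk_pow6_3_2 : tab.minOKc [4] 2 1504000 32000 = true := by decide +kernel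

theorem chk_pow6_3_3 : tab.minOKc [4] 2 1536000 32000 = true := by decide +kernel

theorem chk_pow6_3_4 : tab.minOKc [4] 2 1568000 32000 = true := by decide +kernel

theorem chk_pow6_3_5 : tab.minOKc [4] 2 1600000 32000 = true := by decide +kernel

theorem chk_pow6_3_6 : tab.minOKc [4] 2 1632000 32000 = true := by decide +kernel

theorem chk_pow6_3_7 : tab.minOKc [4] 2 1664000 32000 = true := by decide +kernel

theorem chk_pow6_3_8 : tab.minOKc [4] 2 1696000 32000 = true := by decide +kernel

theorem chk_pow6_3_9 : tab.minOKc [4] 2 1728000 32000 = true := by decide +kernel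

theorem chk_pow6_3_10 : tab.minOKc [4] 2 1760000 32000 = true := by decide +kernel

theorem chk_pow6_3_11 : tab.minOKc [4] 2 1792000 32000 = true := by decide +kernel

theorem chk_pow6_3_12 : tab.minOKc [4] 2 1824000 32000 = true := by decide +kernel

theorem chk_pow6_3_13 : tab.minOKc [4] 2 1856000 32000 = true := by decide +kernel

theorem chk_pow6_3_14 : tab.minOKc [4] 2 1888000 32000 = true := by decide +kernel

theorem chk_pow6_3 : tab.minOKc [4] 2 1440000 480000 = true := by
  refine tab.minOKc_of_chunks [4] 2 1440000 32000 15 (by norm_num) ?_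
  intro i hi
  interval_cases i
  · exact chk_pow6_3_0
  · exact chk_pow6_3_1
  · exact chk_pow6_3_2
  · exact chk_pow6_3_3
  · exact chk_pow6_3_4
  · exact chk_pow6_3_5
  · exact chk_pow6_3_6
  · exact chk_pow6_3_7
  · exact chk_pow6_3_8
  · exact chk_pow6_3_9
  · exact chk_pow6_3_10
  · exact chk_pow6_3_11
  · exact chk_pow6_3_12
  · exact chk_pow6_3_13
  · exact chk_pow6_3_14

theorem chk_pow7_0_0 : tab.minOKc [4, 0] 2 0 16000 = true := by decide +kernel

theorem chk_pow7_0_1 : tab.minOKc [4, 0] 2 16000 16000 = true := by decide +kernel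

theorem chk_pow7_0_2 : tab.minOKc [4, 0] 2 32000 16000 = true := by decide +kernel

theorem chk_pow7_0_3 : tab.minOKc [4, 0] 2 48000 16000 = true := by decide +kernel

theorem chk_pow7_0_4 : tab.minOKc [4, 0] 2 64000 16000 = true := by decide +kernel

theorem chk_pow7_0_5 : tab.minOKc [4, 0] 2 80000 16000 = true := by decide +kernel

theorem chk_pow7_0_6 : tab.minOKc [4, 0] 2 96000 16000 = true := by decide +kernel

theorem chk_pow7_0_7 : tab.minOKc [4, 0] 2 112000 16000 = true := by decide +kernel

theorem chk_pow7_0_8 : tab.minOKc [4, 0] 2 128000 16000 = true := by decide +kernel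

theorem chk_pow7_0_9 : tab.minOKc [4, 0] 2 144000 16000 = true := by decide +kernel

theorem chk_pow7_0_10 : tab.minOKc [4, 0] 2 160000 16000 = true := by decide +kernel

theorem chk_pow7_0_11 : tab.minOKc [4, 0] 2 176000 16000 = true := by decide +kernel

theorem chk_pow7_0_12 : tab.minOKc [4, 0] 2 192000 16000 = true := by decide +kernel

theorem chk_pow7_0_13 : tab.minOKc [4, 0] 2 208000 16000 = true := by decide +kernel

theorem chk_pow7_0_14 : tab.minOKc [4, 0] 2 224000 16000 = true := by decide +kernel

theorem chk_pow7_0 : tab.minOKc [4, 0] 2 0 240000 = true := by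
  refine tab.minOKc_of_chunks [4, 0] 2 0 16000 15 (by norm_num) ?_
  intro i hi
  interval_cases i
  · exact chk_pow7_0_0
  · exact chk_pow7_0_1
  · exact chk_pow7_0_2
  · exact chk_pow7_0_3
  · exact chk_pow7_0_4
  · exact chk_pow7_0_5
  · exact chk_pow7_0_6
  · exact chk_pow7_0_7
  · exact chk_pow7_0_8
  · exact chk_pow7_0_9
  · exact chk_pow7_0_10
  · exact chk_pow7_0_11
  · exact chk_pow7_0_12
  · exact chk_pow7_0_13
  · exact chk_pow7_0_14


end Cfsg.Agent.Lib.Lead.HNP.HNTC
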