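import Cfsg.Agent.Lib.Lead.HNP.HNTCData
import Cfsg.Agent.Lib.Helper6.TCRel3
import Cfsg.Agent.Lib.Lead.HNP.HNTCRel45

/-! # HNTC: the kernel check of a part of the relators on the coset table -/

set_option autoImplicit false

namespace Cfsg.Agent.Lib.Lead.HNP.HNTC

open Cfsg.Agent.Lib.Helper6.TC

theorem chk_pow8_40_0 : tab.minOKc [5, 2, 1, 3, 3, 1, 3, 1, 3, 4, 2, 0, 2, 0, 2, 2, 0, 3, 1, 1] 1 960000 1600 = true := by decide +kernel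

theorem chk_pow8_40_1 : tab.minOKc [5, 2, 1, 3, 3, 1, 3, 1, 3, 4, 2, 0, 2, 0, 2, 2, 0, 3, 1, 1] 1 961600 1600 = true := by decide +kernel

theorem chk_pow8_40_2 : tab.minOKc [5, 2, 1, 3, 3, 1, 3, 1, 3, 4, 2, 0, 2, 0, 2, 2, 0, 3, 1, 1] 1 963200 1600 = true := by decide +kernel

theorem chk_pow8_40_3 : tab.minOKc [5, 2, 1, 3, 3, 1, 3, 1, 3, 4, 2, 0, 2, 0, 2, 2, 0, 3, 1, 1] 1 964800 1600 = true := by decide +kernel

theorem chk_pow8_40_4 : tab.minOKc [5, 2, 1, 3, 3, 1, 3, 1, 3, 4, 2, 0, 2, 0, 2, 2, 0, 3, 1, 1] 1 966400 1600 = true := by decide +kernel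

theorem chk_pow8_40_5 : tab.minOKc [5, 2, 1, 3, 3, 1, 3, 1, 3, 4, 2, 0, 2, 0, 2, 2, 0, 3, 1, 1] 1 968000 1600 = true := by decide +kernel

theorem chk_pow8_40_6 : tab.minOKc [5, 2, 1, 3, 3, 1, 3, 1, 3, 4, 2, 0, 2, 0, 2, 2, 0, 3, 1, 1] 1 969600 1600 = true := by decide +kernel

theorem chk_pow8_40_7 : tab.minOKc [5, 2, 1, 3, 3, 1, 3, 1, 3, 4, 2, 0, 2, 0, 2, 2, 0, 3, 1, 1] 1 971200 1600 = true := by decide +kernel

theorem chk_pow8_40_8 : tab.minOKc [5, 2, 1, 3, 3, 1, 3, 1, 3, 4, 2, 0, 2, 0, 2, 2, 0, 3, 1, 1] 1 972800 1600 = true := by decide +kernel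

theorem chk_pow8_40_9 : tab.minOKc [5, 2, 1, 3, 3, 1, 3, 1, 3, 4, 2, 0, 2, 0, 2, 2, 0, 3, 1, 1] 1 974400 1600 = true := by decide +kernel

theorem chk_pow8_40_10 : tab.minOKc [5, 2, 1, 3, 3, 1, 3, 1, 3, 4, 2, 0, 2, 0, 2, 2, 0, 3, 1, 1] 1 976000 1600 = true := by decide +kernel

theorem chk_pow8_40_11 : tab.minOKc [5, 2, 1, 3, 3, 1, 3, 1, 3, 4, 2, 0, 2, 0, 2, 2, 0, 3, 1, 1] 1 977600 1600 = true := by decide +kernel

theorem chk_pow8_40_12 : tab.minOKc [5, 2, 1, 3, 3, 1, 3, 1, 3, 4, 2, 0, 2, 0, 2, 2, 0, 3, 1, 1] 1 979200 1600 = true := by decide +kernel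

theorem chk_pow8_40_13 : tab.minOKc [5, 2, 1, 3, 3, 1, 3, 1, 3, 4, 2, 0, 2, 0, 2, 2, 0, 3, 1, 1] 1 980800 1600 = true := by decide +kernel

theorem chk_pow8_40_14 : tab.minOKc [5, 2, 1, 3, 3, 1, 3, 1, 3, 4, 2, 0, 2, 0, 2, 2, 0, 3, 1, 1] 1 982400 1600 = true := by decide +kernel

theorem chk_pow8_40 : tab.minOKc [5, 2, 1, 3, 3, 1, 3, 1, 3, 4, 2, 0, 2, 0, 2, 2, 0, 3, 1, 1] 1 960000 24000 = true := by
  refine tab.minOKc_of_chunks [5, 2, 1, 3, 3, 1, 3, 1, 3, 4, 2, 0, 2, 0, 2, 2, 0, 3, 1, 1] 1 960000 1600 15 (by norm_num) ?_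
  intro i hi
  interval_cases i
  · exact chk_pow8_40_0
  · exact chk_pow8_40_1
  · exact chk_pow8_40_2
  · exact chk_pow8_40_3
  · exact chk_pow8_40_4
  · exact chk_pow8_40_5
  · exact chk_pow8_40_6
  · exact chk_pow8_40_7
  · exact chk_pow8_40_8
  · exact chk_pow8_40_9
  · exact chk_pow8_40_10
  · exact chk_pow8_40_11
  · exact chk_pow8_40_12
  · exact chk_pow8_40_13
  · exact chk_pow8_40_14

theorem chk_pow8_41_0 : tab.minOKc [5, 2, 1, 3, 3, 1, 3, 1, 3, 4, 2, 0, 2, 0, 2, 2, 0, 3, 1, 1] 1 984000 1600 = true := by decide +kernel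

theorem chk_pow8_41_1 : tab.minOKc [5, 2, 1, 3, 3, 1, 3, 1, 3, 4, 2, 0, 2, 0, 2, 2, 0, 3, 1, 1] 1 985600 1600 = true := by decide +kernel

theorem chk_pow8_41_2 : tab.minOKc [5, 2, 1, 3, 3, 1, 3, 1, 3, 4, 2, 0, 2, 0, 2, 2, 0, 3, 1, 1] 1 987200 1600 = true := by decide +kernel

theorem chk_pow8_41_3 : tab.minOKc [5, 2, 1, 3, 3, 1, 3, 1, 3, 4, 2, 0, 2, 0, 2, 2, 0, 3, 1, 1] 1 988800 1600 = true := by decide +kernel

theorem chk_pow8_41_4 : tab.minOKc [5, 2, 1, 3, 3, 1, 3, 1, 3, 4, 2, 0, 2, 0, 2, 2, 0, 3, 1, 1] 1 990400 1600 = true := by decide +kernel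

theorem chk_pow8_41_5 : tab.minOKc [5, 2, 1, 3, 3, 1, 3, 1, 3, 4, 2, 0, 2, 0, 2, 2, 0, 3, 1, 1] 1 992000 1600 = true := by decide +kernel

theorem chk_pow8_41_6 : tab.minOKc [5, 2, 1, 3, 3, 1, 3, 1, 3, 4, 2, 0, 2, 0, 2, 2, 0, 3, 1, 1] 1 993600 1600 = true := by decide +kernel

theorem chk_pow8_41_7 : tab.minOKc [5, 2, 1, 3, 3, 1, 3, 1, 3, 4, 2, 0, 2, 0, 2, 2, 0, 3, 1, 1] 1 995200 1600 = true := by decide +kernel

theorem chk_pow8_41_8 : tab.minOKc [5, 2, 1, 3, 3, 1, 3, 1, 3, 4, 2, 0, 2, 0, 2, 2, 0, 3, 1, 1] 1 996800 1600 = true := by decide +kernel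

theorem chk_pow8_41_9 : tab.minOKc [5, 2, 1, 3, 3, 1, 3, 1, 3, 4, 2, 0, 2, 0, 2, 2, 0, 3, 1, 1] 1 998400 1600 = true := by decide +kernel

theorem chk_pow8_41_10 : tab.minOKc [5, 2, 1, 3, 3, 1, 3, 1, 3, 4, 2, 0, 2, 0, 2, 2, 0, 3, 1, 1] 1 1000000 1600 = true := by decide +kernel

theorem chk_pow8_41_11 : tab.minOKc [5, 2, 1, 3, 3, 1, 3, 1, 3, 4, 2, 0, 2, 0, 2, 2, 0, 3, 1, 1] 1 1001600 1600 = true := by decide +kernel

theorem chk_pow8_41_12 : tab.minOKc [5, 2, 1, 3, 3, 1, 3, 1, 3, 4, 2, 0, 2, 0, 2, 2, 0, 3, 1, 1] 1 1003200 1600 = true := by decide +kernel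

theorem chk_pow8_41_13 : tab.minOKc [5, 2, 1, 3, 3, 1, 3, 1, 3, 4, 2, 0, 2, 0, 2, 2, 0, 3, 1, 1] 1 1004800 1600 = true := by decide +kernel

theorem chk_pow8_41_14 : tab.minOKc [5, 2, 1, 3, 3, 1, 3, 1, 3, 4, 2, 0, 2, 0, 2, 2, 0, 3, 1, 1] 1 1006400 1600 = true := by decide +kernel

theorem chk_pow8_41 : tab.minOKc [5, 2, 1, 3, 3, 1, 3, 1, 3, 4, 2, 0, 2, 0, 2, 2, 0, 3, 1, 1] 1 984000 24000 = true := by
  refine tab.minOKc_of_chunks [5, 2, 1, 3, 3, 1, 3, 1, 3, 4, 2, 0, 2, 0, 2, 2, 0, 3, 1, 1] 1 984000 1600 15 (by norm_num) ?_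
  intro i hi
  interval_cases i
  · exact chk_pow8_41_0
  · exact chk_pow8_41_1
  · exact chk_pow8_41_2
  · exact chk_pow8_41_3
  · exact chk_pow8_41_4
  · exact chk_pow8_41_5
  · exact chk_pow8_41_6
  · exact chk_pow8_41_7
  · exact chk_pow8_41_8
  · exact chk_pow8_41_9
  · exact chk_pow8_41_10
  · exact chk_pow8_41_11
  · exact chk_pow8_41_12
  · exact chk_pow8_41_13
  · exact chk_pow8_41_14


end Cfsg.Agent.Lib.Lead.HNP.HNTC
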