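import Cfsg.Agent.Lib.Lead.HNP.HNTCSCert

/-! # HNTC: the kernel check of the rows from 22992 on -/

set_option autoImplicit false

namespace Cfsg.Agent.Lib.Lead.HNP.HNTC

open Cfsg.Agent.Lib.Helper6.TC Cfsg.Agent.Lib.Helper6.TCGS

theorem chk_rows2_0 : cert.rowsOK 22992 479 = true := by decide +kernel

theorem chk_rows2_1 : cert.rowsOK 23471 479 = true := by decide +kernel

theorem chk_rows2_2 : cert.rowsOK 23950 479 = true := by decide +kernel

theorem chk_rows2_3 : cert.rowsOK 24429 479 = true := by decide +kernel

theorem chk_rows2_4 : cert.rowsOK 24908 479 = true := by decide +kernel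

theorem chk_rows2_5 : cert.rowsOK 25387 479 = true := by decide +kernel

theorem chk_rows2_6 : cert.rowsOK 25866 479 = true := by decide +kernel

theorem chk_rows2_7 : cert.rowsOK 26345 479 = true := by decide +kernel

theorem chk_rows2_8 : cert.rowsOK 26824 479 = true := by decide +kernel

theorem chk_rows2_9 : cert.rowsOK 27303 479 = true := by decide +kernel

theorem chk_rows2_10 : cert.rowsOK 27782 479 = true := by decide +kernel

theorem chk_rows2_11 : cert.rowsOK 28261 479 = true := by decide +kernel

theorem chk_rows2_12 : cert.rowsOK 28740 479 = true := by decide +kernel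

theorem chk_rows2_13 : cert.rowsOK 29219 479 = true := by decide +kernel

theorem chk_rows2_14 : cert.rowsOK 29698 479 = true := by decide +kernel

theorem chk_rows2_15 : cert.rowsOK 30177 479 = true := by decide +kernel

theorem chk_rows2_16 : cert.rowsOK 30656 479 = true := by decide +kernel

theorem chk_rows2_17 : cert.rowsOK 31135 479 = true := by decide +kernel

theorem chk_rows2_18 : cert.rowsOK 31614 479 = true := by decide +kernel

theorem chk_rows2_19 : cert.rowsOK 32093 479 = true := by decide +kernel

theorem chk_rows2_20 : cert.rowsOK 32572 479 = true := by decide +kernel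

theorem chk_rows2_21 : cert.rowsOK 33051 479 = true := by decide +kernel

theorem chk_rows2_22 : cert.rowsOK 33530 479 = true := by decide +kernel

theorem chk_rows2_23 : cert.rowsOK 34009 479 = true := by decide +kernel

theorem chk_range2 : ∀ a, 22992 ≤ a → a < 34488 → ∀ x < cert.c.g, cert.slotOK a x = true := by
  refine cert.range_of_chunks 22992 479 24 (by norm_num) ?_
  intro k hk
  interval_cases k
  · exact chk_rows2_0
  · exact chk_rows2_1
  · exact chk_rows2_2
  · exact chk_rows2_3
  · exact chk_rows2_4
  · exact chk_rows2_5
  · exact chk_rows2_6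
  · exact chk_rows2_7
  · exact chk_rows2_8
  · exact chk_rows2_9
  · exact chk_rows2_10
  · exact chk_rows2_11
  · exact chk_rows2_12
  · exact chk_rows2_13
  · exact chk_rows2_14
  · exact chk_rows2_15
  · exact chk_rows2_16
  · exact chk_rows2_17
  · exact chk_rows2_18
  · exact chk_rows2_19
  · exact chk_rows2_20
  · exact chk_rows2_21
  · exact chk_rows2_22
  · exact chk_rows2_23

end Cfsg.Agent.Lib.Lead.HNP.HNTC
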