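import Cfsg.Agent.Lib.Lead.HNP.HNTCSCert
import Cfsg.Agent.Lib.Lead.HNP.HNTCSRows2

/-! # HNTC: the kernel check of the rows from 298896 on -/

set_option autoImplicit false

namespace Cfsg.Agent.Lib.Lead.HNP.HNTC

open Cfsg.Agent.Lib.Helper6.TC Cfsg.Agent.Lib.Helper6.TCGS

theorem chk_rows26_0 : cert.rowsOK 298896 479 = true := by decide +kernel

theorem chk_rows26_1 : cert.rowsOK 299375 479 = true := by decide +kernel

theorem chk_rows26_2 : cert.rowsOK 299854 479 = true := by decide +kernel

theorem chk_rows26_3 : cert.rowsOK 300333 479 = true := by decide +kernel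

theorem chk_rows26_4 : cert.rowsOK 300812 479 = true := by decide +kernel

theorem chk_rows26_5 : cert.rowsOK 301291 479 = true := by decide +kernel

theorem chk_rows26_6 : cert.rowsOK 301770 479 = true := by decide +kernel

theorem chk_rows26_7 : cert.rowsOK 302249 479 = true := by decide +kernel

theorem chk_rows26_8 : cert.rowsOK 302728 479 = true := by decide +kernel

theorem chk_rows26_9 : cert.rowsOK 303207 479 = true := by decide +kernel

theorem chk_rows26_10 : cert.rowsOK 303686 479 = true := by decide +kernel

theorem chk_rows26_11 : cert.rowsOK 304165 479 = true := by decide +kernel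

theorem chk_rows26_12 : cert.rowsOK 304644 479 = true := by decide +kernel

theorem chk_rows26_13 : cert.rowsOK 305123 479 = true := by decide +kernel

theorem chk_rows26_14 : cert.rowsOK 305602 479 = true := by decide +kernel

theorem chk_rows26_15 : cert.rowsOK 306081 479 = true := by decide +kernel

theorem chk_rows26_16 : cert.rowsOK 306560 479 = true := by decide +kernel

theorem chk_rows26_17 : cert.rowsOK 307039 479 = true := by decide +kernel

theorem chk_rows26_18 : cert.rowsOK 307518 479 = true := by decide +kernel

theorem chk_rows26_19 : cert.rowsOK 307997 479 = true := by decide +kernel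

theorem chk_rows26_20 : cert.rowsOK 308476 479 = true := by decide +kernel

theorem chk_rows26_21 : cert.rowsOK 308955 479 = true := by decide +kernel

theorem chk_rows26_22 : cert.rowsOK 309434 479 = true := by decide +kernel

theorem chk_rows26_23 : cert.rowsOK 309913 479 = true := by decide +kernel

theorem chk_range26 : ∀ a, 298896 ≤ a → a < 310392 → ∀ x < cert.c.g, cert.slotOK a x = true := by
  refine cert.range_of_chunks 298896 479 24 (by norm_num) ?_
  intro k hk
  interval_cases k
  · exact chk_rows26_0
  · exact chk_rows26_1
  · exact chk_rows26_2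
  · exact chk_rows26_3
  · exact chk_rows26_4
  · exact chk_rows26_5
  · exact chk_rows26_6
  · exact chk_rows26_7
  · exact chk_rows26_8
  · exact chk_rows26_9
  · exact chk_rows26_10
  · exact chk_rows26_11
  · exact chk_rows26_12
  · exact chk_rows26_13
  · exact chk_rows26_14
  · exact chk_rows26_15
  · exact chk_rows26_16
  · exact chk_rows26_17
  · exact chk_rows26_18
  · exact chk_rows26_19
  · exact chk_rows26_20
  · exact chk_rows26_21
  · exact chk_rows26_22
  · exact chk_rows26_23

end Cfsg.Agent.Lib.Lead.HNP.HNTC
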