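import Cfsg.Agent.Lib.Lead.HNP.HNTCSCert
import Cfsg.Agent.Lib.Lead.HNP.HNTCSRows26

/-! # HNTC: the kernel check of the rows from 574800 on -/

set_option autoImplicit false

namespace Cfsg.Agent.Lib.Lead.HNP.HNTC

open Cfsg.Agent.Lib.Helper6.TC Cfsg.Agent.Lib.Helper6.TCGS

theorem chk_rows50_0 : cert.rowsOK 574800 479 = true := by decide +kernel

theorem chk_rows50_1 : cert.rowsOK 575279 479 = true := by decide +kernel

theorem chk_rows50_2 : cert.rowsOK 575758 479 = true := by decide +kernel

theorem chk_rows50_3 : cert.rowsOK 576237 479 = true := by decide +kernel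

theorem chk_rows50_4 : cert.rowsOK 576716 479 = true := by decide +kernel

theorem chk_rows50_5 : cert.rowsOK 577195 479 = true := by decide +kernel

theorem chk_rows50_6 : cert.rowsOK 577674 479 = true := by decide +kernel

theorem chk_rows50_7 : cert.rowsOK 578153 479 = true := by decide +kernel

theorem chk_rows50_8 : cert.rowsOK 578632 479 = true := by decide +kernel

theorem chk_rows50_9 : cert.rowsOK 579111 479 = true := by decide +kernel

theorem chk_rows50_10 : cert.rowsOK 579590 479 = true := by decide +kernel

theorem chk_rows50_11 : cert.rowsOK 580069 479 = true := by decide +kernel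

theorem chk_rows50_12 : cert.rowsOK 580548 479 = true := by decide +kernel

theorem chk_rows50_13 : cert.rowsOK 581027 479 = true := by decide +kernel

theorem chk_rows50_14 : cert.rowsOK 581506 479 = true := by decide +kernel

theorem chk_rows50_15 : cert.rowsOK 581985 479 = true := by decide +kernel

theorem chk_rows50_16 : cert.rowsOK 582464 479 = true := by decide +kernel

theorem chk_rows50_17 : cert.rowsOK 582943 479 = true := by decide +kernel

theorem chk_rows50_18 : cert.rowsOK 583422 479 = true := by decide +kernel

theorem chk_rows50_19 : cert.rowsOK 583901 479 = true := by decide +kernel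

theorem chk_rows50_20 : cert.rowsOK 584380 479 = true := by decide +kernel

theorem chk_rows50_21 : cert.rowsOK 584859 479 = true := by decide +kernel

theorem chk_rows50_22 : cert.rowsOK 585338 479 = true := by decide +kernel

theorem chk_rows50_23 : cert.rowsOK 585817 479 = true := by decide +kernel

theorem chk_range50 : ∀ a, 574800 ≤ a → a < 586296 → ∀ x < cert.c.g, cert.slotOK a x = true := by
  refine cert.range_of_chunks 574800 479 24 (by norm_num) ?_
  intro k hk
  interval_cases k
  · exact chk_rows50_0
  · exact chk_rows50_1
  · exact chk_rows50_2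
  · exact chk_rows50_3
  · exact chk_rows50_4
  · exact chk_rows50_5
  · exact chk_rows50_6
  · exact chk_rows50_7
  · exact chk_rows50_8
  · exact chk_rows50_9
  · exact chk_rows50_10
  · exact chk_rows50_11
  · exact chk_rows50_12
  · exact chk_rows50_13
  · exact chk_rows50_14
  · exact chk_rows50_15
  · exact chk_rows50_16
  · exact chk_rows50_17
  · exact chk_rows50_18
  · exact chk_rows50_19
  · exact chk_rows50_20
  · exact chk_rows50_21
  · exact chk_rows50_22
  · exact chk_rows50_23

end Cfsg.Agent.Lib.Lead.HNP.HNTC
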