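import Cfsg.Agent.Lib.Lead.HNP.HNTCSCert
import Cfsg.Agent.Lib.Lead.HNP.HNTCSRows50

/-! # HNTC: the kernel check of the rows from 850704 on -/

set_option autoImplicit false

namespace Cfsg.Agent.Lib.Lead.HNP.HNTC

open Cfsg.Agent.Lib.Helper6.TC Cfsg.Agent.Lib.Helper6.TCGS

theorem chk_rows74_0 : cert.rowsOK 850704 479 = true := by decide +kernel

theorem chk_rows74_1 : cert.rowsOK 851183 479 = true := by decide +kernel

theorem chk_rows74_2 : cert.rowsOK 851662 479 = true := by decide +kernel

theorem chk_rows74_3 : cert.rowsOK 852141 479 = true := by decide +kernel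

theorem chk_rows74_4 : cert.rowsOK 852620 479 = true := by decide +kernel

theorem chk_rows74_5 : cert.rowsOK 853099 479 = true := by decide +kernel

theorem chk_rows74_6 : cert.rowsOK 853578 479 = true := by decide +kernel

theorem chk_rows74_7 : cert.rowsOK 854057 479 = true := by decide +kernel

theorem chk_rows74_8 : cert.rowsOK 854536 479 = true := by decide +kernel

theorem chk_rows74_9 : cert.rowsOK 855015 479 = true := by decide +kernel

theorem chk_rows74_10 : cert.rowsOK 855494 479 = true := by decide +kernel

theorem chk_rows74_11 : cert.rowsOK 855973 479 = true := by decide +kernel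

theorem chk_rows74_12 : cert.rowsOK 856452 479 = true := by decide +kernel

theorem chk_rows74_13 : cert.rowsOK 856931 479 = true := by decide +kernel

theorem chk_rows74_14 : cert.rowsOK 857410 479 = true := by decide +kernel

theorem chk_rows74_15 : cert.rowsOK 857889 479 = true := by decide +kernel

theorem chk_rows74_16 : cert.rowsOK 858368 479 = true := by decide +kernel

theorem chk_rows74_17 : cert.rowsOK 858847 479 = true := by decide +kernel

theorem chk_rows74_18 : cert.rowsOK 859326 479 = true := by decide +kernel

theorem chk_rows74_19 : cert.rowsOK 859805 479 = true := by decide +kernel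

theorem chk_rows74_20 : cert.rowsOK 860284 479 = true := by decide +kernel

theorem chk_rows74_21 : cert.rowsOK 860763 479 = true := by decide +kernel

theorem chk_rows74_22 : cert.rowsOK 861242 479 = true := by decide +kernel

theorem chk_rows74_23 : cert.rowsOK 861721 479 = true := by decide +kernel

theorem chk_range74 : ∀ a, 850704 ≤ a → a < 862200 → ∀ x < cert.c.g, cert.slotOK a x = true := by
  refine cert.range_of_chunks 850704 479 24 (by norm_num) ?_
  intro k hk
  interval_cases k
  · exact chk_rows74_0
  · exact chk_rows74_1
  · exact chk_rows74_2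
  · exact chk_rows74_3
  · exact chk_rows74_4
  · exact chk_rows74_5
  · exact chk_rows74_6
  · exact chk_rows74_7
  · exact chk_rows74_8
  · exact chk_rows74_9
  · exact chk_rows74_10
  · exact chk_rows74_11
  · exact chk_rows74_12
  · exact chk_rows74_13
  · exact chk_rows74_14
  · exact chk_rows74_15
  · exact chk_rows74_16
  · exact chk_rows74_17
  · exact chk_rows74_18
  · exact chk_rows74_19
  · exact chk_rows74_20
  · exact chk_rows74_21
  · exact chk_rows74_22
  · exact chk_rows74_23

end Cfsg.Agent.Lib.Lead.HNP.HNTC
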