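import Cfsg.Agent.Lib.Lead.HNP.HNTCSCert
import Cfsg.Agent.Lib.Lead.HNP.HNTCSRows74

/-! # HNTC: the kernel check of the rows from 1126608 on -/

set_option autoImplicit false

namespace Cfsg.Agent.Lib.Lead.HNP.HNTC

open Cfsg.Agent.Lib.Helper6.TC Cfsg.Agent.Lib.Helper6.TCGS

theorem chk_rows98_0 : cert.rowsOK 1126608 479 = true := by decide +kernel

theorem chk_rows98_1 : cert.rowsOK 1127087 479 = true := by decide +kernel

theorem chk_rows98_2 : cert.rowsOK 1127566 479 = true := by decide +kernel

theorem chk_rows98_3 : cert.rowsOK 1128045 479 = true := by decide +kernel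

theorem chk_rows98_4 : cert.rowsOK 1128524 479 = true := by decide +kernel

theorem chk_rows98_5 : cert.rowsOK 1129003 479 = true := by decide +kernel

theorem chk_rows98_6 : cert.rowsOK 1129482 479 = true := by decide +kernel

theorem chk_rows98_7 : cert.rowsOK 1129961 479 = true := by decide +kernel

theorem chk_rows98_8 : cert.rowsOK 1130440 479 = true := by decide +kernel

theorem chk_rows98_9 : cert.rowsOK 1130919 479 = true := by decide +kernel

theorem chk_rows98_10 : cert.rowsOK 1131398 479 = true := by decide +kernel

theorem chk_rows98_11 : cert.rowsOK 1131877 479 = true := by decide +kernel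

theorem chk_rows98_12 : cert.rowsOK 1132356 479 = true := by decide +kernel

theorem chk_rows98_13 : cert.rowsOK 1132835 479 = true := by decide +kernel

theorem chk_rows98_14 : cert.rowsOK 1133314 479 = true := by decide +kernel

theorem chk_rows98_15 : cert.rowsOK 1133793 479 = true := by decide +kernel

theorem chk_rows98_16 : cert.rowsOK 1134272 479 = true := by decide +kernel

theorem chk_rows98_17 : cert.rowsOK 1134751 479 = true := by decide +kernel

theorem chk_rows98_18 : cert.rowsOK 1135230 479 = true := by decide +kernel

theorem chk_rows98_19 : cert.rowsOK 1135709 479 = true := by decide +kernel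

theorem chk_rows98_20 : cert.rowsOK 1136188 479 = true := by decide +kernel

theorem chk_rows98_21 : cert.rowsOK 1136667 479 = true := by decide +kernel

theorem chk_rows98_22 : cert.rowsOK 1137146 479 = true := by decide +kernel

theorem chk_rows98_23 : cert.rowsOK 1137625 479 = true := by decide +kernel

theorem chk_range98 : ∀ a, 1126608 ≤ a → a < 1138104 → ∀ x < cert.c.g, cert.slotOK a x = true := by
  refine cert.range_of_chunks 1126608 479 24 (by norm_num) ?_
  intro k hk
  interval_cases k
  · exact chk_rows98_0
  · exact chk_rows98_1
  · exact chk_rows98_2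
  · exact chk_rows98_3
  · exact chk_rows98_4
  · exact chk_rows98_5
  · exact chk_rows98_6
  · exact chk_rows98_7
  · exact chk_rows98_8
  · exact chk_rows98_9
  · exact chk_rows98_10
  · exact chk_rows98_11
  · exact chk_rows98_12
  · exact chk_rows98_13
  · exact chk_rows98_14
  · exact chk_rows98_15
  · exact chk_rows98_16
  · exact chk_rows98_17
  · exact chk_rows98_18
  · exact chk_rows98_19
  · exact chk_rows98_20
  · exact chk_rows98_21
  · exact chk_rows98_22
  · exact chk_rows98_23

end Cfsg.Agent.Lib.Lead.HNP.HNTC
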