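import Cfsg.Agent.Lib.Lead.HNP.HNTCSCert
import Cfsg.Agent.Lib.Lead.HNP.HNTCSRows98

/-! # HNTC: the kernel check of the rows from 1402512 on -/

set_option autoImplicit false

namespace Cfsg.Agent.Lib.Lead.HNP.HNTC

open Cfsg.Agent.Lib.Helper6.TC Cfsg.Agent.Lib.Helper6.TCGS

theorem chk_rows122_0 : cert.rowsOK 1402512 479 = true := by decide +kernel

theorem chk_rows122_1 : cert.rowsOK 1402991 479 = true := by decide +kernel

theorem chk_rows122_2 : cert.rowsOK 1403470 479 = true := by decide +kernel

theorem chk_rows122_3 : cert.rowsOK 1403949 479 = true := by decide +kernel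

theorem chk_rows122_4 : cert.rowsOK 1404428 479 = true := by decide +kernel

theorem chk_rows122_5 : cert.rowsOK 1404907 479 = true := by decide +kernel

theorem chk_rows122_6 : cert.rowsOK 1405386 479 = true := by decide +kernel

theorem chk_rows122_7 : cert.rowsOK 1405865 479 = true := by decide +kernel

theorem chk_rows122_8 : cert.rowsOK 1406344 479 = true := by decide +kernel

theorem chk_rows122_9 : cert.rowsOK 1406823 479 = true := by decide +kernel

theorem chk_rows122_10 : cert.rowsOK 1407302 479 = true := by decide +kernel

theorem chk_rows122_11 : cert.rowsOK 1407781 479 = true := by decide +kernel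

theorem chk_rows122_12 : cert.rowsOK 1408260 479 = true := by decide +kernel

theorem chk_rows122_13 : cert.rowsOK 1408739 479 = true := by decide +kernel

theorem chk_rows122_14 : cert.rowsOK 1409218 479 = true := by decide +kernel

theorem chk_rows122_15 : cert.rowsOK 1409697 479 = true := by decide +kernel

theorem chk_rows122_16 : cert.rowsOK 1410176 479 = true := by decide +kernel

theorem chk_rows122_17 : cert.rowsOK 1410655 479 = true := by decide +kernel

theorem chk_rows122_18 : cert.rowsOK 1411134 479 = true := by decide +kernel

theorem chk_rows122_19 : cert.rowsOK 1411613 479 = true := by decide +kernel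

theorem chk_rows122_20 : cert.rowsOK 1412092 479 = true := by decide +kernel

theorem chk_rows122_21 : cert.rowsOK 1412571 479 = true := by decide +kernel

theorem chk_rows122_22 : cert.rowsOK 1413050 479 = true := by decide +kernel

theorem chk_rows122_23 : cert.rowsOK 1413529 479 = true := by decide +kernel

theorem chk_range122 : ∀ a, 1402512 ≤ a → a < 1414008 → ∀ x < cert.c.g, cert.slotOK a x = true := by
  refine cert.range_of_chunks 1402512 479 24 (by norm_num) ?_
  intro k hk
  interval_cases k
  · exact chk_rows122_0
  · exact chk_rows122_1
  · exact chk_rows122_2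
  · exact chk_rows122_3
  · exact chk_rows122_4
  · exact chk_rows122_5
  · exact chk_rows122_6
  · exact chk_rows122_7
  · exact chk_rows122_8
  · exact chk_rows122_9
  · exact chk_rows122_10
  · exact chk_rows122_11
  · exact chk_rows122_12
  · exact chk_rows122_13
  · exact chk_rows122_14
  · exact chk_rows122_15
  · exact chk_rows122_16
  · exact chk_rows122_17
  · exact chk_rows122_18
  · exact chk_rows122_19
  · exact chk_rows122_20
  · exact chk_rows122_21
  · exact chk_rows122_22
  · exact chk_rows122_23

end Cfsg.Agent.Lib.Lead.HNP.HNTC
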