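import Cfsg.Agent.Lib.Lead.HNP.HNTCSCert
import Cfsg.Agent.Lib.Helper6.TCGIndex
import Cfsg.Agent.Lib.Lead.HNP.HNTCSRows122

/-! # HNTC: the kernel check that the first rows are closed, part 12 -/

set_option autoImplicit false

namespace Cfsg.Agent.Lib.Lead.HNP.HNTC

open Cfsg.Agent.Lib.Helper6.TC Cfsg.Agent.Lib.Helper6.TCGS

theorem chk_fin108 : cert.finalOKc 1539000 216000 2000 = true := by decide +kernel

theorem chk_fin109 : cert.finalOKc 1539000 218000 2000 = true := by decide +kernel

theorem chk_fin110 : cert.finalOKc 1539000 220000 2000 = true := by decide +kernel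

theorem chk_fin111 : cert.finalOKc 1539000 222000 2000 = true := by decide +kernel

theorem chk_fin112 : cert.finalOKc 1539000 224000 2000 = true := by decide +kernel

theorem chk_fin113 : cert.finalOKc 1539000 226000 2000 = true := by decide +kernel

theorem chk_fin114 : cert.finalOKc 1539000 228000 2000 = true := by decide +kernel

theorem chk_fin115 : cert.finalOKc 1539000 230000 2000 = true := by decide +kernel

theorem chk_fin116 : cert.finalOKc 1539000 232000 2000 = true := by decide +kernel


end Cfsg.Agent.Lib.Lead.HNP.HNTC
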