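import Cfsg.Agent.Lib.Lead.HNP.HNTCSCert
import Cfsg.Agent.Lib.Helper6.TCGIndex
import Cfsg.Agent.Lib.Lead.HNP.HNTCSFin12

/-! # HNTC: the kernel check that the first rows are closed, part 36 -/

set_option autoImplicit false

namespace Cfsg.Agent.Lib.Lead.HNP.HNTC

open Cfsg.Agent.Lib.Helper6.TC Cfsg.Agent.Lib.Helper6.TCGS

theorem chk_fin324 : cert.finalOKc 1539000 648000 2000 = true := by decide +kernel

theorem chk_fin325 : cert.finalOKc 1539000 650000 2000 = true := by decide +kernel

theorem chk_fin326 : cert.finalOKc 1539000 652000 2000 = true := by decide +kernel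

theorem chk_fin327 : cert.finalOKc 1539000 654000 2000 = true := by decide +kernel

theorem chk_fin328 : cert.finalOKc 1539000 656000 2000 = true := by decide +kernel

theorem chk_fin329 : cert.finalOKc 1539000 658000 2000 = true := by decide +kernel

theorem chk_fin330 : cert.finalOKc 1539000 660000 2000 = true := by decide +kernel

theorem chk_fin331 : cert.finalOKc 1539000 662000 2000 = true := by decide +kernel

theorem chk_fin332 : cert.finalOKc 1539000 664000 2000 = true := by decide +kernel


end Cfsg.Agent.Lib.Lead.HNP.HNTC
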