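import Cfsg.Agent.Lib.Lead.HNP.HNTCSCert
import Cfsg.Agent.Lib.Helper6.TCGIndex
import Cfsg.Agent.Lib.Lead.HNP.HNTCSFin36

/-! # HNTC: the kernel check that the first rows are closed, part 60 -/

set_option autoImplicit false

namespace Cfsg.Agent.Lib.Lead.HNP.HNTC

open Cfsg.Agent.Lib.Helper6.TC Cfsg.Agent.Lib.Helper6.TCGS

theorem chk_fin540 : cert.finalOKc 1539000 1080000 2000 = true := by decide +kernel

theorem chk_fin541 : cert.finalOKc 1539000 1082000 2000 = true := by decide +kernel

theorem chk_fin542 : cert.finalOKc 1539000 1084000 2000 = true := by decide +kernel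

theorem chk_fin543 : cert.finalOKc 1539000 1086000 2000 = true := by decide +kernel

theorem chk_fin544 : cert.finalOKc 1539000 1088000 2000 = true := by decide +kernel

theorem chk_fin545 : cert.finalOKc 1539000 1090000 2000 = true := by decide +kernel

theorem chk_fin546 : cert.finalOKc 1539000 1092000 2000 = true := by decide +kernel

theorem chk_fin547 : cert.finalOKc 1539000 1094000 2000 = true := by decide +kernel

theorem chk_fin548 : cert.finalOKc 1539000 1096000 2000 = true := by decide +kernel


end Cfsg.Agent.Lib.Lead.HNP.HNTC
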