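import Cfsg.Agent.Lib.Lead.HNP.HNTCSCert
import Cfsg.Agent.Lib.Helper6.TCGIndex
import Cfsg.Agent.Lib.Lead.HNP.HNTCSFin60

/-! # HNTC: the kernel check that the first rows are closed, part 84 -/

set_option autoImplicit false

namespace Cfsg.Agent.Lib.Lead.HNP.HNTC

open Cfsg.Agent.Lib.Helper6.TC Cfsg.Agent.Lib.Helper6.TCGS

theorem chk_fin756 : cert.finalOKc 1539000 1512000 2000 = true := by decide +kernel

theorem chk_fin757 : cert.finalOKc 1539000 1514000 2000 = true := by decide +kernel

theorem chk_fin758 : cert.finalOKc 1539000 1516000 2000 = true := by decide +kernel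

theorem chk_fin759 : cert.finalOKc 1539000 1518000 2000 = true := by decide +kernel

theorem chk_fin760 : cert.finalOKc 1539000 1520000 2000 = true := by decide +kernel

theorem chk_fin761 : cert.finalOKc 1539000 1522000 2000 = true := by decide +kernel

theorem chk_fin762 : cert.finalOKc 1539000 1524000 2000 = true := by decide +kernel

theorem chk_fin763 : cert.finalOKc 1539000 1526000 2000 = true := by decide +kernel

theorem chk_fin764 : cert.finalOKc 1539000 1528000 2000 = true := by decide +kernel


end Cfsg.Agent.Lib.Lead.HNP.HNTC
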