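import Cfsg.Agent.Lib.Lead.HNP.HNTCData
import Cfsg.Agent.Lib.Helper6.TCRel3
import Cfsg.Agent.Lib.Lead.HNP.HNTCSFin84

/-! # HNTC: the kernel check of a part of the relators on the coset table -/

set_option autoImplicit false

namespace Cfsg.Agent.Lib.Lead.HNP.HNTC

open Cfsg.Agent.Lib.Helper6.TC

theorem chk_pow3_7_0 : tab.minOKc [1, 2, 2, 0, 2, 2, 2] 3 479955 4571 = true := by decide +kernel

theorem chk_pow3_7_1 : tab.minOKc [1, 2, 2, 0, 2, 2, 2] 3 484526 4571 = true := by decide +kernel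

theorem chk_pow3_7_2 : tab.minOKc [1, 2, 2, 0, 2, 2, 2] 3 489097 4571 = true := by decide +kernel

theorem chk_pow3_7_3 : tab.minOKc [1, 2, 2, 0, 2, 2, 2] 3 493668 4571 = true := by decide +kernel

theorem chk_pow3_7_4 : tab.minOKc [1, 2, 2, 0, 2, 2, 2] 3 498239 4571 = true := by decide +kernel

theorem chk_pow3_7_5 : tab.minOKc [1, 2, 2, 0, 2, 2, 2] 3 502810 4571 = true := by decide +kernel

theorem chk_pow3_7_6 : tab.minOKc [1, 2, 2, 0, 2, 2, 2] 3 507381 4571 = true := by decide +kernel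

theorem chk_pow3_7_7 : tab.minOKc [1, 2, 2, 0, 2, 2, 2] 3 511952 4571 = true := by decide +kernel

theorem chk_pow3_7_8 : tab.minOKc [1, 2, 2, 0, 2, 2, 2] 3 516523 4571 = true := by decide +kernel

theorem chk_pow3_7_9 : tab.minOKc [1, 2, 2, 0, 2, 2, 2] 3 521094 4571 = true := by decide +kernel

theorem chk_pow3_7_10 : tab.minOKc [1, 2, 2, 0, 2, 2, 2] 3 525665 4571 = true := by decide +kernel

theorem chk_pow3_7_11 : tab.minOKc [1, 2, 2, 0, 2, 2, 2] 3 530236 4571 = true := by decide +kernel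

theorem chk_pow3_7_12 : tab.minOKc [1, 2, 2, 0, 2, 2, 2] 3 534807 4571 = true := by decide +kernel

theorem chk_pow3_7_13 : tab.minOKc [1, 2, 2, 0, 2, 2, 2] 3 539378 4571 = true := by decide +kernel

theorem chk_pow3_7_14 : tab.minOKc [1, 2, 2, 0, 2, 2, 2] 3 543949 4571 = true := by decide +kernel

theorem chk_pow3_7 : tab.minOKc [1, 2, 2, 0, 2, 2, 2] 3 479955 68565 = true := by
  refine tab.minOKc_of_chunks [1, 2, 2, 0, 2, 2, 2] 3 479955 4571 15 (by norm_num) ?_
  intro i hi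
  interval_cases i
  · exact chk_pow3_7_0
  · exact chk_pow3_7_1
  · exact chk_pow3_7_2
  · exact chk_pow3_7_3
  · exact chk_pow3_7_4
  · exact chk_pow3_7_5
  · exact chk_pow3_7_6
  · exact chk_pow3_7_7
  · exact chk_pow3_7_8
  · exact chk_pow3_7_9
  · exact chk_pow3_7_10
  · exact chk_pow3_7_11
  · exact chk_pow3_7_12
  · exact chk_pow3_7_13
  · exact chk_pow3_7_14

theorem chk_pow3_8_0 : tab.minOKc [1, 2, 2, 0, 2, 2, 2] 3 548520 4571 = true := by decide +kernel

theorem chk_pow3_8_1 : tab.minOKc [1, 2, 2, 0, 2, 2, 2] 3 553091 4571 = true := by decide +kernel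

theorem chk_pow3_8_2 : tab.minOKc [1, 2, 2, 0, 2, 2, 2] 3 557662 4571 = true := by decide +kernel

theorem chk_pow3_8_3 : tab.minOKc [1, 2, 2, 0, 2, 2, 2] 3 562233 4571 = true := by decide +kernel

theorem chk_pow3_8_4 : tab.minOKc [1, 2, 2, 0, 2, 2, 2] 3 566804 4571 = true := by decide +kernel

theorem chk_pow3_8_5 : tab.minOKc [1, 2, 2, 0, 2, 2, 2] 3 571375 4571 = true := by decide +kernel

theorem chk_pow3_8_6 : tab.minOKc [1, 2, 2, 0, 2, 2, 2] 3 575946 4571 = true := by decide +kernel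

theorem chk_pow3_8_7 : tab.minOKc [1, 2, 2, 0, 2, 2, 2] 3 580517 4571 = true := by decide +kernel

theorem chk_pow3_8_8 : tab.minOKc [1, 2, 2, 0, 2, 2, 2] 3 585088 4571 = true := by decide +kernel

theorem chk_pow3_8_9 : tab.minOKc [1, 2, 2, 0, 2, 2, 2] 3 589659 4571 = true := by decide +kernel

theorem chk_pow3_8_10 : tab.minOKc [1, 2, 2, 0, 2, 2, 2] 3 594230 4571 = true := by decide +kernel

theorem chk_pow3_8_11 : tab.minOKc [1, 2, 2, 0, 2, 2, 2] 3 598801 4571 = true := by decide +kernel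

theorem chk_pow3_8_12 : tab.minOKc [1, 2, 2, 0, 2, 2, 2] 3 603372 4571 = true := by decide +kernel

theorem chk_pow3_8_13 : tab.minOKc [1, 2, 2, 0, 2, 2, 2] 3 607943 4571 = true := by decide +kernel

theorem chk_pow3_8_14 : tab.minOKc [1, 2, 2, 0, 2, 2, 2] 3 612514 4571 = true := by decide +kernel

theorem chk_pow3_8 : tab.minOKc [1, 2, 2, 0, 2, 2, 2] 3 548520 68565 = true := by
  refine tab.minOKc_of_chunks [1, 2, 2, 0, 2, 2, 2] 3 548520 4571 15 (by norm_num) ?_
  intro i hi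
  interval_cases i
  · exact chk_pow3_8_0
  · exact chk_pow3_8_1
  · exact chk_pow3_8_2
  · exact chk_pow3_8_3
  · exact chk_pow3_8_4
  · exact chk_pow3_8_5
  · exact chk_pow3_8_6
  · exact chk_pow3_8_7
  · exact chk_pow3_8_8
  · exact chk_pow3_8_9
  · exact chk_pow3_8_10
  · exact chk_pow3_8_11
  · exact chk_pow3_8_12
  · exact chk_pow3_8_13
  · exact chk_pow3_8_14


end Cfsg.Agent.Lib.Lead.HNP.HNTC
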