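import Cfsg.Agent.Lib.Lead.HNP.HNTCData
import Cfsg.Agent.Lib.Helper6.TCRel3
import Cfsg.Agent.Lib.Lead.HNP.HNTCRel22

/-! # HNTC: the kernel check of a part of the relators on the coset table -/

set_option autoImplicit false

namespace Cfsg.Agent.Lib.Lead.HNP.HNTC

open Cfsg.Agent.Lib.Helper6.TC

theorem chk_pow7_1_0 : tab.minOKc [4, 0] 2 240000 16000 = true := by decide +kernel

theorem chk_pow7_1_1 : tab.minOKc [4, 0] 2 256000 16000 = true := by decide +kernel

theorem chk_pow7_1_2 : tab.minOKc [4, 0] 2 272000 16000 = true := by decide +kernel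

theorem chk_pow7_1_3 : tab.minOKc [4, 0] 2 288000 16000 = true := by decide +kernel

theorem chk_pow7_1_4 : tab.minOKc [4, 0] 2 304000 16000 = true := by decide +kernel

theorem chk_pow7_1_5 : tab.minOKc [4, 0] 2 320000 16000 = true := by decide +kernel

theorem chk_pow7_1_6 : tab.minOKc [4, 0] 2 336000 16000 = true := by decide +kernel

theorem chk_pow7_1_7 : tab.minOKc [4, 0] 2 352000 16000 = true := by decide +kernel

theorem chk_pow7_1_8 : tab.minOKc [4, 0] 2 368000 16000 = true := by decide +kernel

theorem chk_pow7_1_9 : tab.minOKc [4, 0] 2 384000 16000 = true := by decide +kernel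

theorem chk_pow7_1_10 : tab.minOKc [4, 0] 2 400000 16000 = true := by decide +kernel

theorem chk_pow7_1_11 : tab.minOKc [4, 0] 2 416000 16000 = true := by decide +kernel

theorem chk_pow7_1_12 : tab.minOKc [4, 0] 2 432000 16000 = true := by decide +kernel

theorem chk_pow7_1_13 : tab.minOKc [4, 0] 2 448000 16000 = true := by decide +kernel

theorem chk_pow7_1_14 : tab.minOKc [4, 0] 2 464000 16000 = true := by decide +kernel

theorem chk_pow7_1 : tab.minOKc [4, 0] 2 240000 240000 = true := by
  refine tab.minOKc_of_chunks [4, 0] 2 240000 16000 15 (by norm_num) ?_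
  intro i hi
  interval_cases i
  · exact chk_pow7_1_0
  · exact chk_pow7_1_1
  · exact chk_pow7_1_2
  · exact chk_pow7_1_3
  · exact chk_pow7_1_4
  · exact chk_pow7_1_5
  · exact chk_pow7_1_6
  · exact chk_pow7_1_7
  · exact chk_pow7_1_8
  · exact chk_pow7_1_9
  · exact chk_pow7_1_10
  · exact chk_pow7_1_11
  · exact chk_pow7_1_12
  · exact chk_pow7_1_13
  · exact chk_pow7_1_14

theorem chk_pow7_2_0 : tab.minOKc [4, 0] 2 480000 16000 = true := by decide +kernel

theorem chk_pow7_2_1 : tab.minOKc [4, 0] 2 496000 16000 = true := by decide +kernel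

theorem chk_pow7_2_2 : tab.minOKc [4, 0] 2 512000 16000 = true := by decide +kernel

theorem chk_pow7_2_3 : tab.minOKc [4, 0] 2 528000 16000 = true := by decide +kernel

theorem chk_pow7_2_4 : tab.minOKc [4, 0] 2 544000 16000 = true := by decide +kernel

theorem chk_pow7_2_5 : tab.minOKc [4, 0] 2 560000 16000 = true := by decide +kernel

theorem chk_pow7_2_6 : tab.minOKc [4, 0] 2 576000 16000 = true := by decide +kernel

theorem chk_pow7_2_7 : tab.minOKc [4, 0] 2 592000 16000 = true := by decide +kernel

theorem chk_pow7_2_8 : tab.minOKc [4, 0] 2 608000 16000 = true := by decide +kernel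

theorem chk_pow7_2_9 : tab.minOKc [4, 0] 2 624000 16000 = true := by decide +kernel

theorem chk_pow7_2_10 : tab.minOKc [4, 0] 2 640000 16000 = true := by decide +kernel

theorem chk_pow7_2_11 : tab.minOKc [4, 0] 2 656000 16000 = true := by decide +kernel

theorem chk_pow7_2_12 : tab.minOKc [4, 0] 2 672000 16000 = true := by decide +kernel

theorem chk_pow7_2_13 : tab.minOKc [4, 0] 2 688000 16000 = true := by decide +kernel

theorem chk_pow7_2_14 : tab.minOKc [4, 0] 2 704000 16000 = true := by decide +kernel

theorem chk_pow7_2 : tab.minOKc [4, 0] 2 480000 240000 = true := by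
  refine tab.minOKc_of_chunks [4, 0] 2 480000 16000 15 (by norm_num) ?_
  intro i hi
  interval_cases i
  · exact chk_pow7_2_0
  · exact chk_pow7_2_1
  · exact chk_pow7_2_2
  · exact chk_pow7_2_3
  · exact chk_pow7_2_4
  · exact chk_pow7_2_5
  · exact chk_pow7_2_6
  · exact chk_pow7_2_7
  · exact chk_pow7_2_8
  · exact chk_pow7_2_9
  · exact chk_pow7_2_10
  · exact chk_pow7_2_11
  · exact chk_pow7_2_12
  · exact chk_pow7_2_13
  · exact chk_pow7_2_14


end Cfsg.Agent.Lib.Lead.HNP.HNTC
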