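import Cfsg.Agent.Lib.Lead.HNP.HNTCData
import Cfsg.Agent.Lib.Helper6.TCRel3
import Cfsg.Agent.Lib.Lead.HNP.HNTCRel46

/-! # HNTC: the kernel check of a part of the relators on the coset table -/

set_option autoImplicit false

namespace Cfsg.Agent.Lib.Lead.HNP.HNTC

open Cfsg.Agent.Lib.Helper6.TC

theorem chk_pow8_42_0 : tab.minOKc [5, 2, 1, 3, 3, 1, 3, 1, 3, 4, 2, 0, 2, 0, 2, 2, 0, 3, 1, 1] 1 1008000 1600 = true := by decide +kernel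

theorem chk_pow8_42_1 : tab.minOKc [5, 2, 1, 3, 3, 1, 3, 1, 3, 4, 2, 0, 2, 0, 2, 2, 0, 3, 1, 1] 1 1009600 1600 = true := by decide +kernel

theorem chk_pow8_42_2 : tab.minOKc [5, 2, 1, 3, 3, 1, 3, 1, 3, 4, 2, 0, 2, 0, 2, 2, 0, 3, 1, 1] 1 1011200 1600 = true := by decide +kernel

theorem chk_pow8_42_3 : tab.minOKc [5, 2, 1, 3, 3, 1, 3, 1, 3, 4, 2, 0, 2, 0, 2, 2, 0, 3, 1, 1] 1 1012800 1600 = true := by decide +kernel

theorem chk_pow8_42_4 : tab.minOKc [5, 2, 1, 3, 3, 1, 3, 1, 3, 4, 2, 0, 2, 0, 2, 2, 0, 3, 1, 1] 1 1014400 1600 = true := by decide +kernel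

theorem chk_pow8_42_5 : tab.minOKc [5, 2, 1, 3, 3, 1, 3, 1, 3, 4, 2, 0, 2, 0, 2, 2, 0, 3, 1, 1] 1 1016000 1600 = true := by decide +kernel

theorem chk_pow8_42_6 : tab.minOKc [5, 2, 1, 3, 3, 1, 3, 1, 3, 4, 2, 0, 2, 0, 2, 2, 0, 3, 1, 1] 1 1017600 1600 = true := by decide +kernel

theorem chk_pow8_42_7 : tab.minOKc [5, 2, 1, 3, 3, 1, 3, 1, 3, 4, 2, 0, 2, 0, 2, 2, 0, 3, 1, 1] 1 1019200 1600 = true := by decide +kernel

theorem chk_pow8_42_8 : tab.minOKc [5, 2, 1, 3, 3, 1, 3, 1, 3, 4, 2, 0, 2, 0, 2, 2, 0, 3, 1, 1] 1 1020800 1600 = true := by decide +kernel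

theorem chk_pow8_42_9 : tab.minOKc [5, 2, 1, 3, 3, 1, 3, 1, 3, 4, 2, 0, 2, 0, 2, 2, 0, 3, 1, 1] 1 1022400 1600 = true := by decide +kernel

theorem chk_pow8_42_10 : tab.minOKc [5, 2, 1, 3, 3, 1, 3, 1, 3, 4, 2, 0, 2, 0, 2, 2, 0, 3, 1, 1] 1 1024000 1600 = true := by decide +kernel

theorem chk_pow8_42_11 : tab.minOKc [5, 2, 1, 3, 3, 1, 3, 1, 3, 4, 2, 0, 2, 0, 2, 2, 0, 3, 1, 1] 1 1025600 1600 = true := by decide +kernel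

theorem chk_pow8_42_12 : tab.minOKc [5, 2, 1, 3, 3, 1, 3, 1, 3, 4, 2, 0, 2, 0, 2, 2, 0, 3, 1, 1] 1 1027200 1600 = true := by decide +kernel

theorem chk_pow8_42_13 : tab.minOKc [5, 2, 1, 3, 3, 1, 3, 1, 3, 4, 2, 0, 2, 0, 2, 2, 0, 3, 1, 1] 1 1028800 1600 = true := by decide +kernel

theorem chk_pow8_42_14 : tab.minOKc [5, 2, 1, 3, 3, 1, 3, 1, 3, 4, 2, 0, 2, 0, 2, 2, 0, 3, 1, 1] 1 1030400 1600 = true := by decide +kernel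

theorem chk_pow8_42 : tab.minOKc [5, 2, 1, 3, 3, 1, 3, 1, 3, 4, 2, 0, 2, 0, 2, 2, 0, 3, 1, 1] 1 1008000 24000 = true := by
  refine tab.minOKc_of_chunks [5, 2, 1, 3, 3, 1, 3, 1, 3, 4, 2, 0, 2, 0, 2, 2, 0, 3, 1, 1] 1 1008000 1600 15 (by norm_num) ?_
  intro i hi
  interval_cases i
  · exact chk_pow8_42_0
  · exact chk_pow8_42_1
  · exact chk_pow8_42_2
  · exact chk_pow8_42_3
  · exact chk_pow8_42_4
  · exact chk_pow8_42_5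
  · exact chk_pow8_42_6
  · exact chk_pow8_42_7
  · exact chk_pow8_42_8
  · exact chk_pow8_42_9
  · exact chk_pow8_42_10
  · exact chk_pow8_42_11
  · exact chk_pow8_42_12
  · exact chk_pow8_42_13
  · exact chk_pow8_42_14

theorem chk_pow8_43_0 : tab.minOKc [5, 2, 1, 3, 3, 1, 3, 1, 3, 4, 2, 0, 2, 0, 2, 2, 0, 3, 1, 1] 1 1032000 1600 = true := by decide +kernel

theorem chk_pow8_43_1 : tab.minOKc [5, 2, 1, 3, 3, 1, 3, 1, 3, 4, 2, 0, 2, 0, 2, 2, 0, 3, 1, 1] 1 1033600 1600 = true := by decide +kernel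

theorem chk_pow8_43_2 : tab.minOKc [5, 2, 1, 3, 3, 1, 3, 1, 3, 4, 2, 0, 2, 0, 2, 2, 0, 3, 1, 1] 1 1035200 1600 = true := by decide +kernel

theorem chk_pow8_43_3 : tab.minOKc [5, 2, 1, 3, 3, 1, 3, 1, 3, 4, 2, 0, 2, 0, 2, 2, 0, 3, 1, 1] 1 1036800 1600 = true := by decide +kernel

theorem chk_pow8_43_4 : tab.minOKc [5, 2, 1, 3, 3, 1, 3, 1, 3, 4, 2, 0, 2, 0, 2, 2, 0, 3, 1, 1] 1 1038400 1600 = true := by decide +kernel

theorem chk_pow8_43_5 : tab.minOKc [5, 2, 1, 3, 3, 1, 3, 1, 3, 4, 2, 0, 2, 0, 2, 2, 0, 3, 1, 1] 1 1040000 1600 = true := by decide +kernel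

theorem chk_pow8_43_6 : tab.minOKc [5, 2, 1, 3, 3, 1, 3, 1, 3, 4, 2, 0, 2, 0, 2, 2, 0, 3, 1, 1] 1 1041600 1600 = true := by decide +kernel

theorem chk_pow8_43_7 : tab.minOKc [5, 2, 1, 3, 3, 1, 3, 1, 3, 4, 2, 0, 2, 0, 2, 2, 0, 3, 1, 1] 1 1043200 1600 = true := by decide +kernel

theorem chk_pow8_43_8 : tab.minOKc [5, 2, 1, 3, 3, 1, 3, 1, 3, 4, 2, 0, 2, 0, 2, 2, 0, 3, 1, 1] 1 1044800 1600 = true := by decide +kernel

theorem chk_pow8_43_9 : tab.minOKc [5, 2, 1, 3, 3, 1, 3, 1, 3, 4, 2, 0, 2, 0, 2, 2, 0, 3, 1, 1] 1 1046400 1600 = true := by decide +kernel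

theorem chk_pow8_43_10 : tab.minOKc [5, 2, 1, 3, 3, 1, 3, 1, 3, 4, 2, 0, 2, 0, 2, 2, 0, 3, 1, 1] 1 1048000 1600 = true := by decide +kernel

theorem chk_pow8_43_11 : tab.minOKc [5, 2, 1, 3, 3, 1, 3, 1, 3, 4, 2, 0, 2, 0, 2, 2, 0, 3, 1, 1] 1 1049600 1600 = true := by decide +kernel

theorem chk_pow8_43_12 : tab.minOKc [5, 2, 1, 3, 3, 1, 3, 1, 3, 4, 2, 0, 2, 0, 2, 2, 0, 3, 1, 1] 1 1051200 1600 = true := by decide +kernel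

theorem chk_pow8_43_13 : tab.minOKc [5, 2, 1, 3, 3, 1, 3, 1, 3, 4, 2, 0, 2, 0, 2, 2, 0, 3, 1, 1] 1 1052800 1600 = true := by decide +kernel

theorem chk_pow8_43_14 : tab.minOKc [5, 2, 1, 3, 3, 1, 3, 1, 3, 4, 2, 0, 2, 0, 2, 2, 0, 3, 1, 1] 1 1054400 1600 = true := by decide +kernel

theorem chk_pow8_43 : tab.minOKc [5, 2, 1, 3, 3, 1, 3, 1, 3, 4, 2, 0, 2, 0, 2, 2, 0, 3, 1, 1] 1 1032000 24000 = true := by
  refine tab.minOKc_of_chunks [5, 2, 1, 3, 3, 1, 3, 1, 3, 4, 2, 0, 2, 0, 2, 2, 0, 3, 1, 1] 1 1032000 1600 15 (by norm_num) ?_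
  intro i hi
  interval_cases i
  · exact chk_pow8_43_0
  · exact chk_pow8_43_1
  · exact chk_pow8_43_2
  · exact chk_pow8_43_3
  · exact chk_pow8_43_4
  · exact chk_pow8_43_5
  · exact chk_pow8_43_6
  · exact chk_pow8_43_7
  · exact chk_pow8_43_8
  · exact chk_pow8_43_9
  · exact chk_pow8_43_10
  · exact chk_pow8_43_11
  · exact chk_pow8_43_12
  · exact chk_pow8_43_13
  · exact chk_pow8_43_14


end Cfsg.Agent.Lib.Lead.HNP.HNTC
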