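import Cfsg.Agent.Lib.Lead.HNP.HNTCSCert
import Cfsg.Agent.Lib.Lead.HNP.HNTCSRows3

/-! # HNTC: the kernel check of the rows from 310392 on -/

set_option autoImplicit false

namespace Cfsg.Agent.Lib.Lead.HNP.HNTC

open Cfsg.Agent.Lib.Helper6.TC Cfsg.Agent.Lib.Helper6.TCGS

theorem chk_rows27_0 : cert.rowsOK 310392 479 = true := by decide +kernel

theorem chk_rows27_1 : cert.rowsOK 310871 479 = true := by decide +kernel

theorem chk_rows27_2 : cert.rowsOK 311350 479 = true := by decide +kernel

theorem chk_rows27_3 : cert.rowsOK 311829 479 = true := by decide +kernel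

theorem chk_rows27_4 : cert.rowsOK 312308 479 = true := by decide +kernel

theorem chk_rows27_5 : cert.rowsOK 312787 479 = true := by decide +kernel

theorem chk_rows27_6 : cert.rowsOK 313266 479 = true := by decide +kernel

theorem chk_rows27_7 : cert.rowsOK 313745 479 = true := by decide +kernel

theorem chk_rows27_8 : cert.rowsOK 314224 479 = true := by decide +kernel

theorem chk_rows27_9 : cert.rowsOK 314703 479 = true := by decide +kernel

theorem chk_rows27_10 : cert.rowsOK 315182 479 = true := by decide +kernel

theorem chk_rows27_11 : cert.rowsOK 315661 479 = true := by decide +kernel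

theorem chk_rows27_12 : cert.rowsOK 316140 479 = true := by decide +kernel

theorem chk_rows27_13 : cert.rowsOK 316619 479 = true := by decide +kernel

theorem chk_rows27_14 : cert.rowsOK 317098 479 = true := by decide +kernel

theorem chk_rows27_15 : cert.rowsOK 317577 479 = true := by decide +kernel

theorem chk_rows27_16 : cert.rowsOK 318056 479 = true := by decide +kernel

theorem chk_rows27_17 : cert.rowsOK 318535 479 = true := by decide +kernel

theorem chk_rows27_18 : cert.rowsOK 319014 479 = true := by decide +kernel

theorem chk_rows27_19 : cert.rowsOK 319493 479 = true := by decide +kernel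

theorem chk_rows27_20 : cert.rowsOK 319972 479 = true := by decide +kernel

theorem chk_rows27_21 : cert.rowsOK 320451 479 = true := by decide +kernel

theorem chk_rows27_22 : cert.rowsOK 320930 479 = true := by decide +kernel

theorem chk_rows27_23 : cert.rowsOK 321409 479 = true := by decide +kernel

theorem chk_range27 : ∀ a, 310392 ≤ a → a < 321888 → ∀ x < cert.c.g, cert.slotOK a x = true := by
  refine cert.range_of_chunks 310392 479 24 (by norm_num) ?_
  intro k hk
  interval_cases k
  · exact chk_rows27_0
  · exact chk_rows27_1
  · exact chk_rows27_2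
  · exact chk_rows27_3
  · exact chk_rows27_4
  · exact chk_rows27_5
  · exact chk_rows27_6
  · exact chk_rows27_7
  · exact chk_rows27_8
  · exact chk_rows27_9
  · exact chk_rows27_10
  · exact chk_rows27_11
  · exact chk_rows27_12
  · exact chk_rows27_13
  · exact chk_rows27_14
  · exact chk_rows27_15
  · exact chk_rows27_16
  · exact chk_rows27_17
  · exact chk_rows27_18
  · exact chk_rows27_19
  · exact chk_rows27_20
  · exact chk_rows27_21
  · exact chk_rows27_22
  · exact chk_rows27_23

end Cfsg.Agent.Lib.Lead.HNP.HNTC
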