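import Cfsg.Agent.Lib.Lead.HNP.HNTCSCert
import Cfsg.Agent.Lib.Lead.HNP.HNTCSRows27

/-! # HNTC: the kernel check of the rows from 586296 on -/

set_option autoImplicit false

namespace Cfsg.Agent.Lib.Lead.HNP.HNTC

open Cfsg.Agent.Lib.Helper6.TC Cfsg.Agent.Lib.Helper6.TCGS

theorem chk_rows51_0 : cert.rowsOK 586296 479 = true := by decide +kernel

theorem chk_rows51_1 : cert.rowsOK 586775 479 = true := by decide +kernel

theorem chk_rows51_2 : cert.rowsOK 587254 479 = true := by decide +kernel

theorem chk_rows51_3 : cert.rowsOK 587733 479 = true := by decide +kernel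

theorem chk_rows51_4 : cert.rowsOK 588212 479 = true := by decide +kernel

theorem chk_rows51_5 : cert.rowsOK 588691 479 = true := by decide +kernel

theorem chk_rows51_6 : cert.rowsOK 589170 479 = true := by decide +kernel

theorem chk_rows51_7 : cert.rowsOK 589649 479 = true := by decide +kernel

theorem chk_rows51_8 : cert.rowsOK 590128 479 = true := by decide +kernel

theorem chk_rows51_9 : cert.rowsOK 590607 479 = true := by decide +kernel

theorem chk_rows51_10 : cert.rowsOK 591086 479 = true := by decide +kernel

theorem chk_rows51_11 : cert.rowsOK 591565 479 = true := by decide +kernel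

theorem chk_rows51_12 : cert.rowsOK 592044 479 = true := by decide +kernel

theorem chk_rows51_13 : cert.rowsOK 592523 479 = true := by decide +kernel

theorem chk_rows51_14 : cert.rowsOK 593002 479 = true := by decide +kernel

theorem chk_rows51_15 : cert.rowsOK 593481 479 = true := by decide +kernel

theorem chk_rows51_16 : cert.rowsOK 593960 479 = true := by decide +kernel

theorem chk_rows51_17 : cert.rowsOK 594439 479 = true := by decide +kernel

theorem chk_rows51_18 : cert.rowsOK 594918 479 = true := by decide +kernel

theorem chk_rows51_19 : cert.rowsOK 595397 479 = true := by decide +kernel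

theorem chk_rows51_20 : cert.rowsOK 595876 479 = true := by decide +kernel

theorem chk_rows51_21 : cert.rowsOK 596355 479 = true := by decide +kernel

theorem chk_rows51_22 : cert.rowsOK 596834 479 = true := by decide +kernel

theorem chk_rows51_23 : cert.rowsOK 597313 479 = true := by decide +kernel

theorem chk_range51 : ∀ a, 586296 ≤ a → a < 597792 → ∀ x < cert.c.g, cert.slotOK a x = true := by
  refine cert.range_of_chunks 586296 479 24 (by norm_num) ?_
  intro k hk
  interval_cases k
  · exact chk_rows51_0
  · exact chk_rows51_1
  · exact chk_rows51_2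
  · exact chk_rows51_3
  · exact chk_rows51_4
  · exact chk_rows51_5
  · exact chk_rows51_6
  · exact chk_rows51_7
  · exact chk_rows51_8
  · exact chk_rows51_9
  · exact chk_rows51_10
  · exact chk_rows51_11
  · exact chk_rows51_12
  · exact chk_rows51_13
  · exact chk_rows51_14
  · exact chk_rows51_15
  · exact chk_rows51_16
  · exact chk_rows51_17
  · exact chk_rows51_18
  · exact chk_rows51_19
  · exact chk_rows51_20
  · exact chk_rows51_21
  · exact chk_rows51_22
  · exact chk_rows51_23

end Cfsg.Agent.Lib.Lead.HNP.HNTC
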