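import Cfsg.Agent.Lib.Lead.HNP.HNTCSCert
import Cfsg.Agent.Lib.Lead.HNP.HNTCSRows51

/-! # HNTC: the kernel check of the rows from 862200 on -/

set_option autoImplicit false

namespace Cfsg.Agent.Lib.Lead.HNP.HNTC

open Cfsg.Agent.Lib.Helper6.TC Cfsg.Agent.Lib.Helper6.TCGS

theorem chk_rows75_0 : cert.rowsOK 862200 479 = true := by decide +kernel

theorem chk_rows75_1 : cert.rowsOK 862679 479 = true := by decide +kernel

theorem chk_rows75_2 : cert.rowsOK 863158 479 = true := by decide +kernel

theorem chk_rows75_3 : cert.rowsOK 863637 479 = true := by decide +kernel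

theorem chk_rows75_4 : cert.rowsOK 864116 479 = true := by decide +kernel

theorem chk_rows75_5 : cert.rowsOK 864595 479 = true := by decide +kernel

theorem chk_rows75_6 : cert.rowsOK 865074 479 = true := by decide +kernel

theorem chk_rows75_7 : cert.rowsOK 865553 479 = true := by decide +kernel

theorem chk_rows75_8 : cert.rowsOK 866032 479 = true := by decide +kernel

theorem chk_rows75_9 : cert.rowsOK 866511 479 = true := by decide +kernel

theorem chk_rows75_10 : cert.rowsOK 866990 479 = true := by decide +kernel

theorem chk_rows75_11 : cert.rowsOK 867469 479 = true := by decide +kernel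

theorem chk_rows75_12 : cert.rowsOK 867948 479 = true := by decide +kernel

theorem chk_rows75_13 : cert.rowsOK 868427 479 = true := by decide +kernel

theorem chk_rows75_14 : cert.rowsOK 868906 479 = true := by decide +kernel

theorem chk_rows75_15 : cert.rowsOK 869385 479 = true := by decide +kernel

theorem chk_rows75_16 : cert.rowsOK 869864 479 = true := by decide +kernel

theorem chk_rows75_17 : cert.rowsOK 870343 479 = true := by decide +kernel

theorem chk_rows75_18 : cert.rowsOK 870822 479 = true := by decide +kernel

theorem chk_rows75_19 : cert.rowsOK 871301 479 = true := by decide +kernel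

theorem chk_rows75_20 : cert.rowsOK 871780 479 = true := by decide +kernel

theorem chk_rows75_21 : cert.rowsOK 872259 479 = true := by decide +kernel

theorem chk_rows75_22 : cert.rowsOK 872738 479 = true := by decide +kernel

theorem chk_rows75_23 : cert.rowsOK 873217 479 = true := by decide +kernel

theorem chk_range75 : ∀ a, 862200 ≤ a → a < 873696 → ∀ x < cert.c.g, cert.slotOK a x = true := by
  refine cert.range_of_chunks 862200 479 24 (by norm_num) ?_
  intro k hk
  interval_cases k
  · exact chk_rows75_0
  · exact chk_rows75_1
  · exact chk_rows75_2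
  · exact chk_rows75_3
  · exact chk_rows75_4
  · exact chk_rows75_5
  · exact chk_rows75_6
  · exact chk_rows75_7
  · exact chk_rows75_8
  · exact chk_rows75_9
  · exact chk_rows75_10
  · exact chk_rows75_11
  · exact chk_rows75_12
  · exact chk_rows75_13
  · exact chk_rows75_14
  · exact chk_rows75_15
  · exact chk_rows75_16
  · exact chk_rows75_17
  · exact chk_rows75_18
  · exact chk_rows75_19
  · exact chk_rows75_20
  · exact chk_rows75_21
  · exact chk_rows75_22
  · exact chk_rows75_23

end Cfsg.Agent.Lib.Lead.HNP.HNTC
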