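import Cfsg.Agent.Lib.Lead.HNP.HNTCSCert
import Cfsg.Agent.Lib.Lead.HNP.HNTCSRows75

/-! # HNTC: the kernel check of the rows from 1138104 on -/

set_option autoImplicit false

namespace Cfsg.Agent.Lib.Lead.HNP.HNTC

open Cfsg.Agent.Lib.Helper6.TC Cfsg.Agent.Lib.Helper6.TCGS

theorem chk_rows99_0 : cert.rowsOK 1138104 479 = true := by decide +kernel

theorem chk_rows99_1 : cert.rowsOK 1138583 479 = true := by decide +kernel

theorem chk_rows99_2 : cert.rowsOK 1139062 479 = true := by decide +kernel

theorem chk_rows99_3 : cert.rowsOK 1139541 479 = true := by decide +kernel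

theorem chk_rows99_4 : cert.rowsOK 1140020 479 = true := by decide +kernel

theorem chk_rows99_5 : cert.rowsOK 1140499 479 = true := by decide +kernel

theorem chk_rows99_6 : cert.rowsOK 1140978 479 = true := by decide +kernel

theorem chk_rows99_7 : cert.rowsOK 1141457 479 = true := by decide +kernel

theorem chk_rows99_8 : cert.rowsOK 1141936 479 = true := by decide +kernel

theorem chk_rows99_9 : cert.rowsOK 1142415 479 = true := by decide +kernel

theorem chk_rows99_10 : cert.rowsOK 1142894 479 = true := by decide +kernel

theorem chk_rows99_11 : cert.rowsOK 1143373 479 = true := by decide +kernel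

theorem chk_rows99_12 : cert.rowsOK 1143852 479 = true := by decide +kernel

theorem chk_rows99_13 : cert.rowsOK 1144331 479 = true := by decide +kernel

theorem chk_rows99_14 : cert.rowsOK 1144810 479 = true := by decide +kernel

theorem chk_rows99_15 : cert.rowsOK 1145289 479 = true := by decide +kernel

theorem chk_rows99_16 : cert.rowsOK 1145768 479 = true := by decide +kernel

theorem chk_rows99_17 : cert.rowsOK 1146247 479 = true := by decide +kernel

theorem chk_rows99_18 : cert.rowsOK 1146726 479 = true := by decide +kernel

theorem chk_rows99_19 : cert.rowsOK 1147205 479 = true := by decide +kernel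

theorem chk_rows99_20 : cert.rowsOK 1147684 479 = true := by decide +kernel

theorem chk_rows99_21 : cert.rowsOK 1148163 479 = true := by decide +kernel

theorem chk_rows99_22 : cert.rowsOK 1148642 479 = true := by decide +kernel

theorem chk_rows99_23 : cert.rowsOK 1149121 479 = true := by decide +kernel

theorem chk_range99 : ∀ a, 1138104 ≤ a → a < 1149600 → ∀ x < cert.c.g, cert.slotOK a x = true := by
  refine cert.range_of_chunks 1138104 479 24 (by norm_num) ?_
  intro k hk
  interval_cases k
  · exact chk_rows99_0
  · exact chk_rows99_1
  · exact chk_rows99_2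
  · exact chk_rows99_3
  · exact chk_rows99_4
  · exact chk_rows99_5
  · exact chk_rows99_6
  · exact chk_rows99_7
  · exact chk_rows99_8
  · exact chk_rows99_9
  · exact chk_rows99_10
  · exact chk_rows99_11
  · exact chk_rows99_12
  · exact chk_rows99_13
  · exact chk_rows99_14
  · exact chk_rows99_15
  · exact chk_rows99_16
  · exact chk_rows99_17
  · exact chk_rows99_18
  · exact chk_rows99_19
  · exact chk_rows99_20
  · exact chk_rows99_21
  · exact chk_rows99_22
  · exact chk_rows99_23

end Cfsg.Agent.Lib.Lead.HNP.HNTC
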