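import Cfsg.Agent.Lib.Lead.HNP.HNTCSCert
import Cfsg.Agent.Lib.Lead.HNP.HNTCSRows99

/-! # HNTC: the kernel check of the rows from 1414008 on -/

set_option autoImplicit false

namespace Cfsg.Agent.Lib.Lead.HNP.HNTC

open Cfsg.Agent.Lib.Helper6.TC Cfsg.Agent.Lib.Helper6.TCGS

theorem chk_rows123_0 : cert.rowsOK 1414008 479 = true := by decide +kernel

theorem chk_rows123_1 : cert.rowsOK 1414487 479 = true := by decide +kernel

theorem chk_rows123_2 : cert.rowsOK 1414966 479 = true := by decide +kernel

theorem chk_rows123_3 : cert.rowsOK 1415445 479 = true := by decide +kernel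

theorem chk_rows123_4 : cert.rowsOK 1415924 479 = true := by decide +kernel

theorem chk_rows123_5 : cert.rowsOK 1416403 479 = true := by decide +kernel

theorem chk_rows123_6 : cert.rowsOK 1416882 479 = true := by decide +kernel

theorem chk_rows123_7 : cert.rowsOK 1417361 479 = true := by decide +kernel

theorem chk_rows123_8 : cert.rowsOK 1417840 479 = true := by decide +kernel

theorem chk_rows123_9 : cert.rowsOK 1418319 479 = true := by decide +kernel

theorem chk_rows123_10 : cert.rowsOK 1418798 479 = true := by decide +kernel

theorem chk_rows123_11 : cert.rowsOK 1419277 479 = true := by decide +kernel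

theorem chk_rows123_12 : cert.rowsOK 1419756 479 = true := by decide +kernel

theorem chk_rows123_13 : cert.rowsOK 1420235 479 = true := by decide +kernel

theorem chk_rows123_14 : cert.rowsOK 1420714 479 = true := by decide +kernel

theorem chk_rows123_15 : cert.rowsOK 1421193 479 = true := by decide +kernel

theorem chk_rows123_16 : cert.rowsOK 1421672 479 = true := by decide +kernel

theorem chk_rows123_17 : cert.rowsOK 1422151 479 = true := by decide +kernel

theorem chk_rows123_18 : cert.rowsOK 1422630 479 = true := by decide +kernel

theorem chk_rows123_19 : cert.rowsOK 1423109 479 = true := by decide +kernel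

theorem chk_rows123_20 : cert.rowsOK 1423588 479 = true := by decide +kernel

theorem chk_rows123_21 : cert.rowsOK 1424067 479 = true := by decide +kernel

theorem chk_rows123_22 : cert.rowsOK 1424546 479 = true := by decide +kernel

theorem chk_rows123_23 : cert.rowsOK 1425025 479 = true := by decide +kernel

theorem chk_range123 : ∀ a, 1414008 ≤ a → a < 1425504 → ∀ x < cert.c.g, cert.slotOK a x = true := by
  refine cert.range_of_chunks 1414008 479 24 (by norm_num) ?_
  intro k hk
  interval_cases k
  · exact chk_rows123_0
  · exact chk_rows123_1
  · exact chk_rows123_2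
  · exact chk_rows123_3
  · exact chk_rows123_4
  · exact chk_rows123_5
  · exact chk_rows123_6
  · exact chk_rows123_7
  · exact chk_rows123_8
  · exact chk_rows123_9
  · exact chk_rows123_10
  · exact chk_rows123_11
  · exact chk_rows123_12
  · exact chk_rows123_13
  · exact chk_rows123_14
  · exact chk_rows123_15
  · exact chk_rows123_16
  · exact chk_rows123_17
  · exact chk_rows123_18
  · exact chk_rows123_19
  · exact chk_rows123_20
  · exact chk_rows123_21
  · exact chk_rows123_22
  · exact chk_rows123_23

end Cfsg.Agent.Lib.Lead.HNP.HNTC
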