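import Cfsg.Agent.Lib.Lead.HNP.HNTCSCert
import Cfsg.Agent.Lib.Helper6.TCGIndex
import Cfsg.Agent.Lib.Lead.HNP.HNTCSRows123

/-! # HNTC: the kernel check that the first rows are closed, part 13 -/

set_option autoImplicit false

namespace Cfsg.Agent.Lib.Lead.HNP.HNTC

open Cfsg.Agent.Lib.Helper6.TC Cfsg.Agent.Lib.Helper6.TCGS

theorem chk_fin117 : cert.finalOKc 1539000 234000 2000 = true := by decide +kernel

theorem chk_fin118 : cert.finalOKc 1539000 236000 2000 = true := by decide +kernel

theorem chk_fin119 : cert.finalOKc 1539000 238000 2000 = true := by decide +kernel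

theorem chk_fin120 : cert.finalOKc 1539000 240000 2000 = true := by decide +kernel

theorem chk_fin121 : cert.finalOKc 1539000 242000 2000 = true := by decide +kernel

theorem chk_fin122 : cert.finalOKc 1539000 244000 2000 = true := by decide +kernel

theorem chk_fin123 : cert.finalOKc 1539000 246000 2000 = true := by decide +kernel

theorem chk_fin124 : cert.finalOKc 1539000 248000 2000 = true := by decide +kernel

theorem chk_fin125 : cert.finalOKc 1539000 250000 2000 = true := by decide +kernel


end Cfsg.Agent.Lib.Lead.HNP.HNTC
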