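import Cfsg.Agent.Lib.Lead.HNP.HNTCSCert
import Cfsg.Agent.Lib.Helper6.TCGIndex
import Cfsg.Agent.Lib.Lead.HNP.HNTCSFin13

/-! # HNTC: the kernel check that the first rows are closed, part 37 -/

set_option autoImplicit false

namespace Cfsg.Agent.Lib.Lead.HNP.HNTC

open Cfsg.Agent.Lib.Helper6.TC Cfsg.Agent.Lib.Helper6.TCGS

theorem chk_fin333 : cert.finalOKc 1539000 666000 2000 = true := by decide +kernel

theorem chk_fin334 : cert.finalOKc 1539000 668000 2000 = true := by decide +kernel

theorem chk_fin335 : cert.finalOKc 1539000 670000 2000 = true := by decide +kernel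

theorem chk_fin336 : cert.finalOKc 1539000 672000 2000 = true := by decide +kernel

theorem chk_fin337 : cert.finalOKc 1539000 674000 2000 = true := by decide +kernel

theorem chk_fin338 : cert.finalOKc 1539000 676000 2000 = true := by decide +kernel

theorem chk_fin339 : cert.finalOKc 1539000 678000 2000 = true := by decide +kernel

theorem chk_fin340 : cert.finalOKc 1539000 680000 2000 = true := by decide +kernel

theorem chk_fin341 : cert.finalOKc 1539000 682000 2000 = true := by decide +kernel


end Cfsg.Agent.Lib.Lead.HNP.HNTC
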