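import Cfsg.Agent.Lib.Lead.HNP.HNTCSCert
import Cfsg.Agent.Lib.Helper6.TCGIndex
import Cfsg.Agent.Lib.Lead.HNP.HNTCSFin37

/-! # HNTC: the kernel check that the first rows are closed, part 61 -/

set_option autoImplicit false

namespace Cfsg.Agent.Lib.Lead.HNP.HNTC

open Cfsg.Agent.Lib.Helper6.TC Cfsg.Agent.Lib.Helper6.TCGS

theorem chk_fin549 : cert.finalOKc 1539000 1098000 2000 = true := by decide +kernel

theorem chk_fin550 : cert.finalOKc 1539000 1100000 2000 = true := by decide +kernel

theorem chk_fin551 : cert.finalOKc 1539000 1102000 2000 = true := by decide +kernel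

theorem chk_fin552 : cert.finalOKc 1539000 1104000 2000 = true := by decide +kernel

theorem chk_fin553 : cert.finalOKc 1539000 1106000 2000 = true := by decide +kernel

theorem chk_fin554 : cert.finalOKc 1539000 1108000 2000 = true := by decide +kernel

theorem chk_fin555 : cert.finalOKc 1539000 1110000 2000 = true := by decide +kernel

theorem chk_fin556 : cert.finalOKc 1539000 1112000 2000 = true := by decide +kernel

theorem chk_fin557 : cert.finalOKc 1539000 1114000 2000 = true := by decide +kernel


end Cfsg.Agent.Lib.Lead.HNP.HNTC
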