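import Cfsg.Agent.Lib.Lead.HNP.HNTCSCert
import Cfsg.Agent.Lib.Helper6.TCGIndex
import Cfsg.Agent.Lib.Lead.HNP.HNTCSFin61

/-! # HNTC: the kernel check that the first rows are closed, part 85 -/

set_option autoImplicit false

namespace Cfsg.Agent.Lib.Lead.HNP.HNTC

open Cfsg.Agent.Lib.Helper6.TC Cfsg.Agent.Lib.Helper6.TCGS

theorem chk_fin765 : cert.finalOKc 1539000 1530000 2000 = true := by decide +kernel

theorem chk_fin766 : cert.finalOKc 1539000 1532000 2000 = true := by decide +kernel

theorem chk_fin767 : cert.finalOKc 1539000 1534000 2000 = true := by decide +kernel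

theorem chk_fin768 : cert.finalOKc 1539000 1536000 2000 = true := by decide +kernel

theorem chk_fin769 : cert.finalOKc 1539000 1538000 2000 = true := by decide +kernel


end Cfsg.Agent.Lib.Lead.HNP.HNTC
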