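import Cfsg.Agent.Lib.Lead.HNP.HNTCData
import Cfsg.Agent.Lib.Helper6.TCRel3
import Cfsg.Agent.Lib.Lead.HNP.HNTCSFin85

/-! # HNTC: the kernel check of a part of the relators on the coset table -/

set_option autoImplicit false

namespace Cfsg.Agent.Lib.Lead.HNP.HNTC

open Cfsg.Agent.Lib.Helper6.TC

theorem chk_pow3_9_0 : tab.minOKc [1, 2, 2, 0, 2, 2, 2] 3 617085 4571 = true := by decide +kernel

theorem chk_pow3_9_1 : tab.minOKc [1, 2, 2, 0, 2, 2, 2] 3 621656 4571 = true := by decide +kernel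

theorem chk_pow3_9_2 : tab.minOKc [1, 2, 2, 0, 2, 2, 2] 3 626227 4571 = true := by decide +kernel

theorem chk_pow3_9_3 : tab.minOKc [1, 2, 2, 0, 2, 2, 2] 3 630798 4571 = true := by decide +kernel

theorem chk_pow3_9_4 : tab.minOKc [1, 2, 2, 0, 2, 2, 2] 3 635369 4571 = true := by decide +kernel

theorem chk_pow3_9_5 : tab.minOKc [1, 2, 2, 0, 2, 2, 2] 3 639940 4571 = true := by decide +kernel

theorem chk_pow3_9_6 : tab.minOKc [1, 2, 2, 0, 2, 2, 2] 3 644511 4571 = true := by decide +kernel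

theorem chk_pow3_9_7 : tab.minOKc [1, 2, 2, 0, 2, 2, 2] 3 649082 4571 = true := by decide +kernel

theorem chk_pow3_9_8 : tab.minOKc [1, 2, 2, 0, 2, 2, 2] 3 653653 4571 = true := by decide +kernel

theorem chk_pow3_9_9 : tab.minOKc [1, 2, 2, 0, 2, 2, 2] 3 658224 4571 = true := by decide +kernel

theorem chk_pow3_9_10 : tab.minOKc [1, 2, 2, 0, 2, 2, 2] 3 662795 4571 = true := by decide +kernel

theorem chk_pow3_9_11 : tab.minOKc [1, 2, 2, 0, 2, 2, 2] 3 667366 4571 = true := by decide +kernel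

theorem chk_pow3_9_12 : tab.minOKc [1, 2, 2, 0, 2, 2, 2] 3 671937 4571 = true := by decide +kernel

theorem chk_pow3_9_13 : tab.minOKc [1, 2, 2, 0, 2, 2, 2] 3 676508 4571 = true := by decide +kernel

theorem chk_pow3_9_14 : tab.minOKc [1, 2, 2, 0, 2, 2, 2] 3 681079 4571 = true := by decide +kernel

theorem chk_pow3_9 : tab.minOKc [1, 2, 2, 0, 2, 2, 2] 3 617085 68565 = true := by
  refine tab.minOKc_of_chunks [1, 2, 2, 0, 2, 2, 2] 3 617085 4571 15 (by norm_num) ?_
  intro i hi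
  interval_cases i
  · exact chk_pow3_9_0
  · exact chk_pow3_9_1
  · exact chk_pow3_9_2
  · exact chk_pow3_9_3
  · exact chk_pow3_9_4
  · exact chk_pow3_9_5
  · exact chk_pow3_9_6
  · exact chk_pow3_9_7
  · exact chk_pow3_9_8
  · exact chk_pow3_9_9
  · exact chk_pow3_9_10
  · exact chk_pow3_9_11
  · exact chk_pow3_9_12
  · exact chk_pow3_9_13
  · exact chk_pow3_9_14

theorem chk_pow3_10_0 : tab.minOKc [1, 2, 2, 0, 2, 2, 2] 3 685650 4571 = true := by decide +kernel

theorem chk_pow3_10_1 : tab.minOKc [1, 2, 2, 0, 2, 2, 2] 3 690221 4571 = true := by decide +kernel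

theorem chk_pow3_10_2 : tab.minOKc [1, 2, 2, 0, 2, 2, 2] 3 694792 4571 = true := by decide +kernel

theorem chk_pow3_10_3 : tab.minOKc [1, 2, 2, 0, 2, 2, 2] 3 699363 4571 = true := by decide +kernel

theorem chk_pow3_10_4 : tab.minOKc [1, 2, 2, 0, 2, 2, 2] 3 703934 4571 = true := by decide +kernel

theorem chk_pow3_10_5 : tab.minOKc [1, 2, 2, 0, 2, 2, 2] 3 708505 4571 = true := by decide +kernel

theorem chk_pow3_10_6 : tab.minOKc [1, 2, 2, 0, 2, 2, 2] 3 713076 4571 = true := by decide +kernel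

theorem chk_pow3_10_7 : tab.minOKc [1, 2, 2, 0, 2, 2, 2] 3 717647 4571 = true := by decide +kernel

theorem chk_pow3_10_8 : tab.minOKc [1, 2, 2, 0, 2, 2, 2] 3 722218 4571 = true := by decide +kernel

theorem chk_pow3_10_9 : tab.minOKc [1, 2, 2, 0, 2, 2, 2] 3 726789 4571 = true := by decide +kernel

theorem chk_pow3_10_10 : tab.minOKc [1, 2, 2, 0, 2, 2, 2] 3 731360 4571 = true := by decide +kernel

theorem chk_pow3_10_11 : tab.minOKc [1, 2, 2, 0, 2, 2, 2] 3 735931 4571 = true := by decide +kernel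

theorem chk_pow3_10_12 : tab.minOKc [1, 2, 2, 0, 2, 2, 2] 3 740502 4571 = true := by decide +kernel

theorem chk_pow3_10_13 : tab.minOKc [1, 2, 2, 0, 2, 2, 2] 3 745073 4571 = true := by decide +kernel

theorem chk_pow3_10_14 : tab.minOKc [1, 2, 2, 0, 2, 2, 2] 3 749644 4571 = true := by decide +kernel

theorem chk_pow3_10 : tab.minOKc [1, 2, 2, 0, 2, 2, 2] 3 685650 68565 = true := by
  refine tab.minOKc_of_chunks [1, 2, 2, 0, 2, 2, 2] 3 685650 4571 15 (by norm_num) ?_
  intro i hi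
  interval_cases i
  · exact chk_pow3_10_0
  · exact chk_pow3_10_1
  · exact chk_pow3_10_2
  · exact chk_pow3_10_3
  · exact chk_pow3_10_4
  · exact chk_pow3_10_5
  · exact chk_pow3_10_6
  · exact chk_pow3_10_7
  · exact chk_pow3_10_8
  · exact chk_pow3_10_9
  · exact chk_pow3_10_10
  · exact chk_pow3_10_11
  · exact chk_pow3_10_12
  · exact chk_pow3_10_13
  · exact chk_pow3_10_14


end Cfsg.Agent.Lib.Lead.HNP.HNTC
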