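import Cfsg.Agent.Lib.Lead.HNP.HNTCData
import Cfsg.Agent.Lib.Helper6.TCRel3
import Cfsg.Agent.Lib.Lead.HNP.HNTCRel47

/-! # HNTC: the kernel check of a part of the relators on the coset table -/

set_option autoImplicit false

namespace Cfsg.Agent.Lib.Lead.HNP.HNTC

open Cfsg.Agent.Lib.Helper6.TC

theorem chk_pow8_44_0 : tab.minOKc [5, 2, 1, 3, 3, 1, 3, 1, 3, 4, 2, 0, 2, 0, 2, 2, 0, 3, 1, 1] 1 1056000 1600 = true := by decide +kernel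

theorem chk_pow8_44_1 : tab.minOKc [5, 2, 1, 3, 3, 1, 3, 1, 3, 4, 2, 0, 2, 0, 2, 2, 0, 3, 1, 1] 1 1057600 1600 = true := by decide +kernel

theorem chk_pow8_44_2 : tab.minOKc [5, 2, 1, 3, 3, 1, 3, 1, 3, 4, 2, 0, 2, 0, 2, 2, 0, 3, 1, 1] 1 1059200 1600 = true := by decide +kernel

theorem chk_pow8_44_3 : tab.minOKc [5, 2, 1, 3, 3, 1, 3, 1, 3, 4, 2, 0, 2, 0, 2, 2, 0, 3, 1, 1] 1 1060800 1600 = true := by decide +kernel

theorem chk_pow8_44_4 : tab.minOKc [5, 2, 1, 3, 3, 1, 3, 1, 3, 4, 2, 0, 2, 0, 2, 2, 0, 3, 1, 1] 1 1062400 1600 = true := by decide +kernel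

theorem chk_pow8_44_5 : tab.minOKc [5, 2, 1, 3, 3, 1, 3, 1, 3, 4, 2, 0, 2, 0, 2, 2, 0, 3, 1, 1] 1 1064000 1600 = true := by decide +kernel

theorem chk_pow8_44_6 : tab.minOKc [5, 2, 1, 3, 3, 1, 3, 1, 3, 4, 2, 0, 2, 0, 2, 2, 0, 3, 1, 1] 1 1065600 1600 = true := by decide +kernel

theorem chk_pow8_44_7 : tab.minOKc [5, 2, 1, 3, 3, 1, 3, 1, 3, 4, 2, 0, 2, 0, 2, 2, 0, 3, 1, 1] 1 1067200 1600 = true := by decide +kernel

theorem chk_pow8_44_8 : tab.minOKc [5, 2, 1, 3, 3, 1, 3, 1, 3, 4, 2, 0, 2, 0, 2, 2, 0, 3, 1, 1] 1 1068800 1600 = true := by decide +kernel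

theorem chk_pow8_44_9 : tab.minOKc [5, 2, 1, 3, 3, 1, 3, 1, 3, 4, 2, 0, 2, 0, 2, 2, 0, 3, 1, 1] 1 1070400 1600 = true := by decide +kernel

theorem chk_pow8_44_10 : tab.minOKc [5, 2, 1, 3, 3, 1, 3, 1, 3, 4, 2, 0, 2, 0, 2, 2, 0, 3, 1, 1] 1 1072000 1600 = true := by decide +kernel

theorem chk_pow8_44_11 : tab.minOKc [5, 2, 1, 3, 3, 1, 3, 1, 3, 4, 2, 0, 2, 0, 2, 2, 0, 3, 1, 1] 1 1073600 1600 = true := by decide +kernel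

theorem chk_pow8_44_12 : tab.minOKc [5, 2, 1, 3, 3, 1, 3, 1, 3, 4, 2, 0, 2, 0, 2, 2, 0, 3, 1, 1] 1 1075200 1600 = true := by decide +kernel

theorem chk_pow8_44_13 : tab.minOKc [5, 2, 1, 3, 3, 1, 3, 1, 3, 4, 2, 0, 2, 0, 2, 2, 0, 3, 1, 1] 1 1076800 1600 = true := by decide +kernel

theorem chk_pow8_44_14 : tab.minOKc [5, 2, 1, 3, 3, 1, 3, 1, 3, 4, 2, 0, 2, 0, 2, 2, 0, 3, 1, 1] 1 1078400 1600 = true := by decide +kernel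

theorem chk_pow8_44 : tab.minOKc [5, 2, 1, 3, 3, 1, 3, 1, 3, 4, 2, 0, 2, 0, 2, 2, 0, 3, 1, 1] 1 1056000 24000 = true := by
  refine tab.minOKc_of_chunks [5, 2, 1, 3, 3, 1, 3, 1, 3, 4, 2, 0, 2, 0, 2, 2, 0, 3, 1, 1] 1 1056000 1600 15 (by norm_num) ?_
  intro i hi
  interval_cases i
  · exact chk_pow8_44_0
  · exact chk_pow8_44_1
  · exact chk_pow8_44_2
  · exact chk_pow8_44_3
  · exact chk_pow8_44_4
  · exact chk_pow8_44_5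
  · exact chk_pow8_44_6
  · exact chk_pow8_44_7
  · exact chk_pow8_44_8
  · exact chk_pow8_44_9
  · exact chk_pow8_44_10
  · exact chk_pow8_44_11
  · exact chk_pow8_44_12
  · exact chk_pow8_44_13
  · exact chk_pow8_44_14

theorem chk_pow8_45_0 : tab.minOKc [5, 2, 1, 3, 3, 1, 3, 1, 3, 4, 2, 0, 2, 0, 2, 2, 0, 3, 1, 1] 1 1080000 1600 = true := by decide +kernel

theorem chk_pow8_45_1 : tab.minOKc [5, 2, 1, 3, 3, 1, 3, 1, 3, 4, 2, 0, 2, 0, 2, 2, 0, 3, 1, 1] 1 1081600 1600 = true := by decide +kernel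

theorem chk_pow8_45_2 : tab.minOKc [5, 2, 1, 3, 3, 1, 3, 1, 3, 4, 2, 0, 2, 0, 2, 2, 0, 3, 1, 1] 1 1083200 1600 = true := by decide +kernel

theorem chk_pow8_45_3 : tab.minOKc [5, 2, 1, 3, 3, 1, 3, 1, 3, 4, 2, 0, 2, 0, 2, 2, 0, 3, 1, 1] 1 1084800 1600 = true := by decide +kernel

theorem chk_pow8_45_4 : tab.minOKc [5, 2, 1, 3, 3, 1, 3, 1, 3, 4, 2, 0, 2, 0, 2, 2, 0, 3, 1, 1] 1 1086400 1600 = true := by decide +kernel

theorem chk_pow8_45_5 : tab.minOKc [5, 2, 1, 3, 3, 1, 3, 1, 3, 4, 2, 0, 2, 0, 2, 2, 0, 3, 1, 1] 1 1088000 1600 = true := by decide +kernel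

theorem chk_pow8_45_6 : tab.minOKc [5, 2, 1, 3, 3, 1, 3, 1, 3, 4, 2, 0, 2, 0, 2, 2, 0, 3, 1, 1] 1 1089600 1600 = true := by decide +kernel

theorem chk_pow8_45_7 : tab.minOKc [5, 2, 1, 3, 3, 1, 3, 1, 3, 4, 2, 0, 2, 0, 2, 2, 0, 3, 1, 1] 1 1091200 1600 = true := by decide +kernel

theorem chk_pow8_45_8 : tab.minOKc [5, 2, 1, 3, 3, 1, 3, 1, 3, 4, 2, 0, 2, 0, 2, 2, 0, 3, 1, 1] 1 1092800 1600 = true := by decide +kernel

theorem chk_pow8_45_9 : tab.minOKc [5, 2, 1, 3, 3, 1, 3, 1, 3, 4, 2, 0, 2, 0, 2, 2, 0, 3, 1, 1] 1 1094400 1600 = true := by decide +kernel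

theorem chk_pow8_45_10 : tab.minOKc [5, 2, 1, 3, 3, 1, 3, 1, 3, 4, 2, 0, 2, 0, 2, 2, 0, 3, 1, 1] 1 1096000 1600 = true := by decide +kernel

theorem chk_pow8_45_11 : tab.minOKc [5, 2, 1, 3, 3, 1, 3, 1, 3, 4, 2, 0, 2, 0, 2, 2, 0, 3, 1, 1] 1 1097600 1600 = true := by decide +kernel

theorem chk_pow8_45_12 : tab.minOKc [5, 2, 1, 3, 3, 1, 3, 1, 3, 4, 2, 0, 2, 0, 2, 2, 0, 3, 1, 1] 1 1099200 1600 = true := by decide +kernel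

theorem chk_pow8_45_13 : tab.minOKc [5, 2, 1, 3, 3, 1, 3, 1, 3, 4, 2, 0, 2, 0, 2, 2, 0, 3, 1, 1] 1 1100800 1600 = true := by decide +kernel

theorem chk_pow8_45_14 : tab.minOKc [5, 2, 1, 3, 3, 1, 3, 1, 3, 4, 2, 0, 2, 0, 2, 2, 0, 3, 1, 1] 1 1102400 1600 = true := by decide +kernel

theorem chk_pow8_45 : tab.minOKc [5, 2, 1, 3, 3, 1, 3, 1, 3, 4, 2, 0, 2, 0, 2, 2, 0, 3, 1, 1] 1 1080000 24000 = true := by
  refine tab.minOKc_of_chunks [5, 2, 1, 3, 3, 1, 3, 1, 3, 4, 2, 0, 2, 0, 2, 2, 0, 3, 1, 1] 1 1080000 1600 15 (by norm_num) ?_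
  intro i hi
  interval_cases i
  · exact chk_pow8_45_0
  · exact chk_pow8_45_1
  · exact chk_pow8_45_2
  · exact chk_pow8_45_3
  · exact chk_pow8_45_4
  · exact chk_pow8_45_5
  · exact chk_pow8_45_6
  · exact chk_pow8_45_7
  · exact chk_pow8_45_8
  · exact chk_pow8_45_9
  · exact chk_pow8_45_10
  · exact chk_pow8_45_11
  · exact chk_pow8_45_12
  · exact chk_pow8_45_13
  · exact chk_pow8_45_14


end Cfsg.Agent.Lib.Lead.HNP.HNTC
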