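import Cfsg.Agent.Lib.Lead.HNP.HNTCData
import Cfsg.Agent.Lib.Helper6.TCRel3
import Cfsg.Agent.Lib.Lead.HNP.HNTCRel0

/-! # HNTC: the kernel check of a part of the relators on the coset table -/

set_option autoImplicit false

namespace Cfsg.Agent.Lib.Lead.HNP.HNTC

open Cfsg.Agent.Lib.Helper6.TC

theorem chk_pow3_11_0 : tab.minOKc [1, 2, 2, 0, 2, 2, 2] 3 754215 4571 = true := by decide +kernel

theorem chk_pow3_11_1 : tab.minOKc [1, 2, 2, 0, 2, 2, 2] 3 758786 4571 = true := by decide +kernel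

theorem chk_pow3_11_2 : tab.minOKc [1, 2, 2, 0, 2, 2, 2] 3 763357 4571 = true := by decide +kernel

theorem chk_pow3_11_3 : tab.minOKc [1, 2, 2, 0, 2, 2, 2] 3 767928 4571 = true := by decide +kernel

theorem chk_pow3_11_4 : tab.minOKc [1, 2, 2, 0, 2, 2, 2] 3 772499 4571 = true := by decide +kernel

theorem chk_pow3_11_5 : tab.minOKc [1, 2, 2, 0, 2, 2, 2] 3 777070 4571 = true := by decide +kernel

theorem chk_pow3_11_6 : tab.minOKc [1, 2, 2, 0, 2, 2, 2] 3 781641 4571 = true := by decide +kernel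

theorem chk_pow3_11_7 : tab.minOKc [1, 2, 2, 0, 2, 2, 2] 3 786212 4571 = true := by decide +kernel

theorem chk_pow3_11_8 : tab.minOKc [1, 2, 2, 0, 2, 2, 2] 3 790783 4571 = true := by decide +kernel

theorem chk_pow3_11_9 : tab.minOKc [1, 2, 2, 0, 2, 2, 2] 3 795354 4571 = true := by decide +kernel

theorem chk_pow3_11_10 : tab.minOKc [1, 2, 2, 0, 2, 2, 2] 3 799925 4571 = true := by decide +kernel

theorem chk_pow3_11_11 : tab.minOKc [1, 2, 2, 0, 2, 2, 2] 3 804496 4571 = true := by decide +kernel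

theorem chk_pow3_11_12 : tab.minOKc [1, 2, 2, 0, 2, 2, 2] 3 809067 4571 = true := by decide +kernel

theorem chk_pow3_11_13 : tab.minOKc [1, 2, 2, 0, 2, 2, 2] 3 813638 4571 = true := by decide +kernel

theorem chk_pow3_11_14 : tab.minOKc [1, 2, 2, 0, 2, 2, 2] 3 818209 4571 = true := by decide +kernel

theorem chk_pow3_11 : tab.minOKc [1, 2, 2, 0, 2, 2, 2] 3 754215 68565 = true := by
  refine tab.minOKc_of_chunks [1, 2, 2, 0, 2, 2, 2] 3 754215 4571 15 (by norm_num) ?_
  intro i hi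
  interval_cases i
  · exact chk_pow3_11_0
  · exact chk_pow3_11_1
  · exact chk_pow3_11_2
  · exact chk_pow3_11_3
  · exact chk_pow3_11_4
  · exact chk_pow3_11_5
  · exact chk_pow3_11_6
  · exact chk_pow3_11_7
  · exact chk_pow3_11_8
  · exact chk_pow3_11_9
  · exact chk_pow3_11_10
  · exact chk_pow3_11_11
  · exact chk_pow3_11_12
  · exact chk_pow3_11_13
  · exact chk_pow3_11_14

theorem chk_pow3_12_0 : tab.minOKc [1, 2, 2, 0, 2, 2, 2] 3 822780 4571 = true := by decide +kernel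

theorem chk_pow3_12_1 : tab.minOKc [1, 2, 2, 0, 2, 2, 2] 3 827351 4571 = true := by decide +kernel

theorem chk_pow3_12_2 : tab.minOKc [1, 2, 2, 0, 2, 2, 2] 3 831922 4571 = true := by decide +kernel

theorem chk_pow3_12_3 : tab.minOKc [1, 2, 2, 0, 2, 2, 2] 3 836493 4571 = true := by decide +kernel

theorem chk_pow3_12_4 : tab.minOKc [1, 2, 2, 0, 2, 2, 2] 3 841064 4571 = true := by decide +kernel

theorem chk_pow3_12_5 : tab.minOKc [1, 2, 2, 0, 2, 2, 2] 3 845635 4571 = true := by decide +kernel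

theorem chk_pow3_12_6 : tab.minOKc [1, 2, 2, 0, 2, 2, 2] 3 850206 4571 = true := by decide +kernel

theorem chk_pow3_12_7 : tab.minOKc [1, 2, 2, 0, 2, 2, 2] 3 854777 4571 = true := by decide +kernel

theorem chk_pow3_12_8 : tab.minOKc [1, 2, 2, 0, 2, 2, 2] 3 859348 4571 = true := by decide +kernel

theorem chk_pow3_12_9 : tab.minOKc [1, 2, 2, 0, 2, 2, 2] 3 863919 4571 = true := by decide +kernel

theorem chk_pow3_12_10 : tab.minOKc [1, 2, 2, 0, 2, 2, 2] 3 868490 4571 = true := by decide +kernel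

theorem chk_pow3_12_11 : tab.minOKc [1, 2, 2, 0, 2, 2, 2] 3 873061 4571 = true := by decide +kernel

theorem chk_pow3_12_12 : tab.minOKc [1, 2, 2, 0, 2, 2, 2] 3 877632 4571 = true := by decide +kernel

theorem chk_pow3_12_13 : tab.minOKc [1, 2, 2, 0, 2, 2, 2] 3 882203 4571 = true := by decide +kernel

theorem chk_pow3_12_14 : tab.minOKc [1, 2, 2, 0, 2, 2, 2] 3 886774 4571 = true := by decide +kernel

theorem chk_pow3_12 : tab.minOKc [1, 2, 2, 0, 2, 2, 2] 3 822780 68565 = true := by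
  refine tab.minOKc_of_chunks [1, 2, 2, 0, 2, 2, 2] 3 822780 4571 15 (by norm_num) ?_
  intro i hi
  interval_cases i
  · exact chk_pow3_12_0
  · exact chk_pow3_12_1
  · exact chk_pow3_12_2
  · exact chk_pow3_12_3
  · exact chk_pow3_12_4
  · exact chk_pow3_12_5
  · exact chk_pow3_12_6
  · exact chk_pow3_12_7
  · exact chk_pow3_12_8
  · exact chk_pow3_12_9
  · exact chk_pow3_12_10
  · exact chk_pow3_12_11
  · exact chk_pow3_12_12
  · exact chk_pow3_12_13
  · exact chk_pow3_12_14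


end Cfsg.Agent.Lib.Lead.HNP.HNTC
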