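import Cfsg.Agent.Lib.Lead.HNP.HNTCData
import Cfsg.Agent.Lib.Helper6.TCRel3
import Cfsg.Agent.Lib.Lead.HNP.HNTCRel48

/-! # HNTC: the kernel check of a part of the relators on the coset table -/

set_option autoImplicit false

namespace Cfsg.Agent.Lib.Lead.HNP.HNTC

open Cfsg.Agent.Lib.Helper6.TC

theorem chk_pow8_46_0 : tab.minOKc [5, 2, 1, 3, 3, 1, 3, 1, 3, 4, 2, 0, 2, 0, 2, 2, 0, 3, 1, 1] 1 1104000 1600 = true := by decide +kernel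

theorem chk_pow8_46_1 : tab.minOKc [5, 2, 1, 3, 3, 1, 3, 1, 3, 4, 2, 0, 2, 0, 2, 2, 0, 3, 1, 1] 1 1105600 1600 = true := by decide +kernel

theorem chk_pow8_46_2 : tab.minOKc [5, 2, 1, 3, 3, 1, 3, 1, 3, 4, 2, 0, 2, 0, 2, 2, 0, 3, 1, 1] 1 1107200 1600 = true := by decide +kernel

theorem chk_pow8_46_3 : tab.minOKc [5, 2, 1, 3, 3, 1, 3, 1, 3, 4, 2, 0, 2, 0, 2, 2, 0, 3, 1, 1] 1 1108800 1600 = true := by decide +kernel

theorem chk_pow8_46_4 : tab.minOKc [5, 2, 1, 3, 3, 1, 3, 1, 3, 4, 2, 0, 2, 0, 2, 2, 0, 3, 1, 1] 1 1110400 1600 = true := by decide +kernel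

theorem chk_pow8_46_5 : tab.minOKc [5, 2, 1, 3, 3, 1, 3, 1, 3, 4, 2, 0, 2, 0, 2, 2, 0, 3, 1, 1] 1 1112000 1600 = true := by decide +kernel

theorem chk_pow8_46_6 : tab.minOKc [5, 2, 1, 3, 3, 1, 3, 1, 3, 4, 2, 0, 2, 0, 2, 2, 0, 3, 1, 1] 1 1113600 1600 = true := by decide +kernel

theorem chk_pow8_46_7 : tab.minOKc [5, 2, 1, 3, 3, 1, 3, 1, 3, 4, 2, 0, 2, 0, 2, 2, 0, 3, 1, 1] 1 1115200 1600 = true := by decide +kernel

theorem chk_pow8_46_8 : tab.minOKc [5, 2, 1, 3, 3, 1, 3, 1, 3, 4, 2, 0, 2, 0, 2, 2, 0, 3, 1, 1] 1 1116800 1600 = true := by decide +kernel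

theorem chk_pow8_46_9 : tab.minOKc [5, 2, 1, 3, 3, 1, 3, 1, 3, 4, 2, 0, 2, 0, 2, 2, 0, 3, 1, 1] 1 1118400 1600 = true := by decide +kernel

theorem chk_pow8_46_10 : tab.minOKc [5, 2, 1, 3, 3, 1, 3, 1, 3, 4, 2, 0, 2, 0, 2, 2, 0, 3, 1, 1] 1 1120000 1600 = true := by decide +kernel

theorem chk_pow8_46_11 : tab.minOKc [5, 2, 1, 3, 3, 1, 3, 1, 3, 4, 2, 0, 2, 0, 2, 2, 0, 3, 1, 1] 1 1121600 1600 = true := by decide +kernel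

theorem chk_pow8_46_12 : tab.minOKc [5, 2, 1, 3, 3, 1, 3, 1, 3, 4, 2, 0, 2, 0, 2, 2, 0, 3, 1, 1] 1 1123200 1600 = true := by decide +kernel

theorem chk_pow8_46_13 : tab.minOKc [5, 2, 1, 3, 3, 1, 3, 1, 3, 4, 2, 0, 2, 0, 2, 2, 0, 3, 1, 1] 1 1124800 1600 = true := by decide +kernel

theorem chk_pow8_46_14 : tab.minOKc [5, 2, 1, 3, 3, 1, 3, 1, 3, 4, 2, 0, 2, 0, 2, 2, 0, 3, 1, 1] 1 1126400 1600 = true := by decide +kernel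

theorem chk_pow8_46 : tab.minOKc [5, 2, 1, 3, 3, 1, 3, 1, 3, 4, 2, 0, 2, 0, 2, 2, 0, 3, 1, 1] 1 1104000 24000 = true := by
  refine tab.minOKc_of_chunks [5, 2, 1, 3, 3, 1, 3, 1, 3, 4, 2, 0, 2, 0, 2, 2, 0, 3, 1, 1] 1 1104000 1600 15 (by norm_num) ?_
  intro i hi
  interval_cases i
  · exact chk_pow8_46_0
  · exact chk_pow8_46_1
  · exact chk_pow8_46_2
  · exact chk_pow8_46_3
  · exact chk_pow8_46_4
  · exact chk_pow8_46_5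
  · exact chk_pow8_46_6
  · exact chk_pow8_46_7
  · exact chk_pow8_46_8
  · exact chk_pow8_46_9
  · exact chk_pow8_46_10
  · exact chk_pow8_46_11
  · exact chk_pow8_46_12
  · exact chk_pow8_46_13
  · exact chk_pow8_46_14

theorem chk_pow8_47_0 : tab.minOKc [5, 2, 1, 3, 3, 1, 3, 1, 3, 4, 2, 0, 2, 0, 2, 2, 0, 3, 1, 1] 1 1128000 1600 = true := by decide +kernel

theorem chk_pow8_47_1 : tab.minOKc [5, 2, 1, 3, 3, 1, 3, 1, 3, 4, 2, 0, 2, 0, 2, 2, 0, 3, 1, 1] 1 1129600 1600 = true := by decide +kernel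

theorem chk_pow8_47_2 : tab.minOKc [5, 2, 1, 3, 3, 1, 3, 1, 3, 4, 2, 0, 2, 0, 2, 2, 0, 3, 1, 1] 1 1131200 1600 = true := by decide +kernel

theorem chk_pow8_47_3 : tab.minOKc [5, 2, 1, 3, 3, 1, 3, 1, 3, 4, 2, 0, 2, 0, 2, 2, 0, 3, 1, 1] 1 1132800 1600 = true := by decide +kernel

theorem chk_pow8_47_4 : tab.minOKc [5, 2, 1, 3, 3, 1, 3, 1, 3, 4, 2, 0, 2, 0, 2, 2, 0, 3, 1, 1] 1 1134400 1600 = true := by decide +kernel

theorem chk_pow8_47_5 : tab.minOKc [5, 2, 1, 3, 3, 1, 3, 1, 3, 4, 2, 0, 2, 0, 2, 2, 0, 3, 1, 1] 1 1136000 1600 = true := by decide +kernel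

theorem chk_pow8_47_6 : tab.minOKc [5, 2, 1, 3, 3, 1, 3, 1, 3, 4, 2, 0, 2, 0, 2, 2, 0, 3, 1, 1] 1 1137600 1600 = true := by decide +kernel

theorem chk_pow8_47_7 : tab.minOKc [5, 2, 1, 3, 3, 1, 3, 1, 3, 4, 2, 0, 2, 0, 2, 2, 0, 3, 1, 1] 1 1139200 1600 = true := by decide +kernel

theorem chk_pow8_47_8 : tab.minOKc [5, 2, 1, 3, 3, 1, 3, 1, 3, 4, 2, 0, 2, 0, 2, 2, 0, 3, 1, 1] 1 1140800 1600 = true := by decide +kernel

theorem chk_pow8_47_9 : tab.minOKc [5, 2, 1, 3, 3, 1, 3, 1, 3, 4, 2, 0, 2, 0, 2, 2, 0, 3, 1, 1] 1 1142400 1600 = true := by decide +kernel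

theorem chk_pow8_47_10 : tab.minOKc [5, 2, 1, 3, 3, 1, 3, 1, 3, 4, 2, 0, 2, 0, 2, 2, 0, 3, 1, 1] 1 1144000 1600 = true := by decide +kernel

theorem chk_pow8_47_11 : tab.minOKc [5, 2, 1, 3, 3, 1, 3, 1, 3, 4, 2, 0, 2, 0, 2, 2, 0, 3, 1, 1] 1 1145600 1600 = true := by decide +kernel

theorem chk_pow8_47_12 : tab.minOKc [5, 2, 1, 3, 3, 1, 3, 1, 3, 4, 2, 0, 2, 0, 2, 2, 0, 3, 1, 1] 1 1147200 1600 = true := by decide +kernel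

theorem chk_pow8_47_13 : tab.minOKc [5, 2, 1, 3, 3, 1, 3, 1, 3, 4, 2, 0, 2, 0, 2, 2, 0, 3, 1, 1] 1 1148800 1600 = true := by decide +kernel

theorem chk_pow8_47_14 : tab.minOKc [5, 2, 1, 3, 3, 1, 3, 1, 3, 4, 2, 0, 2, 0, 2, 2, 0, 3, 1, 1] 1 1150400 1600 = true := by decide +kernel

theorem chk_pow8_47 : tab.minOKc [5, 2, 1, 3, 3, 1, 3, 1, 3, 4, 2, 0, 2, 0, 2, 2, 0, 3, 1, 1] 1 1128000 24000 = true := by
  refine tab.minOKc_of_chunks [5, 2, 1, 3, 3, 1, 3, 1, 3, 4, 2, 0, 2, 0, 2, 2, 0, 3, 1, 1] 1 1128000 1600 15 (by norm_num) ?_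
  intro i hi
  interval_cases i
  · exact chk_pow8_47_0
  · exact chk_pow8_47_1
  · exact chk_pow8_47_2
  · exact chk_pow8_47_3
  · exact chk_pow8_47_4
  · exact chk_pow8_47_5
  · exact chk_pow8_47_6
  · exact chk_pow8_47_7
  · exact chk_pow8_47_8
  · exact chk_pow8_47_9
  · exact chk_pow8_47_10
  · exact chk_pow8_47_11
  · exact chk_pow8_47_12
  · exact chk_pow8_47_13
  · exact chk_pow8_47_14


end Cfsg.Agent.Lib.Lead.HNP.HNTC
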