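import Cfsg.Agent.Lib.Lead.HNP.HNTCData
import Cfsg.Agent.Lib.Helper6.TCRel3
import Cfsg.Agent.Lib.Lead.HNP.HNTCRel1

/-! # HNTC: the kernel check of a part of the relators on the coset table -/

set_option autoImplicit false

namespace Cfsg.Agent.Lib.Lead.HNP.HNTC

open Cfsg.Agent.Lib.Helper6.TC

theorem chk_pow3_13_0 : tab.minOKc [1, 2, 2, 0, 2, 2, 2] 3 891345 4571 = true := by decide +kernel

theorem chk_pow3_13_1 : tab.minOKc [1, 2, 2, 0, 2, 2, 2] 3 895916 4571 = true := by decide +kernel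

theorem chk_pow3_13_2 : tab.minOKc [1, 2, 2, 0, 2, 2, 2] 3 900487 4571 = true := by decide +kernel

theorem chk_pow3_13_3 : tab.minOKc [1, 2, 2, 0, 2, 2, 2] 3 905058 4571 = true := by decide +kernel

theorem chk_pow3_13_4 : tab.minOKc [1, 2, 2, 0, 2, 2, 2] 3 909629 4571 = true := by decide +kernel

theorem chk_pow3_13_5 : tab.minOKc [1, 2, 2, 0, 2, 2, 2] 3 914200 4571 = true := by decide +kernel

theorem chk_pow3_13_6 : tab.minOKc [1, 2, 2, 0, 2, 2, 2] 3 918771 4571 = true := by decide +kernel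

theorem chk_pow3_13_7 : tab.minOKc [1, 2, 2, 0, 2, 2, 2] 3 923342 4571 = true := by decide +kernel

theorem chk_pow3_13_8 : tab.minOKc [1, 2, 2, 0, 2, 2, 2] 3 927913 4571 = true := by decide +kernel

theorem chk_pow3_13_9 : tab.minOKc [1, 2, 2, 0, 2, 2, 2] 3 932484 4571 = true := by decide +kernel

theorem chk_pow3_13_10 : tab.minOKc [1, 2, 2, 0, 2, 2, 2] 3 937055 4571 = true := by decide +kernel

theorem chk_pow3_13_11 : tab.minOKc [1, 2, 2, 0, 2, 2, 2] 3 941626 4571 = true := by decide +kernel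

theorem chk_pow3_13_12 : tab.minOKc [1, 2, 2, 0, 2, 2, 2] 3 946197 4571 = true := by decide +kernel

theorem chk_pow3_13_13 : tab.minOKc [1, 2, 2, 0, 2, 2, 2] 3 950768 4571 = true := by decide +kernel

theorem chk_pow3_13_14 : tab.minOKc [1, 2, 2, 0, 2, 2, 2] 3 955339 4571 = true := by decide +kernel

theorem chk_pow3_13 : tab.minOKc [1, 2, 2, 0, 2, 2, 2] 3 891345 68565 = true := by
  refine tab.minOKc_of_chunks [1, 2, 2, 0, 2, 2, 2] 3 891345 4571 15 (by norm_num) ?_
  intro i hi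
  interval_cases i
  · exact chk_pow3_13_0
  · exact chk_pow3_13_1
  · exact chk_pow3_13_2
  · exact chk_pow3_13_3
  · exact chk_pow3_13_4
  · exact chk_pow3_13_5
  · exact chk_pow3_13_6
  · exact chk_pow3_13_7
  · exact chk_pow3_13_8
  · exact chk_pow3_13_9
  · exact chk_pow3_13_10
  · exact chk_pow3_13_11
  · exact chk_pow3_13_12
  · exact chk_pow3_13_13
  · exact chk_pow3_13_14

theorem chk_pow3_14_0 : tab.minOKc [1, 2, 2, 0, 2, 2, 2] 3 959910 4571 = true := by decide +kernel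

theorem chk_pow3_14_1 : tab.minOKc [1, 2, 2, 0, 2, 2, 2] 3 964481 4571 = true := by decide +kernel

theorem chk_pow3_14_2 : tab.minOKc [1, 2, 2, 0, 2, 2, 2] 3 969052 4571 = true := by decide +kernel

theorem chk_pow3_14_3 : tab.minOKc [1, 2, 2, 0, 2, 2, 2] 3 973623 4571 = true := by decide +kernel

theorem chk_pow3_14_4 : tab.minOKc [1, 2, 2, 0, 2, 2, 2] 3 978194 4571 = true := by decide +kernel

theorem chk_pow3_14_5 : tab.minOKc [1, 2, 2, 0, 2, 2, 2] 3 982765 4571 = true := by decide +kernel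

theorem chk_pow3_14_6 : tab.minOKc [1, 2, 2, 0, 2, 2, 2] 3 987336 4571 = true := by decide +kernel

theorem chk_pow3_14_7 : tab.minOKc [1, 2, 2, 0, 2, 2, 2] 3 991907 4571 = true := by decide +kernel

theorem chk_pow3_14_8 : tab.minOKc [1, 2, 2, 0, 2, 2, 2] 3 996478 4571 = true := by decide +kernel

theorem chk_pow3_14_9 : tab.minOKc [1, 2, 2, 0, 2, 2, 2] 3 1001049 4571 = true := by decide +kernel

theorem chk_pow3_14_10 : tab.minOKc [1, 2, 2, 0, 2, 2, 2] 3 1005620 4571 = true := by decide +kernel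

theorem chk_pow3_14_11 : tab.minOKc [1, 2, 2, 0, 2, 2, 2] 3 1010191 4571 = true := by decide +kernel

theorem chk_pow3_14_12 : tab.minOKc [1, 2, 2, 0, 2, 2, 2] 3 1014762 4571 = true := by decide +kernel

theorem chk_pow3_14_13 : tab.minOKc [1, 2, 2, 0, 2, 2, 2] 3 1019333 4571 = true := by decide +kernel

theorem chk_pow3_14_14 : tab.minOKc [1, 2, 2, 0, 2, 2, 2] 3 1023904 4571 = true := by decide +kernel

theorem chk_pow3_14 : tab.minOKc [1, 2, 2, 0, 2, 2, 2] 3 959910 68565 = true := by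
  refine tab.minOKc_of_chunks [1, 2, 2, 0, 2, 2, 2] 3 959910 4571 15 (by norm_num) ?_
  intro i hi
  interval_cases i
  · exact chk_pow3_14_0
  · exact chk_pow3_14_1
  · exact chk_pow3_14_2
  · exact chk_pow3_14_3
  · exact chk_pow3_14_4
  · exact chk_pow3_14_5
  · exact chk_pow3_14_6
  · exact chk_pow3_14_7
  · exact chk_pow3_14_8
  · exact chk_pow3_14_9
  · exact chk_pow3_14_10
  · exact chk_pow3_14_11
  · exact chk_pow3_14_12
  · exact chk_pow3_14_13
  · exact chk_pow3_14_14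


end Cfsg.Agent.Lib.Lead.HNP.HNTC
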