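import Cfsg.Agent.Lib.Lead.HNP.HNTCData
import Cfsg.Agent.Lib.Helper6.TCRel3
import Cfsg.Agent.Lib.Lead.HNP.HNTCRel25

/-! # HNTC: the kernel check of a part of the relators on the coset table -/

set_option autoImplicit false

namespace Cfsg.Agent.Lib.Lead.HNP.HNTC

open Cfsg.Agent.Lib.Helper6.TC

theorem chk_pow8_0_0 : tab.minOKc [5, 2, 1, 3, 3, 1, 3, 1, 3, 4, 2, 0, 2, 0, 2, 2, 0, 3, 1, 1] 1 0 1600 = true := by decide +kernel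

theorem chk_pow8_0_1 : tab.minOKc [5, 2, 1, 3, 3, 1, 3, 1, 3, 4, 2, 0, 2, 0, 2, 2, 0, 3, 1, 1] 1 1600 1600 = true := by decide +kernel

theorem chk_pow8_0_2 : tab.minOKc [5, 2, 1, 3, 3, 1, 3, 1, 3, 4, 2, 0, 2, 0, 2, 2, 0, 3, 1, 1] 1 3200 1600 = true := by decide +kernel

theorem chk_pow8_0_3 : tab.minOKc [5, 2, 1, 3, 3, 1, 3, 1, 3, 4, 2, 0, 2, 0, 2, 2, 0, 3, 1, 1] 1 4800 1600 = true := by decide +kernel

theorem chk_pow8_0_4 : tab.minOKc [5, 2, 1, 3, 3, 1, 3, 1, 3, 4, 2, 0, 2, 0, 2, 2, 0, 3, 1, 1] 1 6400 1600 = true := by decide +kernel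

theorem chk_pow8_0_5 : tab.minOKc [5, 2, 1, 3, 3, 1, 3, 1, 3, 4, 2, 0, 2, 0, 2, 2, 0, 3, 1, 1] 1 8000 1600 = true := by decide +kernel

theorem chk_pow8_0_6 : tab.minOKc [5, 2, 1, 3, 3, 1, 3, 1, 3, 4, 2, 0, 2, 0, 2, 2, 0, 3, 1, 1] 1 9600 1600 = true := by decide +kernel

theorem chk_pow8_0_7 : tab.minOKc [5, 2, 1, 3, 3, 1, 3, 1, 3, 4, 2, 0, 2, 0, 2, 2, 0, 3, 1, 1] 1 11200 1600 = true := by decide +kernel

theorem chk_pow8_0_8 : tab.minOKc [5, 2, 1, 3, 3, 1, 3, 1, 3, 4, 2, 0, 2, 0, 2, 2, 0, 3, 1, 1] 1 12800 1600 = true := by decide +kernel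

theorem chk_pow8_0_9 : tab.minOKc [5, 2, 1, 3, 3, 1, 3, 1, 3, 4, 2, 0, 2, 0, 2, 2, 0, 3, 1, 1] 1 14400 1600 = true := by decide +kernel

theorem chk_pow8_0_10 : tab.minOKc [5, 2, 1, 3, 3, 1, 3, 1, 3, 4, 2, 0, 2, 0, 2, 2, 0, 3, 1, 1] 1 16000 1600 = true := by decide +kernel

theorem chk_pow8_0_11 : tab.minOKc [5, 2, 1, 3, 3, 1, 3, 1, 3, 4, 2, 0, 2, 0, 2, 2, 0, 3, 1, 1] 1 17600 1600 = true := by decide +kernel

theorem chk_pow8_0_12 : tab.minOKc [5, 2, 1, 3, 3, 1, 3, 1, 3, 4, 2, 0, 2, 0, 2, 2, 0, 3, 1, 1] 1 19200 1600 = true := by decide +kernel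

theorem chk_pow8_0_13 : tab.minOKc [5, 2, 1, 3, 3, 1, 3, 1, 3, 4, 2, 0, 2, 0, 2, 2, 0, 3, 1, 1] 1 20800 1600 = true := by decide +kernel

theorem chk_pow8_0_14 : tab.minOKc [5, 2, 1, 3, 3, 1, 3, 1, 3, 4, 2, 0, 2, 0, 2, 2, 0, 3, 1, 1] 1 22400 1600 = true := by decide +kernel

theorem chk_pow8_0 : tab.minOKc [5, 2, 1, 3, 3, 1, 3, 1, 3, 4, 2, 0, 2, 0, 2, 2, 0, 3, 1, 1] 1 0 24000 = true := by
  refine tab.minOKc_of_chunks [5, 2, 1, 3, 3, 1, 3, 1, 3, 4, 2, 0, 2, 0, 2, 2, 0, 3, 1, 1] 1 0 1600 15 (by norm_num) ?_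
  intro i hi
  interval_cases i
  · exact chk_pow8_0_0
  · exact chk_pow8_0_1
  · exact chk_pow8_0_2
  · exact chk_pow8_0_3
  · exact chk_pow8_0_4
  · exact chk_pow8_0_5
  · exact chk_pow8_0_6
  · exact chk_pow8_0_7
  · exact chk_pow8_0_8
  · exact chk_pow8_0_9
  · exact chk_pow8_0_10
  · exact chk_pow8_0_11
  · exact chk_pow8_0_12
  · exact chk_pow8_0_13
  · exact chk_pow8_0_14

theorem chk_pow8_1_0 : tab.minOKc [5, 2, 1, 3, 3, 1, 3, 1, 3, 4, 2, 0, 2, 0, 2, 2, 0, 3, 1, 1] 1 24000 1600 = true := by decide +kernel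

theorem chk_pow8_1_1 : tab.minOKc [5, 2, 1, 3, 3, 1, 3, 1, 3, 4, 2, 0, 2, 0, 2, 2, 0, 3, 1, 1] 1 25600 1600 = true := by decide +kernel

theorem chk_pow8_1_2 : tab.minOKc [5, 2, 1, 3, 3, 1, 3, 1, 3, 4, 2, 0, 2, 0, 2, 2, 0, 3, 1, 1] 1 27200 1600 = true := by decide +kernel

theorem chk_pow8_1_3 : tab.minOKc [5, 2, 1, 3, 3, 1, 3, 1, 3, 4, 2, 0, 2, 0, 2, 2, 0, 3, 1, 1] 1 28800 1600 = true := by decide +kernel

theorem chk_pow8_1_4 : tab.minOKc [5, 2, 1, 3, 3, 1, 3, 1, 3, 4, 2, 0, 2, 0, 2, 2, 0, 3, 1, 1] 1 30400 1600 = true := by decide +kernel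

theorem chk_pow8_1_5 : tab.minOKc [5, 2, 1, 3, 3, 1, 3, 1, 3, 4, 2, 0, 2, 0, 2, 2, 0, 3, 1, 1] 1 32000 1600 = true := by decide +kernel

theorem chk_pow8_1_6 : tab.minOKc [5, 2, 1, 3, 3, 1, 3, 1, 3, 4, 2, 0, 2, 0, 2, 2, 0, 3, 1, 1] 1 33600 1600 = true := by decide +kernel

theorem chk_pow8_1_7 : tab.minOKc [5, 2, 1, 3, 3, 1, 3, 1, 3, 4, 2, 0, 2, 0, 2, 2, 0, 3, 1, 1] 1 35200 1600 = true := by decide +kernel

theorem chk_pow8_1_8 : tab.minOKc [5, 2, 1, 3, 3, 1, 3, 1, 3, 4, 2, 0, 2, 0, 2, 2, 0, 3, 1, 1] 1 36800 1600 = true := by decide +kernel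

theorem chk_pow8_1_9 : tab.minOKc [5, 2, 1, 3, 3, 1, 3, 1, 3, 4, 2, 0, 2, 0, 2, 2, 0, 3, 1, 1] 1 38400 1600 = true := by decide +kernel

theorem chk_pow8_1_10 : tab.minOKc [5, 2, 1, 3, 3, 1, 3, 1, 3, 4, 2, 0, 2, 0, 2, 2, 0, 3, 1, 1] 1 40000 1600 = true := by decide +kernel

theorem chk_pow8_1_11 : tab.minOKc [5, 2, 1, 3, 3, 1, 3, 1, 3, 4, 2, 0, 2, 0, 2, 2, 0, 3, 1, 1] 1 41600 1600 = true := by decide +kernel

theorem chk_pow8_1_12 : tab.minOKc [5, 2, 1, 3, 3, 1, 3, 1, 3, 4, 2, 0, 2, 0, 2, 2, 0, 3, 1, 1] 1 43200 1600 = true := by decide +kernel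

theorem chk_pow8_1_13 : tab.minOKc [5, 2, 1, 3, 3, 1, 3, 1, 3, 4, 2, 0, 2, 0, 2, 2, 0, 3, 1, 1] 1 44800 1600 = true := by decide +kernel

theorem chk_pow8_1_14 : tab.minOKc [5, 2, 1, 3, 3, 1, 3, 1, 3, 4, 2, 0, 2, 0, 2, 2, 0, 3, 1, 1] 1 46400 1600 = true := by decide +kernel

theorem chk_pow8_1 : tab.minOKc [5, 2, 1, 3, 3, 1, 3, 1, 3, 4, 2, 0, 2, 0, 2, 2, 0, 3, 1, 1] 1 24000 24000 = true := by
  refine tab.minOKc_of_chunks [5, 2, 1, 3, 3, 1, 3, 1, 3, 4, 2, 0, 2, 0, 2, 2, 0, 3, 1, 1] 1 24000 1600 15 (by norm_num) ?_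
  intro i hi
  interval_cases i
  · exact chk_pow8_1_0
  · exact chk_pow8_1_1
  · exact chk_pow8_1_2
  · exact chk_pow8_1_3
  · exact chk_pow8_1_4
  · exact chk_pow8_1_5
  · exact chk_pow8_1_6
  · exact chk_pow8_1_7
  · exact chk_pow8_1_8
  · exact chk_pow8_1_9
  · exact chk_pow8_1_10
  · exact chk_pow8_1_11
  · exact chk_pow8_1_12
  · exact chk_pow8_1_13
  · exact chk_pow8_1_14


end Cfsg.Agent.Lib.Lead.HNP.HNTC
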