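import Cfsg.Agent.Lib.Lead.HNP.HNTCData
import Cfsg.Agent.Lib.Helper6.TCRel3
import Cfsg.Agent.Lib.Lead.HNP.HNTCRel49

/-! # HNTC: the kernel check of a part of the relators on the coset table -/

set_option autoImplicit false

namespace Cfsg.Agent.Lib.Lead.HNP.HNTC

open Cfsg.Agent.Lib.Helper6.TC

theorem chk_pow8_48_0 : tab.minOKc [5, 2, 1, 3, 3, 1, 3, 1, 3, 4, 2, 0, 2, 0, 2, 2, 0, 3, 1, 1] 1 1152000 1600 = true := by decide +kernel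

theorem chk_pow8_48_1 : tab.minOKc [5, 2, 1, 3, 3, 1, 3, 1, 3, 4, 2, 0, 2, 0, 2, 2, 0, 3, 1, 1] 1 1153600 1600 = true := by decide +kernel

theorem chk_pow8_48_2 : tab.minOKc [5, 2, 1, 3, 3, 1, 3, 1, 3, 4, 2, 0, 2, 0, 2, 2, 0, 3, 1, 1] 1 1155200 1600 = true := by decide +kernel

theorem chk_pow8_48_3 : tab.minOKc [5, 2, 1, 3, 3, 1, 3, 1, 3, 4, 2, 0, 2, 0, 2, 2, 0, 3, 1, 1] 1 1156800 1600 = true := by decide +kernel

theorem chk_pow8_48_4 : tab.minOKc [5, 2, 1, 3, 3, 1, 3, 1, 3, 4, 2, 0, 2, 0, 2, 2, 0, 3, 1, 1] 1 1158400 1600 = true := by decide +kernel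

theorem chk_pow8_48_5 : tab.minOKc [5, 2, 1, 3, 3, 1, 3, 1, 3, 4, 2, 0, 2, 0, 2, 2, 0, 3, 1, 1] 1 1160000 1600 = true := by decide +kernel

theorem chk_pow8_48_6 : tab.minOKc [5, 2, 1, 3, 3, 1, 3, 1, 3, 4, 2, 0, 2, 0, 2, 2, 0, 3, 1, 1] 1 1161600 1600 = true := by decide +kernel

theorem chk_pow8_48_7 : tab.minOKc [5, 2, 1, 3, 3, 1, 3, 1, 3, 4, 2, 0, 2, 0, 2, 2, 0, 3, 1, 1] 1 1163200 1600 = true := by decide +kernel

theorem chk_pow8_48_8 : tab.minOKc [5, 2, 1, 3, 3, 1, 3, 1, 3, 4, 2, 0, 2, 0, 2, 2, 0, 3, 1, 1] 1 1164800 1600 = true := by decide +kernel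

theorem chk_pow8_48_9 : tab.minOKc [5, 2, 1, 3, 3, 1, 3, 1, 3, 4, 2, 0, 2, 0, 2, 2, 0, 3, 1, 1] 1 1166400 1600 = true := by decide +kernel

theorem chk_pow8_48_10 : tab.minOKc [5, 2, 1, 3, 3, 1, 3, 1, 3, 4, 2, 0, 2, 0, 2, 2, 0, 3, 1, 1] 1 1168000 1600 = true := by decide +kernel

theorem chk_pow8_48_11 : tab.minOKc [5, 2, 1, 3, 3, 1, 3, 1, 3, 4, 2, 0, 2, 0, 2, 2, 0, 3, 1, 1] 1 1169600 1600 = true := by decide +kernel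

theorem chk_pow8_48_12 : tab.minOKc [5, 2, 1, 3, 3, 1, 3, 1, 3, 4, 2, 0, 2, 0, 2, 2, 0, 3, 1, 1] 1 1171200 1600 = true := by decide +kernel

theorem chk_pow8_48_13 : tab.minOKc [5, 2, 1, 3, 3, 1, 3, 1, 3, 4, 2, 0, 2, 0, 2, 2, 0, 3, 1, 1] 1 1172800 1600 = true := by decide +kernel

theorem chk_pow8_48_14 : tab.minOKc [5, 2, 1, 3, 3, 1, 3, 1, 3, 4, 2, 0, 2, 0, 2, 2, 0, 3, 1, 1] 1 1174400 1600 = true := by decide +kernel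

theorem chk_pow8_48 : tab.minOKc [5, 2, 1, 3, 3, 1, 3, 1, 3, 4, 2, 0, 2, 0, 2, 2, 0, 3, 1, 1] 1 1152000 24000 = true := by
  refine tab.minOKc_of_chunks [5, 2, 1, 3, 3, 1, 3, 1, 3, 4, 2, 0, 2, 0, 2, 2, 0, 3, 1, 1] 1 1152000 1600 15 (by norm_num) ?_
  intro i hi
  interval_cases i
  · exact chk_pow8_48_0
  · exact chk_pow8_48_1
  · exact chk_pow8_48_2
  · exact chk_pow8_48_3
  · exact chk_pow8_48_4
  · exact chk_pow8_48_5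
  · exact chk_pow8_48_6
  · exact chk_pow8_48_7
  · exact chk_pow8_48_8
  · exact chk_pow8_48_9
  · exact chk_pow8_48_10
  · exact chk_pow8_48_11
  · exact chk_pow8_48_12
  · exact chk_pow8_48_13
  · exact chk_pow8_48_14

theorem chk_pow8_49_0 : tab.minOKc [5, 2, 1, 3, 3, 1, 3, 1, 3, 4, 2, 0, 2, 0, 2, 2, 0, 3, 1, 1] 1 1176000 1600 = true := by decide +kernel

theorem chk_pow8_49_1 : tab.minOKc [5, 2, 1, 3, 3, 1, 3, 1, 3, 4, 2, 0, 2, 0, 2, 2, 0, 3, 1, 1] 1 1177600 1600 = true := by decide +kernel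

theorem chk_pow8_49_2 : tab.minOKc [5, 2, 1, 3, 3, 1, 3, 1, 3, 4, 2, 0, 2, 0, 2, 2, 0, 3, 1, 1] 1 1179200 1600 = true := by decide +kernel

theorem chk_pow8_49_3 : tab.minOKc [5, 2, 1, 3, 3, 1, 3, 1, 3, 4, 2, 0, 2, 0, 2, 2, 0, 3, 1, 1] 1 1180800 1600 = true := by decide +kernel

theorem chk_pow8_49_4 : tab.minOKc [5, 2, 1, 3, 3, 1, 3, 1, 3, 4, 2, 0, 2, 0, 2, 2, 0, 3, 1, 1] 1 1182400 1600 = true := by decide +kernel

theorem chk_pow8_49_5 : tab.minOKc [5, 2, 1, 3, 3, 1, 3, 1, 3, 4, 2, 0, 2, 0, 2, 2, 0, 3, 1, 1] 1 1184000 1600 = true := by decide +kernel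

theorem chk_pow8_49_6 : tab.minOKc [5, 2, 1, 3, 3, 1, 3, 1, 3, 4, 2, 0, 2, 0, 2, 2, 0, 3, 1, 1] 1 1185600 1600 = true := by decide +kernel

theorem chk_pow8_49_7 : tab.minOKc [5, 2, 1, 3, 3, 1, 3, 1, 3, 4, 2, 0, 2, 0, 2, 2, 0, 3, 1, 1] 1 1187200 1600 = true := by decide +kernel

theorem chk_pow8_49_8 : tab.minOKc [5, 2, 1, 3, 3, 1, 3, 1, 3, 4, 2, 0, 2, 0, 2, 2, 0, 3, 1, 1] 1 1188800 1600 = true := by decide +kernel

theorem chk_pow8_49_9 : tab.minOKc [5, 2, 1, 3, 3, 1, 3, 1, 3, 4, 2, 0, 2, 0, 2, 2, 0, 3, 1, 1] 1 1190400 1600 = true := by decide +kernel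

theorem chk_pow8_49_10 : tab.minOKc [5, 2, 1, 3, 3, 1, 3, 1, 3, 4, 2, 0, 2, 0, 2, 2, 0, 3, 1, 1] 1 1192000 1600 = true := by decide +kernel

theorem chk_pow8_49_11 : tab.minOKc [5, 2, 1, 3, 3, 1, 3, 1, 3, 4, 2, 0, 2, 0, 2, 2, 0, 3, 1, 1] 1 1193600 1600 = true := by decide +kernel

theorem chk_pow8_49_12 : tab.minOKc [5, 2, 1, 3, 3, 1, 3, 1, 3, 4, 2, 0, 2, 0, 2, 2, 0, 3, 1, 1] 1 1195200 1600 = true := by decide +kernel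

theorem chk_pow8_49_13 : tab.minOKc [5, 2, 1, 3, 3, 1, 3, 1, 3, 4, 2, 0, 2, 0, 2, 2, 0, 3, 1, 1] 1 1196800 1600 = true := by decide +kernel

theorem chk_pow8_49_14 : tab.minOKc [5, 2, 1, 3, 3, 1, 3, 1, 3, 4, 2, 0, 2, 0, 2, 2, 0, 3, 1, 1] 1 1198400 1600 = true := by decide +kernel

theorem chk_pow8_49 : tab.minOKc [5, 2, 1, 3, 3, 1, 3, 1, 3, 4, 2, 0, 2, 0, 2, 2, 0, 3, 1, 1] 1 1176000 24000 = true := by
  refine tab.minOKc_of_chunks [5, 2, 1, 3, 3, 1, 3, 1, 3, 4, 2, 0, 2, 0, 2, 2, 0, 3, 1, 1] 1 1176000 1600 15 (by norm_num) ?_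
  intro i hi
  interval_cases i
  · exact chk_pow8_49_0
  · exact chk_pow8_49_1
  · exact chk_pow8_49_2
  · exact chk_pow8_49_3
  · exact chk_pow8_49_4
  · exact chk_pow8_49_5
  · exact chk_pow8_49_6
  · exact chk_pow8_49_7
  · exact chk_pow8_49_8
  · exact chk_pow8_49_9
  · exact chk_pow8_49_10
  · exact chk_pow8_49_11
  · exact chk_pow8_49_12
  · exact chk_pow8_49_13
  · exact chk_pow8_49_14


end Cfsg.Agent.Lib.Lead.HNP.HNTC
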