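import Cfsg.Agent.Lib.Lead.HNP.HNTCSCert
import Cfsg.Agent.Lib.Lead.HNP.HNTCSRows6

/-! # HNTC: the kernel check of the rows from 344880 on -/

set_option autoImplicit false

namespace Cfsg.Agent.Lib.Lead.HNP.HNTC

open Cfsg.Agent.Lib.Helper6.TC Cfsg.Agent.Lib.Helper6.TCGS

theorem chk_rows30_0 : cert.rowsOK 344880 479 = true := by decide +kernel

theorem chk_rows30_1 : cert.rowsOK 345359 479 = true := by decide +kernel

theorem chk_rows30_2 : cert.rowsOK 345838 479 = true := by decide +kernel

theorem chk_rows30_3 : cert.rowsOK 346317 479 = true := by decide +kernel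

theorem chk_rows30_4 : cert.rowsOK 346796 479 = true := by decide +kernel

theorem chk_rows30_5 : cert.rowsOK 347275 479 = true := by decide +kernel

theorem chk_rows30_6 : cert.rowsOK 347754 479 = true := by decide +kernel

theorem chk_rows30_7 : cert.rowsOK 348233 479 = true := by decide +kernel

theorem chk_rows30_8 : cert.rowsOK 348712 479 = true := by decide +kernel

theorem chk_rows30_9 : cert.rowsOK 349191 479 = true := by decide +kernel

theorem chk_rows30_10 : cert.rowsOK 349670 479 = true := by decide +kernel

theorem chk_rows30_11 : cert.rowsOK 350149 479 = true := by decide +kernel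

theorem chk_rows30_12 : cert.rowsOK 350628 479 = true := by decide +kernel

theorem chk_rows30_13 : cert.rowsOK 351107 479 = true := by decide +kernel

theorem chk_rows30_14 : cert.rowsOK 351586 479 = true := by decide +kernel

theorem chk_rows30_15 : cert.rowsOK 352065 479 = true := by decide +kernel

theorem chk_rows30_16 : cert.rowsOK 352544 479 = true := by decide +kernel

theorem chk_rows30_17 : cert.rowsOK 353023 479 = true := by decide +kernel

theorem chk_rows30_18 : cert.rowsOK 353502 479 = true := by decide +kernel

theorem chk_rows30_19 : cert.rowsOK 353981 479 = true := by decide +kernel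

theorem chk_rows30_20 : cert.rowsOK 354460 479 = true := by decide +kernel

theorem chk_rows30_21 : cert.rowsOK 354939 479 = true := by decide +kernel

theorem chk_rows30_22 : cert.rowsOK 355418 479 = true := by decide +kernel

theorem chk_rows30_23 : cert.rowsOK 355897 479 = true := by decide +kernel

theorem chk_range30 : ∀ a, 344880 ≤ a → a < 356376 → ∀ x < cert.c.g, cert.slotOK a x = true := by
  refine cert.range_of_chunks 344880 479 24 (by norm_num) ?_
  intro k hk
  interval_cases k
  · exact chk_rows30_0
  · exact chk_rows30_1
  · exact chk_rows30_2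
  · exact chk_rows30_3
  · exact chk_rows30_4
  · exact chk_rows30_5
  · exact chk_rows30_6
  · exact chk_rows30_7
  · exact chk_rows30_8
  · exact chk_rows30_9
  · exact chk_rows30_10
  · exact chk_rows30_11
  · exact chk_rows30_12
  · exact chk_rows30_13
  · exact chk_rows30_14
  · exact chk_rows30_15
  · exact chk_rows30_16
  · exact chk_rows30_17
  · exact chk_rows30_18
  · exact chk_rows30_19
  · exact chk_rows30_20
  · exact chk_rows30_21
  · exact chk_rows30_22
  · exact chk_rows30_23

end Cfsg.Agent.Lib.Lead.HNP.HNTC
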