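import Cfsg.Agent.Lib.Lead.HNP.HNTCSCert
import Cfsg.Agent.Lib.Lead.HNP.HNTCSRows30

/-! # HNTC: the kernel check of the rows from 620784 on -/

set_option autoImplicit false

namespace Cfsg.Agent.Lib.Lead.HNP.HNTC

open Cfsg.Agent.Lib.Helper6.TC Cfsg.Agent.Lib.Helper6.TCGS

theorem chk_rows54_0 : cert.rowsOK 620784 479 = true := by decide +kernel

theorem chk_rows54_1 : cert.rowsOK 621263 479 = true := by decide +kernel

theorem chk_rows54_2 : cert.rowsOK 621742 479 = true := by decide +kernel

theorem chk_rows54_3 : cert.rowsOK 622221 479 = true := by decide +kernel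

theorem chk_rows54_4 : cert.rowsOK 622700 479 = true := by decide +kernel

theorem chk_rows54_5 : cert.rowsOK 623179 479 = true := by decide +kernel

theorem chk_rows54_6 : cert.rowsOK 623658 479 = true := by decide +kernel

theorem chk_rows54_7 : cert.rowsOK 624137 479 = true := by decide +kernel

theorem chk_rows54_8 : cert.rowsOK 624616 479 = true := by decide +kernel

theorem chk_rows54_9 : cert.rowsOK 625095 479 = true := by decide +kernel

theorem chk_rows54_10 : cert.rowsOK 625574 479 = true := by decide +kernel

theorem chk_rows54_11 : cert.rowsOK 626053 479 = true := by decide +kernel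

theorem chk_rows54_12 : cert.rowsOK 626532 479 = true := by decide +kernel

theorem chk_rows54_13 : cert.rowsOK 627011 479 = true := by decide +kernel

theorem chk_rows54_14 : cert.rowsOK 627490 479 = true := by decide +kernel

theorem chk_rows54_15 : cert.rowsOK 627969 479 = true := by decide +kernel

theorem chk_rows54_16 : cert.rowsOK 628448 479 = true := by decide +kernel

theorem chk_rows54_17 : cert.rowsOK 628927 479 = true := by decide +kernel

theorem chk_rows54_18 : cert.rowsOK 629406 479 = true := by decide +kernel

theorem chk_rows54_19 : cert.rowsOK 629885 479 = true := by decide +kernel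

theorem chk_rows54_20 : cert.rowsOK 630364 479 = true := by decide +kernel

theorem chk_rows54_21 : cert.rowsOK 630843 479 = true := by decide +kernel

theorem chk_rows54_22 : cert.rowsOK 631322 479 = true := by decide +kernel

theorem chk_rows54_23 : cert.rowsOK 631801 479 = true := by decide +kernel

theorem chk_range54 : ∀ a, 620784 ≤ a → a < 632280 → ∀ x < cert.c.g, cert.slotOK a x = true := by
  refine cert.range_of_chunks 620784 479 24 (by norm_num) ?_
  intro k hk
  interval_cases k
  · exact chk_rows54_0
  · exact chk_rows54_1
  · exact chk_rows54_2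
  · exact chk_rows54_3
  · exact chk_rows54_4
  · exact chk_rows54_5
  · exact chk_rows54_6
  · exact chk_rows54_7
  · exact chk_rows54_8
  · exact chk_rows54_9
  · exact chk_rows54_10
  · exact chk_rows54_11
  · exact chk_rows54_12
  · exact chk_rows54_13
  · exact chk_rows54_14
  · exact chk_rows54_15
  · exact chk_rows54_16
  · exact chk_rows54_17
  · exact chk_rows54_18
  · exact chk_rows54_19
  · exact chk_rows54_20
  · exact chk_rows54_21
  · exact chk_rows54_22
  · exact chk_rows54_23

end Cfsg.Agent.Lib.Lead.HNP.HNTC
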