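import Cfsg.Agent.Lib.Lead.HNP.HNTCSCert
import Cfsg.Agent.Lib.Lead.HNP.HNTCSRows54

/-! # HNTC: the kernel check of the rows from 896688 on -/

set_option autoImplicit false

namespace Cfsg.Agent.Lib.Lead.HNP.HNTC

open Cfsg.Agent.Lib.Helper6.TC Cfsg.Agent.Lib.Helper6.TCGS

theorem chk_rows78_0 : cert.rowsOK 896688 479 = true := by decide +kernel

theorem chk_rows78_1 : cert.rowsOK 897167 479 = true := by decide +kernel

theorem chk_rows78_2 : cert.rowsOK 897646 479 = true := by decide +kernel

theorem chk_rows78_3 : cert.rowsOK 898125 479 = true := by decide +kernel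

theorem chk_rows78_4 : cert.rowsOK 898604 479 = true := by decide +kernel

theorem chk_rows78_5 : cert.rowsOK 899083 479 = true := by decide +kernel

theorem chk_rows78_6 : cert.rowsOK 899562 479 = true := by decide +kernel

theorem chk_rows78_7 : cert.rowsOK 900041 479 = true := by decide +kernel

theorem chk_rows78_8 : cert.rowsOK 900520 479 = true := by decide +kernel

theorem chk_rows78_9 : cert.rowsOK 900999 479 = true := by decide +kernel

theorem chk_rows78_10 : cert.rowsOK 901478 479 = true := by decide +kernel

theorem chk_rows78_11 : cert.rowsOK 901957 479 = true := by decide +kernel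

theorem chk_rows78_12 : cert.rowsOK 902436 479 = true := by decide +kernel

theorem chk_rows78_13 : cert.rowsOK 902915 479 = true := by decide +kernel

theorem chk_rows78_14 : cert.rowsOK 903394 479 = true := by decide +kernel

theorem chk_rows78_15 : cert.rowsOK 903873 479 = true := by decide +kernel

theorem chk_rows78_16 : cert.rowsOK 904352 479 = true := by decide +kernel

theorem chk_rows78_17 : cert.rowsOK 904831 479 = true := by decide +kernel

theorem chk_rows78_18 : cert.rowsOK 905310 479 = true := by decide +kernel

theorem chk_rows78_19 : cert.rowsOK 905789 479 = true := by decide +kernel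

theorem chk_rows78_20 : cert.rowsOK 906268 479 = true := by decide +kernel

theorem chk_rows78_21 : cert.rowsOK 906747 479 = true := by decide +kernel

theorem chk_rows78_22 : cert.rowsOK 907226 479 = true := by decide +kernel

theorem chk_rows78_23 : cert.rowsOK 907705 479 = true := by decide +kernel

theorem chk_range78 : ∀ a, 896688 ≤ a → a < 908184 → ∀ x < cert.c.g, cert.slotOK a x = true := by
  refine cert.range_of_chunks 896688 479 24 (by norm_num) ?_
  intro k hk
  interval_cases k
  · exact chk_rows78_0
  · exact chk_rows78_1
  · exact chk_rows78_2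
  · exact chk_rows78_3
  · exact chk_rows78_4
  · exact chk_rows78_5
  · exact chk_rows78_6
  · exact chk_rows78_7
  · exact chk_rows78_8
  · exact chk_rows78_9
  · exact chk_rows78_10
  · exact chk_rows78_11
  · exact chk_rows78_12
  · exact chk_rows78_13
  · exact chk_rows78_14
  · exact chk_rows78_15
  · exact chk_rows78_16
  · exact chk_rows78_17
  · exact chk_rows78_18
  · exact chk_rows78_19
  · exact chk_rows78_20
  · exact chk_rows78_21
  · exact chk_rows78_22
  · exact chk_rows78_23

end Cfsg.Agent.Lib.Lead.HNP.HNTC
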