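import Cfsg.Agent.Lib.Lead.HNP.HNTCSCert
import Cfsg.Agent.Lib.Lead.HNP.HNTCSRows78

/-! # HNTC: the kernel check of the rows from 1172592 on -/

set_option autoImplicit false

namespace Cfsg.Agent.Lib.Lead.HNP.HNTC

open Cfsg.Agent.Lib.Helper6.TC Cfsg.Agent.Lib.Helper6.TCGS

theorem chk_rows102_0 : cert.rowsOK 1172592 479 = true := by decide +kernel

theorem chk_rows102_1 : cert.rowsOK 1173071 479 = true := by decide +kernel

theorem chk_rows102_2 : cert.rowsOK 1173550 479 = true := by decide +kernel

theorem chk_rows102_3 : cert.rowsOK 1174029 479 = true := by decide +kernel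

theorem chk_rows102_4 : cert.rowsOK 1174508 479 = true := by decide +kernel

theorem chk_rows102_5 : cert.rowsOK 1174987 479 = true := by decide +kernel

theorem chk_rows102_6 : cert.rowsOK 1175466 479 = true := by decide +kernel

theorem chk_rows102_7 : cert.rowsOK 1175945 479 = true := by decide +kernel

theorem chk_rows102_8 : cert.rowsOK 1176424 479 = true := by decide +kernel

theorem chk_rows102_9 : cert.rowsOK 1176903 479 = true := by decide +kernel

theorem chk_rows102_10 : cert.rowsOK 1177382 479 = true := by decide +kernel

theorem chk_rows102_11 : cert.rowsOK 1177861 479 = true := by decide +kernel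

theorem chk_rows102_12 : cert.rowsOK 1178340 479 = true := by decide +kernel

theorem chk_rows102_13 : cert.rowsOK 1178819 479 = true := by decide +kernel

theorem chk_rows102_14 : cert.rowsOK 1179298 479 = true := by decide +kernel

theorem chk_rows102_15 : cert.rowsOK 1179777 479 = true := by decide +kernel

theorem chk_rows102_16 : cert.rowsOK 1180256 479 = true := by decide +kernel

theorem chk_rows102_17 : cert.rowsOK 1180735 479 = true := by decide +kernel

theorem chk_rows102_18 : cert.rowsOK 1181214 479 = true := by decide +kernel

theorem chk_rows102_19 : cert.rowsOK 1181693 479 = true := by decide +kernel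

theorem chk_rows102_20 : cert.rowsOK 1182172 479 = true := by decide +kernel

theorem chk_rows102_21 : cert.rowsOK 1182651 479 = true := by decide +kernel

theorem chk_rows102_22 : cert.rowsOK 1183130 479 = true := by decide +kernel

theorem chk_rows102_23 : cert.rowsOK 1183609 479 = true := by decide +kernel

theorem chk_range102 : ∀ a, 1172592 ≤ a → a < 1184088 → ∀ x < cert.c.g, cert.slotOK a x = true := by
  refine cert.range_of_chunks 1172592 479 24 (by norm_num) ?_
  intro k hk
  interval_cases k
  · exact chk_rows102_0
  · exact chk_rows102_1
  · exact chk_rows102_2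
  · exact chk_rows102_3
  · exact chk_rows102_4
  · exact chk_rows102_5
  · exact chk_rows102_6
  · exact chk_rows102_7
  · exact chk_rows102_8
  · exact chk_rows102_9
  · exact chk_rows102_10
  · exact chk_rows102_11
  · exact chk_rows102_12
  · exact chk_rows102_13
  · exact chk_rows102_14
  · exact chk_rows102_15
  · exact chk_rows102_16
  · exact chk_rows102_17
  · exact chk_rows102_18
  · exact chk_rows102_19
  · exact chk_rows102_20
  · exact chk_rows102_21
  · exact chk_rows102_22
  · exact chk_rows102_23

end Cfsg.Agent.Lib.Lead.HNP.HNTC
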