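import Cfsg.Agent.Lib.Lead.HNP.HNTCSCert
import Cfsg.Agent.Lib.Lead.HNP.HNTCSRows102

/-! # HNTC: the kernel check of the rows from 1448496 on -/

set_option autoImplicit false

namespace Cfsg.Agent.Lib.Lead.HNP.HNTC

open Cfsg.Agent.Lib.Helper6.TC Cfsg.Agent.Lib.Helper6.TCGS

theorem chk_rows126_0 : cert.rowsOK 1448496 479 = true := by decide +kernel

theorem chk_rows126_1 : cert.rowsOK 1448975 479 = true := by decide +kernel

theorem chk_rows126_2 : cert.rowsOK 1449454 479 = true := by decide +kernel

theorem chk_rows126_3 : cert.rowsOK 1449933 479 = true := by decide +kernel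

theorem chk_rows126_4 : cert.rowsOK 1450412 479 = true := by decide +kernel

theorem chk_rows126_5 : cert.rowsOK 1450891 479 = true := by decide +kernel

theorem chk_rows126_6 : cert.rowsOK 1451370 479 = true := by decide +kernel

theorem chk_rows126_7 : cert.rowsOK 1451849 479 = true := by decide +kernel

theorem chk_rows126_8 : cert.rowsOK 1452328 479 = true := by decide +kernel

theorem chk_rows126_9 : cert.rowsOK 1452807 479 = true := by decide +kernel

theorem chk_rows126_10 : cert.rowsOK 1453286 479 = true := by decide +kernel

theorem chk_rows126_11 : cert.rowsOK 1453765 479 = true := by decide +kernel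

theorem chk_rows126_12 : cert.rowsOK 1454244 479 = true := by decide +kernel

theorem chk_rows126_13 : cert.rowsOK 1454723 479 = true := by decide +kernel

theorem chk_rows126_14 : cert.rowsOK 1455202 479 = true := by decide +kernel

theorem chk_rows126_15 : cert.rowsOK 1455681 479 = true := by decide +kernel

theorem chk_rows126_16 : cert.rowsOK 1456160 479 = true := by decide +kernel

theorem chk_rows126_17 : cert.rowsOK 1456639 479 = true := by decide +kernel

theorem chk_rows126_18 : cert.rowsOK 1457118 479 = true := by decide +kernel

theorem chk_rows126_19 : cert.rowsOK 1457597 479 = true := by decide +kernel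

theorem chk_rows126_20 : cert.rowsOK 1458076 479 = true := by decide +kernel

theorem chk_rows126_21 : cert.rowsOK 1458555 479 = true := by decide +kernel

theorem chk_rows126_22 : cert.rowsOK 1459034 479 = true := by decide +kernel

theorem chk_rows126_23 : cert.rowsOK 1459513 479 = true := by decide +kernel

theorem chk_range126 : ∀ a, 1448496 ≤ a → a < 1459992 → ∀ x < cert.c.g, cert.slotOK a x = true := by
  refine cert.range_of_chunks 1448496 479 24 (by norm_num) ?_
  intro k hk
  interval_cases k
  · exact chk_rows126_0
  · exact chk_rows126_1
  · exact chk_rows126_2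
  · exact chk_rows126_3
  · exact chk_rows126_4
  · exact chk_rows126_5
  · exact chk_rows126_6
  · exact chk_rows126_7
  · exact chk_rows126_8
  · exact chk_rows126_9
  · exact chk_rows126_10
  · exact chk_rows126_11
  · exact chk_rows126_12
  · exact chk_rows126_13
  · exact chk_rows126_14
  · exact chk_rows126_15
  · exact chk_rows126_16
  · exact chk_rows126_17
  · exact chk_rows126_18
  · exact chk_rows126_19
  · exact chk_rows126_20
  · exact chk_rows126_21
  · exact chk_rows126_22
  · exact chk_rows126_23

end Cfsg.Agent.Lib.Lead.HNP.HNTC
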