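import Cfsg.Agent.Lib.Lead.HNP.HNTCSCert
import Cfsg.Agent.Lib.Helper6.TCGIndex
import Cfsg.Agent.Lib.Lead.HNP.HNTCSFin16

/-! # HNTC: the kernel check that the first rows are closed, part 40 -/

set_option autoImplicit false

namespace Cfsg.Agent.Lib.Lead.HNP.HNTC

open Cfsg.Agent.Lib.Helper6.TC Cfsg.Agent.Lib.Helper6.TCGS

theorem chk_fin360 : cert.finalOKc 1539000 720000 2000 = true := by decide +kernel

theorem chk_fin361 : cert.finalOKc 1539000 722000 2000 = true := by decide +kernel

theorem chk_fin362 : cert.finalOKc 1539000 724000 2000 = true := by decide +kernel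

theorem chk_fin363 : cert.finalOKc 1539000 726000 2000 = true := by decide +kernel

theorem chk_fin364 : cert.finalOKc 1539000 728000 2000 = true := by decide +kernel

theorem chk_fin365 : cert.finalOKc 1539000 730000 2000 = true := by decide +kernel

theorem chk_fin366 : cert.finalOKc 1539000 732000 2000 = true := by decide +kernel

theorem chk_fin367 : cert.finalOKc 1539000 734000 2000 = true := by decide +kernel

theorem chk_fin368 : cert.finalOKc 1539000 736000 2000 = true := by decide +kernel


end Cfsg.Agent.Lib.Lead.HNP.HNTC
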