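import Cfsg.Agent.Lib.Lead.HNP.HNTCSCert
import Cfsg.Agent.Lib.Helper6.TCGIndex
import Cfsg.Agent.Lib.Lead.HNP.HNTCSFin40

/-! # HNTC: the kernel check that the first rows are closed, part 64 -/

set_option autoImplicit false

namespace Cfsg.Agent.Lib.Lead.HNP.HNTC

open Cfsg.Agent.Lib.Helper6.TC Cfsg.Agent.Lib.Helper6.TCGS

theorem chk_fin576 : cert.finalOKc 1539000 1152000 2000 = true := by decide +kernel

theorem chk_fin577 : cert.finalOKc 1539000 1154000 2000 = true := by decide +kernel

theorem chk_fin578 : cert.finalOKc 1539000 1156000 2000 = true := by decide +kernel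

theorem chk_fin579 : cert.finalOKc 1539000 1158000 2000 = true := by decide +kernel

theorem chk_fin580 : cert.finalOKc 1539000 1160000 2000 = true := by decide +kernel

theorem chk_fin581 : cert.finalOKc 1539000 1162000 2000 = true := by decide +kernel

theorem chk_fin582 : cert.finalOKc 1539000 1164000 2000 = true := by decide +kernel

theorem chk_fin583 : cert.finalOKc 1539000 1166000 2000 = true := by decide +kernel

theorem chk_fin584 : cert.finalOKc 1539000 1168000 2000 = true := by decide +kernel


end Cfsg.Agent.Lib.Lead.HNP.HNTC
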