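import Cfsg.Agent.Lib.Lead.HNP.HNTCData
import Cfsg.Agent.Lib.Helper6.TCRel3
import Cfsg.Agent.Lib.Lead.HNP.HNTCRel2

/-! # HNTC: the kernel check of a part of the relators on the coset table -/

set_option autoImplicit false

namespace Cfsg.Agent.Lib.Lead.HNP.HNTC

open Cfsg.Agent.Lib.Helper6.TC

theorem chk_pow3_15_0 : tab.minOKc [1, 2, 2, 0, 2, 2, 2] 3 1028475 4571 = true := by decide +kernel

theorem chk_pow3_15_1 : tab.minOKc [1, 2, 2, 0, 2, 2, 2] 3 1033046 4571 = true := by decide +kernel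

theorem chk_pow3_15_2 : tab.minOKc [1, 2, 2, 0, 2, 2, 2] 3 1037617 4571 = true := by decide +kernel

theorem chk_pow3_15_3 : tab.minOKc [1, 2, 2, 0, 2, 2, 2] 3 1042188 4571 = true := by decide +kernel

theorem chk_pow3_15_4 : tab.minOKc [1, 2, 2, 0, 2, 2, 2] 3 1046759 4571 = true := by decide +kernel

theorem chk_pow3_15_5 : tab.minOKc [1, 2, 2, 0, 2, 2, 2] 3 1051330 4571 = true := by decide +kernel

theorem chk_pow3_15_6 : tab.minOKc [1, 2, 2, 0, 2, 2, 2] 3 1055901 4571 = true := by decide +kernel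

theorem chk_pow3_15_7 : tab.minOKc [1, 2, 2, 0, 2, 2, 2] 3 1060472 4571 = true := by decide +kernel

theorem chk_pow3_15_8 : tab.minOKc [1, 2, 2, 0, 2, 2, 2] 3 1065043 4571 = true := by decide +kernel

theorem chk_pow3_15_9 : tab.minOKc [1, 2, 2, 0, 2, 2, 2] 3 1069614 4571 = true := by decide +kernel

theorem chk_pow3_15_10 : tab.minOKc [1, 2, 2, 0, 2, 2, 2] 3 1074185 4571 = true := by decide +kernel

theorem chk_pow3_15_11 : tab.minOKc [1, 2, 2, 0, 2, 2, 2] 3 1078756 4571 = true := by decide +kernel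

theorem chk_pow3_15_12 : tab.minOKc [1, 2, 2, 0, 2, 2, 2] 3 1083327 4571 = true := by decide +kernel

theorem chk_pow3_15_13 : tab.minOKc [1, 2, 2, 0, 2, 2, 2] 3 1087898 4571 = true := by decide +kernel

theorem chk_pow3_15_14 : tab.minOKc [1, 2, 2, 0, 2, 2, 2] 3 1092469 4571 = true := by decide +kernel

theorem chk_pow3_15 : tab.minOKc [1, 2, 2, 0, 2, 2, 2] 3 1028475 68565 = true := by
  refine tab.minOKc_of_chunks [1, 2, 2, 0, 2, 2, 2] 3 1028475 4571 15 (by norm_num) ?_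
  intro i hi
  interval_cases i
  · exact chk_pow3_15_0
  · exact chk_pow3_15_1
  · exact chk_pow3_15_2
  · exact chk_pow3_15_3
  · exact chk_pow3_15_4
  · exact chk_pow3_15_5
  · exact chk_pow3_15_6
  · exact chk_pow3_15_7
  · exact chk_pow3_15_8
  · exact chk_pow3_15_9
  · exact chk_pow3_15_10
  · exact chk_pow3_15_11
  · exact chk_pow3_15_12
  · exact chk_pow3_15_13
  · exact chk_pow3_15_14

theorem chk_pow3_16_0 : tab.minOKc [1, 2, 2, 0, 2, 2, 2] 3 1097040 4571 = true := by decide +kernel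

theorem chk_pow3_16_1 : tab.minOKc [1, 2, 2, 0, 2, 2, 2] 3 1101611 4571 = true := by decide +kernel

theorem chk_pow3_16_2 : tab.minOKc [1, 2, 2, 0, 2, 2, 2] 3 1106182 4571 = true := by decide +kernel

theorem chk_pow3_16_3 : tab.minOKc [1, 2, 2, 0, 2, 2, 2] 3 1110753 4571 = true := by decide +kernel

theorem chk_pow3_16_4 : tab.minOKc [1, 2, 2, 0, 2, 2, 2] 3 1115324 4571 = true := by decide +kernel

theorem chk_pow3_16_5 : tab.minOKc [1, 2, 2, 0, 2, 2, 2] 3 1119895 4571 = true := by decide +kernel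

theorem chk_pow3_16_6 : tab.minOKc [1, 2, 2, 0, 2, 2, 2] 3 1124466 4571 = true := by decide +kernel

theorem chk_pow3_16_7 : tab.minOKc [1, 2, 2, 0, 2, 2, 2] 3 1129037 4571 = true := by decide +kernel

theorem chk_pow3_16_8 : tab.minOKc [1, 2, 2, 0, 2, 2, 2] 3 1133608 4571 = true := by decide +kernel

theorem chk_pow3_16_9 : tab.minOKc [1, 2, 2, 0, 2, 2, 2] 3 1138179 4571 = true := by decide +kernel

theorem chk_pow3_16_10 : tab.minOKc [1, 2, 2, 0, 2, 2, 2] 3 1142750 4571 = true := by decide +kernel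

theorem chk_pow3_16_11 : tab.minOKc [1, 2, 2, 0, 2, 2, 2] 3 1147321 4571 = true := by decide +kernel

theorem chk_pow3_16_12 : tab.minOKc [1, 2, 2, 0, 2, 2, 2] 3 1151892 4571 = true := by decide +kernel

theorem chk_pow3_16_13 : tab.minOKc [1, 2, 2, 0, 2, 2, 2] 3 1156463 4571 = true := by decide +kernel

theorem chk_pow3_16_14 : tab.minOKc [1, 2, 2, 0, 2, 2, 2] 3 1161034 4571 = true := by decide +kernel

theorem chk_pow3_16 : tab.minOKc [1, 2, 2, 0, 2, 2, 2] 3 1097040 68565 = true := by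
  refine tab.minOKc_of_chunks [1, 2, 2, 0, 2, 2, 2] 3 1097040 4571 15 (by norm_num) ?_
  intro i hi
  interval_cases i
  · exact chk_pow3_16_0
  · exact chk_pow3_16_1
  · exact chk_pow3_16_2
  · exact chk_pow3_16_3
  · exact chk_pow3_16_4
  · exact chk_pow3_16_5
  · exact chk_pow3_16_6
  · exact chk_pow3_16_7
  · exact chk_pow3_16_8
  · exact chk_pow3_16_9
  · exact chk_pow3_16_10
  · exact chk_pow3_16_11
  · exact chk_pow3_16_12
  · exact chk_pow3_16_13
  · exact chk_pow3_16_14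


end Cfsg.Agent.Lib.Lead.HNP.HNTC
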