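import Cfsg.Agent.Lib.Lead.HNP.HNTCData
import Cfsg.Agent.Lib.Helper6.TCRel3
import Cfsg.Agent.Lib.Lead.HNP.HNTCRel26

/-! # HNTC: the kernel check of a part of the relators on the coset table -/

set_option autoImplicit false

namespace Cfsg.Agent.Lib.Lead.HNP.HNTC

open Cfsg.Agent.Lib.Helper6.TC

theorem chk_pow8_2_0 : tab.minOKc [5, 2, 1, 3, 3, 1, 3, 1, 3, 4, 2, 0, 2, 0, 2, 2, 0, 3, 1, 1] 1 48000 1600 = true := by decide +kernel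

theorem chk_pow8_2_1 : tab.minOKc [5, 2, 1, 3, 3, 1, 3, 1, 3, 4, 2, 0, 2, 0, 2, 2, 0, 3, 1, 1] 1 49600 1600 = true := by decide +kernel

theorem chk_pow8_2_2 : tab.minOKc [5, 2, 1, 3, 3, 1, 3, 1, 3, 4, 2, 0, 2, 0, 2, 2, 0, 3, 1, 1] 1 51200 1600 = true := by decide +kernel

theorem chk_pow8_2_3 : tab.minOKc [5, 2, 1, 3, 3, 1, 3, 1, 3, 4, 2, 0, 2, 0, 2, 2, 0, 3, 1, 1] 1 52800 1600 = true := by decide +kernel

theorem chk_pow8_2_4 : tab.minOKc [5, 2, 1, 3, 3, 1, 3, 1, 3, 4, 2, 0, 2, 0, 2, 2, 0, 3, 1, 1] 1 54400 1600 = true := by decide +kernel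

theorem chk_pow8_2_5 : tab.minOKc [5, 2, 1, 3, 3, 1, 3, 1, 3, 4, 2, 0, 2, 0, 2, 2, 0, 3, 1, 1] 1 56000 1600 = true := by decide +kernel

theorem chk_pow8_2_6 : tab.minOKc [5, 2, 1, 3, 3, 1, 3, 1, 3, 4, 2, 0, 2, 0, 2, 2, 0, 3, 1, 1] 1 57600 1600 = true := by decide +kernel

theorem chk_pow8_2_7 : tab.minOKc [5, 2, 1, 3, 3, 1, 3, 1, 3, 4, 2, 0, 2, 0, 2, 2, 0, 3, 1, 1] 1 59200 1600 = true := by decide +kernel

theorem chk_pow8_2_8 : tab.minOKc [5, 2, 1, 3, 3, 1, 3, 1, 3, 4, 2, 0, 2, 0, 2, 2, 0, 3, 1, 1] 1 60800 1600 = true := by decide +kernel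

theorem chk_pow8_2_9 : tab.minOKc [5, 2, 1, 3, 3, 1, 3, 1, 3, 4, 2, 0, 2, 0, 2, 2, 0, 3, 1, 1] 1 62400 1600 = true := by decide +kernel

theorem chk_pow8_2_10 : tab.minOKc [5, 2, 1, 3, 3, 1, 3, 1, 3, 4, 2, 0, 2, 0, 2, 2, 0, 3, 1, 1] 1 64000 1600 = true := by decide +kernel

theorem chk_pow8_2_11 : tab.minOKc [5, 2, 1, 3, 3, 1, 3, 1, 3, 4, 2, 0, 2, 0, 2, 2, 0, 3, 1, 1] 1 65600 1600 = true := by decide +kernel

theorem chk_pow8_2_12 : tab.minOKc [5, 2, 1, 3, 3, 1, 3, 1, 3, 4, 2, 0, 2, 0, 2, 2, 0, 3, 1, 1] 1 67200 1600 = true := by decide +kernel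

theorem chk_pow8_2_13 : tab.minOKc [5, 2, 1, 3, 3, 1, 3, 1, 3, 4, 2, 0, 2, 0, 2, 2, 0, 3, 1, 1] 1 68800 1600 = true := by decide +kernel

theorem chk_pow8_2_14 : tab.minOKc [5, 2, 1, 3, 3, 1, 3, 1, 3, 4, 2, 0, 2, 0, 2, 2, 0, 3, 1, 1] 1 70400 1600 = true := by decide +kernel

theorem chk_pow8_2 : tab.minOKc [5, 2, 1, 3, 3, 1, 3, 1, 3, 4, 2, 0, 2, 0, 2, 2, 0, 3, 1, 1] 1 48000 24000 = true := by
  refine tab.minOKc_of_chunks [5, 2, 1, 3, 3, 1, 3, 1, 3, 4, 2, 0, 2, 0, 2, 2, 0, 3, 1, 1] 1 48000 1600 15 (by norm_num) ?_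
  intro i hi
  interval_cases i
  · exact chk_pow8_2_0
  · exact chk_pow8_2_1
  · exact chk_pow8_2_2
  · exact chk_pow8_2_3
  · exact chk_pow8_2_4
  · exact chk_pow8_2_5
  · exact chk_pow8_2_6
  · exact chk_pow8_2_7
  · exact chk_pow8_2_8
  · exact chk_pow8_2_9
  · exact chk_pow8_2_10
  · exact chk_pow8_2_11
  · exact chk_pow8_2_12
  · exact chk_pow8_2_13
  · exact chk_pow8_2_14

theorem chk_pow8_3_0 : tab.minOKc [5, 2, 1, 3, 3, 1, 3, 1, 3, 4, 2, 0, 2, 0, 2, 2, 0, 3, 1, 1] 1 72000 1600 = true := by decide +kernel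

theorem chk_pow8_3_1 : tab.minOKc [5, 2, 1, 3, 3, 1, 3, 1, 3, 4, 2, 0, 2, 0, 2, 2, 0, 3, 1, 1] 1 73600 1600 = true := by decide +kernel

theorem chk_pow8_3_2 : tab.minOKc [5, 2, 1, 3, 3, 1, 3, 1, 3, 4, 2, 0, 2, 0, 2, 2, 0, 3, 1, 1] 1 75200 1600 = true := by decide +kernel

theorem chk_pow8_3_3 : tab.minOKc [5, 2, 1, 3, 3, 1, 3, 1, 3, 4, 2, 0, 2, 0, 2, 2, 0, 3, 1, 1] 1 76800 1600 = true := by decide +kernel

theorem chk_pow8_3_4 : tab.minOKc [5, 2, 1, 3, 3, 1, 3, 1, 3, 4, 2, 0, 2, 0, 2, 2, 0, 3, 1, 1] 1 78400 1600 = true := by decide +kernel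

theorem chk_pow8_3_5 : tab.minOKc [5, 2, 1, 3, 3, 1, 3, 1, 3, 4, 2, 0, 2, 0, 2, 2, 0, 3, 1, 1] 1 80000 1600 = true := by decide +kernel

theorem chk_pow8_3_6 : tab.minOKc [5, 2, 1, 3, 3, 1, 3, 1, 3, 4, 2, 0, 2, 0, 2, 2, 0, 3, 1, 1] 1 81600 1600 = true := by decide +kernel

theorem chk_pow8_3_7 : tab.minOKc [5, 2, 1, 3, 3, 1, 3, 1, 3, 4, 2, 0, 2, 0, 2, 2, 0, 3, 1, 1] 1 83200 1600 = true := by decide +kernel

theorem chk_pow8_3_8 : tab.minOKc [5, 2, 1, 3, 3, 1, 3, 1, 3, 4, 2, 0, 2, 0, 2, 2, 0, 3, 1, 1] 1 84800 1600 = true := by decide +kernel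

theorem chk_pow8_3_9 : tab.minOKc [5, 2, 1, 3, 3, 1, 3, 1, 3, 4, 2, 0, 2, 0, 2, 2, 0, 3, 1, 1] 1 86400 1600 = true := by decide +kernel

theorem chk_pow8_3_10 : tab.minOKc [5, 2, 1, 3, 3, 1, 3, 1, 3, 4, 2, 0, 2, 0, 2, 2, 0, 3, 1, 1] 1 88000 1600 = true := by decide +kernel

theorem chk_pow8_3_11 : tab.minOKc [5, 2, 1, 3, 3, 1, 3, 1, 3, 4, 2, 0, 2, 0, 2, 2, 0, 3, 1, 1] 1 89600 1600 = true := by decide +kernel

theorem chk_pow8_3_12 : tab.minOKc [5, 2, 1, 3, 3, 1, 3, 1, 3, 4, 2, 0, 2, 0, 2, 2, 0, 3, 1, 1] 1 91200 1600 = true := by decide +kernel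

theorem chk_pow8_3_13 : tab.minOKc [5, 2, 1, 3, 3, 1, 3, 1, 3, 4, 2, 0, 2, 0, 2, 2, 0, 3, 1, 1] 1 92800 1600 = true := by decide +kernel

theorem chk_pow8_3_14 : tab.minOKc [5, 2, 1, 3, 3, 1, 3, 1, 3, 4, 2, 0, 2, 0, 2, 2, 0, 3, 1, 1] 1 94400 1600 = true := by decide +kernel

theorem chk_pow8_3 : tab.minOKc [5, 2, 1, 3, 3, 1, 3, 1, 3, 4, 2, 0, 2, 0, 2, 2, 0, 3, 1, 1] 1 72000 24000 = true := by
  refine tab.minOKc_of_chunks [5, 2, 1, 3, 3, 1, 3, 1, 3, 4, 2, 0, 2, 0, 2, 2, 0, 3, 1, 1] 1 72000 1600 15 (by norm_num) ?_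
  intro i hi
  interval_cases i
  · exact chk_pow8_3_0
  · exact chk_pow8_3_1
  · exact chk_pow8_3_2
  · exact chk_pow8_3_3
  · exact chk_pow8_3_4
  · exact chk_pow8_3_5
  · exact chk_pow8_3_6
  · exact chk_pow8_3_7
  · exact chk_pow8_3_8
  · exact chk_pow8_3_9
  · exact chk_pow8_3_10
  · exact chk_pow8_3_11
  · exact chk_pow8_3_12
  · exact chk_pow8_3_13
  · exact chk_pow8_3_14


end Cfsg.Agent.Lib.Lead.HNP.HNTC
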