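import Cfsg.Agent.Lib.Lead.HNP.HNTCData
import Cfsg.Agent.Lib.Helper6.TCRel3
import Cfsg.Agent.Lib.Lead.HNP.HNTCRel50

/-! # HNTC: the kernel check of a part of the relators on the coset table -/

set_option autoImplicit false

namespace Cfsg.Agent.Lib.Lead.HNP.HNTC

open Cfsg.Agent.Lib.Helper6.TC

theorem chk_pow8_50_0 : tab.minOKc [5, 2, 1, 3, 3, 1, 3, 1, 3, 4, 2, 0, 2, 0, 2, 2, 0, 3, 1, 1] 1 1200000 1600 = true := by decide +kernel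

theorem chk_pow8_50_1 : tab.minOKc [5, 2, 1, 3, 3, 1, 3, 1, 3, 4, 2, 0, 2, 0, 2, 2, 0, 3, 1, 1] 1 1201600 1600 = true := by decide +kernel

theorem chk_pow8_50_2 : tab.minOKc [5, 2, 1, 3, 3, 1, 3, 1, 3, 4, 2, 0, 2, 0, 2, 2, 0, 3, 1, 1] 1 1203200 1600 = true := by decide +kernel

theorem chk_pow8_50_3 : tab.minOKc [5, 2, 1, 3, 3, 1, 3, 1, 3, 4, 2, 0, 2, 0, 2, 2, 0, 3, 1, 1] 1 1204800 1600 = true := by decide +kernel

theorem chk_pow8_50_4 : tab.minOKc [5, 2, 1, 3, 3, 1, 3, 1, 3, 4, 2, 0, 2, 0, 2, 2, 0, 3, 1, 1] 1 1206400 1600 = true := by decide +kernel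

theorem chk_pow8_50_5 : tab.minOKc [5, 2, 1, 3, 3, 1, 3, 1, 3, 4, 2, 0, 2, 0, 2, 2, 0, 3, 1, 1] 1 1208000 1600 = true := by decide +kernel

theorem chk_pow8_50_6 : tab.minOKc [5, 2, 1, 3, 3, 1, 3, 1, 3, 4, 2, 0, 2, 0, 2, 2, 0, 3, 1, 1] 1 1209600 1600 = true := by decide +kernel

theorem chk_pow8_50_7 : tab.minOKc [5, 2, 1, 3, 3, 1, 3, 1, 3, 4, 2, 0, 2, 0, 2, 2, 0, 3, 1, 1] 1 1211200 1600 = true := by decide +kernel

theorem chk_pow8_50_8 : tab.minOKc [5, 2, 1, 3, 3, 1, 3, 1, 3, 4, 2, 0, 2, 0, 2, 2, 0, 3, 1, 1] 1 1212800 1600 = true := by decide +kernel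

theorem chk_pow8_50_9 : tab.minOKc [5, 2, 1, 3, 3, 1, 3, 1, 3, 4, 2, 0, 2, 0, 2, 2, 0, 3, 1, 1] 1 1214400 1600 = true := by decide +kernel

theorem chk_pow8_50_10 : tab.minOKc [5, 2, 1, 3, 3, 1, 3, 1, 3, 4, 2, 0, 2, 0, 2, 2, 0, 3, 1, 1] 1 1216000 1600 = true := by decide +kernel

theorem chk_pow8_50_11 : tab.minOKc [5, 2, 1, 3, 3, 1, 3, 1, 3, 4, 2, 0, 2, 0, 2, 2, 0, 3, 1, 1] 1 1217600 1600 = true := by decide +kernel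

theorem chk_pow8_50_12 : tab.minOKc [5, 2, 1, 3, 3, 1, 3, 1, 3, 4, 2, 0, 2, 0, 2, 2, 0, 3, 1, 1] 1 1219200 1600 = true := by decide +kernel

theorem chk_pow8_50_13 : tab.minOKc [5, 2, 1, 3, 3, 1, 3, 1, 3, 4, 2, 0, 2, 0, 2, 2, 0, 3, 1, 1] 1 1220800 1600 = true := by decide +kernel

theorem chk_pow8_50_14 : tab.minOKc [5, 2, 1, 3, 3, 1, 3, 1, 3, 4, 2, 0, 2, 0, 2, 2, 0, 3, 1, 1] 1 1222400 1600 = true := by decide +kernel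

theorem chk_pow8_50 : tab.minOKc [5, 2, 1, 3, 3, 1, 3, 1, 3, 4, 2, 0, 2, 0, 2, 2, 0, 3, 1, 1] 1 1200000 24000 = true := by
  refine tab.minOKc_of_chunks [5, 2, 1, 3, 3, 1, 3, 1, 3, 4, 2, 0, 2, 0, 2, 2, 0, 3, 1, 1] 1 1200000 1600 15 (by norm_num) ?_
  intro i hi
  interval_cases i
  · exact chk_pow8_50_0
  · exact chk_pow8_50_1
  · exact chk_pow8_50_2
  · exact chk_pow8_50_3
  · exact chk_pow8_50_4
  · exact chk_pow8_50_5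
  · exact chk_pow8_50_6
  · exact chk_pow8_50_7
  · exact chk_pow8_50_8
  · exact chk_pow8_50_9
  · exact chk_pow8_50_10
  · exact chk_pow8_50_11
  · exact chk_pow8_50_12
  · exact chk_pow8_50_13
  · exact chk_pow8_50_14

theorem chk_pow8_51_0 : tab.minOKc [5, 2, 1, 3, 3, 1, 3, 1, 3, 4, 2, 0, 2, 0, 2, 2, 0, 3, 1, 1] 1 1224000 1600 = true := by decide +kernel

theorem chk_pow8_51_1 : tab.minOKc [5, 2, 1, 3, 3, 1, 3, 1, 3, 4, 2, 0, 2, 0, 2, 2, 0, 3, 1, 1] 1 1225600 1600 = true := by decide +kernel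

theorem chk_pow8_51_2 : tab.minOKc [5, 2, 1, 3, 3, 1, 3, 1, 3, 4, 2, 0, 2, 0, 2, 2, 0, 3, 1, 1] 1 1227200 1600 = true := by decide +kernel

theorem chk_pow8_51_3 : tab.minOKc [5, 2, 1, 3, 3, 1, 3, 1, 3, 4, 2, 0, 2, 0, 2, 2, 0, 3, 1, 1] 1 1228800 1600 = true := by decide +kernel

theorem chk_pow8_51_4 : tab.minOKc [5, 2, 1, 3, 3, 1, 3, 1, 3, 4, 2, 0, 2, 0, 2, 2, 0, 3, 1, 1] 1 1230400 1600 = true := by decide +kernel

theorem chk_pow8_51_5 : tab.minOKc [5, 2, 1, 3, 3, 1, 3, 1, 3, 4, 2, 0, 2, 0, 2, 2, 0, 3, 1, 1] 1 1232000 1600 = true := by decide +kernel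

theorem chk_pow8_51_6 : tab.minOKc [5, 2, 1, 3, 3, 1, 3, 1, 3, 4, 2, 0, 2, 0, 2, 2, 0, 3, 1, 1] 1 1233600 1600 = true := by decide +kernel

theorem chk_pow8_51_7 : tab.minOKc [5, 2, 1, 3, 3, 1, 3, 1, 3, 4, 2, 0, 2, 0, 2, 2, 0, 3, 1, 1] 1 1235200 1600 = true := by decide +kernel

theorem chk_pow8_51_8 : tab.minOKc [5, 2, 1, 3, 3, 1, 3, 1, 3, 4, 2, 0, 2, 0, 2, 2, 0, 3, 1, 1] 1 1236800 1600 = true := by decide +kernel

theorem chk_pow8_51_9 : tab.minOKc [5, 2, 1, 3, 3, 1, 3, 1, 3, 4, 2, 0, 2, 0, 2, 2, 0, 3, 1, 1] 1 1238400 1600 = true := by decide +kernel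

theorem chk_pow8_51_10 : tab.minOKc [5, 2, 1, 3, 3, 1, 3, 1, 3, 4, 2, 0, 2, 0, 2, 2, 0, 3, 1, 1] 1 1240000 1600 = true := by decide +kernel

theorem chk_pow8_51_11 : tab.minOKc [5, 2, 1, 3, 3, 1, 3, 1, 3, 4, 2, 0, 2, 0, 2, 2, 0, 3, 1, 1] 1 1241600 1600 = true := by decide +kernel

theorem chk_pow8_51_12 : tab.minOKc [5, 2, 1, 3, 3, 1, 3, 1, 3, 4, 2, 0, 2, 0, 2, 2, 0, 3, 1, 1] 1 1243200 1600 = true := by decide +kernel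

theorem chk_pow8_51_13 : tab.minOKc [5, 2, 1, 3, 3, 1, 3, 1, 3, 4, 2, 0, 2, 0, 2, 2, 0, 3, 1, 1] 1 1244800 1600 = true := by decide +kernel

theorem chk_pow8_51_14 : tab.minOKc [5, 2, 1, 3, 3, 1, 3, 1, 3, 4, 2, 0, 2, 0, 2, 2, 0, 3, 1, 1] 1 1246400 1600 = true := by decide +kernel

theorem chk_pow8_51 : tab.minOKc [5, 2, 1, 3, 3, 1, 3, 1, 3, 4, 2, 0, 2, 0, 2, 2, 0, 3, 1, 1] 1 1224000 24000 = true := by
  refine tab.minOKc_of_chunks [5, 2, 1, 3, 3, 1, 3, 1, 3, 4, 2, 0, 2, 0, 2, 2, 0, 3, 1, 1] 1 1224000 1600 15 (by norm_num) ?_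
  intro i hi
  interval_cases i
  · exact chk_pow8_51_0
  · exact chk_pow8_51_1
  · exact chk_pow8_51_2
  · exact chk_pow8_51_3
  · exact chk_pow8_51_4
  · exact chk_pow8_51_5
  · exact chk_pow8_51_6
  · exact chk_pow8_51_7
  · exact chk_pow8_51_8
  · exact chk_pow8_51_9
  · exact chk_pow8_51_10
  · exact chk_pow8_51_11
  · exact chk_pow8_51_12
  · exact chk_pow8_51_13
  · exact chk_pow8_51_14


end Cfsg.Agent.Lib.Lead.HNP.HNTC
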