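import Cfsg.Agent.Lib.Lead.HNP.HNTCSCert
import Cfsg.Agent.Lib.Lead.HNP.HNTCSRows7

/-! # HNTC: the kernel check of the rows from 356376 on -/

set_option autoImplicit false

namespace Cfsg.Agent.Lib.Lead.HNP.HNTC

open Cfsg.Agent.Lib.Helper6.TC Cfsg.Agent.Lib.Helper6.TCGS

theorem chk_rows31_0 : cert.rowsOK 356376 479 = true := by decide +kernel

theorem chk_rows31_1 : cert.rowsOK 356855 479 = true := by decide +kernel

theorem chk_rows31_2 : cert.rowsOK 357334 479 = true := by decide +kernel

theorem chk_rows31_3 : cert.rowsOK 357813 479 = true := by decide +kernel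

theorem chk_rows31_4 : cert.rowsOK 358292 479 = true := by decide +kernel

theorem chk_rows31_5 : cert.rowsOK 358771 479 = true := by decide +kernel

theorem chk_rows31_6 : cert.rowsOK 359250 479 = true := by decide +kernel

theorem chk_rows31_7 : cert.rowsOK 359729 479 = true := by decide +kernel

theorem chk_rows31_8 : cert.rowsOK 360208 479 = true := by decide +kernel

theorem chk_rows31_9 : cert.rowsOK 360687 479 = true := by decide +kernel

theorem chk_rows31_10 : cert.rowsOK 361166 479 = true := by decide +kernel

theorem chk_rows31_11 : cert.rowsOK 361645 479 = true := by decide +kernel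

theorem chk_rows31_12 : cert.rowsOK 362124 479 = true := by decide +kernel

theorem chk_rows31_13 : cert.rowsOK 362603 479 = true := by decide +kernel

theorem chk_rows31_14 : cert.rowsOK 363082 479 = true := by decide +kernel

theorem chk_rows31_15 : cert.rowsOK 363561 479 = true := by decide +kernel

theorem chk_rows31_16 : cert.rowsOK 364040 479 = true := by decide +kernel

theorem chk_rows31_17 : cert.rowsOK 364519 479 = true := by decide +kernel

theorem chk_rows31_18 : cert.rowsOK 364998 479 = true := by decide +kernel

theorem chk_rows31_19 : cert.rowsOK 365477 479 = true := by decide +kernel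

theorem chk_rows31_20 : cert.rowsOK 365956 479 = true := by decide +kernel

theorem chk_rows31_21 : cert.rowsOK 366435 479 = true := by decide +kernel

theorem chk_rows31_22 : cert.rowsOK 366914 479 = true := by decide +kernel

theorem chk_rows31_23 : cert.rowsOK 367393 479 = true := by decide +kernel

theorem chk_range31 : ∀ a, 356376 ≤ a → a < 367872 → ∀ x < cert.c.g, cert.slotOK a x = true := by
  refine cert.range_of_chunks 356376 479 24 (by norm_num) ?_
  intro k hk
  interval_cases k
  · exact chk_rows31_0
  · exact chk_rows31_1
  · exact chk_rows31_2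
  · exact chk_rows31_3
  · exact chk_rows31_4
  · exact chk_rows31_5
  · exact chk_rows31_6
  · exact chk_rows31_7
  · exact chk_rows31_8
  · exact chk_rows31_9
  · exact chk_rows31_10
  · exact chk_rows31_11
  · exact chk_rows31_12
  · exact chk_rows31_13
  · exact chk_rows31_14
  · exact chk_rows31_15
  · exact chk_rows31_16
  · exact chk_rows31_17
  · exact chk_rows31_18
  · exact chk_rows31_19
  · exact chk_rows31_20
  · exact chk_rows31_21
  · exact chk_rows31_22
  · exact chk_rows31_23

end Cfsg.Agent.Lib.Lead.HNP.HNTC
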