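import Cfsg.Agent.Lib.Lead.HNP.HNTCSCert
import Cfsg.Agent.Lib.Lead.HNP.HNTCSRows31

/-! # HNTC: the kernel check of the rows from 632280 on -/

set_option autoImplicit false

namespace Cfsg.Agent.Lib.Lead.HNP.HNTC

open Cfsg.Agent.Lib.Helper6.TC Cfsg.Agent.Lib.Helper6.TCGS

theorem chk_rows55_0 : cert.rowsOK 632280 479 = true := by decide +kernel

theorem chk_rows55_1 : cert.rowsOK 632759 479 = true := by decide +kernel

theorem chk_rows55_2 : cert.rowsOK 633238 479 = true := by decide +kernel

theorem chk_rows55_3 : cert.rowsOK 633717 479 = true := by decide +kernel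

theorem chk_rows55_4 : cert.rowsOK 634196 479 = true := by decide +kernel

theorem chk_rows55_5 : cert.rowsOK 634675 479 = true := by decide +kernel

theorem chk_rows55_6 : cert.rowsOK 635154 479 = true := by decide +kernel

theorem chk_rows55_7 : cert.rowsOK 635633 479 = true := by decide +kernel

theorem chk_rows55_8 : cert.rowsOK 636112 479 = true := by decide +kernel

theorem chk_rows55_9 : cert.rowsOK 636591 479 = true := by decide +kernel

theorem chk_rows55_10 : cert.rowsOK 637070 479 = true := by decide +kernel

theorem chk_rows55_11 : cert.rowsOK 637549 479 = true := by decide +kernel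

theorem chk_rows55_12 : cert.rowsOK 638028 479 = true := by decide +kernel

theorem chk_rows55_13 : cert.rowsOK 638507 479 = true := by decide +kernel

theorem chk_rows55_14 : cert.rowsOK 638986 479 = true := by decide +kernel

theorem chk_rows55_15 : cert.rowsOK 639465 479 = true := by decide +kernel

theorem chk_rows55_16 : cert.rowsOK 639944 479 = true := by decide +kernel

theorem chk_rows55_17 : cert.rowsOK 640423 479 = true := by decide +kernel

theorem chk_rows55_18 : cert.rowsOK 640902 479 = true := by decide +kernel

theorem chk_rows55_19 : cert.rowsOK 641381 479 = true := by decide +kernel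

theorem chk_rows55_20 : cert.rowsOK 641860 479 = true := by decide +kernel

theorem chk_rows55_21 : cert.rowsOK 642339 479 = true := by decide +kernel

theorem chk_rows55_22 : cert.rowsOK 642818 479 = true := by decide +kernel

theorem chk_rows55_23 : cert.rowsOK 643297 479 = true := by decide +kernel

theorem chk_range55 : ∀ a, 632280 ≤ a → a < 643776 → ∀ x < cert.c.g, cert.slotOK a x = true := by
  refine cert.range_of_chunks 632280 479 24 (by norm_num) ?_
  intro k hk
  interval_cases k
  · exact chk_rows55_0
  · exact chk_rows55_1
  · exact chk_rows55_2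
  · exact chk_rows55_3
  · exact chk_rows55_4
  · exact chk_rows55_5
  · exact chk_rows55_6
  · exact chk_rows55_7
  · exact chk_rows55_8
  · exact chk_rows55_9
  · exact chk_rows55_10
  · exact chk_rows55_11
  · exact chk_rows55_12
  · exact chk_rows55_13
  · exact chk_rows55_14
  · exact chk_rows55_15
  · exact chk_rows55_16
  · exact chk_rows55_17
  · exact chk_rows55_18
  · exact chk_rows55_19
  · exact chk_rows55_20
  · exact chk_rows55_21
  · exact chk_rows55_22
  · exact chk_rows55_23

end Cfsg.Agent.Lib.Lead.HNP.HNTC
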