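import Cfsg.Agent.Lib.Lead.HNP.HNTCSCert
import Cfsg.Agent.Lib.Lead.HNP.HNTCSRows55

/-! # HNTC: the kernel check of the rows from 908184 on -/

set_option autoImplicit false

namespace Cfsg.Agent.Lib.Lead.HNP.HNTC

open Cfsg.Agent.Lib.Helper6.TC Cfsg.Agent.Lib.Helper6.TCGS

theorem chk_rows79_0 : cert.rowsOK 908184 479 = true := by decide +kernel

theorem chk_rows79_1 : cert.rowsOK 908663 479 = true := by decide +kernel

theorem chk_rows79_2 : cert.rowsOK 909142 479 = true := by decide +kernel

theorem chk_rows79_3 : cert.rowsOK 909621 479 = true := by decide +kernel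

theorem chk_rows79_4 : cert.rowsOK 910100 479 = true := by decide +kernel

theorem chk_rows79_5 : cert.rowsOK 910579 479 = true := by decide +kernel

theorem chk_rows79_6 : cert.rowsOK 911058 479 = true := by decide +kernel

theorem chk_rows79_7 : cert.rowsOK 911537 479 = true := by decide +kernel

theorem chk_rows79_8 : cert.rowsOK 912016 479 = true := by decide +kernel

theorem chk_rows79_9 : cert.rowsOK 912495 479 = true := by decide +kernel

theorem chk_rows79_10 : cert.rowsOK 912974 479 = true := by decide +kernel

theorem chk_rows79_11 : cert.rowsOK 913453 479 = true := by decide +kernel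

theorem chk_rows79_12 : cert.rowsOK 913932 479 = true := by decide +kernel

theorem chk_rows79_13 : cert.rowsOK 914411 479 = true := by decide +kernel

theorem chk_rows79_14 : cert.rowsOK 914890 479 = true := by decide +kernel

theorem chk_rows79_15 : cert.rowsOK 915369 479 = true := by decide +kernel

theorem chk_rows79_16 : cert.rowsOK 915848 479 = true := by decide +kernel

theorem chk_rows79_17 : cert.rowsOK 916327 479 = true := by decide +kernel

theorem chk_rows79_18 : cert.rowsOK 916806 479 = true := by decide +kernel

theorem chk_rows79_19 : cert.rowsOK 917285 479 = true := by decide +kernel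

theorem chk_rows79_20 : cert.rowsOK 917764 479 = true := by decide +kernel

theorem chk_rows79_21 : cert.rowsOK 918243 479 = true := by decide +kernel

theorem chk_rows79_22 : cert.rowsOK 918722 479 = true := by decide +kernel

theorem chk_rows79_23 : cert.rowsOK 919201 479 = true := by decide +kernel

theorem chk_range79 : ∀ a, 908184 ≤ a → a < 919680 → ∀ x < cert.c.g, cert.slotOK a x = true := by
  refine cert.range_of_chunks 908184 479 24 (by norm_num) ?_
  intro k hk
  interval_cases k
  · exact chk_rows79_0
  · exact chk_rows79_1
  · exact chk_rows79_2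
  · exact chk_rows79_3
  · exact chk_rows79_4
  · exact chk_rows79_5
  · exact chk_rows79_6
  · exact chk_rows79_7
  · exact chk_rows79_8
  · exact chk_rows79_9
  · exact chk_rows79_10
  · exact chk_rows79_11
  · exact chk_rows79_12
  · exact chk_rows79_13
  · exact chk_rows79_14
  · exact chk_rows79_15
  · exact chk_rows79_16
  · exact chk_rows79_17
  · exact chk_rows79_18
  · exact chk_rows79_19
  · exact chk_rows79_20
  · exact chk_rows79_21
  · exact chk_rows79_22
  · exact chk_rows79_23

end Cfsg.Agent.Lib.Lead.HNP.HNTC
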