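import Cfsg.Agent.Lib.Lead.HNP.HNTCSCert
import Cfsg.Agent.Lib.Lead.HNP.HNTCSRows79

/-! # HNTC: the kernel check of the rows from 1184088 on -/

set_option autoImplicit false

namespace Cfsg.Agent.Lib.Lead.HNP.HNTC

open Cfsg.Agent.Lib.Helper6.TC Cfsg.Agent.Lib.Helper6.TCGS

theorem chk_rows103_0 : cert.rowsOK 1184088 479 = true := by decide +kernel

theorem chk_rows103_1 : cert.rowsOK 1184567 479 = true := by decide +kernel

theorem chk_rows103_2 : cert.rowsOK 1185046 479 = true := by decide +kernel

theorem chk_rows103_3 : cert.rowsOK 1185525 479 = true := by decide +kernel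

theorem chk_rows103_4 : cert.rowsOK 1186004 479 = true := by decide +kernel

theorem chk_rows103_5 : cert.rowsOK 1186483 479 = true := by decide +kernel

theorem chk_rows103_6 : cert.rowsOK 1186962 479 = true := by decide +kernel

theorem chk_rows103_7 : cert.rowsOK 1187441 479 = true := by decide +kernel

theorem chk_rows103_8 : cert.rowsOK 1187920 479 = true := by decide +kernel

theorem chk_rows103_9 : cert.rowsOK 1188399 479 = true := by decide +kernel

theorem chk_rows103_10 : cert.rowsOK 1188878 479 = true := by decide +kernel

theorem chk_rows103_11 : cert.rowsOK 1189357 479 = true := by decide +kernel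

theorem chk_rows103_12 : cert.rowsOK 1189836 479 = true := by decide +kernel

theorem chk_rows103_13 : cert.rowsOK 1190315 479 = true := by decide +kernel

theorem chk_rows103_14 : cert.rowsOK 1190794 479 = true := by decide +kernel

theorem chk_rows103_15 : cert.rowsOK 1191273 479 = true := by decide +kernel

theorem chk_rows103_16 : cert.rowsOK 1191752 479 = true := by decide +kernel

theorem chk_rows103_17 : cert.rowsOK 1192231 479 = true := by decide +kernel

theorem chk_rows103_18 : cert.rowsOK 1192710 479 = true := by decide +kernel

theorem chk_rows103_19 : cert.rowsOK 1193189 479 = true := by decide +kernel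

theorem chk_rows103_20 : cert.rowsOK 1193668 479 = true := by decide +kernel

theorem chk_rows103_21 : cert.rowsOK 1194147 479 = true := by decide +kernel

theorem chk_rows103_22 : cert.rowsOK 1194626 479 = true := by decide +kernel

theorem chk_rows103_23 : cert.rowsOK 1195105 479 = true := by decide +kernel

theorem chk_range103 : ∀ a, 1184088 ≤ a → a < 1195584 → ∀ x < cert.c.g, cert.slotOK a x = true := by
  refine cert.range_of_chunks 1184088 479 24 (by norm_num) ?_
  intro k hk
  interval_cases k
  · exact chk_rows103_0
  · exact chk_rows103_1
  · exact chk_rows103_2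
  · exact chk_rows103_3
  · exact chk_rows103_4
  · exact chk_rows103_5
  · exact chk_rows103_6
  · exact chk_rows103_7
  · exact chk_rows103_8
  · exact chk_rows103_9
  · exact chk_rows103_10
  · exact chk_rows103_11
  · exact chk_rows103_12
  · exact chk_rows103_13
  · exact chk_rows103_14
  · exact chk_rows103_15
  · exact chk_rows103_16
  · exact chk_rows103_17
  · exact chk_rows103_18
  · exact chk_rows103_19
  · exact chk_rows103_20
  · exact chk_rows103_21
  · exact chk_rows103_22
  · exact chk_rows103_23

end Cfsg.Agent.Lib.Lead.HNP.HNTC
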