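import Cfsg.Agent.Lib.Lead.HNP.HNTCSCert
import Cfsg.Agent.Lib.Lead.HNP.HNTCSRows103

/-! # HNTC: the kernel check of the rows from 1459992 on -/

set_option autoImplicit false

namespace Cfsg.Agent.Lib.Lead.HNP.HNTC

open Cfsg.Agent.Lib.Helper6.TC Cfsg.Agent.Lib.Helper6.TCGS

theorem chk_rows127_0 : cert.rowsOK 1459992 479 = true := by decide +kernel

theorem chk_rows127_1 : cert.rowsOK 1460471 479 = true := by decide +kernel

theorem chk_rows127_2 : cert.rowsOK 1460950 479 = true := by decide +kernel

theorem chk_rows127_3 : cert.rowsOK 1461429 479 = true := by decide +kernel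

theorem chk_rows127_4 : cert.rowsOK 1461908 479 = true := by decide +kernel

theorem chk_rows127_5 : cert.rowsOK 1462387 479 = true := by decide +kernel

theorem chk_rows127_6 : cert.rowsOK 1462866 479 = true := by decide +kernel

theorem chk_rows127_7 : cert.rowsOK 1463345 479 = true := by decide +kernel

theorem chk_rows127_8 : cert.rowsOK 1463824 479 = true := by decide +kernel

theorem chk_rows127_9 : cert.rowsOK 1464303 479 = true := by decide +kernel

theorem chk_rows127_10 : cert.rowsOK 1464782 479 = true := by decide +kernel

theorem chk_rows127_11 : cert.rowsOK 1465261 479 = true := by decide +kernel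

theorem chk_rows127_12 : cert.rowsOK 1465740 479 = true := by decide +kernel

theorem chk_rows127_13 : cert.rowsOK 1466219 479 = true := by decide +kernel

theorem chk_rows127_14 : cert.rowsOK 1466698 479 = true := by decide +kernel

theorem chk_rows127_15 : cert.rowsOK 1467177 479 = true := by decide +kernel

theorem chk_rows127_16 : cert.rowsOK 1467656 479 = true := by decide +kernel

theorem chk_rows127_17 : cert.rowsOK 1468135 479 = true := by decide +kernel

theorem chk_rows127_18 : cert.rowsOK 1468614 479 = true := by decide +kernel

theorem chk_rows127_19 : cert.rowsOK 1469093 479 = true := by decide +kernel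

theorem chk_rows127_20 : cert.rowsOK 1469572 479 = true := by decide +kernel

theorem chk_rows127_21 : cert.rowsOK 1470051 479 = true := by decide +kernel

theorem chk_rows127_22 : cert.rowsOK 1470530 479 = true := by decide +kernel

theorem chk_rows127_23 : cert.rowsOK 1471009 479 = true := by decide +kernel

theorem chk_range127 : ∀ a, 1459992 ≤ a → a < 1471488 → ∀ x < cert.c.g, cert.slotOK a x = true := by
  refine cert.range_of_chunks 1459992 479 24 (by norm_num) ?_
  intro k hk
  interval_cases k
  · exact chk_rows127_0
  · exact chk_rows127_1
  · exact chk_rows127_2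
  · exact chk_rows127_3
  · exact chk_rows127_4
  · exact chk_rows127_5
  · exact chk_rows127_6
  · exact chk_rows127_7
  · exact chk_rows127_8
  · exact chk_rows127_9
  · exact chk_rows127_10
  · exact chk_rows127_11
  · exact chk_rows127_12
  · exact chk_rows127_13
  · exact chk_rows127_14
  · exact chk_rows127_15
  · exact chk_rows127_16
  · exact chk_rows127_17
  · exact chk_rows127_18
  · exact chk_rows127_19
  · exact chk_rows127_20
  · exact chk_rows127_21
  · exact chk_rows127_22
  · exact chk_rows127_23

end Cfsg.Agent.Lib.Lead.HNP.HNTC
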