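import Cfsg.Agent.Lib.Lead.HNP.HNTCSCert
import Cfsg.Agent.Lib.Helper6.TCGIndex
import Cfsg.Agent.Lib.Lead.HNP.HNTCSRows127

/-! # HNTC: the kernel check that the first rows are closed, part 17 -/

set_option autoImplicit false

namespace Cfsg.Agent.Lib.Lead.HNP.HNTC

open Cfsg.Agent.Lib.Helper6.TC Cfsg.Agent.Lib.Helper6.TCGS

theorem chk_fin153 : cert.finalOKc 1539000 306000 2000 = true := by decide +kernel

theorem chk_fin154 : cert.finalOKc 1539000 308000 2000 = true := by decide +kernel

theorem chk_fin155 : cert.finalOKc 1539000 310000 2000 = true := by decide +kernel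

theorem chk_fin156 : cert.finalOKc 1539000 312000 2000 = true := by decide +kernel

theorem chk_fin157 : cert.finalOKc 1539000 314000 2000 = true := by decide +kernel

theorem chk_fin158 : cert.finalOKc 1539000 316000 2000 = true := by decide +kernel

theorem chk_fin159 : cert.finalOKc 1539000 318000 2000 = true := by decide +kernel

theorem chk_fin160 : cert.finalOKc 1539000 320000 2000 = true := by decide +kernel

theorem chk_fin161 : cert.finalOKc 1539000 322000 2000 = true := by decide +kernel


end Cfsg.Agent.Lib.Lead.HNP.HNTC
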