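import Cfsg.Agent.Lib.Lead.HNP.HNTCSCert
import Cfsg.Agent.Lib.Helper6.TCGIndex
import Cfsg.Agent.Lib.Lead.HNP.HNTCSFin17

/-! # HNTC: the kernel check that the first rows are closed, part 41 -/

set_option autoImplicit false

namespace Cfsg.Agent.Lib.Lead.HNP.HNTC

open Cfsg.Agent.Lib.Helper6.TC Cfsg.Agent.Lib.Helper6.TCGS

theorem chk_fin369 : cert.finalOKc 1539000 738000 2000 = true := by decide +kernel

theorem chk_fin370 : cert.finalOKc 1539000 740000 2000 = true := by decide +kernel

theorem chk_fin371 : cert.finalOKc 1539000 742000 2000 = true := by decide +kernel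

theorem chk_fin372 : cert.finalOKc 1539000 744000 2000 = true := by decide +kernel

theorem chk_fin373 : cert.finalOKc 1539000 746000 2000 = true := by decide +kernel

theorem chk_fin374 : cert.finalOKc 1539000 748000 2000 = true := by decide +kernel

theorem chk_fin375 : cert.finalOKc 1539000 750000 2000 = true := by decide +kernel

theorem chk_fin376 : cert.finalOKc 1539000 752000 2000 = true := by decide +kernel

theorem chk_fin377 : cert.finalOKc 1539000 754000 2000 = true := by decide +kernel


end Cfsg.Agent.Lib.Lead.HNP.HNTC
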