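import Cfsg.Agent.Lib.Lead.HNP.HNTCSCert
import Cfsg.Agent.Lib.Helper6.TCGIndex
import Cfsg.Agent.Lib.Lead.HNP.HNTCSFin41

/-! # HNTC: the kernel check that the first rows are closed, part 65 -/

set_option autoImplicit false

namespace Cfsg.Agent.Lib.Lead.HNP.HNTC

open Cfsg.Agent.Lib.Helper6.TC Cfsg.Agent.Lib.Helper6.TCGS

theorem chk_fin585 : cert.finalOKc 1539000 1170000 2000 = true := by decide +kernel

theorem chk_fin586 : cert.finalOKc 1539000 1172000 2000 = true := by decide +kernel

theorem chk_fin587 : cert.finalOKc 1539000 1174000 2000 = true := by decide +kernel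

theorem chk_fin588 : cert.finalOKc 1539000 1176000 2000 = true := by decide +kernel

theorem chk_fin589 : cert.finalOKc 1539000 1178000 2000 = true := by decide +kernel

theorem chk_fin590 : cert.finalOKc 1539000 1180000 2000 = true := by decide +kernel

theorem chk_fin591 : cert.finalOKc 1539000 1182000 2000 = true := by decide +kernel

theorem chk_fin592 : cert.finalOKc 1539000 1184000 2000 = true := by decide +kernel

theorem chk_fin593 : cert.finalOKc 1539000 1186000 2000 = true := by decide +kernel


end Cfsg.Agent.Lib.Lead.HNP.HNTC
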