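import Cfsg.Agent.Lib.Lead.HNP.HNTCData
import Cfsg.Agent.Lib.Helper6.TCRel3
import Cfsg.Agent.Lib.Lead.HNP.HNTCSFin65

/-! # HNTC: the kernel check of a part of the relators on the coset table -/

set_option autoImplicit false

namespace Cfsg.Agent.Lib.Lead.HNP.HNTC

open Cfsg.Agent.Lib.Helper6.TC

theorem chk_pow1_2_0 : tab.minOKc [0, 0, 2, 0, 0, 3] 1 159990 5333 = true := by decide +kernel

theorem chk_pow1_2_1 : tab.minOKc [0, 0, 2, 0, 0, 3] 1 165323 5333 = true := by decide +kernel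

theorem chk_pow1_2_2 : tab.minOKc [0, 0, 2, 0, 0, 3] 1 170656 5333 = true := by decide +kernel

theorem chk_pow1_2_3 : tab.minOKc [0, 0, 2, 0, 0, 3] 1 175989 5333 = true := by decide +kernel

theorem chk_pow1_2_4 : tab.minOKc [0, 0, 2, 0, 0, 3] 1 181322 5333 = true := by decide +kernel

theorem chk_pow1_2_5 : tab.minOKc [0, 0, 2, 0, 0, 3] 1 186655 5333 = true := by decide +kernel

theorem chk_pow1_2_6 : tab.minOKc [0, 0, 2, 0, 0, 3] 1 191988 5333 = true := by decide +kernel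

theorem chk_pow1_2_7 : tab.minOKc [0, 0, 2, 0, 0, 3] 1 197321 5333 = true := by decide +kernel

theorem chk_pow1_2_8 : tab.minOKc [0, 0, 2, 0, 0, 3] 1 202654 5333 = true := by decide +kernel

theorem chk_pow1_2_9 : tab.minOKc [0, 0, 2, 0, 0, 3] 1 207987 5333 = true := by decide +kernel

theorem chk_pow1_2_10 : tab.minOKc [0, 0, 2, 0, 0, 3] 1 213320 5333 = true := by decide +kernel

theorem chk_pow1_2_11 : tab.minOKc [0, 0, 2, 0, 0, 3] 1 218653 5333 = true := by decide +kernel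

theorem chk_pow1_2_12 : tab.minOKc [0, 0, 2, 0, 0, 3] 1 223986 5333 = true := by decide +kernel

theorem chk_pow1_2_13 : tab.minOKc [0, 0, 2, 0, 0, 3] 1 229319 5333 = true := by decide +kernel

theorem chk_pow1_2_14 : tab.minOKc [0, 0, 2, 0, 0, 3] 1 234652 5333 = true := by decide +kernel

theorem chk_pow1_2 : tab.minOKc [0, 0, 2, 0, 0, 3] 1 159990 79995 = true := by
  refine tab.minOKc_of_chunks [0, 0, 2, 0, 0, 3] 1 159990 5333 15 (by norm_num) ?_
  intro i hi
  interval_cases i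
  · exact chk_pow1_2_0
  · exact chk_pow1_2_1
  · exact chk_pow1_2_2
  · exact chk_pow1_2_3
  · exact chk_pow1_2_4
  · exact chk_pow1_2_5
  · exact chk_pow1_2_6
  · exact chk_pow1_2_7
  · exact chk_pow1_2_8
  · exact chk_pow1_2_9
  · exact chk_pow1_2_10
  · exact chk_pow1_2_11
  · exact chk_pow1_2_12
  · exact chk_pow1_2_13
  · exact chk_pow1_2_14

theorem chk_pow1_3_0 : tab.minOKc [0, 0, 2, 0, 0, 3] 1 239985 5333 = true := by decide +kernel

theorem chk_pow1_3_1 : tab.minOKc [0, 0, 2, 0, 0, 3] 1 245318 5333 = true := by decide +kernel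

theorem chk_pow1_3_2 : tab.minOKc [0, 0, 2, 0, 0, 3] 1 250651 5333 = true := by decide +kernel

theorem chk_pow1_3_3 : tab.minOKc [0, 0, 2, 0, 0, 3] 1 255984 5333 = true := by decide +kernel

theorem chk_pow1_3_4 : tab.minOKc [0, 0, 2, 0, 0, 3] 1 261317 5333 = true := by decide +kernel

theorem chk_pow1_3_5 : tab.minOKc [0, 0, 2, 0, 0, 3] 1 266650 5333 = true := by decide +kernel

theorem chk_pow1_3_6 : tab.minOKc [0, 0, 2, 0, 0, 3] 1 271983 5333 = true := by decide +kernel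

theorem chk_pow1_3_7 : tab.minOKc [0, 0, 2, 0, 0, 3] 1 277316 5333 = true := by decide +kernel

theorem chk_pow1_3_8 : tab.minOKc [0, 0, 2, 0, 0, 3] 1 282649 5333 = true := by decide +kernel

theorem chk_pow1_3_9 : tab.minOKc [0, 0, 2, 0, 0, 3] 1 287982 5333 = true := by decide +kernel

theorem chk_pow1_3_10 : tab.minOKc [0, 0, 2, 0, 0, 3] 1 293315 5333 = true := by decide +kernel

theorem chk_pow1_3_11 : tab.minOKc [0, 0, 2, 0, 0, 3] 1 298648 5333 = true := by decide +kernel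

theorem chk_pow1_3_12 : tab.minOKc [0, 0, 2, 0, 0, 3] 1 303981 5333 = true := by decide +kernel

theorem chk_pow1_3_13 : tab.minOKc [0, 0, 2, 0, 0, 3] 1 309314 5333 = true := by decide +kernel

theorem chk_pow1_3_14 : tab.minOKc [0, 0, 2, 0, 0, 3] 1 314647 5333 = true := by decide +kernel

theorem chk_pow1_3 : tab.minOKc [0, 0, 2, 0, 0, 3] 1 239985 79995 = true := by
  refine tab.minOKc_of_chunks [0, 0, 2, 0, 0, 3] 1 239985 5333 15 (by norm_num) ?_
  intro i hi
  interval_cases i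
  · exact chk_pow1_3_0
  · exact chk_pow1_3_1
  · exact chk_pow1_3_2
  · exact chk_pow1_3_3
  · exact chk_pow1_3_4
  · exact chk_pow1_3_5
  · exact chk_pow1_3_6
  · exact chk_pow1_3_7
  · exact chk_pow1_3_8
  · exact chk_pow1_3_9
  · exact chk_pow1_3_10
  · exact chk_pow1_3_11
  · exact chk_pow1_3_12
  · exact chk_pow1_3_13
  · exact chk_pow1_3_14


end Cfsg.Agent.Lib.Lead.HNP.HNTC
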