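import Cfsg.Agent.Lib.Lead.HNP.HNTCData
import Cfsg.Agent.Lib.Helper6.TCRel3
import Cfsg.Agent.Lib.Lead.HNP.HNTCRel3

/-! # HNTC: the kernel check of a part of the relators on the coset table -/

set_option autoImplicit false

namespace Cfsg.Agent.Lib.Lead.HNP.HNTC

open Cfsg.Agent.Lib.Helper6.TC

theorem chk_pow3_17_0 : tab.minOKc [1, 2, 2, 0, 2, 2, 2] 3 1165605 4571 = true := by decide +kernel

theorem chk_pow3_17_1 : tab.minOKc [1, 2, 2, 0, 2, 2, 2] 3 1170176 4571 = true := by decide +kernel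

theorem chk_pow3_17_2 : tab.minOKc [1, 2, 2, 0, 2, 2, 2] 3 1174747 4571 = true := by decide +kernel

theorem chk_pow3_17_3 : tab.minOKc [1, 2, 2, 0, 2, 2, 2] 3 1179318 4571 = true := by decide +kernel

theorem chk_pow3_17_4 : tab.minOKc [1, 2, 2, 0, 2, 2, 2] 3 1183889 4571 = true := by decide +kernel

theorem chk_pow3_17_5 : tab.minOKc [1, 2, 2, 0, 2, 2, 2] 3 1188460 4571 = true := by decide +kernel

theorem chk_pow3_17_6 : tab.minOKc [1, 2, 2, 0, 2, 2, 2] 3 1193031 4571 = true := by decide +kernel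

theorem chk_pow3_17_7 : tab.minOKc [1, 2, 2, 0, 2, 2, 2] 3 1197602 4571 = true := by decide +kernel

theorem chk_pow3_17_8 : tab.minOKc [1, 2, 2, 0, 2, 2, 2] 3 1202173 4571 = true := by decide +kernel

theorem chk_pow3_17_9 : tab.minOKc [1, 2, 2, 0, 2, 2, 2] 3 1206744 4571 = true := by decide +kernel

theorem chk_pow3_17_10 : tab.minOKc [1, 2, 2, 0, 2, 2, 2] 3 1211315 4571 = true := by decide +kernel

theorem chk_pow3_17_11 : tab.minOKc [1, 2, 2, 0, 2, 2, 2] 3 1215886 4571 = true := by decide +kernel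

theorem chk_pow3_17_12 : tab.minOKc [1, 2, 2, 0, 2, 2, 2] 3 1220457 4571 = true := by decide +kernel

theorem chk_pow3_17_13 : tab.minOKc [1, 2, 2, 0, 2, 2, 2] 3 1225028 4571 = true := by decide +kernel

theorem chk_pow3_17_14 : tab.minOKc [1, 2, 2, 0, 2, 2, 2] 3 1229599 4571 = true := by decide +kernel

theorem chk_pow3_17 : tab.minOKc [1, 2, 2, 0, 2, 2, 2] 3 1165605 68565 = true := by
  refine tab.minOKc_of_chunks [1, 2, 2, 0, 2, 2, 2] 3 1165605 4571 15 (by norm_num) ?_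
  intro i hi
  interval_cases i
  · exact chk_pow3_17_0
  · exact chk_pow3_17_1
  · exact chk_pow3_17_2
  · exact chk_pow3_17_3
  · exact chk_pow3_17_4
  · exact chk_pow3_17_5
  · exact chk_pow3_17_6
  · exact chk_pow3_17_7
  · exact chk_pow3_17_8
  · exact chk_pow3_17_9
  · exact chk_pow3_17_10
  · exact chk_pow3_17_11
  · exact chk_pow3_17_12
  · exact chk_pow3_17_13
  · exact chk_pow3_17_14

theorem chk_pow3_18_0 : tab.minOKc [1, 2, 2, 0, 2, 2, 2] 3 1234170 4571 = true := by decide +kernel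

theorem chk_pow3_18_1 : tab.minOKc [1, 2, 2, 0, 2, 2, 2] 3 1238741 4571 = true := by decide +kernel

theorem chk_pow3_18_2 : tab.minOKc [1, 2, 2, 0, 2, 2, 2] 3 1243312 4571 = true := by decide +kernel

theorem chk_pow3_18_3 : tab.minOKc [1, 2, 2, 0, 2, 2, 2] 3 1247883 4571 = true := by decide +kernel

theorem chk_pow3_18_4 : tab.minOKc [1, 2, 2, 0, 2, 2, 2] 3 1252454 4571 = true := by decide +kernel

theorem chk_pow3_18_5 : tab.minOKc [1, 2, 2, 0, 2, 2, 2] 3 1257025 4571 = true := by decide +kernel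

theorem chk_pow3_18_6 : tab.minOKc [1, 2, 2, 0, 2, 2, 2] 3 1261596 4571 = true := by decide +kernel

theorem chk_pow3_18_7 : tab.minOKc [1, 2, 2, 0, 2, 2, 2] 3 1266167 4571 = true := by decide +kernel

theorem chk_pow3_18_8 : tab.minOKc [1, 2, 2, 0, 2, 2, 2] 3 1270738 4571 = true := by decide +kernel

theorem chk_pow3_18_9 : tab.minOKc [1, 2, 2, 0, 2, 2, 2] 3 1275309 4571 = true := by decide +kernel

theorem chk_pow3_18_10 : tab.minOKc [1, 2, 2, 0, 2, 2, 2] 3 1279880 4571 = true := by decide +kernel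

theorem chk_pow3_18_11 : tab.minOKc [1, 2, 2, 0, 2, 2, 2] 3 1284451 4571 = true := by decide +kernel

theorem chk_pow3_18_12 : tab.minOKc [1, 2, 2, 0, 2, 2, 2] 3 1289022 4571 = true := by decide +kernel

theorem chk_pow3_18_13 : tab.minOKc [1, 2, 2, 0, 2, 2, 2] 3 1293593 4571 = true := by decide +kernel

theorem chk_pow3_18_14 : tab.minOKc [1, 2, 2, 0, 2, 2, 2] 3 1298164 4571 = true := by decide +kernel

theorem chk_pow3_18 : tab.minOKc [1, 2, 2, 0, 2, 2, 2] 3 1234170 68565 = true := by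
  refine tab.minOKc_of_chunks [1, 2, 2, 0, 2, 2, 2] 3 1234170 4571 15 (by norm_num) ?_
  intro i hi
  interval_cases i
  · exact chk_pow3_18_0
  · exact chk_pow3_18_1
  · exact chk_pow3_18_2
  · exact chk_pow3_18_3
  · exact chk_pow3_18_4
  · exact chk_pow3_18_5
  · exact chk_pow3_18_6
  · exact chk_pow3_18_7
  · exact chk_pow3_18_8
  · exact chk_pow3_18_9
  · exact chk_pow3_18_10
  · exact chk_pow3_18_11
  · exact chk_pow3_18_12
  · exact chk_pow3_18_13
  · exact chk_pow3_18_14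


end Cfsg.Agent.Lib.Lead.HNP.HNTC
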