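import Cfsg.Agent.Lib.Lead.HNP.HNTCData
import Cfsg.Agent.Lib.Helper6.TCRel3
import Cfsg.Agent.Lib.Lead.HNP.HNTCRel27

/-! # HNTC: the kernel check of a part of the relators on the coset table -/

set_option autoImplicit false

namespace Cfsg.Agent.Lib.Lead.HNP.HNTC

open Cfsg.Agent.Lib.Helper6.TC

theorem chk_pow8_4_0 : tab.minOKc [5, 2, 1, 3, 3, 1, 3, 1, 3, 4, 2, 0, 2, 0, 2, 2, 0, 3, 1, 1] 1 96000 1600 = true := by decide +kernel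

theorem chk_pow8_4_1 : tab.minOKc [5, 2, 1, 3, 3, 1, 3, 1, 3, 4, 2, 0, 2, 0, 2, 2, 0, 3, 1, 1] 1 97600 1600 = true := by decide +kernel

theorem chk_pow8_4_2 : tab.minOKc [5, 2, 1, 3, 3, 1, 3, 1, 3, 4, 2, 0, 2, 0, 2, 2, 0, 3, 1, 1] 1 99200 1600 = true := by decide +kernel

theorem chk_pow8_4_3 : tab.minOKc [5, 2, 1, 3, 3, 1, 3, 1, 3, 4, 2, 0, 2, 0, 2, 2, 0, 3, 1, 1] 1 100800 1600 = true := by decide +kernel

theorem chk_pow8_4_4 : tab.minOKc [5, 2, 1, 3, 3, 1, 3, 1, 3, 4, 2, 0, 2, 0, 2, 2, 0, 3, 1, 1] 1 102400 1600 = true := by decide +kernel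

theorem chk_pow8_4_5 : tab.minOKc [5, 2, 1, 3, 3, 1, 3, 1, 3, 4, 2, 0, 2, 0, 2, 2, 0, 3, 1, 1] 1 104000 1600 = true := by decide +kernel

theorem chk_pow8_4_6 : tab.minOKc [5, 2, 1, 3, 3, 1, 3, 1, 3, 4, 2, 0, 2, 0, 2, 2, 0, 3, 1, 1] 1 105600 1600 = true := by decide +kernel

theorem chk_pow8_4_7 : tab.minOKc [5, 2, 1, 3, 3, 1, 3, 1, 3, 4, 2, 0, 2, 0, 2, 2, 0, 3, 1, 1] 1 107200 1600 = true := by decide +kernel

theorem chk_pow8_4_8 : tab.minOKc [5, 2, 1, 3, 3, 1, 3, 1, 3, 4, 2, 0, 2, 0, 2, 2, 0, 3, 1, 1] 1 108800 1600 = true := by decide +kernel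

theorem chk_pow8_4_9 : tab.minOKc [5, 2, 1, 3, 3, 1, 3, 1, 3, 4, 2, 0, 2, 0, 2, 2, 0, 3, 1, 1] 1 110400 1600 = true := by decide +kernel

theorem chk_pow8_4_10 : tab.minOKc [5, 2, 1, 3, 3, 1, 3, 1, 3, 4, 2, 0, 2, 0, 2, 2, 0, 3, 1, 1] 1 112000 1600 = true := by decide +kernel

theorem chk_pow8_4_11 : tab.minOKc [5, 2, 1, 3, 3, 1, 3, 1, 3, 4, 2, 0, 2, 0, 2, 2, 0, 3, 1, 1] 1 113600 1600 = true := by decide +kernel

theorem chk_pow8_4_12 : tab.minOKc [5, 2, 1, 3, 3, 1, 3, 1, 3, 4, 2, 0, 2, 0, 2, 2, 0, 3, 1, 1] 1 115200 1600 = true := by decide +kernel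

theorem chk_pow8_4_13 : tab.minOKc [5, 2, 1, 3, 3, 1, 3, 1, 3, 4, 2, 0, 2, 0, 2, 2, 0, 3, 1, 1] 1 116800 1600 = true := by decide +kernel

theorem chk_pow8_4_14 : tab.minOKc [5, 2, 1, 3, 3, 1, 3, 1, 3, 4, 2, 0, 2, 0, 2, 2, 0, 3, 1, 1] 1 118400 1600 = true := by decide +kernel

theorem chk_pow8_4 : tab.minOKc [5, 2, 1, 3, 3, 1, 3, 1, 3, 4, 2, 0, 2, 0, 2, 2, 0, 3, 1, 1] 1 96000 24000 = true := by
  refine tab.minOKc_of_chunks [5, 2, 1, 3, 3, 1, 3, 1, 3, 4, 2, 0, 2, 0, 2, 2, 0, 3, 1, 1] 1 96000 1600 15 (by norm_num) ?_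
  intro i hi
  interval_cases i
  · exact chk_pow8_4_0
  · exact chk_pow8_4_1
  · exact chk_pow8_4_2
  · exact chk_pow8_4_3
  · exact chk_pow8_4_4
  · exact chk_pow8_4_5
  · exact chk_pow8_4_6
  · exact chk_pow8_4_7
  · exact chk_pow8_4_8
  · exact chk_pow8_4_9
  · exact chk_pow8_4_10
  · exact chk_pow8_4_11
  · exact chk_pow8_4_12
  · exact chk_pow8_4_13
  · exact chk_pow8_4_14

theorem chk_pow8_5_0 : tab.minOKc [5, 2, 1, 3, 3, 1, 3, 1, 3, 4, 2, 0, 2, 0, 2, 2, 0, 3, 1, 1] 1 120000 1600 = true := by decide +kernel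

theorem chk_pow8_5_1 : tab.minOKc [5, 2, 1, 3, 3, 1, 3, 1, 3, 4, 2, 0, 2, 0, 2, 2, 0, 3, 1, 1] 1 121600 1600 = true := by decide +kernel

theorem chk_pow8_5_2 : tab.minOKc [5, 2, 1, 3, 3, 1, 3, 1, 3, 4, 2, 0, 2, 0, 2, 2, 0, 3, 1, 1] 1 123200 1600 = true := by decide +kernel

theorem chk_pow8_5_3 : tab.minOKc [5, 2, 1, 3, 3, 1, 3, 1, 3, 4, 2, 0, 2, 0, 2, 2, 0, 3, 1, 1] 1 124800 1600 = true := by decide +kernel

theorem chk_pow8_5_4 : tab.minOKc [5, 2, 1, 3, 3, 1, 3, 1, 3, 4, 2, 0, 2, 0, 2, 2, 0, 3, 1, 1] 1 126400 1600 = true := by decide +kernel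

theorem chk_pow8_5_5 : tab.minOKc [5, 2, 1, 3, 3, 1, 3, 1, 3, 4, 2, 0, 2, 0, 2, 2, 0, 3, 1, 1] 1 128000 1600 = true := by decide +kernel

theorem chk_pow8_5_6 : tab.minOKc [5, 2, 1, 3, 3, 1, 3, 1, 3, 4, 2, 0, 2, 0, 2, 2, 0, 3, 1, 1] 1 129600 1600 = true := by decide +kernel

theorem chk_pow8_5_7 : tab.minOKc [5, 2, 1, 3, 3, 1, 3, 1, 3, 4, 2, 0, 2, 0, 2, 2, 0, 3, 1, 1] 1 131200 1600 = true := by decide +kernel

theorem chk_pow8_5_8 : tab.minOKc [5, 2, 1, 3, 3, 1, 3, 1, 3, 4, 2, 0, 2, 0, 2, 2, 0, 3, 1, 1] 1 132800 1600 = true := by decide +kernel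

theorem chk_pow8_5_9 : tab.minOKc [5, 2, 1, 3, 3, 1, 3, 1, 3, 4, 2, 0, 2, 0, 2, 2, 0, 3, 1, 1] 1 134400 1600 = true := by decide +kernel

theorem chk_pow8_5_10 : tab.minOKc [5, 2, 1, 3, 3, 1, 3, 1, 3, 4, 2, 0, 2, 0, 2, 2, 0, 3, 1, 1] 1 136000 1600 = true := by decide +kernel

theorem chk_pow8_5_11 : tab.minOKc [5, 2, 1, 3, 3, 1, 3, 1, 3, 4, 2, 0, 2, 0, 2, 2, 0, 3, 1, 1] 1 137600 1600 = true := by decide +kernel

theorem chk_pow8_5_12 : tab.minOKc [5, 2, 1, 3, 3, 1, 3, 1, 3, 4, 2, 0, 2, 0, 2, 2, 0, 3, 1, 1] 1 139200 1600 = true := by decide +kernel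

theorem chk_pow8_5_13 : tab.minOKc [5, 2, 1, 3, 3, 1, 3, 1, 3, 4, 2, 0, 2, 0, 2, 2, 0, 3, 1, 1] 1 140800 1600 = true := by decide +kernel

theorem chk_pow8_5_14 : tab.minOKc [5, 2, 1, 3, 3, 1, 3, 1, 3, 4, 2, 0, 2, 0, 2, 2, 0, 3, 1, 1] 1 142400 1600 = true := by decide +kernel

theorem chk_pow8_5 : tab.minOKc [5, 2, 1, 3, 3, 1, 3, 1, 3, 4, 2, 0, 2, 0, 2, 2, 0, 3, 1, 1] 1 120000 24000 = true := by
  refine tab.minOKc_of_chunks [5, 2, 1, 3, 3, 1, 3, 1, 3, 4, 2, 0, 2, 0, 2, 2, 0, 3, 1, 1] 1 120000 1600 15 (by norm_num) ?_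
  intro i hi
  interval_cases i
  · exact chk_pow8_5_0
  · exact chk_pow8_5_1
  · exact chk_pow8_5_2
  · exact chk_pow8_5_3
  · exact chk_pow8_5_4
  · exact chk_pow8_5_5
  · exact chk_pow8_5_6
  · exact chk_pow8_5_7
  · exact chk_pow8_5_8
  · exact chk_pow8_5_9
  · exact chk_pow8_5_10
  · exact chk_pow8_5_11
  · exact chk_pow8_5_12
  · exact chk_pow8_5_13
  · exact chk_pow8_5_14


end Cfsg.Agent.Lib.Lead.HNP.HNTC
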