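import Cfsg.Agent.Lib.Lead.HNP.HNTCData
import Cfsg.Agent.Lib.Helper6.TCRel3
import Cfsg.Agent.Lib.Lead.HNP.HNTCRel51

/-! # HNTC: the kernel check of a part of the relators on the coset table -/

set_option autoImplicit false

namespace Cfsg.Agent.Lib.Lead.HNP.HNTC

open Cfsg.Agent.Lib.Helper6.TC

theorem chk_pow8_52_0 : tab.minOKc [5, 2, 1, 3, 3, 1, 3, 1, 3, 4, 2, 0, 2, 0, 2, 2, 0, 3, 1, 1] 1 1248000 1600 = true := by decide +kernel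

theorem chk_pow8_52_1 : tab.minOKc [5, 2, 1, 3, 3, 1, 3, 1, 3, 4, 2, 0, 2, 0, 2, 2, 0, 3, 1, 1] 1 1249600 1600 = true := by decide +kernel

theorem chk_pow8_52_2 : tab.minOKc [5, 2, 1, 3, 3, 1, 3, 1, 3, 4, 2, 0, 2, 0, 2, 2, 0, 3, 1, 1] 1 1251200 1600 = true := by decide +kernel

theorem chk_pow8_52_3 : tab.minOKc [5, 2, 1, 3, 3, 1, 3, 1, 3, 4, 2, 0, 2, 0, 2, 2, 0, 3, 1, 1] 1 1252800 1600 = true := by decide +kernel

theorem chk_pow8_52_4 : tab.minOKc [5, 2, 1, 3, 3, 1, 3, 1, 3, 4, 2, 0, 2, 0, 2, 2, 0, 3, 1, 1] 1 1254400 1600 = true := by decide +kernel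

theorem chk_pow8_52_5 : tab.minOKc [5, 2, 1, 3, 3, 1, 3, 1, 3, 4, 2, 0, 2, 0, 2, 2, 0, 3, 1, 1] 1 1256000 1600 = true := by decide +kernel

theorem chk_pow8_52_6 : tab.minOKc [5, 2, 1, 3, 3, 1, 3, 1, 3, 4, 2, 0, 2, 0, 2, 2, 0, 3, 1, 1] 1 1257600 1600 = true := by decide +kernel

theorem chk_pow8_52_7 : tab.minOKc [5, 2, 1, 3, 3, 1, 3, 1, 3, 4, 2, 0, 2, 0, 2, 2, 0, 3, 1, 1] 1 1259200 1600 = true := by decide +kernel

theorem chk_pow8_52_8 : tab.minOKc [5, 2, 1, 3, 3, 1, 3, 1, 3, 4, 2, 0, 2, 0, 2, 2, 0, 3, 1, 1] 1 1260800 1600 = true := by decide +kernel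

theorem chk_pow8_52_9 : tab.minOKc [5, 2, 1, 3, 3, 1, 3, 1, 3, 4, 2, 0, 2, 0, 2, 2, 0, 3, 1, 1] 1 1262400 1600 = true := by decide +kernel

theorem chk_pow8_52_10 : tab.minOKc [5, 2, 1, 3, 3, 1, 3, 1, 3, 4, 2, 0, 2, 0, 2, 2, 0, 3, 1, 1] 1 1264000 1600 = true := by decide +kernel

theorem chk_pow8_52_11 : tab.minOKc [5, 2, 1, 3, 3, 1, 3, 1, 3, 4, 2, 0, 2, 0, 2, 2, 0, 3, 1, 1] 1 1265600 1600 = true := by decide +kernel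

theorem chk_pow8_52_12 : tab.minOKc [5, 2, 1, 3, 3, 1, 3, 1, 3, 4, 2, 0, 2, 0, 2, 2, 0, 3, 1, 1] 1 1267200 1600 = true := by decide +kernel

theorem chk_pow8_52_13 : tab.minOKc [5, 2, 1, 3, 3, 1, 3, 1, 3, 4, 2, 0, 2, 0, 2, 2, 0, 3, 1, 1] 1 1268800 1600 = true := by decide +kernel

theorem chk_pow8_52_14 : tab.minOKc [5, 2, 1, 3, 3, 1, 3, 1, 3, 4, 2, 0, 2, 0, 2, 2, 0, 3, 1, 1] 1 1270400 1600 = true := by decide +kernel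

theorem chk_pow8_52 : tab.minOKc [5, 2, 1, 3, 3, 1, 3, 1, 3, 4, 2, 0, 2, 0, 2, 2, 0, 3, 1, 1] 1 1248000 24000 = true := by
  refine tab.minOKc_of_chunks [5, 2, 1, 3, 3, 1, 3, 1, 3, 4, 2, 0, 2, 0, 2, 2, 0, 3, 1, 1] 1 1248000 1600 15 (by norm_num) ?_
  intro i hi
  interval_cases i
  · exact chk_pow8_52_0
  · exact chk_pow8_52_1
  · exact chk_pow8_52_2
  · exact chk_pow8_52_3
  · exact chk_pow8_52_4
  · exact chk_pow8_52_5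
  · exact chk_pow8_52_6
  · exact chk_pow8_52_7
  · exact chk_pow8_52_8
  · exact chk_pow8_52_9
  · exact chk_pow8_52_10
  · exact chk_pow8_52_11
  · exact chk_pow8_52_12
  · exact chk_pow8_52_13
  · exact chk_pow8_52_14

theorem chk_pow8_53_0 : tab.minOKc [5, 2, 1, 3, 3, 1, 3, 1, 3, 4, 2, 0, 2, 0, 2, 2, 0, 3, 1, 1] 1 1272000 1600 = true := by decide +kernel

theorem chk_pow8_53_1 : tab.minOKc [5, 2, 1, 3, 3, 1, 3, 1, 3, 4, 2, 0, 2, 0, 2, 2, 0, 3, 1, 1] 1 1273600 1600 = true := by decide +kernel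

theorem chk_pow8_53_2 : tab.minOKc [5, 2, 1, 3, 3, 1, 3, 1, 3, 4, 2, 0, 2, 0, 2, 2, 0, 3, 1, 1] 1 1275200 1600 = true := by decide +kernel

theorem chk_pow8_53_3 : tab.minOKc [5, 2, 1, 3, 3, 1, 3, 1, 3, 4, 2, 0, 2, 0, 2, 2, 0, 3, 1, 1] 1 1276800 1600 = true := by decide +kernel

theorem chk_pow8_53_4 : tab.minOKc [5, 2, 1, 3, 3, 1, 3, 1, 3, 4, 2, 0, 2, 0, 2, 2, 0, 3, 1, 1] 1 1278400 1600 = true := by decide +kernel

theorem chk_pow8_53_5 : tab.minOKc [5, 2, 1, 3, 3, 1, 3, 1, 3, 4, 2, 0, 2, 0, 2, 2, 0, 3, 1, 1] 1 1280000 1600 = true := by decide +kernel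

theorem chk_pow8_53_6 : tab.minOKc [5, 2, 1, 3, 3, 1, 3, 1, 3, 4, 2, 0, 2, 0, 2, 2, 0, 3, 1, 1] 1 1281600 1600 = true := by decide +kernel

theorem chk_pow8_53_7 : tab.minOKc [5, 2, 1, 3, 3, 1, 3, 1, 3, 4, 2, 0, 2, 0, 2, 2, 0, 3, 1, 1] 1 1283200 1600 = true := by decide +kernel

theorem chk_pow8_53_8 : tab.minOKc [5, 2, 1, 3, 3, 1, 3, 1, 3, 4, 2, 0, 2, 0, 2, 2, 0, 3, 1, 1] 1 1284800 1600 = true := by decide +kernel

theorem chk_pow8_53_9 : tab.minOKc [5, 2, 1, 3, 3, 1, 3, 1, 3, 4, 2, 0, 2, 0, 2, 2, 0, 3, 1, 1] 1 1286400 1600 = true := by decide +kernel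

theorem chk_pow8_53_10 : tab.minOKc [5, 2, 1, 3, 3, 1, 3, 1, 3, 4, 2, 0, 2, 0, 2, 2, 0, 3, 1, 1] 1 1288000 1600 = true := by decide +kernel

theorem chk_pow8_53_11 : tab.minOKc [5, 2, 1, 3, 3, 1, 3, 1, 3, 4, 2, 0, 2, 0, 2, 2, 0, 3, 1, 1] 1 1289600 1600 = true := by decide +kernel

theorem chk_pow8_53_12 : tab.minOKc [5, 2, 1, 3, 3, 1, 3, 1, 3, 4, 2, 0, 2, 0, 2, 2, 0, 3, 1, 1] 1 1291200 1600 = true := by decide +kernel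

theorem chk_pow8_53_13 : tab.minOKc [5, 2, 1, 3, 3, 1, 3, 1, 3, 4, 2, 0, 2, 0, 2, 2, 0, 3, 1, 1] 1 1292800 1600 = true := by decide +kernel

theorem chk_pow8_53_14 : tab.minOKc [5, 2, 1, 3, 3, 1, 3, 1, 3, 4, 2, 0, 2, 0, 2, 2, 0, 3, 1, 1] 1 1294400 1600 = true := by decide +kernel

theorem chk_pow8_53 : tab.minOKc [5, 2, 1, 3, 3, 1, 3, 1, 3, 4, 2, 0, 2, 0, 2, 2, 0, 3, 1, 1] 1 1272000 24000 = true := by
  refine tab.minOKc_of_chunks [5, 2, 1, 3, 3, 1, 3, 1, 3, 4, 2, 0, 2, 0, 2, 2, 0, 3, 1, 1] 1 1272000 1600 15 (by norm_num) ?_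
  intro i hi
  interval_cases i
  · exact chk_pow8_53_0
  · exact chk_pow8_53_1
  · exact chk_pow8_53_2
  · exact chk_pow8_53_3
  · exact chk_pow8_53_4
  · exact chk_pow8_53_5
  · exact chk_pow8_53_6
  · exact chk_pow8_53_7
  · exact chk_pow8_53_8
  · exact chk_pow8_53_9
  · exact chk_pow8_53_10
  · exact chk_pow8_53_11
  · exact chk_pow8_53_12
  · exact chk_pow8_53_13
  · exact chk_pow8_53_14


end Cfsg.Agent.Lib.Lead.HNP.HNTC
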