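import Cfsg.Agent.Lib.Lead.HNP.HNTCSCert

/-! # HNTC: the kernel check of the rows from 137952 on -/

set_option autoImplicit false

namespace Cfsg.Agent.Lib.Lead.HNP.HNTC

open Cfsg.Agent.Lib.Helper6.TC Cfsg.Agent.Lib.Helper6.TCGS

theorem chk_rows12_0 : cert.rowsOK 137952 479 = true := by decide +kernel

theorem chk_rows12_1 : cert.rowsOK 138431 479 = true := by decide +kernel

theorem chk_rows12_2 : cert.rowsOK 138910 479 = true := by decide +kernel

theorem chk_rows12_3 : cert.rowsOK 139389 479 = true := by decide +kernel

theorem chk_rows12_4 : cert.rowsOK 139868 479 = true := by decide +kernel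

theorem chk_rows12_5 : cert.rowsOK 140347 479 = true := by decide +kernel

theorem chk_rows12_6 : cert.rowsOK 140826 479 = true := by decide +kernel

theorem chk_rows12_7 : cert.rowsOK 141305 479 = true := by decide +kernel

theorem chk_rows12_8 : cert.rowsOK 141784 479 = true := by decide +kernel

theorem chk_rows12_9 : cert.rowsOK 142263 479 = true := by decide +kernel

theorem chk_rows12_10 : cert.rowsOK 142742 479 = true := by decide +kernel

theorem chk_rows12_11 : cert.rowsOK 143221 479 = true := by decide +kernel

theorem chk_rows12_12 : cert.rowsOK 143700 479 = true := by decide +kernel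

theorem chk_rows12_13 : cert.rowsOK 144179 479 = true := by decide +kernel

theorem chk_rows12_14 : cert.rowsOK 144658 479 = true := by decide +kernel

theorem chk_rows12_15 : cert.rowsOK 145137 479 = true := by decide +kernel

theorem chk_rows12_16 : cert.rowsOK 145616 479 = true := by decide +kernel

theorem chk_rows12_17 : cert.rowsOK 146095 479 = true := by decide +kernel

theorem chk_rows12_18 : cert.rowsOK 146574 479 = true := by decide +kernel

theorem chk_rows12_19 : cert.rowsOK 147053 479 = true := by decide +kernel

theorem chk_rows12_20 : cert.rowsOK 147532 479 = true := by decide +kernel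

theorem chk_rows12_21 : cert.rowsOK 148011 479 = true := by decide +kernel

theorem chk_rows12_22 : cert.rowsOK 148490 479 = true := by decide +kernel

theorem chk_rows12_23 : cert.rowsOK 148969 479 = true := by decide +kernel

theorem chk_range12 : ∀ a, 137952 ≤ a → a < 149448 → ∀ x < cert.c.g, cert.slotOK a x = true := by
  refine cert.range_of_chunks 137952 479 24 (by norm_num) ?_
  intro k hk
  interval_cases k
  · exact chk_rows12_0
  · exact chk_rows12_1
  · exact chk_rows12_2
  · exact chk_rows12_3
  · exact chk_rows12_4
  · exact chk_rows12_5
  · exact chk_rows12_6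
  · exact chk_rows12_7
  · exact chk_rows12_8
  · exact chk_rows12_9
  · exact chk_rows12_10
  · exact chk_rows12_11
  · exact chk_rows12_12
  · exact chk_rows12_13
  · exact chk_rows12_14
  · exact chk_rows12_15
  · exact chk_rows12_16
  · exact chk_rows12_17
  · exact chk_rows12_18
  · exact chk_rows12_19
  · exact chk_rows12_20
  · exact chk_rows12_21
  · exact chk_rows12_22
  · exact chk_rows12_23

end Cfsg.Agent.Lib.Lead.HNP.HNTC
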