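import Cfsg.Agent.Lib.Lead.HNP.HNTCSCert
import Cfsg.Agent.Lib.Lead.HNP.HNTCSRows12

/-! # HNTC: the kernel check of the rows from 413856 on -/

set_option autoImplicit false

namespace Cfsg.Agent.Lib.Lead.HNP.HNTC

open Cfsg.Agent.Lib.Helper6.TC Cfsg.Agent.Lib.Helper6.TCGS

theorem chk_rows36_0 : cert.rowsOK 413856 479 = true := by decide +kernel

theorem chk_rows36_1 : cert.rowsOK 414335 479 = true := by decide +kernel

theorem chk_rows36_2 : cert.rowsOK 414814 479 = true := by decide +kernel

theorem chk_rows36_3 : cert.rowsOK 415293 479 = true := by decide +kernel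

theorem chk_rows36_4 : cert.rowsOK 415772 479 = true := by decide +kernel

theorem chk_rows36_5 : cert.rowsOK 416251 479 = true := by decide +kernel

theorem chk_rows36_6 : cert.rowsOK 416730 479 = true := by decide +kernel

theorem chk_rows36_7 : cert.rowsOK 417209 479 = true := by decide +kernel

theorem chk_rows36_8 : cert.rowsOK 417688 479 = true := by decide +kernel

theorem chk_rows36_9 : cert.rowsOK 418167 479 = true := by decide +kernel

theorem chk_rows36_10 : cert.rowsOK 418646 479 = true := by decide +kernel

theorem chk_rows36_11 : cert.rowsOK 419125 479 = true := by decide +kernel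

theorem chk_rows36_12 : cert.rowsOK 419604 479 = true := by decide +kernel

theorem chk_rows36_13 : cert.rowsOK 420083 479 = true := by decide +kernel

theorem chk_rows36_14 : cert.rowsOK 420562 479 = true := by decide +kernel

theorem chk_rows36_15 : cert.rowsOK 421041 479 = true := by decide +kernel

theorem chk_rows36_16 : cert.rowsOK 421520 479 = true := by decide +kernel

theorem chk_rows36_17 : cert.rowsOK 421999 479 = true := by decide +kernel

theorem chk_rows36_18 : cert.rowsOK 422478 479 = true := by decide +kernel

theorem chk_rows36_19 : cert.rowsOK 422957 479 = true := by decide +kernel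

theorem chk_rows36_20 : cert.rowsOK 423436 479 = true := by decide +kernel

theorem chk_rows36_21 : cert.rowsOK 423915 479 = true := by decide +kernel

theorem chk_rows36_22 : cert.rowsOK 424394 479 = true := by decide +kernel

theorem chk_rows36_23 : cert.rowsOK 424873 479 = true := by decide +kernel

theorem chk_range36 : ∀ a, 413856 ≤ a → a < 425352 → ∀ x < cert.c.g, cert.slotOK a x = true := by
  refine cert.range_of_chunks 413856 479 24 (by norm_num) ?_
  intro k hk
  interval_cases k
  · exact chk_rows36_0
  · exact chk_rows36_1
  · exact chk_rows36_2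
  · exact chk_rows36_3
  · exact chk_rows36_4
  · exact chk_rows36_5
  · exact chk_rows36_6
  · exact chk_rows36_7
  · exact chk_rows36_8
  · exact chk_rows36_9
  · exact chk_rows36_10
  · exact chk_rows36_11
  · exact chk_rows36_12
  · exact chk_rows36_13
  · exact chk_rows36_14
  · exact chk_rows36_15
  · exact chk_rows36_16
  · exact chk_rows36_17
  · exact chk_rows36_18
  · exact chk_rows36_19
  · exact chk_rows36_20
  · exact chk_rows36_21
  · exact chk_rows36_22
  · exact chk_rows36_23

end Cfsg.Agent.Lib.Lead.HNP.HNTC
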