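import Cfsg.Agent.Lib.Lead.HNP.HNTCSCert
import Cfsg.Agent.Lib.Lead.HNP.HNTCSRows36

/-! # HNTC: the kernel check of the rows from 689760 on -/

set_option autoImplicit false

namespace Cfsg.Agent.Lib.Lead.HNP.HNTC

open Cfsg.Agent.Lib.Helper6.TC Cfsg.Agent.Lib.Helper6.TCGS

theorem chk_rows60_0 : cert.rowsOK 689760 479 = true := by decide +kernel

theorem chk_rows60_1 : cert.rowsOK 690239 479 = true := by decide +kernel

theorem chk_rows60_2 : cert.rowsOK 690718 479 = true := by decide +kernel

theorem chk_rows60_3 : cert.rowsOK 691197 479 = true := by decide +kernel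

theorem chk_rows60_4 : cert.rowsOK 691676 479 = true := by decide +kernel

theorem chk_rows60_5 : cert.rowsOK 692155 479 = true := by decide +kernel

theorem chk_rows60_6 : cert.rowsOK 692634 479 = true := by decide +kernel

theorem chk_rows60_7 : cert.rowsOK 693113 479 = true := by decide +kernel

theorem chk_rows60_8 : cert.rowsOK 693592 479 = true := by decide +kernel

theorem chk_rows60_9 : cert.rowsOK 694071 479 = true := by decide +kernel

theorem chk_rows60_10 : cert.rowsOK 694550 479 = true := by decide +kernel

theorem chk_rows60_11 : cert.rowsOK 695029 479 = true := by decide +kernel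

theorem chk_rows60_12 : cert.rowsOK 695508 479 = true := by decide +kernel

theorem chk_rows60_13 : cert.rowsOK 695987 479 = true := by decide +kernel

theorem chk_rows60_14 : cert.rowsOK 696466 479 = true := by decide +kernel

theorem chk_rows60_15 : cert.rowsOK 696945 479 = true := by decide +kernel

theorem chk_rows60_16 : cert.rowsOK 697424 479 = true := by decide +kernel

theorem chk_rows60_17 : cert.rowsOK 697903 479 = true := by decide +kernel

theorem chk_rows60_18 : cert.rowsOK 698382 479 = true := by decide +kernel

theorem chk_rows60_19 : cert.rowsOK 698861 479 = true := by decide +kernel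

theorem chk_rows60_20 : cert.rowsOK 699340 479 = true := by decide +kernel

theorem chk_rows60_21 : cert.rowsOK 699819 479 = true := by decide +kernel

theorem chk_rows60_22 : cert.rowsOK 700298 479 = true := by decide +kernel

theorem chk_rows60_23 : cert.rowsOK 700777 479 = true := by decide +kernel

theorem chk_range60 : ∀ a, 689760 ≤ a → a < 701256 → ∀ x < cert.c.g, cert.slotOK a x = true := by
  refine cert.range_of_chunks 689760 479 24 (by norm_num) ?_
  intro k hk
  interval_cases k
  · exact chk_rows60_0
  · exact chk_rows60_1
  · exact chk_rows60_2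
  · exact chk_rows60_3
  · exact chk_rows60_4
  · exact chk_rows60_5
  · exact chk_rows60_6
  · exact chk_rows60_7
  · exact chk_rows60_8
  · exact chk_rows60_9
  · exact chk_rows60_10
  · exact chk_rows60_11
  · exact chk_rows60_12
  · exact chk_rows60_13
  · exact chk_rows60_14
  · exact chk_rows60_15
  · exact chk_rows60_16
  · exact chk_rows60_17
  · exact chk_rows60_18
  · exact chk_rows60_19
  · exact chk_rows60_20
  · exact chk_rows60_21
  · exact chk_rows60_22
  · exact chk_rows60_23

end Cfsg.Agent.Lib.Lead.HNP.HNTC
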