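import Cfsg.Agent.Lib.Lead.HNP.HNTCSCert
import Cfsg.Agent.Lib.Lead.HNP.HNTCSRows60

/-! # HNTC: the kernel check of the rows from 965664 on -/

set_option autoImplicit false

namespace Cfsg.Agent.Lib.Lead.HNP.HNTC

open Cfsg.Agent.Lib.Helper6.TC Cfsg.Agent.Lib.Helper6.TCGS

theorem chk_rows84_0 : cert.rowsOK 965664 479 = true := by decide +kernel

theorem chk_rows84_1 : cert.rowsOK 966143 479 = true := by decide +kernel

theorem chk_rows84_2 : cert.rowsOK 966622 479 = true := by decide +kernel

theorem chk_rows84_3 : cert.rowsOK 967101 479 = true := by decide +kernel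

theorem chk_rows84_4 : cert.rowsOK 967580 479 = true := by decide +kernel

theorem chk_rows84_5 : cert.rowsOK 968059 479 = true := by decide +kernel

theorem chk_rows84_6 : cert.rowsOK 968538 479 = true := by decide +kernel

theorem chk_rows84_7 : cert.rowsOK 969017 479 = true := by decide +kernel

theorem chk_rows84_8 : cert.rowsOK 969496 479 = true := by decide +kernel

theorem chk_rows84_9 : cert.rowsOK 969975 479 = true := by decide +kernel

theorem chk_rows84_10 : cert.rowsOK 970454 479 = true := by decide +kernel

theorem chk_rows84_11 : cert.rowsOK 970933 479 = true := by decide +kernel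

theorem chk_rows84_12 : cert.rowsOK 971412 479 = true := by decide +kernel

theorem chk_rows84_13 : cert.rowsOK 971891 479 = true := by decide +kernel

theorem chk_rows84_14 : cert.rowsOK 972370 479 = true := by decide +kernel

theorem chk_rows84_15 : cert.rowsOK 972849 479 = true := by decide +kernel

theorem chk_rows84_16 : cert.rowsOK 973328 479 = true := by decide +kernel

theorem chk_rows84_17 : cert.rowsOK 973807 479 = true := by decide +kernel

theorem chk_rows84_18 : cert.rowsOK 974286 479 = true := by decide +kernel

theorem chk_rows84_19 : cert.rowsOK 974765 479 = true := by decide +kernel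

theorem chk_rows84_20 : cert.rowsOK 975244 479 = true := by decide +kernel

theorem chk_rows84_21 : cert.rowsOK 975723 479 = true := by decide +kernel

theorem chk_rows84_22 : cert.rowsOK 976202 479 = true := by decide +kernel

theorem chk_rows84_23 : cert.rowsOK 976681 479 = true := by decide +kernel

theorem chk_range84 : ∀ a, 965664 ≤ a → a < 977160 → ∀ x < cert.c.g, cert.slotOK a x = true := by
  refine cert.range_of_chunks 965664 479 24 (by norm_num) ?_
  intro k hk
  interval_cases k
  · exact chk_rows84_0
  · exact chk_rows84_1
  · exact chk_rows84_2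
  · exact chk_rows84_3
  · exact chk_rows84_4
  · exact chk_rows84_5
  · exact chk_rows84_6
  · exact chk_rows84_7
  · exact chk_rows84_8
  · exact chk_rows84_9
  · exact chk_rows84_10
  · exact chk_rows84_11
  · exact chk_rows84_12
  · exact chk_rows84_13
  · exact chk_rows84_14
  · exact chk_rows84_15
  · exact chk_rows84_16
  · exact chk_rows84_17
  · exact chk_rows84_18
  · exact chk_rows84_19
  · exact chk_rows84_20
  · exact chk_rows84_21
  · exact chk_rows84_22
  · exact chk_rows84_23

end Cfsg.Agent.Lib.Lead.HNP.HNTC
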