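import Cfsg.Agent.Lib.Lead.HNP.HNTCSCert
import Cfsg.Agent.Lib.Lead.HNP.HNTCSRows84

/-! # HNTC: the kernel check of the rows from 1241568 on -/

set_option autoImplicit false

namespace Cfsg.Agent.Lib.Lead.HNP.HNTC

open Cfsg.Agent.Lib.Helper6.TC Cfsg.Agent.Lib.Helper6.TCGS

theorem chk_rows108_0 : cert.rowsOK 1241568 479 = true := by decide +kernel

theorem chk_rows108_1 : cert.rowsOK 1242047 479 = true := by decide +kernel

theorem chk_rows108_2 : cert.rowsOK 1242526 479 = true := by decide +kernel

theorem chk_rows108_3 : cert.rowsOK 1243005 479 = true := by decide +kernel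

theorem chk_rows108_4 : cert.rowsOK 1243484 479 = true := by decide +kernel

theorem chk_rows108_5 : cert.rowsOK 1243963 479 = true := by decide +kernel

theorem chk_rows108_6 : cert.rowsOK 1244442 479 = true := by decide +kernel

theorem chk_rows108_7 : cert.rowsOK 1244921 479 = true := by decide +kernel

theorem chk_rows108_8 : cert.rowsOK 1245400 479 = true := by decide +kernel

theorem chk_rows108_9 : cert.rowsOK 1245879 479 = true := by decide +kernel

theorem chk_rows108_10 : cert.rowsOK 1246358 479 = true := by decide +kernel

theorem chk_rows108_11 : cert.rowsOK 1246837 479 = true := by decide +kernel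

theorem chk_rows108_12 : cert.rowsOK 1247316 479 = true := by decide +kernel

theorem chk_rows108_13 : cert.rowsOK 1247795 479 = true := by decide +kernel

theorem chk_rows108_14 : cert.rowsOK 1248274 479 = true := by decide +kernel

theorem chk_rows108_15 : cert.rowsOK 1248753 479 = true := by decide +kernel

theorem chk_rows108_16 : cert.rowsOK 1249232 479 = true := by decide +kernel

theorem chk_rows108_17 : cert.rowsOK 1249711 479 = true := by decide +kernel

theorem chk_rows108_18 : cert.rowsOK 1250190 479 = true := by decide +kernel

theorem chk_rows108_19 : cert.rowsOK 1250669 479 = true := by decide +kernel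

theorem chk_rows108_20 : cert.rowsOK 1251148 479 = true := by decide +kernel

theorem chk_rows108_21 : cert.rowsOK 1251627 479 = true := by decide +kernel

theorem chk_rows108_22 : cert.rowsOK 1252106 479 = true := by decide +kernel

theorem chk_rows108_23 : cert.rowsOK 1252585 479 = true := by decide +kernel

theorem chk_range108 : ∀ a, 1241568 ≤ a → a < 1253064 → ∀ x < cert.c.g, cert.slotOK a x = true := by
  refine cert.range_of_chunks 1241568 479 24 (by norm_num) ?_
  intro k hk
  interval_cases k
  · exact chk_rows108_0
  · exact chk_rows108_1
  · exact chk_rows108_2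
  · exact chk_rows108_3
  · exact chk_rows108_4
  · exact chk_rows108_5
  · exact chk_rows108_6
  · exact chk_rows108_7
  · exact chk_rows108_8
  · exact chk_rows108_9
  · exact chk_rows108_10
  · exact chk_rows108_11
  · exact chk_rows108_12
  · exact chk_rows108_13
  · exact chk_rows108_14
  · exact chk_rows108_15
  · exact chk_rows108_16
  · exact chk_rows108_17
  · exact chk_rows108_18
  · exact chk_rows108_19
  · exact chk_rows108_20
  · exact chk_rows108_21
  · exact chk_rows108_22
  · exact chk_rows108_23

end Cfsg.Agent.Lib.Lead.HNP.HNTC
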