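import Cfsg.Agent.Lib.Lead.HNP.HNTCSCert
import Cfsg.Agent.Lib.Lead.HNP.HNTCSRows108

/-! # HNTC: the kernel check of the rows from 1517472 on -/

set_option autoImplicit false

namespace Cfsg.Agent.Lib.Lead.HNP.HNTC

open Cfsg.Agent.Lib.Helper6.TC Cfsg.Agent.Lib.Helper6.TCGS

theorem chk_rows132_0 : cert.rowsOK 1517472 479 = true := by decide +kernel

theorem chk_rows132_1 : cert.rowsOK 1517951 479 = true := by decide +kernel

theorem chk_rows132_2 : cert.rowsOK 1518430 479 = true := by decide +kernel

theorem chk_rows132_3 : cert.rowsOK 1518909 479 = true := by decide +kernel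

theorem chk_rows132_4 : cert.rowsOK 1519388 479 = true := by decide +kernel

theorem chk_rows132_5 : cert.rowsOK 1519867 479 = true := by decide +kernel

theorem chk_rows132_6 : cert.rowsOK 1520346 479 = true := by decide +kernel

theorem chk_rows132_7 : cert.rowsOK 1520825 479 = true := by decide +kernel

theorem chk_rows132_8 : cert.rowsOK 1521304 479 = true := by decide +kernel

theorem chk_rows132_9 : cert.rowsOK 1521783 479 = true := by decide +kernel

theorem chk_rows132_10 : cert.rowsOK 1522262 479 = true := by decide +kernel

theorem chk_rows132_11 : cert.rowsOK 1522741 479 = true := by decide +kernel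

theorem chk_rows132_12 : cert.rowsOK 1523220 479 = true := by decide +kernel

theorem chk_rows132_13 : cert.rowsOK 1523699 479 = true := by decide +kernel

theorem chk_rows132_14 : cert.rowsOK 1524178 479 = true := by decide +kernel

theorem chk_rows132_15 : cert.rowsOK 1524657 479 = true := by decide +kernel

theorem chk_rows132_16 : cert.rowsOK 1525136 479 = true := by decide +kernel

theorem chk_rows132_17 : cert.rowsOK 1525615 479 = true := by decide +kernel

theorem chk_rows132_18 : cert.rowsOK 1526094 479 = true := by decide +kernel

theorem chk_rows132_19 : cert.rowsOK 1526573 479 = true := by decide +kernel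

theorem chk_rows132_20 : cert.rowsOK 1527052 479 = true := by decide +kernel

theorem chk_rows132_21 : cert.rowsOK 1527531 479 = true := by decide +kernel

theorem chk_rows132_22 : cert.rowsOK 1528010 479 = true := by decide +kernel

theorem chk_rows132_23 : cert.rowsOK 1528489 479 = true := by decide +kernel

theorem chk_range132 : ∀ a, 1517472 ≤ a → a < 1528968 → ∀ x < cert.c.g, cert.slotOK a x = true := by
  refine cert.range_of_chunks 1517472 479 24 (by norm_num) ?_
  intro k hk
  interval_cases k
  · exact chk_rows132_0
  · exact chk_rows132_1
  · exact chk_rows132_2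
  · exact chk_rows132_3
  · exact chk_rows132_4
  · exact chk_rows132_5
  · exact chk_rows132_6
  · exact chk_rows132_7
  · exact chk_rows132_8
  · exact chk_rows132_9
  · exact chk_rows132_10
  · exact chk_rows132_11
  · exact chk_rows132_12
  · exact chk_rows132_13
  · exact chk_rows132_14
  · exact chk_rows132_15
  · exact chk_rows132_16
  · exact chk_rows132_17
  · exact chk_rows132_18
  · exact chk_rows132_19
  · exact chk_rows132_20
  · exact chk_rows132_21
  · exact chk_rows132_22
  · exact chk_rows132_23

end Cfsg.Agent.Lib.Lead.HNP.HNTC
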