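import Cfsg.Agent.Lib.Lead.HNP.HNTCSCert
import Cfsg.Agent.Lib.Helper6.TCGIndex
import Cfsg.Agent.Lib.Lead.HNP.HNTCSRows132

/-! # HNTC: the kernel check that the first rows are closed, part 22 -/

set_option autoImplicit false

namespace Cfsg.Agent.Lib.Lead.HNP.HNTC

open Cfsg.Agent.Lib.Helper6.TC Cfsg.Agent.Lib.Helper6.TCGS

theorem chk_fin198 : cert.finalOKc 1539000 396000 2000 = true := by decide +kernel

theorem chk_fin199 : cert.finalOKc 1539000 398000 2000 = true := by decide +kernel

theorem chk_fin200 : cert.finalOKc 1539000 400000 2000 = true := by decide +kernel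

theorem chk_fin201 : cert.finalOKc 1539000 402000 2000 = true := by decide +kernel

theorem chk_fin202 : cert.finalOKc 1539000 404000 2000 = true := by decide +kernel

theorem chk_fin203 : cert.finalOKc 1539000 406000 2000 = true := by decide +kernel

theorem chk_fin204 : cert.finalOKc 1539000 408000 2000 = true := by decide +kernel

theorem chk_fin205 : cert.finalOKc 1539000 410000 2000 = true := by decide +kernel

theorem chk_fin206 : cert.finalOKc 1539000 412000 2000 = true := by decide +kernel


end Cfsg.Agent.Lib.Lead.HNP.HNTC
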