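import Cfsg.Agent.Lib.Lead.HNP.HNTCSCert
import Cfsg.Agent.Lib.Helper6.TCGIndex
import Cfsg.Agent.Lib.Lead.HNP.HNTCSFin22

/-! # HNTC: the kernel check that the first rows are closed, part 46 -/

set_option autoImplicit false

namespace Cfsg.Agent.Lib.Lead.HNP.HNTC

open Cfsg.Agent.Lib.Helper6.TC Cfsg.Agent.Lib.Helper6.TCGS

theorem chk_fin414 : cert.finalOKc 1539000 828000 2000 = true := by decide +kernel

theorem chk_fin415 : cert.finalOKc 1539000 830000 2000 = true := by decide +kernel

theorem chk_fin416 : cert.finalOKc 1539000 832000 2000 = true := by decide +kernel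

theorem chk_fin417 : cert.finalOKc 1539000 834000 2000 = true := by decide +kernel

theorem chk_fin418 : cert.finalOKc 1539000 836000 2000 = true := by decide +kernel

theorem chk_fin419 : cert.finalOKc 1539000 838000 2000 = true := by decide +kernel

theorem chk_fin420 : cert.finalOKc 1539000 840000 2000 = true := by decide +kernel

theorem chk_fin421 : cert.finalOKc 1539000 842000 2000 = true := by decide +kernel

theorem chk_fin422 : cert.finalOKc 1539000 844000 2000 = true := by decide +kernel


end Cfsg.Agent.Lib.Lead.HNP.HNTC
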