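import Cfsg.Agent.Lib.Lead.HNP.HNTCSCert
import Cfsg.Agent.Lib.Helper6.TCGIndex
import Cfsg.Agent.Lib.Lead.HNP.HNTCSFin46

/-! # HNTC: the kernel check that the first rows are closed, part 70 -/

set_option autoImplicit false

namespace Cfsg.Agent.Lib.Lead.HNP.HNTC

open Cfsg.Agent.Lib.Helper6.TC Cfsg.Agent.Lib.Helper6.TCGS

theorem chk_fin630 : cert.finalOKc 1539000 1260000 2000 = true := by decide +kernel

theorem chk_fin631 : cert.finalOKc 1539000 1262000 2000 = true := by decide +kernel

theorem chk_fin632 : cert.finalOKc 1539000 1264000 2000 = true := by decide +kernel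

theorem chk_fin633 : cert.finalOKc 1539000 1266000 2000 = true := by decide +kernel

theorem chk_fin634 : cert.finalOKc 1539000 1268000 2000 = true := by decide +kernel

theorem chk_fin635 : cert.finalOKc 1539000 1270000 2000 = true := by decide +kernel

theorem chk_fin636 : cert.finalOKc 1539000 1272000 2000 = true := by decide +kernel

theorem chk_fin637 : cert.finalOKc 1539000 1274000 2000 = true := by decide +kernel

theorem chk_fin638 : cert.finalOKc 1539000 1276000 2000 = true := by decide +kernel


end Cfsg.Agent.Lib.Lead.HNP.HNTC
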