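import Cfsg.Agent.Lib.Lead.HNP.HNTCData
import Cfsg.Agent.Lib.Helper6.TCRel3
import Cfsg.Agent.Lib.Lead.HNP.HNTCSFin70

/-! # HNTC: the kernel check of a part of the relators on the coset table -/

set_option autoImplicit false

namespace Cfsg.Agent.Lib.Lead.HNP.HNTC

open Cfsg.Agent.Lib.Helper6.TC

theorem chk_pow1_12_0 : tab.minOKc [0, 0, 2, 0, 0, 3] 1 959940 5333 = true := by decide +kernel

theorem chk_pow1_12_1 : tab.minOKc [0, 0, 2, 0, 0, 3] 1 965273 5333 = true := by decide +kernel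

theorem chk_pow1_12_2 : tab.minOKc [0, 0, 2, 0, 0, 3] 1 970606 5333 = true := by decide +kernel

theorem chk_pow1_12_3 : tab.minOKc [0, 0, 2, 0, 0, 3] 1 975939 5333 = true := by decide +kernel

theorem chk_pow1_12_4 : tab.minOKc [0, 0, 2, 0, 0, 3] 1 981272 5333 = true := by decide +kernel

theorem chk_pow1_12_5 : tab.minOKc [0, 0, 2, 0, 0, 3] 1 986605 5333 = true := by decide +kernel

theorem chk_pow1_12_6 : tab.minOKc [0, 0, 2, 0, 0, 3] 1 991938 5333 = true := by decide +kernel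

theorem chk_pow1_12_7 : tab.minOKc [0, 0, 2, 0, 0, 3] 1 997271 5333 = true := by decide +kernel

theorem chk_pow1_12_8 : tab.minOKc [0, 0, 2, 0, 0, 3] 1 1002604 5333 = true := by decide +kernel

theorem chk_pow1_12_9 : tab.minOKc [0, 0, 2, 0, 0, 3] 1 1007937 5333 = true := by decide +kernel

theorem chk_pow1_12_10 : tab.minOKc [0, 0, 2, 0, 0, 3] 1 1013270 5333 = true := by decide +kernel

theorem chk_pow1_12_11 : tab.minOKc [0, 0, 2, 0, 0, 3] 1 1018603 5333 = true := by decide +kernel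

theorem chk_pow1_12_12 : tab.minOKc [0, 0, 2, 0, 0, 3] 1 1023936 5333 = true := by decide +kernel

theorem chk_pow1_12_13 : tab.minOKc [0, 0, 2, 0, 0, 3] 1 1029269 5333 = true := by decide +kernel

theorem chk_pow1_12_14 : tab.minOKc [0, 0, 2, 0, 0, 3] 1 1034602 5333 = true := by decide +kernel

theorem chk_pow1_12 : tab.minOKc [0, 0, 2, 0, 0, 3] 1 959940 79995 = true := by
  refine tab.minOKc_of_chunks [0, 0, 2, 0, 0, 3] 1 959940 5333 15 (by norm_num) ?_
  intro i hi
  interval_cases i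
  · exact chk_pow1_12_0
  · exact chk_pow1_12_1
  · exact chk_pow1_12_2
  · exact chk_pow1_12_3
  · exact chk_pow1_12_4
  · exact chk_pow1_12_5
  · exact chk_pow1_12_6
  · exact chk_pow1_12_7
  · exact chk_pow1_12_8
  · exact chk_pow1_12_9
  · exact chk_pow1_12_10
  · exact chk_pow1_12_11
  · exact chk_pow1_12_12
  · exact chk_pow1_12_13
  · exact chk_pow1_12_14

theorem chk_pow1_13_0 : tab.minOKc [0, 0, 2, 0, 0, 3] 1 1039935 5333 = true := by decide +kernel

theorem chk_pow1_13_1 : tab.minOKc [0, 0, 2, 0, 0, 3] 1 1045268 5333 = true := by decide +kernel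

theorem chk_pow1_13_2 : tab.minOKc [0, 0, 2, 0, 0, 3] 1 1050601 5333 = true := by decide +kernel

theorem chk_pow1_13_3 : tab.minOKc [0, 0, 2, 0, 0, 3] 1 1055934 5333 = true := by decide +kernel

theorem chk_pow1_13_4 : tab.minOKc [0, 0, 2, 0, 0, 3] 1 1061267 5333 = true := by decide +kernel

theorem chk_pow1_13_5 : tab.minOKc [0, 0, 2, 0, 0, 3] 1 1066600 5333 = true := by decide +kernel

theorem chk_pow1_13_6 : tab.minOKc [0, 0, 2, 0, 0, 3] 1 1071933 5333 = true := by decide +kernel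

theorem chk_pow1_13_7 : tab.minOKc [0, 0, 2, 0, 0, 3] 1 1077266 5333 = true := by decide +kernel

theorem chk_pow1_13_8 : tab.minOKc [0, 0, 2, 0, 0, 3] 1 1082599 5333 = true := by decide +kernel

theorem chk_pow1_13_9 : tab.minOKc [0, 0, 2, 0, 0, 3] 1 1087932 5333 = true := by decide +kernel

theorem chk_pow1_13_10 : tab.minOKc [0, 0, 2, 0, 0, 3] 1 1093265 5333 = true := by decide +kernel

theorem chk_pow1_13_11 : tab.minOKc [0, 0, 2, 0, 0, 3] 1 1098598 5333 = true := by decide +kernel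

theorem chk_pow1_13_12 : tab.minOKc [0, 0, 2, 0, 0, 3] 1 1103931 5333 = true := by decide +kernel

theorem chk_pow1_13_13 : tab.minOKc [0, 0, 2, 0, 0, 3] 1 1109264 5333 = true := by decide +kernel

theorem chk_pow1_13_14 : tab.minOKc [0, 0, 2, 0, 0, 3] 1 1114597 5333 = true := by decide +kernel

theorem chk_pow1_13 : tab.minOKc [0, 0, 2, 0, 0, 3] 1 1039935 79995 = true := by
  refine tab.minOKc_of_chunks [0, 0, 2, 0, 0, 3] 1 1039935 5333 15 (by norm_num) ?_
  intro i hi
  interval_cases i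
  · exact chk_pow1_13_0
  · exact chk_pow1_13_1
  · exact chk_pow1_13_2
  · exact chk_pow1_13_3
  · exact chk_pow1_13_4
  · exact chk_pow1_13_5
  · exact chk_pow1_13_6
  · exact chk_pow1_13_7
  · exact chk_pow1_13_8
  · exact chk_pow1_13_9
  · exact chk_pow1_13_10
  · exact chk_pow1_13_11
  · exact chk_pow1_13_12
  · exact chk_pow1_13_13
  · exact chk_pow1_13_14


end Cfsg.Agent.Lib.Lead.HNP.HNTC
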