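import Cfsg.Agent.Lib.Lead.HNP.HNTCData
import Cfsg.Agent.Lib.Helper6.TCRel3
import Cfsg.Agent.Lib.Lead.HNP.HNTCRel8

/-! # HNTC: the kernel check of a part of the relators on the coset table -/

set_option autoImplicit false

namespace Cfsg.Agent.Lib.Lead.HNP.HNTC

open Cfsg.Agent.Lib.Helper6.TC

theorem chk_pow4_4_0 : tab.minOKc [0, 2] 8 960000 16000 = true := by decide +kernel

theorem chk_pow4_4_1 : tab.minOKc [0, 2] 8 976000 16000 = true := by decide +kernel

theorem chk_pow4_4_2 : tab.minOKc [0, 2] 8 992000 16000 = true := by decide +kernel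

theorem chk_pow4_4_3 : tab.minOKc [0, 2] 8 1008000 16000 = true := by decide +kernel

theorem chk_pow4_4_4 : tab.minOKc [0, 2] 8 1024000 16000 = true := by decide +kernel

theorem chk_pow4_4_5 : tab.minOKc [0, 2] 8 1040000 16000 = true := by decide +kernel

theorem chk_pow4_4_6 : tab.minOKc [0, 2] 8 1056000 16000 = true := by decide +kernel

theorem chk_pow4_4_7 : tab.minOKc [0, 2] 8 1072000 16000 = true := by decide +kernel

theorem chk_pow4_4_8 : tab.minOKc [0, 2] 8 1088000 16000 = true := by decide +kernel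

theorem chk_pow4_4_9 : tab.minOKc [0, 2] 8 1104000 16000 = true := by decide +kernel

theorem chk_pow4_4_10 : tab.minOKc [0, 2] 8 1120000 16000 = true := by decide +kernel

theorem chk_pow4_4_11 : tab.minOKc [0, 2] 8 1136000 16000 = true := by decide +kernel

theorem chk_pow4_4_12 : tab.minOKc [0, 2] 8 1152000 16000 = true := by decide +kernel

theorem chk_pow4_4_13 : tab.minOKc [0, 2] 8 1168000 16000 = true := by decide +kernel

theorem chk_pow4_4_14 : tab.minOKc [0, 2] 8 1184000 16000 = true := by decide +kernel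

theorem chk_pow4_4 : tab.minOKc [0, 2] 8 960000 240000 = true := by
  refine tab.minOKc_of_chunks [0, 2] 8 960000 16000 15 (by norm_num) ?_
  intro i hi
  interval_cases i
  · exact chk_pow4_4_0
  · exact chk_pow4_4_1
  · exact chk_pow4_4_2
  · exact chk_pow4_4_3
  · exact chk_pow4_4_4
  · exact chk_pow4_4_5
  · exact chk_pow4_4_6
  · exact chk_pow4_4_7
  · exact chk_pow4_4_8
  · exact chk_pow4_4_9
  · exact chk_pow4_4_10
  · exact chk_pow4_4_11
  · exact chk_pow4_4_12
  · exact chk_pow4_4_13
  · exact chk_pow4_4_14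

theorem chk_pow4_5_0 : tab.minOKc [0, 2] 8 1200000 16000 = true := by decide +kernel

theorem chk_pow4_5_1 : tab.minOKc [0, 2] 8 1216000 16000 = true := by decide +kernel

theorem chk_pow4_5_2 : tab.minOKc [0, 2] 8 1232000 16000 = true := by decide +kernel

theorem chk_pow4_5_3 : tab.minOKc [0, 2] 8 1248000 16000 = true := by decide +kernel

theorem chk_pow4_5_4 : tab.minOKc [0, 2] 8 1264000 16000 = true := by decide +kernel

theorem chk_pow4_5_5 : tab.minOKc [0, 2] 8 1280000 16000 = true := by decide +kernel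

theorem chk_pow4_5_6 : tab.minOKc [0, 2] 8 1296000 16000 = true := by decide +kernel

theorem chk_pow4_5_7 : tab.minOKc [0, 2] 8 1312000 16000 = true := by decide +kernel

theorem chk_pow4_5_8 : tab.minOKc [0, 2] 8 1328000 16000 = true := by decide +kernel

theorem chk_pow4_5_9 : tab.minOKc [0, 2] 8 1344000 16000 = true := by decide +kernel

theorem chk_pow4_5_10 : tab.minOKc [0, 2] 8 1360000 16000 = true := by decide +kernel

theorem chk_pow4_5_11 : tab.minOKc [0, 2] 8 1376000 16000 = true := by decide +kernel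

theorem chk_pow4_5_12 : tab.minOKc [0, 2] 8 1392000 16000 = true := by decide +kernel

theorem chk_pow4_5_13 : tab.minOKc [0, 2] 8 1408000 16000 = true := by decide +kernel

theorem chk_pow4_5_14 : tab.minOKc [0, 2] 8 1424000 16000 = true := by decide +kernel

theorem chk_pow4_5 : tab.minOKc [0, 2] 8 1200000 240000 = true := by
  refine tab.minOKc_of_chunks [0, 2] 8 1200000 16000 15 (by norm_num) ?_
  intro i hi
  interval_cases i
  · exact chk_pow4_5_0
  · exact chk_pow4_5_1
  · exact chk_pow4_5_2
  · exact chk_pow4_5_3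
  · exact chk_pow4_5_4
  · exact chk_pow4_5_5
  · exact chk_pow4_5_6
  · exact chk_pow4_5_7
  · exact chk_pow4_5_8
  · exact chk_pow4_5_9
  · exact chk_pow4_5_10
  · exact chk_pow4_5_11
  · exact chk_pow4_5_12
  · exact chk_pow4_5_13
  · exact chk_pow4_5_14


end Cfsg.Agent.Lib.Lead.HNP.HNTC
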