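import Cfsg.Agent.Lib.Lead.HNP.HNTCData
import Cfsg.Agent.Lib.Helper6.TCRel3
import Cfsg.Agent.Lib.Lead.HNP.HNTCRel32

/-! # HNTC: the kernel check of a part of the relators on the coset table -/

set_option autoImplicit false

namespace Cfsg.Agent.Lib.Lead.HNP.HNTC

open Cfsg.Agent.Lib.Helper6.TC

theorem chk_pow8_14_0 : tab.minOKc [5, 2, 1, 3, 3, 1, 3, 1, 3, 4, 2, 0, 2, 0, 2, 2, 0, 3, 1, 1] 1 336000 1600 = true := by decide +kernel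

theorem chk_pow8_14_1 : tab.minOKc [5, 2, 1, 3, 3, 1, 3, 1, 3, 4, 2, 0, 2, 0, 2, 2, 0, 3, 1, 1] 1 337600 1600 = true := by decide +kernel

theorem chk_pow8_14_2 : tab.minOKc [5, 2, 1, 3, 3, 1, 3, 1, 3, 4, 2, 0, 2, 0, 2, 2, 0, 3, 1, 1] 1 339200 1600 = true := by decide +kernel

theorem chk_pow8_14_3 : tab.minOKc [5, 2, 1, 3, 3, 1, 3, 1, 3, 4, 2, 0, 2, 0, 2, 2, 0, 3, 1, 1] 1 340800 1600 = true := by decide +kernel

theorem chk_pow8_14_4 : tab.minOKc [5, 2, 1, 3, 3, 1, 3, 1, 3, 4, 2, 0, 2, 0, 2, 2, 0, 3, 1, 1] 1 342400 1600 = true := by decide +kernel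

theorem chk_pow8_14_5 : tab.minOKc [5, 2, 1, 3, 3, 1, 3, 1, 3, 4, 2, 0, 2, 0, 2, 2, 0, 3, 1, 1] 1 344000 1600 = true := by decide +kernel

theorem chk_pow8_14_6 : tab.minOKc [5, 2, 1, 3, 3, 1, 3, 1, 3, 4, 2, 0, 2, 0, 2, 2, 0, 3, 1, 1] 1 345600 1600 = true := by decide +kernel

theorem chk_pow8_14_7 : tab.minOKc [5, 2, 1, 3, 3, 1, 3, 1, 3, 4, 2, 0, 2, 0, 2, 2, 0, 3, 1, 1] 1 347200 1600 = true := by decide +kernel

theorem chk_pow8_14_8 : tab.minOKc [5, 2, 1, 3, 3, 1, 3, 1, 3, 4, 2, 0, 2, 0, 2, 2, 0, 3, 1, 1] 1 348800 1600 = true := by decide +kernel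

theorem chk_pow8_14_9 : tab.minOKc [5, 2, 1, 3, 3, 1, 3, 1, 3, 4, 2, 0, 2, 0, 2, 2, 0, 3, 1, 1] 1 350400 1600 = true := by decide +kernel

theorem chk_pow8_14_10 : tab.minOKc [5, 2, 1, 3, 3, 1, 3, 1, 3, 4, 2, 0, 2, 0, 2, 2, 0, 3, 1, 1] 1 352000 1600 = true := by decide +kernel

theorem chk_pow8_14_11 : tab.minOKc [5, 2, 1, 3, 3, 1, 3, 1, 3, 4, 2, 0, 2, 0, 2, 2, 0, 3, 1, 1] 1 353600 1600 = true := by decide +kernel

theorem chk_pow8_14_12 : tab.minOKc [5, 2, 1, 3, 3, 1, 3, 1, 3, 4, 2, 0, 2, 0, 2, 2, 0, 3, 1, 1] 1 355200 1600 = true := by decide +kernel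

theorem chk_pow8_14_13 : tab.minOKc [5, 2, 1, 3, 3, 1, 3, 1, 3, 4, 2, 0, 2, 0, 2, 2, 0, 3, 1, 1] 1 356800 1600 = true := by decide +kernel

theorem chk_pow8_14_14 : tab.minOKc [5, 2, 1, 3, 3, 1, 3, 1, 3, 4, 2, 0, 2, 0, 2, 2, 0, 3, 1, 1] 1 358400 1600 = true := by decide +kernel

theorem chk_pow8_14 : tab.minOKc [5, 2, 1, 3, 3, 1, 3, 1, 3, 4, 2, 0, 2, 0, 2, 2, 0, 3, 1, 1] 1 336000 24000 = true := by
  refine tab.minOKc_of_chunks [5, 2, 1, 3, 3, 1, 3, 1, 3, 4, 2, 0, 2, 0, 2, 2, 0, 3, 1, 1] 1 336000 1600 15 (by norm_num) ?_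
  intro i hi
  interval_cases i
  · exact chk_pow8_14_0
  · exact chk_pow8_14_1
  · exact chk_pow8_14_2
  · exact chk_pow8_14_3
  · exact chk_pow8_14_4
  · exact chk_pow8_14_5
  · exact chk_pow8_14_6
  · exact chk_pow8_14_7
  · exact chk_pow8_14_8
  · exact chk_pow8_14_9
  · exact chk_pow8_14_10
  · exact chk_pow8_14_11
  · exact chk_pow8_14_12
  · exact chk_pow8_14_13
  · exact chk_pow8_14_14

theorem chk_pow8_15_0 : tab.minOKc [5, 2, 1, 3, 3, 1, 3, 1, 3, 4, 2, 0, 2, 0, 2, 2, 0, 3, 1, 1] 1 360000 1600 = true := by decide +kernel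

theorem chk_pow8_15_1 : tab.minOKc [5, 2, 1, 3, 3, 1, 3, 1, 3, 4, 2, 0, 2, 0, 2, 2, 0, 3, 1, 1] 1 361600 1600 = true := by decide +kernel

theorem chk_pow8_15_2 : tab.minOKc [5, 2, 1, 3, 3, 1, 3, 1, 3, 4, 2, 0, 2, 0, 2, 2, 0, 3, 1, 1] 1 363200 1600 = true := by decide +kernel

theorem chk_pow8_15_3 : tab.minOKc [5, 2, 1, 3, 3, 1, 3, 1, 3, 4, 2, 0, 2, 0, 2, 2, 0, 3, 1, 1] 1 364800 1600 = true := by decide +kernel

theorem chk_pow8_15_4 : tab.minOKc [5, 2, 1, 3, 3, 1, 3, 1, 3, 4, 2, 0, 2, 0, 2, 2, 0, 3, 1, 1] 1 366400 1600 = true := by decide +kernel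

theorem chk_pow8_15_5 : tab.minOKc [5, 2, 1, 3, 3, 1, 3, 1, 3, 4, 2, 0, 2, 0, 2, 2, 0, 3, 1, 1] 1 368000 1600 = true := by decide +kernel

theorem chk_pow8_15_6 : tab.minOKc [5, 2, 1, 3, 3, 1, 3, 1, 3, 4, 2, 0, 2, 0, 2, 2, 0, 3, 1, 1] 1 369600 1600 = true := by decide +kernel

theorem chk_pow8_15_7 : tab.minOKc [5, 2, 1, 3, 3, 1, 3, 1, 3, 4, 2, 0, 2, 0, 2, 2, 0, 3, 1, 1] 1 371200 1600 = true := by decide +kernel

theorem chk_pow8_15_8 : tab.minOKc [5, 2, 1, 3, 3, 1, 3, 1, 3, 4, 2, 0, 2, 0, 2, 2, 0, 3, 1, 1] 1 372800 1600 = true := by decide +kernel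

theorem chk_pow8_15_9 : tab.minOKc [5, 2, 1, 3, 3, 1, 3, 1, 3, 4, 2, 0, 2, 0, 2, 2, 0, 3, 1, 1] 1 374400 1600 = true := by decide +kernel

theorem chk_pow8_15_10 : tab.minOKc [5, 2, 1, 3, 3, 1, 3, 1, 3, 4, 2, 0, 2, 0, 2, 2, 0, 3, 1, 1] 1 376000 1600 = true := by decide +kernel

theorem chk_pow8_15_11 : tab.minOKc [5, 2, 1, 3, 3, 1, 3, 1, 3, 4, 2, 0, 2, 0, 2, 2, 0, 3, 1, 1] 1 377600 1600 = true := by decide +kernel

theorem chk_pow8_15_12 : tab.minOKc [5, 2, 1, 3, 3, 1, 3, 1, 3, 4, 2, 0, 2, 0, 2, 2, 0, 3, 1, 1] 1 379200 1600 = true := by decide +kernel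

theorem chk_pow8_15_13 : tab.minOKc [5, 2, 1, 3, 3, 1, 3, 1, 3, 4, 2, 0, 2, 0, 2, 2, 0, 3, 1, 1] 1 380800 1600 = true := by decide +kernel

theorem chk_pow8_15_14 : tab.minOKc [5, 2, 1, 3, 3, 1, 3, 1, 3, 4, 2, 0, 2, 0, 2, 2, 0, 3, 1, 1] 1 382400 1600 = true := by decide +kernel

theorem chk_pow8_15 : tab.minOKc [5, 2, 1, 3, 3, 1, 3, 1, 3, 4, 2, 0, 2, 0, 2, 2, 0, 3, 1, 1] 1 360000 24000 = true := by
  refine tab.minOKc_of_chunks [5, 2, 1, 3, 3, 1, 3, 1, 3, 4, 2, 0, 2, 0, 2, 2, 0, 3, 1, 1] 1 360000 1600 15 (by norm_num) ?_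
  intro i hi
  interval_cases i
  · exact chk_pow8_15_0
  · exact chk_pow8_15_1
  · exact chk_pow8_15_2
  · exact chk_pow8_15_3
  · exact chk_pow8_15_4
  · exact chk_pow8_15_5
  · exact chk_pow8_15_6
  · exact chk_pow8_15_7
  · exact chk_pow8_15_8
  · exact chk_pow8_15_9
  · exact chk_pow8_15_10
  · exact chk_pow8_15_11
  · exact chk_pow8_15_12
  · exact chk_pow8_15_13
  · exact chk_pow8_15_14


end Cfsg.Agent.Lib.Lead.HNP.HNTC
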