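import Cfsg.Agent.Lib.Lead.HNP.HNTCData
import Cfsg.Agent.Lib.Helper6.TCRel3
import Cfsg.Agent.Lib.Lead.HNP.HNTCRel56

/-! # HNTC: the kernel check of a part of the relators on the coset table -/

set_option autoImplicit false

namespace Cfsg.Agent.Lib.Lead.HNP.HNTC

open Cfsg.Agent.Lib.Helper6.TC

theorem chk_pow8_62_0 : tab.minOKc [5, 2, 1, 3, 3, 1, 3, 1, 3, 4, 2, 0, 2, 0, 2, 2, 0, 3, 1, 1] 1 1488000 1600 = true := by decide +kernel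

theorem chk_pow8_62_1 : tab.minOKc [5, 2, 1, 3, 3, 1, 3, 1, 3, 4, 2, 0, 2, 0, 2, 2, 0, 3, 1, 1] 1 1489600 1600 = true := by decide +kernel

theorem chk_pow8_62_2 : tab.minOKc [5, 2, 1, 3, 3, 1, 3, 1, 3, 4, 2, 0, 2, 0, 2, 2, 0, 3, 1, 1] 1 1491200 1600 = true := by decide +kernel

theorem chk_pow8_62_3 : tab.minOKc [5, 2, 1, 3, 3, 1, 3, 1, 3, 4, 2, 0, 2, 0, 2, 2, 0, 3, 1, 1] 1 1492800 1600 = true := by decide +kernel

theorem chk_pow8_62_4 : tab.minOKc [5, 2, 1, 3, 3, 1, 3, 1, 3, 4, 2, 0, 2, 0, 2, 2, 0, 3, 1, 1] 1 1494400 1600 = true := by decide +kernel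

theorem chk_pow8_62_5 : tab.minOKc [5, 2, 1, 3, 3, 1, 3, 1, 3, 4, 2, 0, 2, 0, 2, 2, 0, 3, 1, 1] 1 1496000 1600 = true := by decide +kernel

theorem chk_pow8_62_6 : tab.minOKc [5, 2, 1, 3, 3, 1, 3, 1, 3, 4, 2, 0, 2, 0, 2, 2, 0, 3, 1, 1] 1 1497600 1600 = true := by decide +kernel

theorem chk_pow8_62_7 : tab.minOKc [5, 2, 1, 3, 3, 1, 3, 1, 3, 4, 2, 0, 2, 0, 2, 2, 0, 3, 1, 1] 1 1499200 1600 = true := by decide +kernel

theorem chk_pow8_62_8 : tab.minOKc [5, 2, 1, 3, 3, 1, 3, 1, 3, 4, 2, 0, 2, 0, 2, 2, 0, 3, 1, 1] 1 1500800 1600 = true := by decide +kernel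

theorem chk_pow8_62_9 : tab.minOKc [5, 2, 1, 3, 3, 1, 3, 1, 3, 4, 2, 0, 2, 0, 2, 2, 0, 3, 1, 1] 1 1502400 1600 = true := by decide +kernel

theorem chk_pow8_62_10 : tab.minOKc [5, 2, 1, 3, 3, 1, 3, 1, 3, 4, 2, 0, 2, 0, 2, 2, 0, 3, 1, 1] 1 1504000 1600 = true := by decide +kernel

theorem chk_pow8_62_11 : tab.minOKc [5, 2, 1, 3, 3, 1, 3, 1, 3, 4, 2, 0, 2, 0, 2, 2, 0, 3, 1, 1] 1 1505600 1600 = true := by decide +kernel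

theorem chk_pow8_62_12 : tab.minOKc [5, 2, 1, 3, 3, 1, 3, 1, 3, 4, 2, 0, 2, 0, 2, 2, 0, 3, 1, 1] 1 1507200 1600 = true := by decide +kernel

theorem chk_pow8_62_13 : tab.minOKc [5, 2, 1, 3, 3, 1, 3, 1, 3, 4, 2, 0, 2, 0, 2, 2, 0, 3, 1, 1] 1 1508800 1600 = true := by decide +kernel

theorem chk_pow8_62_14 : tab.minOKc [5, 2, 1, 3, 3, 1, 3, 1, 3, 4, 2, 0, 2, 0, 2, 2, 0, 3, 1, 1] 1 1510400 1600 = true := by decide +kernel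

theorem chk_pow8_62 : tab.minOKc [5, 2, 1, 3, 3, 1, 3, 1, 3, 4, 2, 0, 2, 0, 2, 2, 0, 3, 1, 1] 1 1488000 24000 = true := by
  refine tab.minOKc_of_chunks [5, 2, 1, 3, 3, 1, 3, 1, 3, 4, 2, 0, 2, 0, 2, 2, 0, 3, 1, 1] 1 1488000 1600 15 (by norm_num) ?_
  intro i hi
  interval_cases i
  · exact chk_pow8_62_0
  · exact chk_pow8_62_1
  · exact chk_pow8_62_2
  · exact chk_pow8_62_3
  · exact chk_pow8_62_4
  · exact chk_pow8_62_5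
  · exact chk_pow8_62_6
  · exact chk_pow8_62_7
  · exact chk_pow8_62_8
  · exact chk_pow8_62_9
  · exact chk_pow8_62_10
  · exact chk_pow8_62_11
  · exact chk_pow8_62_12
  · exact chk_pow8_62_13
  · exact chk_pow8_62_14

theorem chk_pow8_63_0 : tab.minOKc [5, 2, 1, 3, 3, 1, 3, 1, 3, 4, 2, 0, 2, 0, 2, 2, 0, 3, 1, 1] 1 1512000 1600 = true := by decide +kernel

theorem chk_pow8_63_1 : tab.minOKc [5, 2, 1, 3, 3, 1, 3, 1, 3, 4, 2, 0, 2, 0, 2, 2, 0, 3, 1, 1] 1 1513600 1600 = true := by decide +kernel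

theorem chk_pow8_63_2 : tab.minOKc [5, 2, 1, 3, 3, 1, 3, 1, 3, 4, 2, 0, 2, 0, 2, 2, 0, 3, 1, 1] 1 1515200 1600 = true := by decide +kernel

theorem chk_pow8_63_3 : tab.minOKc [5, 2, 1, 3, 3, 1, 3, 1, 3, 4, 2, 0, 2, 0, 2, 2, 0, 3, 1, 1] 1 1516800 1600 = true := by decide +kernel

theorem chk_pow8_63_4 : tab.minOKc [5, 2, 1, 3, 3, 1, 3, 1, 3, 4, 2, 0, 2, 0, 2, 2, 0, 3, 1, 1] 1 1518400 1600 = true := by decide +kernel

theorem chk_pow8_63_5 : tab.minOKc [5, 2, 1, 3, 3, 1, 3, 1, 3, 4, 2, 0, 2, 0, 2, 2, 0, 3, 1, 1] 1 1520000 1600 = true := by decide +kernel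

theorem chk_pow8_63_6 : tab.minOKc [5, 2, 1, 3, 3, 1, 3, 1, 3, 4, 2, 0, 2, 0, 2, 2, 0, 3, 1, 1] 1 1521600 1600 = true := by decide +kernel

theorem chk_pow8_63_7 : tab.minOKc [5, 2, 1, 3, 3, 1, 3, 1, 3, 4, 2, 0, 2, 0, 2, 2, 0, 3, 1, 1] 1 1523200 1600 = true := by decide +kernel

theorem chk_pow8_63_8 : tab.minOKc [5, 2, 1, 3, 3, 1, 3, 1, 3, 4, 2, 0, 2, 0, 2, 2, 0, 3, 1, 1] 1 1524800 1600 = true := by decide +kernel

theorem chk_pow8_63_9 : tab.minOKc [5, 2, 1, 3, 3, 1, 3, 1, 3, 4, 2, 0, 2, 0, 2, 2, 0, 3, 1, 1] 1 1526400 1600 = true := by decide +kernel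

theorem chk_pow8_63_10 : tab.minOKc [5, 2, 1, 3, 3, 1, 3, 1, 3, 4, 2, 0, 2, 0, 2, 2, 0, 3, 1, 1] 1 1528000 1600 = true := by decide +kernel

theorem chk_pow8_63_11 : tab.minOKc [5, 2, 1, 3, 3, 1, 3, 1, 3, 4, 2, 0, 2, 0, 2, 2, 0, 3, 1, 1] 1 1529600 1600 = true := by decide +kernel

theorem chk_pow8_63_12 : tab.minOKc [5, 2, 1, 3, 3, 1, 3, 1, 3, 4, 2, 0, 2, 0, 2, 2, 0, 3, 1, 1] 1 1531200 1600 = true := by decide +kernel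

theorem chk_pow8_63_13 : tab.minOKc [5, 2, 1, 3, 3, 1, 3, 1, 3, 4, 2, 0, 2, 0, 2, 2, 0, 3, 1, 1] 1 1532800 1600 = true := by decide +kernel

theorem chk_pow8_63_14 : tab.minOKc [5, 2, 1, 3, 3, 1, 3, 1, 3, 4, 2, 0, 2, 0, 2, 2, 0, 3, 1, 1] 1 1534400 1600 = true := by decide +kernel

theorem chk_pow8_63 : tab.minOKc [5, 2, 1, 3, 3, 1, 3, 1, 3, 4, 2, 0, 2, 0, 2, 2, 0, 3, 1, 1] 1 1512000 24000 = true := by
  refine tab.minOKc_of_chunks [5, 2, 1, 3, 3, 1, 3, 1, 3, 4, 2, 0, 2, 0, 2, 2, 0, 3, 1, 1] 1 1512000 1600 15 (by norm_num) ?_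
  intro i hi
  interval_cases i
  · exact chk_pow8_63_0
  · exact chk_pow8_63_1
  · exact chk_pow8_63_2
  · exact chk_pow8_63_3
  · exact chk_pow8_63_4
  · exact chk_pow8_63_5
  · exact chk_pow8_63_6
  · exact chk_pow8_63_7
  · exact chk_pow8_63_8
  · exact chk_pow8_63_9
  · exact chk_pow8_63_10
  · exact chk_pow8_63_11
  · exact chk_pow8_63_12
  · exact chk_pow8_63_13
  · exact chk_pow8_63_14


end Cfsg.Agent.Lib.Lead.HNP.HNTC
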