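import Cfsg.Agent.Lib.Lead.HNP.HNTCSCert

/-! # HNTC: the kernel check of the rows from 264408 on -/

set_option autoImplicit false

namespace Cfsg.Agent.Lib.Lead.HNP.HNTC

open Cfsg.Agent.Lib.Helper6.TC Cfsg.Agent.Lib.Helper6.TCGS

theorem chk_rows23_0 : cert.rowsOK 264408 479 = true := by decide +kernel

theorem chk_rows23_1 : cert.rowsOK 264887 479 = true := by decide +kernel

theorem chk_rows23_2 : cert.rowsOK 265366 479 = true := by decide +kernel

theorem chk_rows23_3 : cert.rowsOK 265845 479 = true := by decide +kernel

theorem chk_rows23_4 : cert.rowsOK 266324 479 = true := by decide +kernel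

theorem chk_rows23_5 : cert.rowsOK 266803 479 = true := by decide +kernel

theorem chk_rows23_6 : cert.rowsOK 267282 479 = true := by decide +kernel

theorem chk_rows23_7 : cert.rowsOK 267761 479 = true := by decide +kernel

theorem chk_rows23_8 : cert.rowsOK 268240 479 = true := by decide +kernel

theorem chk_rows23_9 : cert.rowsOK 268719 479 = true := by decide +kernel

theorem chk_rows23_10 : cert.rowsOK 269198 479 = true := by decide +kernel

theorem chk_rows23_11 : cert.rowsOK 269677 479 = true := by decide +kernel

theorem chk_rows23_12 : cert.rowsOK 270156 479 = true := by decide +kernel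

theorem chk_rows23_13 : cert.rowsOK 270635 479 = true := by decide +kernel

theorem chk_rows23_14 : cert.rowsOK 271114 479 = true := by decide +kernel

theorem chk_rows23_15 : cert.rowsOK 271593 479 = true := by decide +kernel

theorem chk_rows23_16 : cert.rowsOK 272072 479 = true := by decide +kernel

theorem chk_rows23_17 : cert.rowsOK 272551 479 = true := by decide +kernel

theorem chk_rows23_18 : cert.rowsOK 273030 479 = true := by decide +kernel

theorem chk_rows23_19 : cert.rowsOK 273509 479 = true := by decide +kernel

theorem chk_rows23_20 : cert.rowsOK 273988 479 = true := by decide +kernel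

theorem chk_rows23_21 : cert.rowsOK 274467 479 = true := by decide +kernel

theorem chk_rows23_22 : cert.rowsOK 274946 479 = true := by decide +kernel

theorem chk_rows23_23 : cert.rowsOK 275425 479 = true := by decide +kernel

theorem chk_range23 : ∀ a, 264408 ≤ a → a < 275904 → ∀ x < cert.c.g, cert.slotOK a x = true := by
  refine cert.range_of_chunks 264408 479 24 (by norm_num) ?_
  intro k hk
  interval_cases k
  · exact chk_rows23_0
  · exact chk_rows23_1
  · exact chk_rows23_2
  · exact chk_rows23_3
  · exact chk_rows23_4
  · exact chk_rows23_5
  · exact chk_rows23_6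
  · exact chk_rows23_7
  · exact chk_rows23_8
  · exact chk_rows23_9
  · exact chk_rows23_10
  · exact chk_rows23_11
  · exact chk_rows23_12
  · exact chk_rows23_13
  · exact chk_rows23_14
  · exact chk_rows23_15
  · exact chk_rows23_16
  · exact chk_rows23_17
  · exact chk_rows23_18
  · exact chk_rows23_19
  · exact chk_rows23_20
  · exact chk_rows23_21
  · exact chk_rows23_22
  · exact chk_rows23_23

end Cfsg.Agent.Lib.Lead.HNP.HNTC
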