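import Cfsg.Agent.Lib.Lead.HNP.HNTCSCert
import Cfsg.Agent.Lib.Lead.HNP.HNTCSRows23

/-! # HNTC: the kernel check of the rows from 540312 on -/

set_option autoImplicit false

namespace Cfsg.Agent.Lib.Lead.HNP.HNTC

open Cfsg.Agent.Lib.Helper6.TC Cfsg.Agent.Lib.Helper6.TCGS

theorem chk_rows47_0 : cert.rowsOK 540312 479 = true := by decide +kernel

theorem chk_rows47_1 : cert.rowsOK 540791 479 = true := by decide +kernel

theorem chk_rows47_2 : cert.rowsOK 541270 479 = true := by decide +kernel

theorem chk_rows47_3 : cert.rowsOK 541749 479 = true := by decide +kernel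

theorem chk_rows47_4 : cert.rowsOK 542228 479 = true := by decide +kernel

theorem chk_rows47_5 : cert.rowsOK 542707 479 = true := by decide +kernel

theorem chk_rows47_6 : cert.rowsOK 543186 479 = true := by decide +kernel

theorem chk_rows47_7 : cert.rowsOK 543665 479 = true := by decide +kernel

theorem chk_rows47_8 : cert.rowsOK 544144 479 = true := by decide +kernel

theorem chk_rows47_9 : cert.rowsOK 544623 479 = true := by decide +kernel

theorem chk_rows47_10 : cert.rowsOK 545102 479 = true := by decide +kernel

theorem chk_rows47_11 : cert.rowsOK 545581 479 = true := by decide +kernel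

theorem chk_rows47_12 : cert.rowsOK 546060 479 = true := by decide +kernel

theorem chk_rows47_13 : cert.rowsOK 546539 479 = true := by decide +kernel

theorem chk_rows47_14 : cert.rowsOK 547018 479 = true := by decide +kernel

theorem chk_rows47_15 : cert.rowsOK 547497 479 = true := by decide +kernel

theorem chk_rows47_16 : cert.rowsOK 547976 479 = true := by decide +kernel

theorem chk_rows47_17 : cert.rowsOK 548455 479 = true := by decide +kernel

theorem chk_rows47_18 : cert.rowsOK 548934 479 = true := by decide +kernel

theorem chk_rows47_19 : cert.rowsOK 549413 479 = true := by decide +kernel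

theorem chk_rows47_20 : cert.rowsOK 549892 479 = true := by decide +kernel

theorem chk_rows47_21 : cert.rowsOK 550371 479 = true := by decide +kernel

theorem chk_rows47_22 : cert.rowsOK 550850 479 = true := by decide +kernel

theorem chk_rows47_23 : cert.rowsOK 551329 479 = true := by decide +kernel

theorem chk_range47 : ∀ a, 540312 ≤ a → a < 551808 → ∀ x < cert.c.g, cert.slotOK a x = true := by
  refine cert.range_of_chunks 540312 479 24 (by norm_num) ?_
  intro k hk
  interval_cases k
  · exact chk_rows47_0
  · exact chk_rows47_1
  · exact chk_rows47_2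
  · exact chk_rows47_3
  · exact chk_rows47_4
  · exact chk_rows47_5
  · exact chk_rows47_6
  · exact chk_rows47_7
  · exact chk_rows47_8
  · exact chk_rows47_9
  · exact chk_rows47_10
  · exact chk_rows47_11
  · exact chk_rows47_12
  · exact chk_rows47_13
  · exact chk_rows47_14
  · exact chk_rows47_15
  · exact chk_rows47_16
  · exact chk_rows47_17
  · exact chk_rows47_18
  · exact chk_rows47_19
  · exact chk_rows47_20
  · exact chk_rows47_21
  · exact chk_rows47_22
  · exact chk_rows47_23

end Cfsg.Agent.Lib.Lead.HNP.HNTC
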