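import Cfsg.Agent.Lib.Lead.HNP.HNTCSCert
import Cfsg.Agent.Lib.Lead.HNP.HNTCSRows47

/-! # HNTC: the kernel check of the rows from 816216 on -/

set_option autoImplicit false

namespace Cfsg.Agent.Lib.Lead.HNP.HNTC

open Cfsg.Agent.Lib.Helper6.TC Cfsg.Agent.Lib.Helper6.TCGS

theorem chk_rows71_0 : cert.rowsOK 816216 479 = true := by decide +kernel

theorem chk_rows71_1 : cert.rowsOK 816695 479 = true := by decide +kernel

theorem chk_rows71_2 : cert.rowsOK 817174 479 = true := by decide +kernel

theorem chk_rows71_3 : cert.rowsOK 817653 479 = true := by decide +kernel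

theorem chk_rows71_4 : cert.rowsOK 818132 479 = true := by decide +kernel

theorem chk_rows71_5 : cert.rowsOK 818611 479 = true := by decide +kernel

theorem chk_rows71_6 : cert.rowsOK 819090 479 = true := by decide +kernel

theorem chk_rows71_7 : cert.rowsOK 819569 479 = true := by decide +kernel

theorem chk_rows71_8 : cert.rowsOK 820048 479 = true := by decide +kernel

theorem chk_rows71_9 : cert.rowsOK 820527 479 = true := by decide +kernel

theorem chk_rows71_10 : cert.rowsOK 821006 479 = true := by decide +kernel

theorem chk_rows71_11 : cert.rowsOK 821485 479 = true := by decide +kernel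

theorem chk_rows71_12 : cert.rowsOK 821964 479 = true := by decide +kernel

theorem chk_rows71_13 : cert.rowsOK 822443 479 = true := by decide +kernel

theorem chk_rows71_14 : cert.rowsOK 822922 479 = true := by decide +kernel

theorem chk_rows71_15 : cert.rowsOK 823401 479 = true := by decide +kernel

theorem chk_rows71_16 : cert.rowsOK 823880 479 = true := by decide +kernel

theorem chk_rows71_17 : cert.rowsOK 824359 479 = true := by decide +kernel

theorem chk_rows71_18 : cert.rowsOK 824838 479 = true := by decide +kernel

theorem chk_rows71_19 : cert.rowsOK 825317 479 = true := by decide +kernel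

theorem chk_rows71_20 : cert.rowsOK 825796 479 = true := by decide +kernel

theorem chk_rows71_21 : cert.rowsOK 826275 479 = true := by decide +kernel

theorem chk_rows71_22 : cert.rowsOK 826754 479 = true := by decide +kernel

theorem chk_rows71_23 : cert.rowsOK 827233 479 = true := by decide +kernel

theorem chk_range71 : ∀ a, 816216 ≤ a → a < 827712 → ∀ x < cert.c.g, cert.slotOK a x = true := by
  refine cert.range_of_chunks 816216 479 24 (by norm_num) ?_
  intro k hk
  interval_cases k
  · exact chk_rows71_0
  · exact chk_rows71_1
  · exact chk_rows71_2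
  · exact chk_rows71_3
  · exact chk_rows71_4
  · exact chk_rows71_5
  · exact chk_rows71_6
  · exact chk_rows71_7
  · exact chk_rows71_8
  · exact chk_rows71_9
  · exact chk_rows71_10
  · exact chk_rows71_11
  · exact chk_rows71_12
  · exact chk_rows71_13
  · exact chk_rows71_14
  · exact chk_rows71_15
  · exact chk_rows71_16
  · exact chk_rows71_17
  · exact chk_rows71_18
  · exact chk_rows71_19
  · exact chk_rows71_20
  · exact chk_rows71_21
  · exact chk_rows71_22
  · exact chk_rows71_23

end Cfsg.Agent.Lib.Lead.HNP.HNTC
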