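import Cfsg.Agent.Lib.Lead.HNP.HNTCSCert
import Cfsg.Agent.Lib.Lead.HNP.HNTCSRows71

/-! # HNTC: the kernel check of the rows from 1092120 on -/

set_option autoImplicit false

namespace Cfsg.Agent.Lib.Lead.HNP.HNTC

open Cfsg.Agent.Lib.Helper6.TC Cfsg.Agent.Lib.Helper6.TCGS

theorem chk_rows95_0 : cert.rowsOK 1092120 479 = true := by decide +kernel

theorem chk_rows95_1 : cert.rowsOK 1092599 479 = true := by decide +kernel

theorem chk_rows95_2 : cert.rowsOK 1093078 479 = true := by decide +kernel

theorem chk_rows95_3 : cert.rowsOK 1093557 479 = true := by decide +kernel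

theorem chk_rows95_4 : cert.rowsOK 1094036 479 = true := by decide +kernel

theorem chk_rows95_5 : cert.rowsOK 1094515 479 = true := by decide +kernel

theorem chk_rows95_6 : cert.rowsOK 1094994 479 = true := by decide +kernel

theorem chk_rows95_7 : cert.rowsOK 1095473 479 = true := by decide +kernel

theorem chk_rows95_8 : cert.rowsOK 1095952 479 = true := by decide +kernel

theorem chk_rows95_9 : cert.rowsOK 1096431 479 = true := by decide +kernel

theorem chk_rows95_10 : cert.rowsOK 1096910 479 = true := by decide +kernel

theorem chk_rows95_11 : cert.rowsOK 1097389 479 = true := by decide +kernel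

theorem chk_rows95_12 : cert.rowsOK 1097868 479 = true := by decide +kernel

theorem chk_rows95_13 : cert.rowsOK 1098347 479 = true := by decide +kernel

theorem chk_rows95_14 : cert.rowsOK 1098826 479 = true := by decide +kernel

theorem chk_rows95_15 : cert.rowsOK 1099305 479 = true := by decide +kernel

theorem chk_rows95_16 : cert.rowsOK 1099784 479 = true := by decide +kernel

theorem chk_rows95_17 : cert.rowsOK 1100263 479 = true := by decide +kernel

theorem chk_rows95_18 : cert.rowsOK 1100742 479 = true := by decide +kernel

theorem chk_rows95_19 : cert.rowsOK 1101221 479 = true := by decide +kernel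

theorem chk_rows95_20 : cert.rowsOK 1101700 479 = true := by decide +kernel

theorem chk_rows95_21 : cert.rowsOK 1102179 479 = true := by decide +kernel

theorem chk_rows95_22 : cert.rowsOK 1102658 479 = true := by decide +kernel

theorem chk_rows95_23 : cert.rowsOK 1103137 479 = true := by decide +kernel

theorem chk_range95 : ∀ a, 1092120 ≤ a → a < 1103616 → ∀ x < cert.c.g, cert.slotOK a x = true := by
  refine cert.range_of_chunks 1092120 479 24 (by norm_num) ?_
  intro k hk
  interval_cases k
  · exact chk_rows95_0
  · exact chk_rows95_1
  · exact chk_rows95_2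
  · exact chk_rows95_3
  · exact chk_rows95_4
  · exact chk_rows95_5
  · exact chk_rows95_6
  · exact chk_rows95_7
  · exact chk_rows95_8
  · exact chk_rows95_9
  · exact chk_rows95_10
  · exact chk_rows95_11
  · exact chk_rows95_12
  · exact chk_rows95_13
  · exact chk_rows95_14
  · exact chk_rows95_15
  · exact chk_rows95_16
  · exact chk_rows95_17
  · exact chk_rows95_18
  · exact chk_rows95_19
  · exact chk_rows95_20
  · exact chk_rows95_21
  · exact chk_rows95_22
  · exact chk_rows95_23

end Cfsg.Agent.Lib.Lead.HNP.HNTC
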