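import Cfsg.Agent.Lib.Lead.HNP.HNTCSCert
import Cfsg.Agent.Lib.Lead.HNP.HNTCSRows95

/-! # HNTC: the kernel check of the rows from 1368024 on -/

set_option autoImplicit false

namespace Cfsg.Agent.Lib.Lead.HNP.HNTC

open Cfsg.Agent.Lib.Helper6.TC Cfsg.Agent.Lib.Helper6.TCGS

theorem chk_rows119_0 : cert.rowsOK 1368024 479 = true := by decide +kernel

theorem chk_rows119_1 : cert.rowsOK 1368503 479 = true := by decide +kernel

theorem chk_rows119_2 : cert.rowsOK 1368982 479 = true := by decide +kernel

theorem chk_rows119_3 : cert.rowsOK 1369461 479 = true := by decide +kernel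

theorem chk_rows119_4 : cert.rowsOK 1369940 479 = true := by decide +kernel

theorem chk_rows119_5 : cert.rowsOK 1370419 479 = true := by decide +kernel

theorem chk_rows119_6 : cert.rowsOK 1370898 479 = true := by decide +kernel

theorem chk_rows119_7 : cert.rowsOK 1371377 479 = true := by decide +kernel

theorem chk_rows119_8 : cert.rowsOK 1371856 479 = true := by decide +kernel

theorem chk_rows119_9 : cert.rowsOK 1372335 479 = true := by decide +kernel

theorem chk_rows119_10 : cert.rowsOK 1372814 479 = true := by decide +kernel

theorem chk_rows119_11 : cert.rowsOK 1373293 479 = true := by decide +kernel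

theorem chk_rows119_12 : cert.rowsOK 1373772 479 = true := by decide +kernel

theorem chk_rows119_13 : cert.rowsOK 1374251 479 = true := by decide +kernel

theorem chk_rows119_14 : cert.rowsOK 1374730 479 = true := by decide +kernel

theorem chk_rows119_15 : cert.rowsOK 1375209 479 = true := by decide +kernel

theorem chk_rows119_16 : cert.rowsOK 1375688 479 = true := by decide +kernel

theorem chk_rows119_17 : cert.rowsOK 1376167 479 = true := by decide +kernel

theorem chk_rows119_18 : cert.rowsOK 1376646 479 = true := by decide +kernel

theorem chk_rows119_19 : cert.rowsOK 1377125 479 = true := by decide +kernel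

theorem chk_rows119_20 : cert.rowsOK 1377604 479 = true := by decide +kernel

theorem chk_rows119_21 : cert.rowsOK 1378083 479 = true := by decide +kernel

theorem chk_rows119_22 : cert.rowsOK 1378562 479 = true := by decide +kernel

theorem chk_rows119_23 : cert.rowsOK 1379041 479 = true := by decide +kernel

theorem chk_range119 : ∀ a, 1368024 ≤ a → a < 1379520 → ∀ x < cert.c.g, cert.slotOK a x = true := by
  refine cert.range_of_chunks 1368024 479 24 (by norm_num) ?_
  intro k hk
  interval_cases k
  · exact chk_rows119_0
  · exact chk_rows119_1
  · exact chk_rows119_2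
  · exact chk_rows119_3
  · exact chk_rows119_4
  · exact chk_rows119_5
  · exact chk_rows119_6
  · exact chk_rows119_7
  · exact chk_rows119_8
  · exact chk_rows119_9
  · exact chk_rows119_10
  · exact chk_rows119_11
  · exact chk_rows119_12
  · exact chk_rows119_13
  · exact chk_rows119_14
  · exact chk_rows119_15
  · exact chk_rows119_16
  · exact chk_rows119_17
  · exact chk_rows119_18
  · exact chk_rows119_19
  · exact chk_rows119_20
  · exact chk_rows119_21
  · exact chk_rows119_22
  · exact chk_rows119_23

end Cfsg.Agent.Lib.Lead.HNP.HNTC
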