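import Cfsg.Agent.Lib.Lead.HNP.HNTCSCert
import Cfsg.Agent.Lib.Helper6.TCGIndex
import Cfsg.Agent.Lib.Lead.HNP.HNTCSRows119

/-! # HNTC: the kernel check that the first rows are closed, part 9 -/

set_option autoImplicit false

namespace Cfsg.Agent.Lib.Lead.HNP.HNTC

open Cfsg.Agent.Lib.Helper6.TC Cfsg.Agent.Lib.Helper6.TCGS

theorem chk_fin81 : cert.finalOKc 1539000 162000 2000 = true := by decide +kernel

theorem chk_fin82 : cert.finalOKc 1539000 164000 2000 = true := by decide +kernel

theorem chk_fin83 : cert.finalOKc 1539000 166000 2000 = true := by decide +kernel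

theorem chk_fin84 : cert.finalOKc 1539000 168000 2000 = true := by decide +kernel

theorem chk_fin85 : cert.finalOKc 1539000 170000 2000 = true := by decide +kernel

theorem chk_fin86 : cert.finalOKc 1539000 172000 2000 = true := by decide +kernel

theorem chk_fin87 : cert.finalOKc 1539000 174000 2000 = true := by decide +kernel

theorem chk_fin88 : cert.finalOKc 1539000 176000 2000 = true := by decide +kernel

theorem chk_fin89 : cert.finalOKc 1539000 178000 2000 = true := by decide +kernel


end Cfsg.Agent.Lib.Lead.HNP.HNTC
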