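import Cfsg.Agent.Lib.Lead.HNP.HNTCSCert
import Cfsg.Agent.Lib.Helper6.TCGIndex
import Cfsg.Agent.Lib.Lead.HNP.HNTCSFin9

/-! # HNTC: the kernel check that the first rows are closed, part 33 -/

set_option autoImplicit false

namespace Cfsg.Agent.Lib.Lead.HNP.HNTC

open Cfsg.Agent.Lib.Helper6.TC Cfsg.Agent.Lib.Helper6.TCGS

theorem chk_fin297 : cert.finalOKc 1539000 594000 2000 = true := by decide +kernel

theorem chk_fin298 : cert.finalOKc 1539000 596000 2000 = true := by decide +kernel

theorem chk_fin299 : cert.finalOKc 1539000 598000 2000 = true := by decide +kernel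

theorem chk_fin300 : cert.finalOKc 1539000 600000 2000 = true := by decide +kernel

theorem chk_fin301 : cert.finalOKc 1539000 602000 2000 = true := by decide +kernel

theorem chk_fin302 : cert.finalOKc 1539000 604000 2000 = true := by decide +kernel

theorem chk_fin303 : cert.finalOKc 1539000 606000 2000 = true := by decide +kernel

theorem chk_fin304 : cert.finalOKc 1539000 608000 2000 = true := by decide +kernel

theorem chk_fin305 : cert.finalOKc 1539000 610000 2000 = true := by decide +kernel


end Cfsg.Agent.Lib.Lead.HNP.HNTC
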