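import Cfsg.Agent.Lib.Lead.HNP.HNTCSCert
import Cfsg.Agent.Lib.Helper6.TCGIndex
import Cfsg.Agent.Lib.Lead.HNP.HNTCSFin33

/-! # HNTC: the kernel check that the first rows are closed, part 57 -/

set_option autoImplicit false

namespace Cfsg.Agent.Lib.Lead.HNP.HNTC

open Cfsg.Agent.Lib.Helper6.TC Cfsg.Agent.Lib.Helper6.TCGS

theorem chk_fin513 : cert.finalOKc 1539000 1026000 2000 = true := by decide +kernel

theorem chk_fin514 : cert.finalOKc 1539000 1028000 2000 = true := by decide +kernel

theorem chk_fin515 : cert.finalOKc 1539000 1030000 2000 = true := by decide +kernel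

theorem chk_fin516 : cert.finalOKc 1539000 1032000 2000 = true := by decide +kernel

theorem chk_fin517 : cert.finalOKc 1539000 1034000 2000 = true := by decide +kernel

theorem chk_fin518 : cert.finalOKc 1539000 1036000 2000 = true := by decide +kernel

theorem chk_fin519 : cert.finalOKc 1539000 1038000 2000 = true := by decide +kernel

theorem chk_fin520 : cert.finalOKc 1539000 1040000 2000 = true := by decide +kernel

theorem chk_fin521 : cert.finalOKc 1539000 1042000 2000 = true := by decide +kernel


end Cfsg.Agent.Lib.Lead.HNP.HNTC
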