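import Cfsg.Agent.Lib.Lead.HNP.HNTCSCert
import Cfsg.Agent.Lib.Helper6.TCGIndex
import Cfsg.Agent.Lib.Lead.HNP.HNTCSFin57

/-! # HNTC: the kernel check that the first rows are closed, part 81 -/

set_option autoImplicit false

namespace Cfsg.Agent.Lib.Lead.HNP.HNTC

open Cfsg.Agent.Lib.Helper6.TC Cfsg.Agent.Lib.Helper6.TCGS

theorem chk_fin729 : cert.finalOKc 1539000 1458000 2000 = true := by decide +kernel

theorem chk_fin730 : cert.finalOKc 1539000 1460000 2000 = true := by decide +kernel

theorem chk_fin731 : cert.finalOKc 1539000 1462000 2000 = true := by decide +kernel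

theorem chk_fin732 : cert.finalOKc 1539000 1464000 2000 = true := by decide +kernel

theorem chk_fin733 : cert.finalOKc 1539000 1466000 2000 = true := by decide +kernel

theorem chk_fin734 : cert.finalOKc 1539000 1468000 2000 = true := by decide +kernel

theorem chk_fin735 : cert.finalOKc 1539000 1470000 2000 = true := by decide +kernel

theorem chk_fin736 : cert.finalOKc 1539000 1472000 2000 = true := by decide +kernel

theorem chk_fin737 : cert.finalOKc 1539000 1474000 2000 = true := by decide +kernel


end Cfsg.Agent.Lib.Lead.HNP.HNTC
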