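import Cfsg.Agent.Lib.Lead.HNP.HNTCData
import Cfsg.Agent.Lib.Helper6.TCRel3
import Cfsg.Agent.Lib.Lead.HNP.HNTCSFin81

/-! # HNTC: the kernel check of a part of the relators on the coset table -/

set_option autoImplicit false

namespace Cfsg.Agent.Lib.Lead.HNP.HNTC

open Cfsg.Agent.Lib.Helper6.TC

theorem chk_pow3_1_0 : tab.minOKc [1, 2, 2, 0, 2, 2, 2] 3 68565 4571 = true := by decide +kernel

theorem chk_pow3_1_1 : tab.minOKc [1, 2, 2, 0, 2, 2, 2] 3 73136 4571 = true := by decide +kernel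

theorem chk_pow3_1_2 : tab.minOKc [1, 2, 2, 0, 2, 2, 2] 3 77707 4571 = true := by decide +kernel

theorem chk_pow3_1_3 : tab.minOKc [1, 2, 2, 0, 2, 2, 2] 3 82278 4571 = true := by decide +kernel

theorem chk_pow3_1_4 : tab.minOKc [1, 2, 2, 0, 2, 2, 2] 3 86849 4571 = true := by decide +kernel

theorem chk_pow3_1_5 : tab.minOKc [1, 2, 2, 0, 2, 2, 2] 3 91420 4571 = true := by decide +kernel

theorem chk_pow3_1_6 : tab.minOKc [1, 2, 2, 0, 2, 2, 2] 3 95991 4571 = true := by decide +kernel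

theorem chk_pow3_1_7 : tab.minOKc [1, 2, 2, 0, 2, 2, 2] 3 100562 4571 = true := by decide +kernel

theorem chk_pow3_1_8 : tab.minOKc [1, 2, 2, 0, 2, 2, 2] 3 105133 4571 = true := by decide +kernel

theorem chk_pow3_1_9 : tab.minOKc [1, 2, 2, 0, 2, 2, 2] 3 109704 4571 = true := by decide +kernel

theorem chk_pow3_1_10 : tab.minOKc [1, 2, 2, 0, 2, 2, 2] 3 114275 4571 = true := by decide +kernel

theorem chk_pow3_1_11 : tab.minOKc [1, 2, 2, 0, 2, 2, 2] 3 118846 4571 = true := by decide +kernel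

theorem chk_pow3_1_12 : tab.minOKc [1, 2, 2, 0, 2, 2, 2] 3 123417 4571 = true := by decide +kernel

theorem chk_pow3_1_13 : tab.minOKc [1, 2, 2, 0, 2, 2, 2] 3 127988 4571 = true := by decide +kernel

theorem chk_pow3_1_14 : tab.minOKc [1, 2, 2, 0, 2, 2, 2] 3 132559 4571 = true := by decide +kernel

theorem chk_pow3_1 : tab.minOKc [1, 2, 2, 0, 2, 2, 2] 3 68565 68565 = true := by
  refine tab.minOKc_of_chunks [1, 2, 2, 0, 2, 2, 2] 3 68565 4571 15 (by norm_num) ?_
  intro i hi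
  interval_cases i
  · exact chk_pow3_1_0
  · exact chk_pow3_1_1
  · exact chk_pow3_1_2
  · exact chk_pow3_1_3
  · exact chk_pow3_1_4
  · exact chk_pow3_1_5
  · exact chk_pow3_1_6
  · exact chk_pow3_1_7
  · exact chk_pow3_1_8
  · exact chk_pow3_1_9
  · exact chk_pow3_1_10
  · exact chk_pow3_1_11
  · exact chk_pow3_1_12
  · exact chk_pow3_1_13
  · exact chk_pow3_1_14

theorem chk_pow3_2_0 : tab.minOKc [1, 2, 2, 0, 2, 2, 2] 3 137130 4571 = true := by decide +kernel

theorem chk_pow3_2_1 : tab.minOKc [1, 2, 2, 0, 2, 2, 2] 3 141701 4571 = true := by decide +kernel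

theorem chk_pow3_2_2 : tab.minOKc [1, 2, 2, 0, 2, 2, 2] 3 146272 4571 = true := by decide +kernel

theorem chk_pow3_2_3 : tab.minOKc [1, 2, 2, 0, 2, 2, 2] 3 150843 4571 = true := by decide +kernel

theorem chk_pow3_2_4 : tab.minOKc [1, 2, 2, 0, 2, 2, 2] 3 155414 4571 = true := by decide +kernel

theorem chk_pow3_2_5 : tab.minOKc [1, 2, 2, 0, 2, 2, 2] 3 159985 4571 = true := by decide +kernel

theorem chk_pow3_2_6 : tab.minOKc [1, 2, 2, 0, 2, 2, 2] 3 164556 4571 = true := by decide +kernel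

theorem chk_pow3_2_7 : tab.minOKc [1, 2, 2, 0, 2, 2, 2] 3 169127 4571 = true := by decide +kernel

theorem chk_pow3_2_8 : tab.minOKc [1, 2, 2, 0, 2, 2, 2] 3 173698 4571 = true := by decide +kernel

theorem chk_pow3_2_9 : tab.minOKc [1, 2, 2, 0, 2, 2, 2] 3 178269 4571 = true := by decide +kernel

theorem chk_pow3_2_10 : tab.minOKc [1, 2, 2, 0, 2, 2, 2] 3 182840 4571 = true := by decide +kernel

theorem chk_pow3_2_11 : tab.minOKc [1, 2, 2, 0, 2, 2, 2] 3 187411 4571 = true := by decide +kernel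

theorem chk_pow3_2_12 : tab.minOKc [1, 2, 2, 0, 2, 2, 2] 3 191982 4571 = true := by decide +kernel

theorem chk_pow3_2_13 : tab.minOKc [1, 2, 2, 0, 2, 2, 2] 3 196553 4571 = true := by decide +kernel

theorem chk_pow3_2_14 : tab.minOKc [1, 2, 2, 0, 2, 2, 2] 3 201124 4571 = true := by decide +kernel

theorem chk_pow3_2 : tab.minOKc [1, 2, 2, 0, 2, 2, 2] 3 137130 68565 = true := by
  refine tab.minOKc_of_chunks [1, 2, 2, 0, 2, 2, 2] 3 137130 4571 15 (by norm_num) ?_
  intro i hi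
  interval_cases i
  · exact chk_pow3_2_0
  · exact chk_pow3_2_1
  · exact chk_pow3_2_2
  · exact chk_pow3_2_3
  · exact chk_pow3_2_4
  · exact chk_pow3_2_5
  · exact chk_pow3_2_6
  · exact chk_pow3_2_7
  · exact chk_pow3_2_8
  · exact chk_pow3_2_9
  · exact chk_pow3_2_10
  · exact chk_pow3_2_11
  · exact chk_pow3_2_12
  · exact chk_pow3_2_13
  · exact chk_pow3_2_14


end Cfsg.Agent.Lib.Lead.HNP.HNTC
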