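import Cfsg.Agent.Lib.Lead.HNP.HNTCData
import Cfsg.Agent.Lib.Helper6.TCRel3
import Cfsg.Agent.Lib.Lead.HNP.HNTCRel19

/-! # HNTC: the kernel check of a part of the relators on the coset table -/

set_option autoImplicit false

namespace Cfsg.Agent.Lib.Lead.HNP.HNTC

open Cfsg.Agent.Lib.Helper6.TC

theorem chk_pow5_19_0 : tab.minOKc [0, 2, 0, 2, 2, 2] 4 1519905 5333 = true := by decide +kernel

theorem chk_pow5_19_1 : tab.minOKc [0, 2, 0, 2, 2, 2] 4 1525238 5333 = true := by decide +kernel

theorem chk_pow5_19_2 : tab.minOKc [0, 2, 0, 2, 2, 2] 4 1530571 5333 = true := by decide +kernel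

theorem chk_pow5_19_3 : tab.minOKc [0, 2, 0, 2, 2, 2] 4 1535904 5333 = true := by decide +kernel

theorem chk_pow5_19_4 : tab.minOKc [0, 2, 0, 2, 2, 2] 4 1541237 5333 = true := by decide +kernel

theorem chk_pow5_19_5 : tab.minOKc [0, 2, 0, 2, 2, 2] 4 1546570 5333 = true := by decide +kernel

theorem chk_pow5_19_6 : tab.minOKc [0, 2, 0, 2, 2, 2] 4 1551903 5333 = true := by decide +kernel

theorem chk_pow5_19_7 : tab.minOKc [0, 2, 0, 2, 2, 2] 4 1557236 5333 = true := by decide +kernel

theorem chk_pow5_19_8 : tab.minOKc [0, 2, 0, 2, 2, 2] 4 1562569 5333 = true := by decide +kernel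

theorem chk_pow5_19_9 : tab.minOKc [0, 2, 0, 2, 2, 2] 4 1567902 5333 = true := by decide +kernel

theorem chk_pow5_19_10 : tab.minOKc [0, 2, 0, 2, 2, 2] 4 1573235 5333 = true := by decide +kernel

theorem chk_pow5_19_11 : tab.minOKc [0, 2, 0, 2, 2, 2] 4 1578568 5333 = true := by decide +kernel

theorem chk_pow5_19_12 : tab.minOKc [0, 2, 0, 2, 2, 2] 4 1583901 5333 = true := by decide +kernel

theorem chk_pow5_19_13 : tab.minOKc [0, 2, 0, 2, 2, 2] 4 1589234 5333 = true := by decide +kernel

theorem chk_pow5_19_14 : tab.minOKc [0, 2, 0, 2, 2, 2] 4 1594567 5333 = true := by decide +kernel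

theorem chk_pow5_19 : tab.minOKc [0, 2, 0, 2, 2, 2] 4 1519905 79995 = true := by
  refine tab.minOKc_of_chunks [0, 2, 0, 2, 2, 2] 4 1519905 5333 15 (by norm_num) ?_
  intro i hi
  interval_cases i
  · exact chk_pow5_19_0
  · exact chk_pow5_19_1
  · exact chk_pow5_19_2
  · exact chk_pow5_19_3
  · exact chk_pow5_19_4
  · exact chk_pow5_19_5
  · exact chk_pow5_19_6
  · exact chk_pow5_19_7
  · exact chk_pow5_19_8
  · exact chk_pow5_19_9
  · exact chk_pow5_19_10
  · exact chk_pow5_19_11
  · exact chk_pow5_19_12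
  · exact chk_pow5_19_13
  · exact chk_pow5_19_14

theorem chk_pow6_0_0 : tab.minOKc [4] 2 0 32000 = true := by decide +kernel

theorem chk_pow6_0_1 : tab.minOKc [4] 2 32000 32000 = true := by decide +kernel

theorem chk_pow6_0_2 : tab.minOKc [4] 2 64000 32000 = true := by decide +kernel

theorem chk_pow6_0_3 : tab.minOKc [4] 2 96000 32000 = true := by decide +kernel

theorem chk_pow6_0_4 : tab.minOKc [4] 2 128000 32000 = true := by decide +kernel

theorem chk_pow6_0_5 : tab.minOKc [4] 2 160000 32000 = true := by decide +kernel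

theorem chk_pow6_0_6 : tab.minOKc [4] 2 192000 32000 = true := by decide +kernel

theorem chk_pow6_0_7 : tab.minOKc [4] 2 224000 32000 = true := by decide +kernel

theorem chk_pow6_0_8 : tab.minOKc [4] 2 256000 32000 = true := by decide +kernel

theorem chk_pow6_0_9 : tab.minOKc [4] 2 288000 32000 = true := by decide +kernel

theorem chk_pow6_0_10 : tab.minOKc [4] 2 320000 32000 = true := by decide +kernel

theorem chk_pow6_0_11 : tab.minOKc [4] 2 352000 32000 = true := by decide +kernel

theorem chk_pow6_0_12 : tab.minOKc [4] 2 384000 32000 = true := by decide +kernel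

theorem chk_pow6_0_13 : tab.minOKc [4] 2 416000 32000 = true := by decide +kernel

theorem chk_pow6_0_14 : tab.minOKc [4] 2 448000 32000 = true := by decide +kernel

theorem chk_pow6_0 : tab.minOKc [4] 2 0 480000 = true := by
  refine tab.minOKc_of_chunks [4] 2 0 32000 15 (by norm_num) ?_
  intro i hi
  interval_cases i
  · exact chk_pow6_0_0
  · exact chk_pow6_0_1
  · exact chk_pow6_0_2
  · exact chk_pow6_0_3
  · exact chk_pow6_0_4
  · exact chk_pow6_0_5
  · exact chk_pow6_0_6
  · exact chk_pow6_0_7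
  · exact chk_pow6_0_8
  · exact chk_pow6_0_9
  · exact chk_pow6_0_10
  · exact chk_pow6_0_11
  · exact chk_pow6_0_12
  · exact chk_pow6_0_13
  · exact chk_pow6_0_14


end Cfsg.Agent.Lib.Lead.HNP.HNTC
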