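import Cfsg.Agent.Lib.Lead.HNP.HNTCData
import Cfsg.Agent.Lib.Helper6.TCRel3
import Cfsg.Agent.Lib.Lead.HNP.HNTCRel43

/-! # HNTC: the kernel check of a part of the relators on the coset table -/

set_option autoImplicit false

namespace Cfsg.Agent.Lib.Lead.HNP.HNTC

open Cfsg.Agent.Lib.Helper6.TC

theorem chk_pow8_36_0 : tab.minOKc [5, 2, 1, 3, 3, 1, 3, 1, 3, 4, 2, 0, 2, 0, 2, 2, 0, 3, 1, 1] 1 864000 1600 = true := by decide +kernel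

theorem chk_pow8_36_1 : tab.minOKc [5, 2, 1, 3, 3, 1, 3, 1, 3, 4, 2, 0, 2, 0, 2, 2, 0, 3, 1, 1] 1 865600 1600 = true := by decide +kernel

theorem chk_pow8_36_2 : tab.minOKc [5, 2, 1, 3, 3, 1, 3, 1, 3, 4, 2, 0, 2, 0, 2, 2, 0, 3, 1, 1] 1 867200 1600 = true := by decide +kernel

theorem chk_pow8_36_3 : tab.minOKc [5, 2, 1, 3, 3, 1, 3, 1, 3, 4, 2, 0, 2, 0, 2, 2, 0, 3, 1, 1] 1 868800 1600 = true := by decide +kernel

theorem chk_pow8_36_4 : tab.minOKc [5, 2, 1, 3, 3, 1, 3, 1, 3, 4, 2, 0, 2, 0, 2, 2, 0, 3, 1, 1] 1 870400 1600 = true := by decide +kernel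

theorem chk_pow8_36_5 : tab.minOKc [5, 2, 1, 3, 3, 1, 3, 1, 3, 4, 2, 0, 2, 0, 2, 2, 0, 3, 1, 1] 1 872000 1600 = true := by decide +kernel

theorem chk_pow8_36_6 : tab.minOKc [5, 2, 1, 3, 3, 1, 3, 1, 3, 4, 2, 0, 2, 0, 2, 2, 0, 3, 1, 1] 1 873600 1600 = true := by decide +kernel

theorem chk_pow8_36_7 : tab.minOKc [5, 2, 1, 3, 3, 1, 3, 1, 3, 4, 2, 0, 2, 0, 2, 2, 0, 3, 1, 1] 1 875200 1600 = true := by decide +kernel

theorem chk_pow8_36_8 : tab.minOKc [5, 2, 1, 3, 3, 1, 3, 1, 3, 4, 2, 0, 2, 0, 2, 2, 0, 3, 1, 1] 1 876800 1600 = true := by decide +kernel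

theorem chk_pow8_36_9 : tab.minOKc [5, 2, 1, 3, 3, 1, 3, 1, 3, 4, 2, 0, 2, 0, 2, 2, 0, 3, 1, 1] 1 878400 1600 = true := by decide +kernel

theorem chk_pow8_36_10 : tab.minOKc [5, 2, 1, 3, 3, 1, 3, 1, 3, 4, 2, 0, 2, 0, 2, 2, 0, 3, 1, 1] 1 880000 1600 = true := by decide +kernel

theorem chk_pow8_36_11 : tab.minOKc [5, 2, 1, 3, 3, 1, 3, 1, 3, 4, 2, 0, 2, 0, 2, 2, 0, 3, 1, 1] 1 881600 1600 = true := by decide +kernel

theorem chk_pow8_36_12 : tab.minOKc [5, 2, 1, 3, 3, 1, 3, 1, 3, 4, 2, 0, 2, 0, 2, 2, 0, 3, 1, 1] 1 883200 1600 = true := by decide +kernel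

theorem chk_pow8_36_13 : tab.minOKc [5, 2, 1, 3, 3, 1, 3, 1, 3, 4, 2, 0, 2, 0, 2, 2, 0, 3, 1, 1] 1 884800 1600 = true := by decide +kernel

theorem chk_pow8_36_14 : tab.minOKc [5, 2, 1, 3, 3, 1, 3, 1, 3, 4, 2, 0, 2, 0, 2, 2, 0, 3, 1, 1] 1 886400 1600 = true := by decide +kernel

theorem chk_pow8_36 : tab.minOKc [5, 2, 1, 3, 3, 1, 3, 1, 3, 4, 2, 0, 2, 0, 2, 2, 0, 3, 1, 1] 1 864000 24000 = true := by
  refine tab.minOKc_of_chunks [5, 2, 1, 3, 3, 1, 3, 1, 3, 4, 2, 0, 2, 0, 2, 2, 0, 3, 1, 1] 1 864000 1600 15 (by norm_num) ?_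
  intro i hi
  interval_cases i
  · exact chk_pow8_36_0
  · exact chk_pow8_36_1
  · exact chk_pow8_36_2
  · exact chk_pow8_36_3
  · exact chk_pow8_36_4
  · exact chk_pow8_36_5
  · exact chk_pow8_36_6
  · exact chk_pow8_36_7
  · exact chk_pow8_36_8
  · exact chk_pow8_36_9
  · exact chk_pow8_36_10
  · exact chk_pow8_36_11
  · exact chk_pow8_36_12
  · exact chk_pow8_36_13
  · exact chk_pow8_36_14

theorem chk_pow8_37_0 : tab.minOKc [5, 2, 1, 3, 3, 1, 3, 1, 3, 4, 2, 0, 2, 0, 2, 2, 0, 3, 1, 1] 1 888000 1600 = true := by decide +kernel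

theorem chk_pow8_37_1 : tab.minOKc [5, 2, 1, 3, 3, 1, 3, 1, 3, 4, 2, 0, 2, 0, 2, 2, 0, 3, 1, 1] 1 889600 1600 = true := by decide +kernel

theorem chk_pow8_37_2 : tab.minOKc [5, 2, 1, 3, 3, 1, 3, 1, 3, 4, 2, 0, 2, 0, 2, 2, 0, 3, 1, 1] 1 891200 1600 = true := by decide +kernel

theorem chk_pow8_37_3 : tab.minOKc [5, 2, 1, 3, 3, 1, 3, 1, 3, 4, 2, 0, 2, 0, 2, 2, 0, 3, 1, 1] 1 892800 1600 = true := by decide +kernel

theorem chk_pow8_37_4 : tab.minOKc [5, 2, 1, 3, 3, 1, 3, 1, 3, 4, 2, 0, 2, 0, 2, 2, 0, 3, 1, 1] 1 894400 1600 = true := by decide +kernel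

theorem chk_pow8_37_5 : tab.minOKc [5, 2, 1, 3, 3, 1, 3, 1, 3, 4, 2, 0, 2, 0, 2, 2, 0, 3, 1, 1] 1 896000 1600 = true := by decide +kernel

theorem chk_pow8_37_6 : tab.minOKc [5, 2, 1, 3, 3, 1, 3, 1, 3, 4, 2, 0, 2, 0, 2, 2, 0, 3, 1, 1] 1 897600 1600 = true := by decide +kernel

theorem chk_pow8_37_7 : tab.minOKc [5, 2, 1, 3, 3, 1, 3, 1, 3, 4, 2, 0, 2, 0, 2, 2, 0, 3, 1, 1] 1 899200 1600 = true := by decide +kernel

theorem chk_pow8_37_8 : tab.minOKc [5, 2, 1, 3, 3, 1, 3, 1, 3, 4, 2, 0, 2, 0, 2, 2, 0, 3, 1, 1] 1 900800 1600 = true := by decide +kernel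

theorem chk_pow8_37_9 : tab.minOKc [5, 2, 1, 3, 3, 1, 3, 1, 3, 4, 2, 0, 2, 0, 2, 2, 0, 3, 1, 1] 1 902400 1600 = true := by decide +kernel

theorem chk_pow8_37_10 : tab.minOKc [5, 2, 1, 3, 3, 1, 3, 1, 3, 4, 2, 0, 2, 0, 2, 2, 0, 3, 1, 1] 1 904000 1600 = true := by decide +kernel

theorem chk_pow8_37_11 : tab.minOKc [5, 2, 1, 3, 3, 1, 3, 1, 3, 4, 2, 0, 2, 0, 2, 2, 0, 3, 1, 1] 1 905600 1600 = true := by decide +kernel

theorem chk_pow8_37_12 : tab.minOKc [5, 2, 1, 3, 3, 1, 3, 1, 3, 4, 2, 0, 2, 0, 2, 2, 0, 3, 1, 1] 1 907200 1600 = true := by decide +kernel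

theorem chk_pow8_37_13 : tab.minOKc [5, 2, 1, 3, 3, 1, 3, 1, 3, 4, 2, 0, 2, 0, 2, 2, 0, 3, 1, 1] 1 908800 1600 = true := by decide +kernel

theorem chk_pow8_37_14 : tab.minOKc [5, 2, 1, 3, 3, 1, 3, 1, 3, 4, 2, 0, 2, 0, 2, 2, 0, 3, 1, 1] 1 910400 1600 = true := by decide +kernel

theorem chk_pow8_37 : tab.minOKc [5, 2, 1, 3, 3, 1, 3, 1, 3, 4, 2, 0, 2, 0, 2, 2, 0, 3, 1, 1] 1 888000 24000 = true := by
  refine tab.minOKc_of_chunks [5, 2, 1, 3, 3, 1, 3, 1, 3, 4, 2, 0, 2, 0, 2, 2, 0, 3, 1, 1] 1 888000 1600 15 (by norm_num) ?_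
  intro i hi
  interval_cases i
  · exact chk_pow8_37_0
  · exact chk_pow8_37_1
  · exact chk_pow8_37_2
  · exact chk_pow8_37_3
  · exact chk_pow8_37_4
  · exact chk_pow8_37_5
  · exact chk_pow8_37_6
  · exact chk_pow8_37_7
  · exact chk_pow8_37_8
  · exact chk_pow8_37_9
  · exact chk_pow8_37_10
  · exact chk_pow8_37_11
  · exact chk_pow8_37_12
  · exact chk_pow8_37_13
  · exact chk_pow8_37_14


end Cfsg.Agent.Lib.Lead.HNP.HNTC
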