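import Cfsg.Agent.Lib.Lead.HNP.HNTCData
import Cfsg.Agent.Lib.Helper6.TCRel3
import Cfsg.Agent.Lib.Lead.HNP.HNTCRel136

/-! # HNTC: the kernel check of a part of the relators on the coset table -/

set_option autoImplicit false

namespace Cfsg.Agent.Lib.Lead.HNP.HNTC

open Cfsg.Agent.Lib.Helper6.TC

theorem chk_pow9_157_0 : tab.minOKc [4, 3, 1, 3, 1, 3, 3, 3, 4, 2, 2, 2, 0, 2, 0, 2, 0, 3, 1, 3, 1, 3, 3, 3, 4, 2, 2, 2, 0, 2, 0, 2, 0, 3, 1, 3, 1, 3, 3, 3, 4, 2, 2, 2, 0, 2, 0, 2, 0] 1 1537815 653 = true := by decide +kernel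

theorem chk_pow9_157_1 : tab.minOKc [4, 3, 1, 3, 1, 3, 3, 3, 4, 2, 2, 2, 0, 2, 0, 2, 0, 3, 1, 3, 1, 3, 3, 3, 4, 2, 2, 2, 0, 2, 0, 2, 0, 3, 1, 3, 1, 3, 3, 3, 4, 2, 2, 2, 0, 2, 0, 2, 0] 1 1538468 653 = true := by decide +kernel

theorem chk_pow9_157_2 : tab.minOKc [4, 3, 1, 3, 1, 3, 3, 3, 4, 2, 2, 2, 0, 2, 0, 2, 0, 3, 1, 3, 1, 3, 3, 3, 4, 2, 2, 2, 0, 2, 0, 2, 0, 3, 1, 3, 1, 3, 3, 3, 4, 2, 2, 2, 0, 2, 0, 2, 0] 1 1539121 653 = true := by decide +kernel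

theorem chk_pow9_157_3 : tab.minOKc [4, 3, 1, 3, 1, 3, 3, 3, 4, 2, 2, 2, 0, 2, 0, 2, 0, 3, 1, 3, 1, 3, 3, 3, 4, 2, 2, 2, 0, 2, 0, 2, 0, 3, 1, 3, 1, 3, 3, 3, 4, 2, 2, 2, 0, 2, 0, 2, 0] 1 1539774 653 = true := by decide +kernel

theorem chk_pow9_157_4 : tab.minOKc [4, 3, 1, 3, 1, 3, 3, 3, 4, 2, 2, 2, 0, 2, 0, 2, 0, 3, 1, 3, 1, 3, 3, 3, 4, 2, 2, 2, 0, 2, 0, 2, 0, 3, 1, 3, 1, 3, 3, 3, 4, 2, 2, 2, 0, 2, 0, 2, 0] 1 1540427 653 = true := by decide +kernel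

theorem chk_pow9_157_5 : tab.minOKc [4, 3, 1, 3, 1, 3, 3, 3, 4, 2, 2, 2, 0, 2, 0, 2, 0, 3, 1, 3, 1, 3, 3, 3, 4, 2, 2, 2, 0, 2, 0, 2, 0, 3, 1, 3, 1, 3, 3, 3, 4, 2, 2, 2, 0, 2, 0, 2, 0] 1 1541080 653 = true := by decide +kernel

theorem chk_pow9_157_6 : tab.minOKc [4, 3, 1, 3, 1, 3, 3, 3, 4, 2, 2, 2, 0, 2, 0, 2, 0, 3, 1, 3, 1, 3, 3, 3, 4, 2, 2, 2, 0, 2, 0, 2, 0, 3, 1, 3, 1, 3, 3, 3, 4, 2, 2, 2, 0, 2, 0, 2, 0] 1 1541733 653 = true := by decide +kernel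

theorem chk_pow9_157_7 : tab.minOKc [4, 3, 1, 3, 1, 3, 3, 3, 4, 2, 2, 2, 0, 2, 0, 2, 0, 3, 1, 3, 1, 3, 3, 3, 4, 2, 2, 2, 0, 2, 0, 2, 0, 3, 1, 3, 1, 3, 3, 3, 4, 2, 2, 2, 0, 2, 0, 2, 0] 1 1542386 653 = true := by decide +kernel

theorem chk_pow9_157_8 : tab.minOKc [4, 3, 1, 3, 1, 3, 3, 3, 4, 2, 2, 2, 0, 2, 0, 2, 0, 3, 1, 3, 1, 3, 3, 3, 4, 2, 2, 2, 0, 2, 0, 2, 0, 3, 1, 3, 1, 3, 3, 3, 4, 2, 2, 2, 0, 2, 0, 2, 0] 1 1543039 653 = true := by decide +kernel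

theorem chk_pow9_157_9 : tab.minOKc [4, 3, 1, 3, 1, 3, 3, 3, 4, 2, 2, 2, 0, 2, 0, 2, 0, 3, 1, 3, 1, 3, 3, 3, 4, 2, 2, 2, 0, 2, 0, 2, 0, 3, 1, 3, 1, 3, 3, 3, 4, 2, 2, 2, 0, 2, 0, 2, 0] 1 1543692 653 = true := by decide +kernel

theorem chk_pow9_157_10 : tab.minOKc [4, 3, 1, 3, 1, 3, 3, 3, 4, 2, 2, 2, 0, 2, 0, 2, 0, 3, 1, 3, 1, 3, 3, 3, 4, 2, 2, 2, 0, 2, 0, 2, 0, 3, 1, 3, 1, 3, 3, 3, 4, 2, 2, 2, 0, 2, 0, 2, 0] 1 1544345 653 = true := by decide +kernel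

theorem chk_pow9_157_11 : tab.minOKc [4, 3, 1, 3, 1, 3, 3, 3, 4, 2, 2, 2, 0, 2, 0, 2, 0, 3, 1, 3, 1, 3, 3, 3, 4, 2, 2, 2, 0, 2, 0, 2, 0, 3, 1, 3, 1, 3, 3, 3, 4, 2, 2, 2, 0, 2, 0, 2, 0] 1 1544998 653 = true := by decide +kernel

theorem chk_pow9_157_12 : tab.minOKc [4, 3, 1, 3, 1, 3, 3, 3, 4, 2, 2, 2, 0, 2, 0, 2, 0, 3, 1, 3, 1, 3, 3, 3, 4, 2, 2, 2, 0, 2, 0, 2, 0, 3, 1, 3, 1, 3, 3, 3, 4, 2, 2, 2, 0, 2, 0, 2, 0] 1 1545651 653 = true := by decide +kernel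

theorem chk_pow9_157_13 : tab.minOKc [4, 3, 1, 3, 1, 3, 3, 3, 4, 2, 2, 2, 0, 2, 0, 2, 0, 3, 1, 3, 1, 3, 3, 3, 4, 2, 2, 2, 0, 2, 0, 2, 0, 3, 1, 3, 1, 3, 3, 3, 4, 2, 2, 2, 0, 2, 0, 2, 0] 1 1546304 653 = true := by decide +kernel

theorem chk_pow9_157_14 : tab.minOKc [4, 3, 1, 3, 1, 3, 3, 3, 4, 2, 2, 2, 0, 2, 0, 2, 0, 3, 1, 3, 1, 3, 3, 3, 4, 2, 2, 2, 0, 2, 0, 2, 0, 3, 1, 3, 1, 3, 3, 3, 4, 2, 2, 2, 0, 2, 0, 2, 0] 1 1546957 653 = true := by decide +kernel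

theorem chk_pow9_157 : tab.minOKc [4, 3, 1, 3, 1, 3, 3, 3, 4, 2, 2, 2, 0, 2, 0, 2, 0, 3, 1, 3, 1, 3, 3, 3, 4, 2, 2, 2, 0, 2, 0, 2, 0, 3, 1, 3, 1, 3, 3, 3, 4, 2, 2, 2, 0, 2, 0, 2, 0] 1 1537815 9795 = true := by
  refine tab.minOKc_of_chunks [4, 3, 1, 3, 1, 3, 3, 3, 4, 2, 2, 2, 0, 2, 0, 2, 0, 3, 1, 3, 1, 3, 3, 3, 4, 2, 2, 2, 0, 2, 0, 2, 0, 3, 1, 3, 1, 3, 3, 3, 4, 2, 2, 2, 0, 2, 0, 2, 0] 1 1537815 653 15 (by norm_num) ?_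
  intro i hi
  interval_cases i
  · exact chk_pow9_157_0
  · exact chk_pow9_157_1
  · exact chk_pow9_157_2
  · exact chk_pow9_157_3
  · exact chk_pow9_157_4
  · exact chk_pow9_157_5
  · exact chk_pow9_157_6
  · exact chk_pow9_157_7
  · exact chk_pow9_157_8
  · exact chk_pow9_157_9
  · exact chk_pow9_157_10
  · exact chk_pow9_157_11
  · exact chk_pow9_157_12
  · exact chk_pow9_157_13
  · exact chk_pow9_157_14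

theorem chk_pow10_0_0 : tab.minOKc [6] 5 0 32000 = true := by decide +kernel

theorem chk_pow10_0_1 : tab.minOKc [6] 5 32000 32000 = true := by decide +kernel

theorem chk_pow10_0_2 : tab.minOKc [6] 5 64000 32000 = true := by decide +kernel

theorem chk_pow10_0_3 : tab.minOKc [6] 5 96000 32000 = true := by decide +kernel

theorem chk_pow10_0_4 : tab.minOKc [6] 5 128000 32000 = true := by decide +kernel

theorem chk_pow10_0_5 : tab.minOKc [6] 5 160000 32000 = true := by decide +kernel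

theorem chk_pow10_0_6 : tab.minOKc [6] 5 192000 32000 = true := by decide +kernel

theorem chk_pow10_0_7 : tab.minOKc [6] 5 224000 32000 = true := by decide +kernel

theorem chk_pow10_0_8 : tab.minOKc [6] 5 256000 32000 = true := by decide +kernel

theorem chk_pow10_0_9 : tab.minOKc [6] 5 288000 32000 = true := by decide +kernel

theorem chk_pow10_0_10 : tab.minOKc [6] 5 320000 32000 = true := by decide +kernel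

theorem chk_pow10_0_11 : tab.minOKc [6] 5 352000 32000 = true := by decide +kernel

theorem chk_pow10_0_12 : tab.minOKc [6] 5 384000 32000 = true := by decide +kernel

theorem chk_pow10_0_13 : tab.minOKc [6] 5 416000 32000 = true := by decide +kernel

theorem chk_pow10_0_14 : tab.minOKc [6] 5 448000 32000 = true := by decide +kernel

theorem chk_pow10_0 : tab.minOKc [6] 5 0 480000 = true := by
  refine tab.minOKc_of_chunks [6] 5 0 32000 15 (by norm_num) ?_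
  intro i hi
  interval_cases i
  · exact chk_pow10_0_0
  · exact chk_pow10_0_1
  · exact chk_pow10_0_2
  · exact chk_pow10_0_3
  · exact chk_pow10_0_4
  · exact chk_pow10_0_5
  · exact chk_pow10_0_6
  · exact chk_pow10_0_7
  · exact chk_pow10_0_8
  · exact chk_pow10_0_9
  · exact chk_pow10_0_10
  · exact chk_pow10_0_11
  · exact chk_pow10_0_12
  · exact chk_pow10_0_13
  · exact chk_pow10_0_14


end Cfsg.Agent.Lib.Lead.HNP.HNTC
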