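import Cfsg.Agent.Lib.Lead.HNP.HNTCData
import Cfsg.Agent.Lib.Helper6.TCRel3
import Cfsg.Agent.Lib.Lead.HNP.HNTCRel137

/-! # HNTC: the kernel check of a part of the relators on the coset table -/

set_option autoImplicit false

namespace Cfsg.Agent.Lib.Lead.HNP.HNTC

open Cfsg.Agent.Lib.Helper6.TC

theorem chk_pow10_1_0 : tab.minOKc [6] 5 480000 32000 = true := by decide +kernel

theorem chk_pow10_1_1 : tab.minOKc [6] 5 512000 32000 = true := by decide +kernel

theorem chk_pow10_1_2 : tab.minOKc [6] 5 544000 32000 = true := by decide +kernel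

theorem chk_pow10_1_3 : tab.minOKc [6] 5 576000 32000 = true := by decide +kernel

theorem chk_pow10_1_4 : tab.minOKc [6] 5 608000 32000 = true := by decide +kernel

theorem chk_pow10_1_5 : tab.minOKc [6] 5 640000 32000 = true := by decide +kernel

theorem chk_pow10_1_6 : tab.minOKc [6] 5 672000 32000 = true := by decide +kernel

theorem chk_pow10_1_7 : tab.minOKc [6] 5 704000 32000 = true := by decide +kernel

theorem chk_pow10_1_8 : tab.minOKc [6] 5 736000 32000 = true := by decide +kernel

theorem chk_pow10_1_9 : tab.minOKc [6] 5 768000 32000 = true := by decide +kernel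

theorem chk_pow10_1_10 : tab.minOKc [6] 5 800000 32000 = true := by decide +kernel

theorem chk_pow10_1_11 : tab.minOKc [6] 5 832000 32000 = true := by decide +kernel

theorem chk_pow10_1_12 : tab.minOKc [6] 5 864000 32000 = true := by decide +kernel

theorem chk_pow10_1_13 : tab.minOKc [6] 5 896000 32000 = true := by decide +kernel

theorem chk_pow10_1_14 : tab.minOKc [6] 5 928000 32000 = true := by decide +kernel

theorem chk_pow10_1 : tab.minOKc [6] 5 480000 480000 = true := by
  refine tab.minOKc_of_chunks [6] 5 480000 32000 15 (by norm_num) ?_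
  intro i hi
  interval_cases i
  · exact chk_pow10_1_0
  · exact chk_pow10_1_1
  · exact chk_pow10_1_2
  · exact chk_pow10_1_3
  · exact chk_pow10_1_4
  · exact chk_pow10_1_5
  · exact chk_pow10_1_6
  · exact chk_pow10_1_7
  · exact chk_pow10_1_8
  · exact chk_pow10_1_9
  · exact chk_pow10_1_10
  · exact chk_pow10_1_11
  · exact chk_pow10_1_12
  · exact chk_pow10_1_13
  · exact chk_pow10_1_14

theorem chk_pow10_2_0 : tab.minOKc [6] 5 960000 32000 = true := by decide +kernel

theorem chk_pow10_2_1 : tab.minOKc [6] 5 992000 32000 = true := by decide +kernel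

theorem chk_pow10_2_2 : tab.minOKc [6] 5 1024000 32000 = true := by decide +kernel

theorem chk_pow10_2_3 : tab.minOKc [6] 5 1056000 32000 = true := by decide +kernel

theorem chk_pow10_2_4 : tab.minOKc [6] 5 1088000 32000 = true := by decide +kernel

theorem chk_pow10_2_5 : tab.minOKc [6] 5 1120000 32000 = true := by decide +kernel

theorem chk_pow10_2_6 : tab.minOKc [6] 5 1152000 32000 = true := by decide +kernel

theorem chk_pow10_2_7 : tab.minOKc [6] 5 1184000 32000 = true := by decide +kernel

theorem chk_pow10_2_8 : tab.minOKc [6] 5 1216000 32000 = true := by decide +kernel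

theorem chk_pow10_2_9 : tab.minOKc [6] 5 1248000 32000 = true := by decide +kernel

theorem chk_pow10_2_10 : tab.minOKc [6] 5 1280000 32000 = true := by decide +kernel

theorem chk_pow10_2_11 : tab.minOKc [6] 5 1312000 32000 = true := by decide +kernel

theorem chk_pow10_2_12 : tab.minOKc [6] 5 1344000 32000 = true := by decide +kernel

theorem chk_pow10_2_13 : tab.minOKc [6] 5 1376000 32000 = true := by decide +kernel

theorem chk_pow10_2_14 : tab.minOKc [6] 5 1408000 32000 = true := by decide +kernel

theorem chk_pow10_2 : tab.minOKc [6] 5 960000 480000 = true := by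
  refine tab.minOKc_of_chunks [6] 5 960000 32000 15 (by norm_num) ?_
  intro i hi
  interval_cases i
  · exact chk_pow10_2_0
  · exact chk_pow10_2_1
  · exact chk_pow10_2_2
  · exact chk_pow10_2_3
  · exact chk_pow10_2_4
  · exact chk_pow10_2_5
  · exact chk_pow10_2_6
  · exact chk_pow10_2_7
  · exact chk_pow10_2_8
  · exact chk_pow10_2_9
  · exact chk_pow10_2_10
  · exact chk_pow10_2_11
  · exact chk_pow10_2_12
  · exact chk_pow10_2_13
  · exact chk_pow10_2_14


end Cfsg.Agent.Lib.Lead.HNP.HNTC
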