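import Cfsg.Agent.Lib.Lead.HNP.HNTCData
import Cfsg.Agent.Lib.Helper6.TCRel3
import Cfsg.Agent.Lib.Lead.HNP.HNTCRel138

/-! # HNTC: the kernel check of a part of the relators on the coset table -/

set_option autoImplicit false

namespace Cfsg.Agent.Lib.Lead.HNP.HNTC

open Cfsg.Agent.Lib.Helper6.TC

theorem chk_pow10_3_0 : tab.minOKc [6] 5 1440000 32000 = true := by decide +kernel

theorem chk_pow10_3_1 : tab.minOKc [6] 5 1472000 32000 = true := by decide +kernel

theorem chk_pow10_3_2 : tab.minOKc [6] 5 1504000 32000 = true := by decide +kernel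

theorem chk_pow10_3_3 : tab.minOKc [6] 5 1536000 32000 = true := by decide +kernel

theorem chk_pow10_3_4 : tab.minOKc [6] 5 1568000 32000 = true := by decide +kernel

theorem chk_pow10_3_5 : tab.minOKc [6] 5 1600000 32000 = true := by decide +kernel

theorem chk_pow10_3_6 : tab.minOKc [6] 5 1632000 32000 = true := by decide +kernel

theorem chk_pow10_3_7 : tab.minOKc [6] 5 1664000 32000 = true := by decide +kernel

theorem chk_pow10_3_8 : tab.minOKc [6] 5 1696000 32000 = true := by decide +kernel

theorem chk_pow10_3_9 : tab.minOKc [6] 5 1728000 32000 = true := by decide +kernel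

theorem chk_pow10_3_10 : tab.minOKc [6] 5 1760000 32000 = true := by decide +kernel

theorem chk_pow10_3_11 : tab.minOKc [6] 5 1792000 32000 = true := by decide +kernel

theorem chk_pow10_3_12 : tab.minOKc [6] 5 1824000 32000 = true := by decide +kernel

theorem chk_pow10_3_13 : tab.minOKc [6] 5 1856000 32000 = true := by decide +kernel

theorem chk_pow10_3_14 : tab.minOKc [6] 5 1888000 32000 = true := by decide +kernel

theorem chk_pow10_3 : tab.minOKc [6] 5 1440000 480000 = true := by
  refine tab.minOKc_of_chunks [6] 5 1440000 32000 15 (by norm_num) ?_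
  intro i hi
  interval_cases i
  · exact chk_pow10_3_0
  · exact chk_pow10_3_1
  · exact chk_pow10_3_2
  · exact chk_pow10_3_3
  · exact chk_pow10_3_4
  · exact chk_pow10_3_5
  · exact chk_pow10_3_6
  · exact chk_pow10_3_7
  · exact chk_pow10_3_8
  · exact chk_pow10_3_9
  · exact chk_pow10_3_10
  · exact chk_pow10_3_11
  · exact chk_pow10_3_12
  · exact chk_pow10_3_13
  · exact chk_pow10_3_14

theorem chk_pow11_0_0 : tab.minOKc [1, 6, 0, 6, 6] 1 0 6400 = true := by decide +kernel

theorem chk_pow11_0_1 : tab.minOKc [1, 6, 0, 6, 6] 1 6400 6400 = true := by decide +kernel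

theorem chk_pow11_0_2 : tab.minOKc [1, 6, 0, 6, 6] 1 12800 6400 = true := by decide +kernel

theorem chk_pow11_0_3 : tab.minOKc [1, 6, 0, 6, 6] 1 19200 6400 = true := by decide +kernel

theorem chk_pow11_0_4 : tab.minOKc [1, 6, 0, 6, 6] 1 25600 6400 = true := by decide +kernel

theorem chk_pow11_0_5 : tab.minOKc [1, 6, 0, 6, 6] 1 32000 6400 = true := by decide +kernel

theorem chk_pow11_0_6 : tab.minOKc [1, 6, 0, 6, 6] 1 38400 6400 = true := by decide +kernel

theorem chk_pow11_0_7 : tab.minOKc [1, 6, 0, 6, 6] 1 44800 6400 = true := by decide +kernel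

theorem chk_pow11_0_8 : tab.minOKc [1, 6, 0, 6, 6] 1 51200 6400 = true := by decide +kernel

theorem chk_pow11_0_9 : tab.minOKc [1, 6, 0, 6, 6] 1 57600 6400 = true := by decide +kernel

theorem chk_pow11_0_10 : tab.minOKc [1, 6, 0, 6, 6] 1 64000 6400 = true := by decide +kernel

theorem chk_pow11_0_11 : tab.minOKc [1, 6, 0, 6, 6] 1 70400 6400 = true := by decide +kernel

theorem chk_pow11_0_12 : tab.minOKc [1, 6, 0, 6, 6] 1 76800 6400 = true := by decide +kernel

theorem chk_pow11_0_13 : tab.minOKc [1, 6, 0, 6, 6] 1 83200 6400 = true := by decide +kernel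

theorem chk_pow11_0_14 : tab.minOKc [1, 6, 0, 6, 6] 1 89600 6400 = true := by decide +kernel

theorem chk_pow11_0 : tab.minOKc [1, 6, 0, 6, 6] 1 0 96000 = true := by
  refine tab.minOKc_of_chunks [1, 6, 0, 6, 6] 1 0 6400 15 (by norm_num) ?_
  intro i hi
  interval_cases i
  · exact chk_pow11_0_0
  · exact chk_pow11_0_1
  · exact chk_pow11_0_2
  · exact chk_pow11_0_3
  · exact chk_pow11_0_4
  · exact chk_pow11_0_5
  · exact chk_pow11_0_6
  · exact chk_pow11_0_7
  · exact chk_pow11_0_8
  · exact chk_pow11_0_9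
  · exact chk_pow11_0_10
  · exact chk_pow11_0_11
  · exact chk_pow11_0_12
  · exact chk_pow11_0_13
  · exact chk_pow11_0_14


end Cfsg.Agent.Lib.Lead.HNP.HNTC
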