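import Cfsg.Agent.Lib.Lead.HNP.HNTCData
import Cfsg.Agent.Lib.Helper6.TCRel3
import Cfsg.Agent.Lib.Lead.HNP.HNTCRel139

/-! # HNTC: the kernel check of a part of the relators on the coset table -/

set_option autoImplicit false

namespace Cfsg.Agent.Lib.Lead.HNP.HNTC

open Cfsg.Agent.Lib.Helper6.TC

theorem chk_pow11_1_0 : tab.minOKc [1, 6, 0, 6, 6] 1 96000 6400 = true := by decide +kernel

theorem chk_pow11_1_1 : tab.minOKc [1, 6, 0, 6, 6] 1 102400 6400 = true := by decide +kernel

theorem chk_pow11_1_2 : tab.minOKc [1, 6, 0, 6, 6] 1 108800 6400 = true := by decide +kernel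

theorem chk_pow11_1_3 : tab.minOKc [1, 6, 0, 6, 6] 1 115200 6400 = true := by decide +kernel

theorem chk_pow11_1_4 : tab.minOKc [1, 6, 0, 6, 6] 1 121600 6400 = true := by decide +kernel

theorem chk_pow11_1_5 : tab.minOKc [1, 6, 0, 6, 6] 1 128000 6400 = true := by decide +kernel

theorem chk_pow11_1_6 : tab.minOKc [1, 6, 0, 6, 6] 1 134400 6400 = true := by decide +kernel

theorem chk_pow11_1_7 : tab.minOKc [1, 6, 0, 6, 6] 1 140800 6400 = true := by decide +kernel

theorem chk_pow11_1_8 : tab.minOKc [1, 6, 0, 6, 6] 1 147200 6400 = true := by decide +kernel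

theorem chk_pow11_1_9 : tab.minOKc [1, 6, 0, 6, 6] 1 153600 6400 = true := by decide +kernel

theorem chk_pow11_1_10 : tab.minOKc [1, 6, 0, 6, 6] 1 160000 6400 = true := by decide +kernel

theorem chk_pow11_1_11 : tab.minOKc [1, 6, 0, 6, 6] 1 166400 6400 = true := by decide +kernel

theorem chk_pow11_1_12 : tab.minOKc [1, 6, 0, 6, 6] 1 172800 6400 = true := by decide +kernel

theorem chk_pow11_1_13 : tab.minOKc [1, 6, 0, 6, 6] 1 179200 6400 = true := by decide +kernel

theorem chk_pow11_1_14 : tab.minOKc [1, 6, 0, 6, 6] 1 185600 6400 = true := by decide +kernel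

theorem chk_pow11_1 : tab.minOKc [1, 6, 0, 6, 6] 1 96000 96000 = true := by
  refine tab.minOKc_of_chunks [1, 6, 0, 6, 6] 1 96000 6400 15 (by norm_num) ?_
  intro i hi
  interval_cases i
  · exact chk_pow11_1_0
  · exact chk_pow11_1_1
  · exact chk_pow11_1_2
  · exact chk_pow11_1_3
  · exact chk_pow11_1_4
  · exact chk_pow11_1_5
  · exact chk_pow11_1_6
  · exact chk_pow11_1_7
  · exact chk_pow11_1_8
  · exact chk_pow11_1_9
  · exact chk_pow11_1_10
  · exact chk_pow11_1_11
  · exact chk_pow11_1_12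
  · exact chk_pow11_1_13
  · exact chk_pow11_1_14

theorem chk_pow11_2_0 : tab.minOKc [1, 6, 0, 6, 6] 1 192000 6400 = true := by decide +kernel

theorem chk_pow11_2_1 : tab.minOKc [1, 6, 0, 6, 6] 1 198400 6400 = true := by decide +kernel

theorem chk_pow11_2_2 : tab.minOKc [1, 6, 0, 6, 6] 1 204800 6400 = true := by decide +kernel

theorem chk_pow11_2_3 : tab.minOKc [1, 6, 0, 6, 6] 1 211200 6400 = true := by decide +kernel

theorem chk_pow11_2_4 : tab.minOKc [1, 6, 0, 6, 6] 1 217600 6400 = true := by decide +kernel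

theorem chk_pow11_2_5 : tab.minOKc [1, 6, 0, 6, 6] 1 224000 6400 = true := by decide +kernel

theorem chk_pow11_2_6 : tab.minOKc [1, 6, 0, 6, 6] 1 230400 6400 = true := by decide +kernel

theorem chk_pow11_2_7 : tab.minOKc [1, 6, 0, 6, 6] 1 236800 6400 = true := by decide +kernel

theorem chk_pow11_2_8 : tab.minOKc [1, 6, 0, 6, 6] 1 243200 6400 = true := by decide +kernel

theorem chk_pow11_2_9 : tab.minOKc [1, 6, 0, 6, 6] 1 249600 6400 = true := by decide +kernel

theorem chk_pow11_2_10 : tab.minOKc [1, 6, 0, 6, 6] 1 256000 6400 = true := by decide +kernel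

theorem chk_pow11_2_11 : tab.minOKc [1, 6, 0, 6, 6] 1 262400 6400 = true := by decide +kernel

theorem chk_pow11_2_12 : tab.minOKc [1, 6, 0, 6, 6] 1 268800 6400 = true := by decide +kernel

theorem chk_pow11_2_13 : tab.minOKc [1, 6, 0, 6, 6] 1 275200 6400 = true := by decide +kernel

theorem chk_pow11_2_14 : tab.minOKc [1, 6, 0, 6, 6] 1 281600 6400 = true := by decide +kernel

theorem chk_pow11_2 : tab.minOKc [1, 6, 0, 6, 6] 1 192000 96000 = true := by
  refine tab.minOKc_of_chunks [1, 6, 0, 6, 6] 1 192000 6400 15 (by norm_num) ?_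
  intro i hi
  interval_cases i
  · exact chk_pow11_2_0
  · exact chk_pow11_2_1
  · exact chk_pow11_2_2
  · exact chk_pow11_2_3
  · exact chk_pow11_2_4
  · exact chk_pow11_2_5
  · exact chk_pow11_2_6
  · exact chk_pow11_2_7
  · exact chk_pow11_2_8
  · exact chk_pow11_2_9
  · exact chk_pow11_2_10
  · exact chk_pow11_2_11
  · exact chk_pow11_2_12
  · exact chk_pow11_2_13
  · exact chk_pow11_2_14


end Cfsg.Agent.Lib.Lead.HNP.HNTC
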