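import Cfsg.Agent.Lib.Lead.HNP.HNTCData
import Cfsg.Agent.Lib.Helper6.TCRel3
import Cfsg.Agent.Lib.Lead.HNP.HNTCRel140

/-! # HNTC: the kernel check of a part of the relators on the coset table -/

set_option autoImplicit false

namespace Cfsg.Agent.Lib.Lead.HNP.HNTC

open Cfsg.Agent.Lib.Helper6.TC

theorem chk_pow11_3_0 : tab.minOKc [1, 6, 0, 6, 6] 1 288000 6400 = true := by decide +kernel

theorem chk_pow11_3_1 : tab.minOKc [1, 6, 0, 6, 6] 1 294400 6400 = true := by decide +kernel

theorem chk_pow11_3_2 : tab.minOKc [1, 6, 0, 6, 6] 1 300800 6400 = true := by decide +kernel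

theorem chk_pow11_3_3 : tab.minOKc [1, 6, 0, 6, 6] 1 307200 6400 = true := by decide +kernel

theorem chk_pow11_3_4 : tab.minOKc [1, 6, 0, 6, 6] 1 313600 6400 = true := by decide +kernel

theorem chk_pow11_3_5 : tab.minOKc [1, 6, 0, 6, 6] 1 320000 6400 = true := by decide +kernel

theorem chk_pow11_3_6 : tab.minOKc [1, 6, 0, 6, 6] 1 326400 6400 = true := by decide +kernel

theorem chk_pow11_3_7 : tab.minOKc [1, 6, 0, 6, 6] 1 332800 6400 = true := by decide +kernel

theorem chk_pow11_3_8 : tab.minOKc [1, 6, 0, 6, 6] 1 339200 6400 = true := by decide +kernel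

theorem chk_pow11_3_9 : tab.minOKc [1, 6, 0, 6, 6] 1 345600 6400 = true := by decide +kernel

theorem chk_pow11_3_10 : tab.minOKc [1, 6, 0, 6, 6] 1 352000 6400 = true := by decide +kernel

theorem chk_pow11_3_11 : tab.minOKc [1, 6, 0, 6, 6] 1 358400 6400 = true := by decide +kernel

theorem chk_pow11_3_12 : tab.minOKc [1, 6, 0, 6, 6] 1 364800 6400 = true := by decide +kernel

theorem chk_pow11_3_13 : tab.minOKc [1, 6, 0, 6, 6] 1 371200 6400 = true := by decide +kernel

theorem chk_pow11_3_14 : tab.minOKc [1, 6, 0, 6, 6] 1 377600 6400 = true := by decide +kernel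

theorem chk_pow11_3 : tab.minOKc [1, 6, 0, 6, 6] 1 288000 96000 = true := by
  refine tab.minOKc_of_chunks [1, 6, 0, 6, 6] 1 288000 6400 15 (by norm_num) ?_
  intro i hi
  interval_cases i
  · exact chk_pow11_3_0
  · exact chk_pow11_3_1
  · exact chk_pow11_3_2
  · exact chk_pow11_3_3
  · exact chk_pow11_3_4
  · exact chk_pow11_3_5
  · exact chk_pow11_3_6
  · exact chk_pow11_3_7
  · exact chk_pow11_3_8
  · exact chk_pow11_3_9
  · exact chk_pow11_3_10
  · exact chk_pow11_3_11
  · exact chk_pow11_3_12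
  · exact chk_pow11_3_13
  · exact chk_pow11_3_14

theorem chk_pow11_4_0 : tab.minOKc [1, 6, 0, 6, 6] 1 384000 6400 = true := by decide +kernel

theorem chk_pow11_4_1 : tab.minOKc [1, 6, 0, 6, 6] 1 390400 6400 = true := by decide +kernel

theorem chk_pow11_4_2 : tab.minOKc [1, 6, 0, 6, 6] 1 396800 6400 = true := by decide +kernel

theorem chk_pow11_4_3 : tab.minOKc [1, 6, 0, 6, 6] 1 403200 6400 = true := by decide +kernel

theorem chk_pow11_4_4 : tab.minOKc [1, 6, 0, 6, 6] 1 409600 6400 = true := by decide +kernel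

theorem chk_pow11_4_5 : tab.minOKc [1, 6, 0, 6, 6] 1 416000 6400 = true := by decide +kernel

theorem chk_pow11_4_6 : tab.minOKc [1, 6, 0, 6, 6] 1 422400 6400 = true := by decide +kernel

theorem chk_pow11_4_7 : tab.minOKc [1, 6, 0, 6, 6] 1 428800 6400 = true := by decide +kernel

theorem chk_pow11_4_8 : tab.minOKc [1, 6, 0, 6, 6] 1 435200 6400 = true := by decide +kernel

theorem chk_pow11_4_9 : tab.minOKc [1, 6, 0, 6, 6] 1 441600 6400 = true := by decide +kernel

theorem chk_pow11_4_10 : tab.minOKc [1, 6, 0, 6, 6] 1 448000 6400 = true := by decide +kernel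

theorem chk_pow11_4_11 : tab.minOKc [1, 6, 0, 6, 6] 1 454400 6400 = true := by decide +kernel

theorem chk_pow11_4_12 : tab.minOKc [1, 6, 0, 6, 6] 1 460800 6400 = true := by decide +kernel

theorem chk_pow11_4_13 : tab.minOKc [1, 6, 0, 6, 6] 1 467200 6400 = true := by decide +kernel

theorem chk_pow11_4_14 : tab.minOKc [1, 6, 0, 6, 6] 1 473600 6400 = true := by decide +kernel

theorem chk_pow11_4 : tab.minOKc [1, 6, 0, 6, 6] 1 384000 96000 = true := by
  refine tab.minOKc_of_chunks [1, 6, 0, 6, 6] 1 384000 6400 15 (by norm_num) ?_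
  intro i hi
  interval_cases i
  · exact chk_pow11_4_0
  · exact chk_pow11_4_1
  · exact chk_pow11_4_2
  · exact chk_pow11_4_3
  · exact chk_pow11_4_4
  · exact chk_pow11_4_5
  · exact chk_pow11_4_6
  · exact chk_pow11_4_7
  · exact chk_pow11_4_8
  · exact chk_pow11_4_9
  · exact chk_pow11_4_10
  · exact chk_pow11_4_11
  · exact chk_pow11_4_12
  · exact chk_pow11_4_13
  · exact chk_pow11_4_14


end Cfsg.Agent.Lib.Lead.HNP.HNTC
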