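import Cfsg.Agent.Lib.Lead.HNP.HNTCData
import Cfsg.Agent.Lib.Helper6.TCRel3
import Cfsg.Agent.Lib.Lead.HNP.HNTCRel141

/-! # HNTC: the kernel check of a part of the relators on the coset table -/

set_option autoImplicit false

namespace Cfsg.Agent.Lib.Lead.HNP.HNTC

open Cfsg.Agent.Lib.Helper6.TC

theorem chk_pow11_5_0 : tab.minOKc [1, 6, 0, 6, 6] 1 480000 6400 = true := by decide +kernel

theorem chk_pow11_5_1 : tab.minOKc [1, 6, 0, 6, 6] 1 486400 6400 = true := by decide +kernel

theorem chk_pow11_5_2 : tab.minOKc [1, 6, 0, 6, 6] 1 492800 6400 = true := by decide +kernel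

theorem chk_pow11_5_3 : tab.minOKc [1, 6, 0, 6, 6] 1 499200 6400 = true := by decide +kernel

theorem chk_pow11_5_4 : tab.minOKc [1, 6, 0, 6, 6] 1 505600 6400 = true := by decide +kernel

theorem chk_pow11_5_5 : tab.minOKc [1, 6, 0, 6, 6] 1 512000 6400 = true := by decide +kernel

theorem chk_pow11_5_6 : tab.minOKc [1, 6, 0, 6, 6] 1 518400 6400 = true := by decide +kernel

theorem chk_pow11_5_7 : tab.minOKc [1, 6, 0, 6, 6] 1 524800 6400 = true := by decide +kernel

theorem chk_pow11_5_8 : tab.minOKc [1, 6, 0, 6, 6] 1 531200 6400 = true := by decide +kernel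

theorem chk_pow11_5_9 : tab.minOKc [1, 6, 0, 6, 6] 1 537600 6400 = true := by decide +kernel

theorem chk_pow11_5_10 : tab.minOKc [1, 6, 0, 6, 6] 1 544000 6400 = true := by decide +kernel

theorem chk_pow11_5_11 : tab.minOKc [1, 6, 0, 6, 6] 1 550400 6400 = true := by decide +kernel

theorem chk_pow11_5_12 : tab.minOKc [1, 6, 0, 6, 6] 1 556800 6400 = true := by decide +kernel

theorem chk_pow11_5_13 : tab.minOKc [1, 6, 0, 6, 6] 1 563200 6400 = true := by decide +kernel

theorem chk_pow11_5_14 : tab.minOKc [1, 6, 0, 6, 6] 1 569600 6400 = true := by decide +kernel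

theorem chk_pow11_5 : tab.minOKc [1, 6, 0, 6, 6] 1 480000 96000 = true := by
  refine tab.minOKc_of_chunks [1, 6, 0, 6, 6] 1 480000 6400 15 (by norm_num) ?_
  intro i hi
  interval_cases i
  · exact chk_pow11_5_0
  · exact chk_pow11_5_1
  · exact chk_pow11_5_2
  · exact chk_pow11_5_3
  · exact chk_pow11_5_4
  · exact chk_pow11_5_5
  · exact chk_pow11_5_6
  · exact chk_pow11_5_7
  · exact chk_pow11_5_8
  · exact chk_pow11_5_9
  · exact chk_pow11_5_10
  · exact chk_pow11_5_11
  · exact chk_pow11_5_12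
  · exact chk_pow11_5_13
  · exact chk_pow11_5_14

theorem chk_pow11_6_0 : tab.minOKc [1, 6, 0, 6, 6] 1 576000 6400 = true := by decide +kernel

theorem chk_pow11_6_1 : tab.minOKc [1, 6, 0, 6, 6] 1 582400 6400 = true := by decide +kernel

theorem chk_pow11_6_2 : tab.minOKc [1, 6, 0, 6, 6] 1 588800 6400 = true := by decide +kernel

theorem chk_pow11_6_3 : tab.minOKc [1, 6, 0, 6, 6] 1 595200 6400 = true := by decide +kernel

theorem chk_pow11_6_4 : tab.minOKc [1, 6, 0, 6, 6] 1 601600 6400 = true := by decide +kernel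

theorem chk_pow11_6_5 : tab.minOKc [1, 6, 0, 6, 6] 1 608000 6400 = true := by decide +kernel

theorem chk_pow11_6_6 : tab.minOKc [1, 6, 0, 6, 6] 1 614400 6400 = true := by decide +kernel

theorem chk_pow11_6_7 : tab.minOKc [1, 6, 0, 6, 6] 1 620800 6400 = true := by decide +kernel

theorem chk_pow11_6_8 : tab.minOKc [1, 6, 0, 6, 6] 1 627200 6400 = true := by decide +kernel

theorem chk_pow11_6_9 : tab.minOKc [1, 6, 0, 6, 6] 1 633600 6400 = true := by decide +kernel

theorem chk_pow11_6_10 : tab.minOKc [1, 6, 0, 6, 6] 1 640000 6400 = true := by decide +kernel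

theorem chk_pow11_6_11 : tab.minOKc [1, 6, 0, 6, 6] 1 646400 6400 = true := by decide +kernel

theorem chk_pow11_6_12 : tab.minOKc [1, 6, 0, 6, 6] 1 652800 6400 = true := by decide +kernel

theorem chk_pow11_6_13 : tab.minOKc [1, 6, 0, 6, 6] 1 659200 6400 = true := by decide +kernel

theorem chk_pow11_6_14 : tab.minOKc [1, 6, 0, 6, 6] 1 665600 6400 = true := by decide +kernel

theorem chk_pow11_6 : tab.minOKc [1, 6, 0, 6, 6] 1 576000 96000 = true := by
  refine tab.minOKc_of_chunks [1, 6, 0, 6, 6] 1 576000 6400 15 (by norm_num) ?_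
  intro i hi
  interval_cases i
  · exact chk_pow11_6_0
  · exact chk_pow11_6_1
  · exact chk_pow11_6_2
  · exact chk_pow11_6_3
  · exact chk_pow11_6_4
  · exact chk_pow11_6_5
  · exact chk_pow11_6_6
  · exact chk_pow11_6_7
  · exact chk_pow11_6_8
  · exact chk_pow11_6_9
  · exact chk_pow11_6_10
  · exact chk_pow11_6_11
  · exact chk_pow11_6_12
  · exact chk_pow11_6_13
  · exact chk_pow11_6_14


end Cfsg.Agent.Lib.Lead.HNP.HNTC
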