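import Cfsg.Agent.Lib.Lead.HNP.HNTCData
import Cfsg.Agent.Lib.Helper6.TCRel3
import Cfsg.Agent.Lib.Lead.HNP.HNTCRel142

/-! # HNTC: the kernel check of a part of the relators on the coset table -/

set_option autoImplicit false

namespace Cfsg.Agent.Lib.Lead.HNP.HNTC

open Cfsg.Agent.Lib.Helper6.TC

theorem chk_pow11_7_0 : tab.minOKc [1, 6, 0, 6, 6] 1 672000 6400 = true := by decide +kernel

theorem chk_pow11_7_1 : tab.minOKc [1, 6, 0, 6, 6] 1 678400 6400 = true := by decide +kernel

theorem chk_pow11_7_2 : tab.minOKc [1, 6, 0, 6, 6] 1 684800 6400 = true := by decide +kernel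

theorem chk_pow11_7_3 : tab.minOKc [1, 6, 0, 6, 6] 1 691200 6400 = true := by decide +kernel

theorem chk_pow11_7_4 : tab.minOKc [1, 6, 0, 6, 6] 1 697600 6400 = true := by decide +kernel

theorem chk_pow11_7_5 : tab.minOKc [1, 6, 0, 6, 6] 1 704000 6400 = true := by decide +kernel

theorem chk_pow11_7_6 : tab.minOKc [1, 6, 0, 6, 6] 1 710400 6400 = true := by decide +kernel

theorem chk_pow11_7_7 : tab.minOKc [1, 6, 0, 6, 6] 1 716800 6400 = true := by decide +kernel

theorem chk_pow11_7_8 : tab.minOKc [1, 6, 0, 6, 6] 1 723200 6400 = true := by decide +kernel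

theorem chk_pow11_7_9 : tab.minOKc [1, 6, 0, 6, 6] 1 729600 6400 = true := by decide +kernel

theorem chk_pow11_7_10 : tab.minOKc [1, 6, 0, 6, 6] 1 736000 6400 = true := by decide +kernel

theorem chk_pow11_7_11 : tab.minOKc [1, 6, 0, 6, 6] 1 742400 6400 = true := by decide +kernel

theorem chk_pow11_7_12 : tab.minOKc [1, 6, 0, 6, 6] 1 748800 6400 = true := by decide +kernel

theorem chk_pow11_7_13 : tab.minOKc [1, 6, 0, 6, 6] 1 755200 6400 = true := by decide +kernel

theorem chk_pow11_7_14 : tab.minOKc [1, 6, 0, 6, 6] 1 761600 6400 = true := by decide +kernel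

theorem chk_pow11_7 : tab.minOKc [1, 6, 0, 6, 6] 1 672000 96000 = true := by
  refine tab.minOKc_of_chunks [1, 6, 0, 6, 6] 1 672000 6400 15 (by norm_num) ?_
  intro i hi
  interval_cases i
  · exact chk_pow11_7_0
  · exact chk_pow11_7_1
  · exact chk_pow11_7_2
  · exact chk_pow11_7_3
  · exact chk_pow11_7_4
  · exact chk_pow11_7_5
  · exact chk_pow11_7_6
  · exact chk_pow11_7_7
  · exact chk_pow11_7_8
  · exact chk_pow11_7_9
  · exact chk_pow11_7_10
  · exact chk_pow11_7_11
  · exact chk_pow11_7_12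
  · exact chk_pow11_7_13
  · exact chk_pow11_7_14

theorem chk_pow11_8_0 : tab.minOKc [1, 6, 0, 6, 6] 1 768000 6400 = true := by decide +kernel

theorem chk_pow11_8_1 : tab.minOKc [1, 6, 0, 6, 6] 1 774400 6400 = true := by decide +kernel

theorem chk_pow11_8_2 : tab.minOKc [1, 6, 0, 6, 6] 1 780800 6400 = true := by decide +kernel

theorem chk_pow11_8_3 : tab.minOKc [1, 6, 0, 6, 6] 1 787200 6400 = true := by decide +kernel

theorem chk_pow11_8_4 : tab.minOKc [1, 6, 0, 6, 6] 1 793600 6400 = true := by decide +kernel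

theorem chk_pow11_8_5 : tab.minOKc [1, 6, 0, 6, 6] 1 800000 6400 = true := by decide +kernel

theorem chk_pow11_8_6 : tab.minOKc [1, 6, 0, 6, 6] 1 806400 6400 = true := by decide +kernel

theorem chk_pow11_8_7 : tab.minOKc [1, 6, 0, 6, 6] 1 812800 6400 = true := by decide +kernel

theorem chk_pow11_8_8 : tab.minOKc [1, 6, 0, 6, 6] 1 819200 6400 = true := by decide +kernel

theorem chk_pow11_8_9 : tab.minOKc [1, 6, 0, 6, 6] 1 825600 6400 = true := by decide +kernel

theorem chk_pow11_8_10 : tab.minOKc [1, 6, 0, 6, 6] 1 832000 6400 = true := by decide +kernel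

theorem chk_pow11_8_11 : tab.minOKc [1, 6, 0, 6, 6] 1 838400 6400 = true := by decide +kernel

theorem chk_pow11_8_12 : tab.minOKc [1, 6, 0, 6, 6] 1 844800 6400 = true := by decide +kernel

theorem chk_pow11_8_13 : tab.minOKc [1, 6, 0, 6, 6] 1 851200 6400 = true := by decide +kernel

theorem chk_pow11_8_14 : tab.minOKc [1, 6, 0, 6, 6] 1 857600 6400 = true := by decide +kernel

theorem chk_pow11_8 : tab.minOKc [1, 6, 0, 6, 6] 1 768000 96000 = true := by
  refine tab.minOKc_of_chunks [1, 6, 0, 6, 6] 1 768000 6400 15 (by norm_num) ?_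
  intro i hi
  interval_cases i
  · exact chk_pow11_8_0
  · exact chk_pow11_8_1
  · exact chk_pow11_8_2
  · exact chk_pow11_8_3
  · exact chk_pow11_8_4
  · exact chk_pow11_8_5
  · exact chk_pow11_8_6
  · exact chk_pow11_8_7
  · exact chk_pow11_8_8
  · exact chk_pow11_8_9
  · exact chk_pow11_8_10
  · exact chk_pow11_8_11
  · exact chk_pow11_8_12
  · exact chk_pow11_8_13
  · exact chk_pow11_8_14


end Cfsg.Agent.Lib.Lead.HNP.HNTC
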