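import Cfsg.Agent.Lib.Lead.HNP.HNTCData
import Cfsg.Agent.Lib.Helper6.TCRel3
import Cfsg.Agent.Lib.Lead.HNP.HNTCRel143

/-! # HNTC: the kernel check of a part of the relators on the coset table -/

set_option autoImplicit false

namespace Cfsg.Agent.Lib.Lead.HNP.HNTC

open Cfsg.Agent.Lib.Helper6.TC

theorem chk_pow11_9_0 : tab.minOKc [1, 6, 0, 6, 6] 1 864000 6400 = true := by decide +kernel

theorem chk_pow11_9_1 : tab.minOKc [1, 6, 0, 6, 6] 1 870400 6400 = true := by decide +kernel

theorem chk_pow11_9_2 : tab.minOKc [1, 6, 0, 6, 6] 1 876800 6400 = true := by decide +kernel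

theorem chk_pow11_9_3 : tab.minOKc [1, 6, 0, 6, 6] 1 883200 6400 = true := by decide +kernel

theorem chk_pow11_9_4 : tab.minOKc [1, 6, 0, 6, 6] 1 889600 6400 = true := by decide +kernel

theorem chk_pow11_9_5 : tab.minOKc [1, 6, 0, 6, 6] 1 896000 6400 = true := by decide +kernel

theorem chk_pow11_9_6 : tab.minOKc [1, 6, 0, 6, 6] 1 902400 6400 = true := by decide +kernel

theorem chk_pow11_9_7 : tab.minOKc [1, 6, 0, 6, 6] 1 908800 6400 = true := by decide +kernel

theorem chk_pow11_9_8 : tab.minOKc [1, 6, 0, 6, 6] 1 915200 6400 = true := by decide +kernel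

theorem chk_pow11_9_9 : tab.minOKc [1, 6, 0, 6, 6] 1 921600 6400 = true := by decide +kernel

theorem chk_pow11_9_10 : tab.minOKc [1, 6, 0, 6, 6] 1 928000 6400 = true := by decide +kernel

theorem chk_pow11_9_11 : tab.minOKc [1, 6, 0, 6, 6] 1 934400 6400 = true := by decide +kernel

theorem chk_pow11_9_12 : tab.minOKc [1, 6, 0, 6, 6] 1 940800 6400 = true := by decide +kernel

theorem chk_pow11_9_13 : tab.minOKc [1, 6, 0, 6, 6] 1 947200 6400 = true := by decide +kernel

theorem chk_pow11_9_14 : tab.minOKc [1, 6, 0, 6, 6] 1 953600 6400 = true := by decide +kernel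

theorem chk_pow11_9 : tab.minOKc [1, 6, 0, 6, 6] 1 864000 96000 = true := by
  refine tab.minOKc_of_chunks [1, 6, 0, 6, 6] 1 864000 6400 15 (by norm_num) ?_
  intro i hi
  interval_cases i
  · exact chk_pow11_9_0
  · exact chk_pow11_9_1
  · exact chk_pow11_9_2
  · exact chk_pow11_9_3
  · exact chk_pow11_9_4
  · exact chk_pow11_9_5
  · exact chk_pow11_9_6
  · exact chk_pow11_9_7
  · exact chk_pow11_9_8
  · exact chk_pow11_9_9
  · exact chk_pow11_9_10
  · exact chk_pow11_9_11
  · exact chk_pow11_9_12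
  · exact chk_pow11_9_13
  · exact chk_pow11_9_14

theorem chk_pow11_10_0 : tab.minOKc [1, 6, 0, 6, 6] 1 960000 6400 = true := by decide +kernel

theorem chk_pow11_10_1 : tab.minOKc [1, 6, 0, 6, 6] 1 966400 6400 = true := by decide +kernel

theorem chk_pow11_10_2 : tab.minOKc [1, 6, 0, 6, 6] 1 972800 6400 = true := by decide +kernel

theorem chk_pow11_10_3 : tab.minOKc [1, 6, 0, 6, 6] 1 979200 6400 = true := by decide +kernel

theorem chk_pow11_10_4 : tab.minOKc [1, 6, 0, 6, 6] 1 985600 6400 = true := by decide +kernel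

theorem chk_pow11_10_5 : tab.minOKc [1, 6, 0, 6, 6] 1 992000 6400 = true := by decide +kernel

theorem chk_pow11_10_6 : tab.minOKc [1, 6, 0, 6, 6] 1 998400 6400 = true := by decide +kernel

theorem chk_pow11_10_7 : tab.minOKc [1, 6, 0, 6, 6] 1 1004800 6400 = true := by decide +kernel

theorem chk_pow11_10_8 : tab.minOKc [1, 6, 0, 6, 6] 1 1011200 6400 = true := by decide +kernel

theorem chk_pow11_10_9 : tab.minOKc [1, 6, 0, 6, 6] 1 1017600 6400 = true := by decide +kernel

theorem chk_pow11_10_10 : tab.minOKc [1, 6, 0, 6, 6] 1 1024000 6400 = true := by decide +kernel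

theorem chk_pow11_10_11 : tab.minOKc [1, 6, 0, 6, 6] 1 1030400 6400 = true := by decide +kernel

theorem chk_pow11_10_12 : tab.minOKc [1, 6, 0, 6, 6] 1 1036800 6400 = true := by decide +kernel

theorem chk_pow11_10_13 : tab.minOKc [1, 6, 0, 6, 6] 1 1043200 6400 = true := by decide +kernel

theorem chk_pow11_10_14 : tab.minOKc [1, 6, 0, 6, 6] 1 1049600 6400 = true := by decide +kernel

theorem chk_pow11_10 : tab.minOKc [1, 6, 0, 6, 6] 1 960000 96000 = true := by
  refine tab.minOKc_of_chunks [1, 6, 0, 6, 6] 1 960000 6400 15 (by norm_num) ?_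
  intro i hi
  interval_cases i
  · exact chk_pow11_10_0
  · exact chk_pow11_10_1
  · exact chk_pow11_10_2
  · exact chk_pow11_10_3
  · exact chk_pow11_10_4
  · exact chk_pow11_10_5
  · exact chk_pow11_10_6
  · exact chk_pow11_10_7
  · exact chk_pow11_10_8
  · exact chk_pow11_10_9
  · exact chk_pow11_10_10
  · exact chk_pow11_10_11
  · exact chk_pow11_10_12
  · exact chk_pow11_10_13
  · exact chk_pow11_10_14


end Cfsg.Agent.Lib.Lead.HNP.HNTC
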