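import Cfsg.Agent.Lib.Lead.HNP.HNTCData
import Cfsg.Agent.Lib.Helper6.TCRel3
import Cfsg.Agent.Lib.Lead.HNP.HNTCRel144

/-! # HNTC: the kernel check of a part of the relators on the coset table -/

set_option autoImplicit false

namespace Cfsg.Agent.Lib.Lead.HNP.HNTC

open Cfsg.Agent.Lib.Helper6.TC

theorem chk_pow11_11_0 : tab.minOKc [1, 6, 0, 6, 6] 1 1056000 6400 = true := by decide +kernel

theorem chk_pow11_11_1 : tab.minOKc [1, 6, 0, 6, 6] 1 1062400 6400 = true := by decide +kernel

theorem chk_pow11_11_2 : tab.minOKc [1, 6, 0, 6, 6] 1 1068800 6400 = true := by decide +kernel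

theorem chk_pow11_11_3 : tab.minOKc [1, 6, 0, 6, 6] 1 1075200 6400 = true := by decide +kernel

theorem chk_pow11_11_4 : tab.minOKc [1, 6, 0, 6, 6] 1 1081600 6400 = true := by decide +kernel

theorem chk_pow11_11_5 : tab.minOKc [1, 6, 0, 6, 6] 1 1088000 6400 = true := by decide +kernel

theorem chk_pow11_11_6 : tab.minOKc [1, 6, 0, 6, 6] 1 1094400 6400 = true := by decide +kernel

theorem chk_pow11_11_7 : tab.minOKc [1, 6, 0, 6, 6] 1 1100800 6400 = true := by decide +kernel

theorem chk_pow11_11_8 : tab.minOKc [1, 6, 0, 6, 6] 1 1107200 6400 = true := by decide +kernel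

theorem chk_pow11_11_9 : tab.minOKc [1, 6, 0, 6, 6] 1 1113600 6400 = true := by decide +kernel

theorem chk_pow11_11_10 : tab.minOKc [1, 6, 0, 6, 6] 1 1120000 6400 = true := by decide +kernel

theorem chk_pow11_11_11 : tab.minOKc [1, 6, 0, 6, 6] 1 1126400 6400 = true := by decide +kernel

theorem chk_pow11_11_12 : tab.minOKc [1, 6, 0, 6, 6] 1 1132800 6400 = true := by decide +kernel

theorem chk_pow11_11_13 : tab.minOKc [1, 6, 0, 6, 6] 1 1139200 6400 = true := by decide +kernel

theorem chk_pow11_11_14 : tab.minOKc [1, 6, 0, 6, 6] 1 1145600 6400 = true := by decide +kernel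

theorem chk_pow11_11 : tab.minOKc [1, 6, 0, 6, 6] 1 1056000 96000 = true := by
  refine tab.minOKc_of_chunks [1, 6, 0, 6, 6] 1 1056000 6400 15 (by norm_num) ?_
  intro i hi
  interval_cases i
  · exact chk_pow11_11_0
  · exact chk_pow11_11_1
  · exact chk_pow11_11_2
  · exact chk_pow11_11_3
  · exact chk_pow11_11_4
  · exact chk_pow11_11_5
  · exact chk_pow11_11_6
  · exact chk_pow11_11_7
  · exact chk_pow11_11_8
  · exact chk_pow11_11_9
  · exact chk_pow11_11_10
  · exact chk_pow11_11_11
  · exact chk_pow11_11_12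
  · exact chk_pow11_11_13
  · exact chk_pow11_11_14

theorem chk_pow11_12_0 : tab.minOKc [1, 6, 0, 6, 6] 1 1152000 6400 = true := by decide +kernel

theorem chk_pow11_12_1 : tab.minOKc [1, 6, 0, 6, 6] 1 1158400 6400 = true := by decide +kernel

theorem chk_pow11_12_2 : tab.minOKc [1, 6, 0, 6, 6] 1 1164800 6400 = true := by decide +kernel

theorem chk_pow11_12_3 : tab.minOKc [1, 6, 0, 6, 6] 1 1171200 6400 = true := by decide +kernel

theorem chk_pow11_12_4 : tab.minOKc [1, 6, 0, 6, 6] 1 1177600 6400 = true := by decide +kernel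

theorem chk_pow11_12_5 : tab.minOKc [1, 6, 0, 6, 6] 1 1184000 6400 = true := by decide +kernel

theorem chk_pow11_12_6 : tab.minOKc [1, 6, 0, 6, 6] 1 1190400 6400 = true := by decide +kernel

theorem chk_pow11_12_7 : tab.minOKc [1, 6, 0, 6, 6] 1 1196800 6400 = true := by decide +kernel

theorem chk_pow11_12_8 : tab.minOKc [1, 6, 0, 6, 6] 1 1203200 6400 = true := by decide +kernel

theorem chk_pow11_12_9 : tab.minOKc [1, 6, 0, 6, 6] 1 1209600 6400 = true := by decide +kernel

theorem chk_pow11_12_10 : tab.minOKc [1, 6, 0, 6, 6] 1 1216000 6400 = true := by decide +kernel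

theorem chk_pow11_12_11 : tab.minOKc [1, 6, 0, 6, 6] 1 1222400 6400 = true := by decide +kernel

theorem chk_pow11_12_12 : tab.minOKc [1, 6, 0, 6, 6] 1 1228800 6400 = true := by decide +kernel

theorem chk_pow11_12_13 : tab.minOKc [1, 6, 0, 6, 6] 1 1235200 6400 = true := by decide +kernel

theorem chk_pow11_12_14 : tab.minOKc [1, 6, 0, 6, 6] 1 1241600 6400 = true := by decide +kernel

theorem chk_pow11_12 : tab.minOKc [1, 6, 0, 6, 6] 1 1152000 96000 = true := by
  refine tab.minOKc_of_chunks [1, 6, 0, 6, 6] 1 1152000 6400 15 (by norm_num) ?_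
  intro i hi
  interval_cases i
  · exact chk_pow11_12_0
  · exact chk_pow11_12_1
  · exact chk_pow11_12_2
  · exact chk_pow11_12_3
  · exact chk_pow11_12_4
  · exact chk_pow11_12_5
  · exact chk_pow11_12_6
  · exact chk_pow11_12_7
  · exact chk_pow11_12_8
  · exact chk_pow11_12_9
  · exact chk_pow11_12_10
  · exact chk_pow11_12_11
  · exact chk_pow11_12_12
  · exact chk_pow11_12_13
  · exact chk_pow11_12_14


end Cfsg.Agent.Lib.Lead.HNP.HNTC
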