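import Cfsg.Agent.Lib.Lead.HNP.HNTCData
import Cfsg.Agent.Lib.Helper6.TCRel3
import Cfsg.Agent.Lib.Lead.HNP.HNTCRel145

/-! # HNTC: the kernel check of a part of the relators on the coset table -/

set_option autoImplicit false

namespace Cfsg.Agent.Lib.Lead.HNP.HNTC

open Cfsg.Agent.Lib.Helper6.TC

theorem chk_pow11_13_0 : tab.minOKc [1, 6, 0, 6, 6] 1 1248000 6400 = true := by decide +kernel

theorem chk_pow11_13_1 : tab.minOKc [1, 6, 0, 6, 6] 1 1254400 6400 = true := by decide +kernel

theorem chk_pow11_13_2 : tab.minOKc [1, 6, 0, 6, 6] 1 1260800 6400 = true := by decide +kernel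

theorem chk_pow11_13_3 : tab.minOKc [1, 6, 0, 6, 6] 1 1267200 6400 = true := by decide +kernel

theorem chk_pow11_13_4 : tab.minOKc [1, 6, 0, 6, 6] 1 1273600 6400 = true := by decide +kernel

theorem chk_pow11_13_5 : tab.minOKc [1, 6, 0, 6, 6] 1 1280000 6400 = true := by decide +kernel

theorem chk_pow11_13_6 : tab.minOKc [1, 6, 0, 6, 6] 1 1286400 6400 = true := by decide +kernel

theorem chk_pow11_13_7 : tab.minOKc [1, 6, 0, 6, 6] 1 1292800 6400 = true := by decide +kernel

theorem chk_pow11_13_8 : tab.minOKc [1, 6, 0, 6, 6] 1 1299200 6400 = true := by decide +kernel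

theorem chk_pow11_13_9 : tab.minOKc [1, 6, 0, 6, 6] 1 1305600 6400 = true := by decide +kernel

theorem chk_pow11_13_10 : tab.minOKc [1, 6, 0, 6, 6] 1 1312000 6400 = true := by decide +kernel

theorem chk_pow11_13_11 : tab.minOKc [1, 6, 0, 6, 6] 1 1318400 6400 = true := by decide +kernel

theorem chk_pow11_13_12 : tab.minOKc [1, 6, 0, 6, 6] 1 1324800 6400 = true := by decide +kernel

theorem chk_pow11_13_13 : tab.minOKc [1, 6, 0, 6, 6] 1 1331200 6400 = true := by decide +kernel

theorem chk_pow11_13_14 : tab.minOKc [1, 6, 0, 6, 6] 1 1337600 6400 = true := by decide +kernel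

theorem chk_pow11_13 : tab.minOKc [1, 6, 0, 6, 6] 1 1248000 96000 = true := by
  refine tab.minOKc_of_chunks [1, 6, 0, 6, 6] 1 1248000 6400 15 (by norm_num) ?_
  intro i hi
  interval_cases i
  · exact chk_pow11_13_0
  · exact chk_pow11_13_1
  · exact chk_pow11_13_2
  · exact chk_pow11_13_3
  · exact chk_pow11_13_4
  · exact chk_pow11_13_5
  · exact chk_pow11_13_6
  · exact chk_pow11_13_7
  · exact chk_pow11_13_8
  · exact chk_pow11_13_9
  · exact chk_pow11_13_10
  · exact chk_pow11_13_11
  · exact chk_pow11_13_12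
  · exact chk_pow11_13_13
  · exact chk_pow11_13_14

theorem chk_pow11_14_0 : tab.minOKc [1, 6, 0, 6, 6] 1 1344000 6400 = true := by decide +kernel

theorem chk_pow11_14_1 : tab.minOKc [1, 6, 0, 6, 6] 1 1350400 6400 = true := by decide +kernel

theorem chk_pow11_14_2 : tab.minOKc [1, 6, 0, 6, 6] 1 1356800 6400 = true := by decide +kernel

theorem chk_pow11_14_3 : tab.minOKc [1, 6, 0, 6, 6] 1 1363200 6400 = true := by decide +kernel

theorem chk_pow11_14_4 : tab.minOKc [1, 6, 0, 6, 6] 1 1369600 6400 = true := by decide +kernel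

theorem chk_pow11_14_5 : tab.minOKc [1, 6, 0, 6, 6] 1 1376000 6400 = true := by decide +kernel

theorem chk_pow11_14_6 : tab.minOKc [1, 6, 0, 6, 6] 1 1382400 6400 = true := by decide +kernel

theorem chk_pow11_14_7 : tab.minOKc [1, 6, 0, 6, 6] 1 1388800 6400 = true := by decide +kernel

theorem chk_pow11_14_8 : tab.minOKc [1, 6, 0, 6, 6] 1 1395200 6400 = true := by decide +kernel

theorem chk_pow11_14_9 : tab.minOKc [1, 6, 0, 6, 6] 1 1401600 6400 = true := by decide +kernel

theorem chk_pow11_14_10 : tab.minOKc [1, 6, 0, 6, 6] 1 1408000 6400 = true := by decide +kernel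

theorem chk_pow11_14_11 : tab.minOKc [1, 6, 0, 6, 6] 1 1414400 6400 = true := by decide +kernel

theorem chk_pow11_14_12 : tab.minOKc [1, 6, 0, 6, 6] 1 1420800 6400 = true := by decide +kernel

theorem chk_pow11_14_13 : tab.minOKc [1, 6, 0, 6, 6] 1 1427200 6400 = true := by decide +kernel

theorem chk_pow11_14_14 : tab.minOKc [1, 6, 0, 6, 6] 1 1433600 6400 = true := by decide +kernel

theorem chk_pow11_14 : tab.minOKc [1, 6, 0, 6, 6] 1 1344000 96000 = true := by
  refine tab.minOKc_of_chunks [1, 6, 0, 6, 6] 1 1344000 6400 15 (by norm_num) ?_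
  intro i hi
  interval_cases i
  · exact chk_pow11_14_0
  · exact chk_pow11_14_1
  · exact chk_pow11_14_2
  · exact chk_pow11_14_3
  · exact chk_pow11_14_4
  · exact chk_pow11_14_5
  · exact chk_pow11_14_6
  · exact chk_pow11_14_7
  · exact chk_pow11_14_8
  · exact chk_pow11_14_9
  · exact chk_pow11_14_10
  · exact chk_pow11_14_11
  · exact chk_pow11_14_12
  · exact chk_pow11_14_13
  · exact chk_pow11_14_14


end Cfsg.Agent.Lib.Lead.HNP.HNTC
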