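import Cfsg.Agent.Lib.Lead.HNP.HNTCData
import Cfsg.Agent.Lib.Helper6.TCRel3
import Cfsg.Agent.Lib.Lead.HNP.HNTCRel149

/-! # HNTC: the kernel check of a part of the relators on the coset table -/

set_option autoImplicit false

namespace Cfsg.Agent.Lib.Lead.HNP.HNTC

open Cfsg.Agent.Lib.Helper6.TC

theorem chk_pow12_4_0 : tab.minOKc [7, 3, 6, 2] 1 480000 8000 = true := by decide +kernel

theorem chk_pow12_4_1 : tab.minOKc [7, 3, 6, 2] 1 488000 8000 = true := by decide +kernel

theorem chk_pow12_4_2 : tab.minOKc [7, 3, 6, 2] 1 496000 8000 = true := by decide +kernel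

theorem chk_pow12_4_3 : tab.minOKc [7, 3, 6, 2] 1 504000 8000 = true := by decide +kernel

theorem chk_pow12_4_4 : tab.minOKc [7, 3, 6, 2] 1 512000 8000 = true := by decide +kernel

theorem chk_pow12_4_5 : tab.minOKc [7, 3, 6, 2] 1 520000 8000 = true := by decide +kernel

theorem chk_pow12_4_6 : tab.minOKc [7, 3, 6, 2] 1 528000 8000 = true := by decide +kernel

theorem chk_pow12_4_7 : tab.minOKc [7, 3, 6, 2] 1 536000 8000 = true := by decide +kernel

theorem chk_pow12_4_8 : tab.minOKc [7, 3, 6, 2] 1 544000 8000 = true := by decide +kernel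

theorem chk_pow12_4_9 : tab.minOKc [7, 3, 6, 2] 1 552000 8000 = true := by decide +kernel

theorem chk_pow12_4_10 : tab.minOKc [7, 3, 6, 2] 1 560000 8000 = true := by decide +kernel

theorem chk_pow12_4_11 : tab.minOKc [7, 3, 6, 2] 1 568000 8000 = true := by decide +kernel

theorem chk_pow12_4_12 : tab.minOKc [7, 3, 6, 2] 1 576000 8000 = true := by decide +kernel

theorem chk_pow12_4_13 : tab.minOKc [7, 3, 6, 2] 1 584000 8000 = true := by decide +kernel

theorem chk_pow12_4_14 : tab.minOKc [7, 3, 6, 2] 1 592000 8000 = true := by decide +kernel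

theorem chk_pow12_4 : tab.minOKc [7, 3, 6, 2] 1 480000 120000 = true := by
  refine tab.minOKc_of_chunks [7, 3, 6, 2] 1 480000 8000 15 (by norm_num) ?_
  intro i hi
  interval_cases i
  · exact chk_pow12_4_0
  · exact chk_pow12_4_1
  · exact chk_pow12_4_2
  · exact chk_pow12_4_3
  · exact chk_pow12_4_4
  · exact chk_pow12_4_5
  · exact chk_pow12_4_6
  · exact chk_pow12_4_7
  · exact chk_pow12_4_8
  · exact chk_pow12_4_9
  · exact chk_pow12_4_10
  · exact chk_pow12_4_11
  · exact chk_pow12_4_12
  · exact chk_pow12_4_13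
  · exact chk_pow12_4_14

theorem chk_pow12_5_0 : tab.minOKc [7, 3, 6, 2] 1 600000 8000 = true := by decide +kernel

theorem chk_pow12_5_1 : tab.minOKc [7, 3, 6, 2] 1 608000 8000 = true := by decide +kernel

theorem chk_pow12_5_2 : tab.minOKc [7, 3, 6, 2] 1 616000 8000 = true := by decide +kernel

theorem chk_pow12_5_3 : tab.minOKc [7, 3, 6, 2] 1 624000 8000 = true := by decide +kernel

theorem chk_pow12_5_4 : tab.minOKc [7, 3, 6, 2] 1 632000 8000 = true := by decide +kernel

theorem chk_pow12_5_5 : tab.minOKc [7, 3, 6, 2] 1 640000 8000 = true := by decide +kernel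

theorem chk_pow12_5_6 : tab.minOKc [7, 3, 6, 2] 1 648000 8000 = true := by decide +kernel

theorem chk_pow12_5_7 : tab.minOKc [7, 3, 6, 2] 1 656000 8000 = true := by decide +kernel

theorem chk_pow12_5_8 : tab.minOKc [7, 3, 6, 2] 1 664000 8000 = true := by decide +kernel

theorem chk_pow12_5_9 : tab.minOKc [7, 3, 6, 2] 1 672000 8000 = true := by decide +kernel

theorem chk_pow12_5_10 : tab.minOKc [7, 3, 6, 2] 1 680000 8000 = true := by decide +kernel

theorem chk_pow12_5_11 : tab.minOKc [7, 3, 6, 2] 1 688000 8000 = true := by decide +kernel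

theorem chk_pow12_5_12 : tab.minOKc [7, 3, 6, 2] 1 696000 8000 = true := by decide +kernel

theorem chk_pow12_5_13 : tab.minOKc [7, 3, 6, 2] 1 704000 8000 = true := by decide +kernel

theorem chk_pow12_5_14 : tab.minOKc [7, 3, 6, 2] 1 712000 8000 = true := by decide +kernel

theorem chk_pow12_5 : tab.minOKc [7, 3, 6, 2] 1 600000 120000 = true := by
  refine tab.minOKc_of_chunks [7, 3, 6, 2] 1 600000 8000 15 (by norm_num) ?_
  intro i hi
  interval_cases i
  · exact chk_pow12_5_0
  · exact chk_pow12_5_1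
  · exact chk_pow12_5_2
  · exact chk_pow12_5_3
  · exact chk_pow12_5_4
  · exact chk_pow12_5_5
  · exact chk_pow12_5_6
  · exact chk_pow12_5_7
  · exact chk_pow12_5_8
  · exact chk_pow12_5_9
  · exact chk_pow12_5_10
  · exact chk_pow12_5_11
  · exact chk_pow12_5_12
  · exact chk_pow12_5_13
  · exact chk_pow12_5_14


end Cfsg.Agent.Lib.Lead.HNP.HNTC
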