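import Cfsg.Agent.Lib.Lead.HNP.HNTCData
import Cfsg.Agent.Lib.Helper6.TCRel3
import Cfsg.Agent.Lib.Lead.HNP.HNTCRel150

/-! # HNTC: the kernel check of a part of the relators on the coset table -/

set_option autoImplicit false

namespace Cfsg.Agent.Lib.Lead.HNP.HNTC

open Cfsg.Agent.Lib.Helper6.TC

theorem chk_pow12_6_0 : tab.minOKc [7, 3, 6, 2] 1 720000 8000 = true := by decide +kernel

theorem chk_pow12_6_1 : tab.minOKc [7, 3, 6, 2] 1 728000 8000 = true := by decide +kernel

theorem chk_pow12_6_2 : tab.minOKc [7, 3, 6, 2] 1 736000 8000 = true := by decide +kernel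

theorem chk_pow12_6_3 : tab.minOKc [7, 3, 6, 2] 1 744000 8000 = true := by decide +kernel

theorem chk_pow12_6_4 : tab.minOKc [7, 3, 6, 2] 1 752000 8000 = true := by decide +kernel

theorem chk_pow12_6_5 : tab.minOKc [7, 3, 6, 2] 1 760000 8000 = true := by decide +kernel

theorem chk_pow12_6_6 : tab.minOKc [7, 3, 6, 2] 1 768000 8000 = true := by decide +kernel

theorem chk_pow12_6_7 : tab.minOKc [7, 3, 6, 2] 1 776000 8000 = true := by decide +kernel

theorem chk_pow12_6_8 : tab.minOKc [7, 3, 6, 2] 1 784000 8000 = true := by decide +kernel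

theorem chk_pow12_6_9 : tab.minOKc [7, 3, 6, 2] 1 792000 8000 = true := by decide +kernel

theorem chk_pow12_6_10 : tab.minOKc [7, 3, 6, 2] 1 800000 8000 = true := by decide +kernel

theorem chk_pow12_6_11 : tab.minOKc [7, 3, 6, 2] 1 808000 8000 = true := by decide +kernel

theorem chk_pow12_6_12 : tab.minOKc [7, 3, 6, 2] 1 816000 8000 = true := by decide +kernel

theorem chk_pow12_6_13 : tab.minOKc [7, 3, 6, 2] 1 824000 8000 = true := by decide +kernel

theorem chk_pow12_6_14 : tab.minOKc [7, 3, 6, 2] 1 832000 8000 = true := by decide +kernel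

theorem chk_pow12_6 : tab.minOKc [7, 3, 6, 2] 1 720000 120000 = true := by
  refine tab.minOKc_of_chunks [7, 3, 6, 2] 1 720000 8000 15 (by norm_num) ?_
  intro i hi
  interval_cases i
  · exact chk_pow12_6_0
  · exact chk_pow12_6_1
  · exact chk_pow12_6_2
  · exact chk_pow12_6_3
  · exact chk_pow12_6_4
  · exact chk_pow12_6_5
  · exact chk_pow12_6_6
  · exact chk_pow12_6_7
  · exact chk_pow12_6_8
  · exact chk_pow12_6_9
  · exact chk_pow12_6_10
  · exact chk_pow12_6_11
  · exact chk_pow12_6_12
  · exact chk_pow12_6_13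
  · exact chk_pow12_6_14

theorem chk_pow12_7_0 : tab.minOKc [7, 3, 6, 2] 1 840000 8000 = true := by decide +kernel

theorem chk_pow12_7_1 : tab.minOKc [7, 3, 6, 2] 1 848000 8000 = true := by decide +kernel

theorem chk_pow12_7_2 : tab.minOKc [7, 3, 6, 2] 1 856000 8000 = true := by decide +kernel

theorem chk_pow12_7_3 : tab.minOKc [7, 3, 6, 2] 1 864000 8000 = true := by decide +kernel

theorem chk_pow12_7_4 : tab.minOKc [7, 3, 6, 2] 1 872000 8000 = true := by decide +kernel

theorem chk_pow12_7_5 : tab.minOKc [7, 3, 6, 2] 1 880000 8000 = true := by decide +kernel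

theorem chk_pow12_7_6 : tab.minOKc [7, 3, 6, 2] 1 888000 8000 = true := by decide +kernel

theorem chk_pow12_7_7 : tab.minOKc [7, 3, 6, 2] 1 896000 8000 = true := by decide +kernel

theorem chk_pow12_7_8 : tab.minOKc [7, 3, 6, 2] 1 904000 8000 = true := by decide +kernel

theorem chk_pow12_7_9 : tab.minOKc [7, 3, 6, 2] 1 912000 8000 = true := by decide +kernel

theorem chk_pow12_7_10 : tab.minOKc [7, 3, 6, 2] 1 920000 8000 = true := by decide +kernel

theorem chk_pow12_7_11 : tab.minOKc [7, 3, 6, 2] 1 928000 8000 = true := by decide +kernel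

theorem chk_pow12_7_12 : tab.minOKc [7, 3, 6, 2] 1 936000 8000 = true := by decide +kernel

theorem chk_pow12_7_13 : tab.minOKc [7, 3, 6, 2] 1 944000 8000 = true := by decide +kernel

theorem chk_pow12_7_14 : tab.minOKc [7, 3, 6, 2] 1 952000 8000 = true := by decide +kernel

theorem chk_pow12_7 : tab.minOKc [7, 3, 6, 2] 1 840000 120000 = true := by
  refine tab.minOKc_of_chunks [7, 3, 6, 2] 1 840000 8000 15 (by norm_num) ?_
  intro i hi
  interval_cases i
  · exact chk_pow12_7_0
  · exact chk_pow12_7_1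
  · exact chk_pow12_7_2
  · exact chk_pow12_7_3
  · exact chk_pow12_7_4
  · exact chk_pow12_7_5
  · exact chk_pow12_7_6
  · exact chk_pow12_7_7
  · exact chk_pow12_7_8
  · exact chk_pow12_7_9
  · exact chk_pow12_7_10
  · exact chk_pow12_7_11
  · exact chk_pow12_7_12
  · exact chk_pow12_7_13
  · exact chk_pow12_7_14


end Cfsg.Agent.Lib.Lead.HNP.HNTC
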