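import Cfsg.Agent.Lib.Lead.HNP.HNTCData
import Cfsg.Agent.Lib.Helper6.TCRel3
import Cfsg.Agent.Lib.Lead.HNP.HNTCRel151

/-! # HNTC: the kernel check of a part of the relators on the coset table -/

set_option autoImplicit false

namespace Cfsg.Agent.Lib.Lead.HNP.HNTC

open Cfsg.Agent.Lib.Helper6.TC

theorem chk_pow12_8_0 : tab.minOKc [7, 3, 6, 2] 1 960000 8000 = true := by decide +kernel

theorem chk_pow12_8_1 : tab.minOKc [7, 3, 6, 2] 1 968000 8000 = true := by decide +kernel

theorem chk_pow12_8_2 : tab.minOKc [7, 3, 6, 2] 1 976000 8000 = true := by decide +kernel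

theorem chk_pow12_8_3 : tab.minOKc [7, 3, 6, 2] 1 984000 8000 = true := by decide +kernel

theorem chk_pow12_8_4 : tab.minOKc [7, 3, 6, 2] 1 992000 8000 = true := by decide +kernel

theorem chk_pow12_8_5 : tab.minOKc [7, 3, 6, 2] 1 1000000 8000 = true := by decide +kernel

theorem chk_pow12_8_6 : tab.minOKc [7, 3, 6, 2] 1 1008000 8000 = true := by decide +kernel

theorem chk_pow12_8_7 : tab.minOKc [7, 3, 6, 2] 1 1016000 8000 = true := by decide +kernel

theorem chk_pow12_8_8 : tab.minOKc [7, 3, 6, 2] 1 1024000 8000 = true := by decide +kernel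

theorem chk_pow12_8_9 : tab.minOKc [7, 3, 6, 2] 1 1032000 8000 = true := by decide +kernel

theorem chk_pow12_8_10 : tab.minOKc [7, 3, 6, 2] 1 1040000 8000 = true := by decide +kernel

theorem chk_pow12_8_11 : tab.minOKc [7, 3, 6, 2] 1 1048000 8000 = true := by decide +kernel

theorem chk_pow12_8_12 : tab.minOKc [7, 3, 6, 2] 1 1056000 8000 = true := by decide +kernel

theorem chk_pow12_8_13 : tab.minOKc [7, 3, 6, 2] 1 1064000 8000 = true := by decide +kernel

theorem chk_pow12_8_14 : tab.minOKc [7, 3, 6, 2] 1 1072000 8000 = true := by decide +kernel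

theorem chk_pow12_8 : tab.minOKc [7, 3, 6, 2] 1 960000 120000 = true := by
  refine tab.minOKc_of_chunks [7, 3, 6, 2] 1 960000 8000 15 (by norm_num) ?_
  intro i hi
  interval_cases i
  · exact chk_pow12_8_0
  · exact chk_pow12_8_1
  · exact chk_pow12_8_2
  · exact chk_pow12_8_3
  · exact chk_pow12_8_4
  · exact chk_pow12_8_5
  · exact chk_pow12_8_6
  · exact chk_pow12_8_7
  · exact chk_pow12_8_8
  · exact chk_pow12_8_9
  · exact chk_pow12_8_10
  · exact chk_pow12_8_11
  · exact chk_pow12_8_12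
  · exact chk_pow12_8_13
  · exact chk_pow12_8_14

theorem chk_pow12_9_0 : tab.minOKc [7, 3, 6, 2] 1 1080000 8000 = true := by decide +kernel

theorem chk_pow12_9_1 : tab.minOKc [7, 3, 6, 2] 1 1088000 8000 = true := by decide +kernel

theorem chk_pow12_9_2 : tab.minOKc [7, 3, 6, 2] 1 1096000 8000 = true := by decide +kernel

theorem chk_pow12_9_3 : tab.minOKc [7, 3, 6, 2] 1 1104000 8000 = true := by decide +kernel

theorem chk_pow12_9_4 : tab.minOKc [7, 3, 6, 2] 1 1112000 8000 = true := by decide +kernel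

theorem chk_pow12_9_5 : tab.minOKc [7, 3, 6, 2] 1 1120000 8000 = true := by decide +kernel

theorem chk_pow12_9_6 : tab.minOKc [7, 3, 6, 2] 1 1128000 8000 = true := by decide +kernel

theorem chk_pow12_9_7 : tab.minOKc [7, 3, 6, 2] 1 1136000 8000 = true := by decide +kernel

theorem chk_pow12_9_8 : tab.minOKc [7, 3, 6, 2] 1 1144000 8000 = true := by decide +kernel

theorem chk_pow12_9_9 : tab.minOKc [7, 3, 6, 2] 1 1152000 8000 = true := by decide +kernel

theorem chk_pow12_9_10 : tab.minOKc [7, 3, 6, 2] 1 1160000 8000 = true := by decide +kernel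

theorem chk_pow12_9_11 : tab.minOKc [7, 3, 6, 2] 1 1168000 8000 = true := by decide +kernel

theorem chk_pow12_9_12 : tab.minOKc [7, 3, 6, 2] 1 1176000 8000 = true := by decide +kernel

theorem chk_pow12_9_13 : tab.minOKc [7, 3, 6, 2] 1 1184000 8000 = true := by decide +kernel

theorem chk_pow12_9_14 : tab.minOKc [7, 3, 6, 2] 1 1192000 8000 = true := by decide +kernel

theorem chk_pow12_9 : tab.minOKc [7, 3, 6, 2] 1 1080000 120000 = true := by
  refine tab.minOKc_of_chunks [7, 3, 6, 2] 1 1080000 8000 15 (by norm_num) ?_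
  intro i hi
  interval_cases i
  · exact chk_pow12_9_0
  · exact chk_pow12_9_1
  · exact chk_pow12_9_2
  · exact chk_pow12_9_3
  · exact chk_pow12_9_4
  · exact chk_pow12_9_5
  · exact chk_pow12_9_6
  · exact chk_pow12_9_7
  · exact chk_pow12_9_8
  · exact chk_pow12_9_9
  · exact chk_pow12_9_10
  · exact chk_pow12_9_11
  · exact chk_pow12_9_12
  · exact chk_pow12_9_13
  · exact chk_pow12_9_14


end Cfsg.Agent.Lib.Lead.HNP.HNTC
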