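import Cfsg.Agent.Lib.Lead.HNP.HNTCData
import Cfsg.Agent.Lib.Helper6.TCRel3
import Cfsg.Agent.Lib.Lead.HNP.HNTCRel153

/-! # HNTC: the kernel check of a part of the relators on the coset table -/

set_option autoImplicit false

namespace Cfsg.Agent.Lib.Lead.HNP.HNTC

open Cfsg.Agent.Lib.Helper6.TC

theorem chk_pow12_12_0 : tab.minOKc [7, 3, 6, 2] 1 1440000 8000 = true := by decide +kernel

theorem chk_pow12_12_1 : tab.minOKc [7, 3, 6, 2] 1 1448000 8000 = true := by decide +kernel

theorem chk_pow12_12_2 : tab.minOKc [7, 3, 6, 2] 1 1456000 8000 = true := by decide +kernel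

theorem chk_pow12_12_3 : tab.minOKc [7, 3, 6, 2] 1 1464000 8000 = true := by decide +kernel

theorem chk_pow12_12_4 : tab.minOKc [7, 3, 6, 2] 1 1472000 8000 = true := by decide +kernel

theorem chk_pow12_12_5 : tab.minOKc [7, 3, 6, 2] 1 1480000 8000 = true := by decide +kernel

theorem chk_pow12_12_6 : tab.minOKc [7, 3, 6, 2] 1 1488000 8000 = true := by decide +kernel

theorem chk_pow12_12_7 : tab.minOKc [7, 3, 6, 2] 1 1496000 8000 = true := by decide +kernel

theorem chk_pow12_12_8 : tab.minOKc [7, 3, 6, 2] 1 1504000 8000 = true := by decide +kernel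

theorem chk_pow12_12_9 : tab.minOKc [7, 3, 6, 2] 1 1512000 8000 = true := by decide +kernel

theorem chk_pow12_12_10 : tab.minOKc [7, 3, 6, 2] 1 1520000 8000 = true := by decide +kernel

theorem chk_pow12_12_11 : tab.minOKc [7, 3, 6, 2] 1 1528000 8000 = true := by decide +kernel

theorem chk_pow12_12_12 : tab.minOKc [7, 3, 6, 2] 1 1536000 8000 = true := by decide +kernel

theorem chk_pow12_12_13 : tab.minOKc [7, 3, 6, 2] 1 1544000 8000 = true := by decide +kernel

theorem chk_pow12_12_14 : tab.minOKc [7, 3, 6, 2] 1 1552000 8000 = true := by decide +kernel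

theorem chk_pow12_12 : tab.minOKc [7, 3, 6, 2] 1 1440000 120000 = true := by
  refine tab.minOKc_of_chunks [7, 3, 6, 2] 1 1440000 8000 15 (by norm_num) ?_
  intro i hi
  interval_cases i
  · exact chk_pow12_12_0
  · exact chk_pow12_12_1
  · exact chk_pow12_12_2
  · exact chk_pow12_12_3
  · exact chk_pow12_12_4
  · exact chk_pow12_12_5
  · exact chk_pow12_12_6
  · exact chk_pow12_12_7
  · exact chk_pow12_12_8
  · exact chk_pow12_12_9
  · exact chk_pow12_12_10
  · exact chk_pow12_12_11
  · exact chk_pow12_12_12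
  · exact chk_pow12_12_13
  · exact chk_pow12_12_14

theorem chk_pow13_0_0 : tab.minOKc [4, 6] 3 0 16000 = true := by decide +kernel

theorem chk_pow13_0_1 : tab.minOKc [4, 6] 3 16000 16000 = true := by decide +kernel

theorem chk_pow13_0_2 : tab.minOKc [4, 6] 3 32000 16000 = true := by decide +kernel

theorem chk_pow13_0_3 : tab.minOKc [4, 6] 3 48000 16000 = true := by decide +kernel

theorem chk_pow13_0_4 : tab.minOKc [4, 6] 3 64000 16000 = true := by decide +kernel

theorem chk_pow13_0_5 : tab.minOKc [4, 6] 3 80000 16000 = true := by decide +kernel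

theorem chk_pow13_0_6 : tab.minOKc [4, 6] 3 96000 16000 = true := by decide +kernel

theorem chk_pow13_0_7 : tab.minOKc [4, 6] 3 112000 16000 = true := by decide +kernel

theorem chk_pow13_0_8 : tab.minOKc [4, 6] 3 128000 16000 = true := by decide +kernel

theorem chk_pow13_0_9 : tab.minOKc [4, 6] 3 144000 16000 = true := by decide +kernel

theorem chk_pow13_0_10 : tab.minOKc [4, 6] 3 160000 16000 = true := by decide +kernel

theorem chk_pow13_0_11 : tab.minOKc [4, 6] 3 176000 16000 = true := by decide +kernel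

theorem chk_pow13_0_12 : tab.minOKc [4, 6] 3 192000 16000 = true := by decide +kernel

theorem chk_pow13_0_13 : tab.minOKc [4, 6] 3 208000 16000 = true := by decide +kernel

theorem chk_pow13_0_14 : tab.minOKc [4, 6] 3 224000 16000 = true := by decide +kernel

theorem chk_pow13_0 : tab.minOKc [4, 6] 3 0 240000 = true := by
  refine tab.minOKc_of_chunks [4, 6] 3 0 16000 15 (by norm_num) ?_
  intro i hi
  interval_cases i
  · exact chk_pow13_0_0
  · exact chk_pow13_0_1
  · exact chk_pow13_0_2
  · exact chk_pow13_0_3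
  · exact chk_pow13_0_4
  · exact chk_pow13_0_5
  · exact chk_pow13_0_6
  · exact chk_pow13_0_7
  · exact chk_pow13_0_8
  · exact chk_pow13_0_9
  · exact chk_pow13_0_10
  · exact chk_pow13_0_11
  · exact chk_pow13_0_12
  · exact chk_pow13_0_13
  · exact chk_pow13_0_14


end Cfsg.Agent.Lib.Lead.HNP.HNTC
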