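import Cfsg.Agent.Lib.Lead.HNP.HNTCData
import Cfsg.Agent.Lib.Helper6.TCRel3
import Cfsg.Agent.Lib.Lead.HNP.HNTCRel155

/-! # HNTC: the kernel check of a part of the relators on the coset table -/

set_option autoImplicit false

namespace Cfsg.Agent.Lib.Lead.HNP.HNTC

open Cfsg.Agent.Lib.Helper6.TC

theorem chk_pow13_3_0 : tab.minOKc [4, 6] 3 720000 16000 = true := by decide +kernel

theorem chk_pow13_3_1 : tab.minOKc [4, 6] 3 736000 16000 = true := by decide +kernel

theorem chk_pow13_3_2 : tab.minOKc [4, 6] 3 752000 16000 = true := by decide +kernel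

theorem chk_pow13_3_3 : tab.minOKc [4, 6] 3 768000 16000 = true := by decide +kernel

theorem chk_pow13_3_4 : tab.minOKc [4, 6] 3 784000 16000 = true := by decide +kernel

theorem chk_pow13_3_5 : tab.minOKc [4, 6] 3 800000 16000 = true := by decide +kernel

theorem chk_pow13_3_6 : tab.minOKc [4, 6] 3 816000 16000 = true := by decide +kernel

theorem chk_pow13_3_7 : tab.minOKc [4, 6] 3 832000 16000 = true := by decide +kernel

theorem chk_pow13_3_8 : tab.minOKc [4, 6] 3 848000 16000 = true := by decide +kernel

theorem chk_pow13_3_9 : tab.minOKc [4, 6] 3 864000 16000 = true := by decide +kernel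

theorem chk_pow13_3_10 : tab.minOKc [4, 6] 3 880000 16000 = true := by decide +kernel

theorem chk_pow13_3_11 : tab.minOKc [4, 6] 3 896000 16000 = true := by decide +kernel

theorem chk_pow13_3_12 : tab.minOKc [4, 6] 3 912000 16000 = true := by decide +kernel

theorem chk_pow13_3_13 : tab.minOKc [4, 6] 3 928000 16000 = true := by decide +kernel

theorem chk_pow13_3_14 : tab.minOKc [4, 6] 3 944000 16000 = true := by decide +kernel

theorem chk_pow13_3 : tab.minOKc [4, 6] 3 720000 240000 = true := by
  refine tab.minOKc_of_chunks [4, 6] 3 720000 16000 15 (by norm_num) ?_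
  intro i hi
  interval_cases i
  · exact chk_pow13_3_0
  · exact chk_pow13_3_1
  · exact chk_pow13_3_2
  · exact chk_pow13_3_3
  · exact chk_pow13_3_4
  · exact chk_pow13_3_5
  · exact chk_pow13_3_6
  · exact chk_pow13_3_7
  · exact chk_pow13_3_8
  · exact chk_pow13_3_9
  · exact chk_pow13_3_10
  · exact chk_pow13_3_11
  · exact chk_pow13_3_12
  · exact chk_pow13_3_13
  · exact chk_pow13_3_14

theorem chk_pow13_4_0 : tab.minOKc [4, 6] 3 960000 16000 = true := by decide +kernel

theorem chk_pow13_4_1 : tab.minOKc [4, 6] 3 976000 16000 = true := by decide +kernel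

theorem chk_pow13_4_2 : tab.minOKc [4, 6] 3 992000 16000 = true := by decide +kernel

theorem chk_pow13_4_3 : tab.minOKc [4, 6] 3 1008000 16000 = true := by decide +kernel

theorem chk_pow13_4_4 : tab.minOKc [4, 6] 3 1024000 16000 = true := by decide +kernel

theorem chk_pow13_4_5 : tab.minOKc [4, 6] 3 1040000 16000 = true := by decide +kernel

theorem chk_pow13_4_6 : tab.minOKc [4, 6] 3 1056000 16000 = true := by decide +kernel

theorem chk_pow13_4_7 : tab.minOKc [4, 6] 3 1072000 16000 = true := by decide +kernel

theorem chk_pow13_4_8 : tab.minOKc [4, 6] 3 1088000 16000 = true := by decide +kernel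

theorem chk_pow13_4_9 : tab.minOKc [4, 6] 3 1104000 16000 = true := by decide +kernel

theorem chk_pow13_4_10 : tab.minOKc [4, 6] 3 1120000 16000 = true := by decide +kernel

theorem chk_pow13_4_11 : tab.minOKc [4, 6] 3 1136000 16000 = true := by decide +kernel

theorem chk_pow13_4_12 : tab.minOKc [4, 6] 3 1152000 16000 = true := by decide +kernel

theorem chk_pow13_4_13 : tab.minOKc [4, 6] 3 1168000 16000 = true := by decide +kernel

theorem chk_pow13_4_14 : tab.minOKc [4, 6] 3 1184000 16000 = true := by decide +kernel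

theorem chk_pow13_4 : tab.minOKc [4, 6] 3 960000 240000 = true := by
  refine tab.minOKc_of_chunks [4, 6] 3 960000 16000 15 (by norm_num) ?_
  intro i hi
  interval_cases i
  · exact chk_pow13_4_0
  · exact chk_pow13_4_1
  · exact chk_pow13_4_2
  · exact chk_pow13_4_3
  · exact chk_pow13_4_4
  · exact chk_pow13_4_5
  · exact chk_pow13_4_6
  · exact chk_pow13_4_7
  · exact chk_pow13_4_8
  · exact chk_pow13_4_9
  · exact chk_pow13_4_10
  · exact chk_pow13_4_11
  · exact chk_pow13_4_12
  · exact chk_pow13_4_13
  · exact chk_pow13_4_14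


end Cfsg.Agent.Lib.Lead.HNP.HNTC
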