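import Cfsg.Agent.Lib.Lead.HNP.HNTCData
import Cfsg.Agent.Lib.Helper6.TCRel3
import Cfsg.Agent.Lib.Lead.HNP.HNTCRel156

/-! # HNTC: the kernel check of a part of the relators on the coset table -/

set_option autoImplicit false

namespace Cfsg.Agent.Lib.Lead.HNP.HNTC

open Cfsg.Agent.Lib.Helper6.TC

theorem chk_pow13_5_0 : tab.minOKc [4, 6] 3 1200000 16000 = true := by decide +kernel

theorem chk_pow13_5_1 : tab.minOKc [4, 6] 3 1216000 16000 = true := by decide +kernel

theorem chk_pow13_5_2 : tab.minOKc [4, 6] 3 1232000 16000 = true := by decide +kernel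

theorem chk_pow13_5_3 : tab.minOKc [4, 6] 3 1248000 16000 = true := by decide +kernel

theorem chk_pow13_5_4 : tab.minOKc [4, 6] 3 1264000 16000 = true := by decide +kernel

theorem chk_pow13_5_5 : tab.minOKc [4, 6] 3 1280000 16000 = true := by decide +kernel

theorem chk_pow13_5_6 : tab.minOKc [4, 6] 3 1296000 16000 = true := by decide +kernel

theorem chk_pow13_5_7 : tab.minOKc [4, 6] 3 1312000 16000 = true := by decide +kernel

theorem chk_pow13_5_8 : tab.minOKc [4, 6] 3 1328000 16000 = true := by decide +kernel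

theorem chk_pow13_5_9 : tab.minOKc [4, 6] 3 1344000 16000 = true := by decide +kernel

theorem chk_pow13_5_10 : tab.minOKc [4, 6] 3 1360000 16000 = true := by decide +kernel

theorem chk_pow13_5_11 : tab.minOKc [4, 6] 3 1376000 16000 = true := by decide +kernel

theorem chk_pow13_5_12 : tab.minOKc [4, 6] 3 1392000 16000 = true := by decide +kernel

theorem chk_pow13_5_13 : tab.minOKc [4, 6] 3 1408000 16000 = true := by decide +kernel

theorem chk_pow13_5_14 : tab.minOKc [4, 6] 3 1424000 16000 = true := by decide +kernel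

theorem chk_pow13_5 : tab.minOKc [4, 6] 3 1200000 240000 = true := by
  refine tab.minOKc_of_chunks [4, 6] 3 1200000 16000 15 (by norm_num) ?_
  intro i hi
  interval_cases i
  · exact chk_pow13_5_0
  · exact chk_pow13_5_1
  · exact chk_pow13_5_2
  · exact chk_pow13_5_3
  · exact chk_pow13_5_4
  · exact chk_pow13_5_5
  · exact chk_pow13_5_6
  · exact chk_pow13_5_7
  · exact chk_pow13_5_8
  · exact chk_pow13_5_9
  · exact chk_pow13_5_10
  · exact chk_pow13_5_11
  · exact chk_pow13_5_12
  · exact chk_pow13_5_13
  · exact chk_pow13_5_14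

theorem chk_pow13_6_0 : tab.minOKc [4, 6] 3 1440000 16000 = true := by decide +kernel

theorem chk_pow13_6_1 : tab.minOKc [4, 6] 3 1456000 16000 = true := by decide +kernel

theorem chk_pow13_6_2 : tab.minOKc [4, 6] 3 1472000 16000 = true := by decide +kernel

theorem chk_pow13_6_3 : tab.minOKc [4, 6] 3 1488000 16000 = true := by decide +kernel

theorem chk_pow13_6_4 : tab.minOKc [4, 6] 3 1504000 16000 = true := by decide +kernel

theorem chk_pow13_6_5 : tab.minOKc [4, 6] 3 1520000 16000 = true := by decide +kernel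

theorem chk_pow13_6_6 : tab.minOKc [4, 6] 3 1536000 16000 = true := by decide +kernel

theorem chk_pow13_6_7 : tab.minOKc [4, 6] 3 1552000 16000 = true := by decide +kernel

theorem chk_pow13_6_8 : tab.minOKc [4, 6] 3 1568000 16000 = true := by decide +kernel

theorem chk_pow13_6_9 : tab.minOKc [4, 6] 3 1584000 16000 = true := by decide +kernel

theorem chk_pow13_6_10 : tab.minOKc [4, 6] 3 1600000 16000 = true := by decide +kernel

theorem chk_pow13_6_11 : tab.minOKc [4, 6] 3 1616000 16000 = true := by decide +kernel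

theorem chk_pow13_6_12 : tab.minOKc [4, 6] 3 1632000 16000 = true := by decide +kernel

theorem chk_pow13_6_13 : tab.minOKc [4, 6] 3 1648000 16000 = true := by decide +kernel

theorem chk_pow13_6_14 : tab.minOKc [4, 6] 3 1664000 16000 = true := by decide +kernel

theorem chk_pow13_6 : tab.minOKc [4, 6] 3 1440000 240000 = true := by
  refine tab.minOKc_of_chunks [4, 6] 3 1440000 16000 15 (by norm_num) ?_
  intro i hi
  interval_cases i
  · exact chk_pow13_6_0
  · exact chk_pow13_6_1
  · exact chk_pow13_6_2
  · exact chk_pow13_6_3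
  · exact chk_pow13_6_4
  · exact chk_pow13_6_5
  · exact chk_pow13_6_6
  · exact chk_pow13_6_7
  · exact chk_pow13_6_8
  · exact chk_pow13_6_9
  · exact chk_pow13_6_10
  · exact chk_pow13_6_11
  · exact chk_pow13_6_12
  · exact chk_pow13_6_13
  · exact chk_pow13_6_14


end Cfsg.Agent.Lib.Lead.HNP.HNTC
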