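import Cfsg.Agent.Lib.Lead.HNP.HNTCData
import Cfsg.Agent.Lib.Helper6.TCRel3
import Cfsg.Agent.Lib.Lead.HNP.HNTCRel0
import Cfsg.Agent.Lib.Lead.HNP.HNTCRel1
import Cfsg.Agent.Lib.Lead.HNP.HNTCRel2
import Cfsg.Agent.Lib.Lead.HNP.HNTCRel3
import Cfsg.Agent.Lib.Lead.HNP.HNTCRel4
import Cfsg.Agent.Lib.Lead.HNP.HNTCRel5
import Cfsg.Agent.Lib.Lead.HNP.HNTCRel6
import Cfsg.Agent.Lib.Lead.HNP.HNTCRel7
import Cfsg.Agent.Lib.Lead.HNP.HNTCRel8
import Cfsg.Agent.Lib.Lead.HNP.HNTCRel9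
import Cfsg.Agent.Lib.Lead.HNP.HNTCRel10
import Cfsg.Agent.Lib.Lead.HNP.HNTCRel11
import Cfsg.Agent.Lib.Lead.HNP.HNTCRel12
import Cfsg.Agent.Lib.Lead.HNP.HNTCRel13
import Cfsg.Agent.Lib.Lead.HNP.HNTCRel14
import Cfsg.Agent.Lib.Lead.HNP.HNTCRel15
import Cfsg.Agent.Lib.Lead.HNP.HNTCRel16
import Cfsg.Agent.Lib.Lead.HNP.HNTCRel17
import Cfsg.Agent.Lib.Lead.HNP.HNTCRel18
import Cfsg.Agent.Lib.Lead.HNP.HNTCRel19
import Cfsg.Agent.Lib.Lead.HNP.HNTCRel20
import Cfsg.Agent.Lib.Lead.HNP.HNTCRel21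
import Cfsg.Agent.Lib.Lead.HNP.HNTCRel22
import Cfsg.Agent.Lib.Lead.HNP.HNTCRel23
import Cfsg.Agent.Lib.Lead.HNP.HNTCRel24
import Cfsg.Agent.Lib.Lead.HNP.HNTCRel25
import Cfsg.Agent.Lib.Lead.HNP.HNTCRel26
import Cfsg.Agent.Lib.Lead.HNP.HNTCRel27
import Cfsg.Agent.Lib.Lead.HNP.HNTCRel28
import Cfsg.Agent.Lib.Lead.HNP.HNTCRel29
import Cfsg.Agent.Lib.Lead.HNP.HNTCRel30
import Cfsg.Agent.Lib.Lead.HNP.HNTCRel31
import Cfsg.Agent.Lib.Lead.HNP.HNTCRel32
import Cfsg.Agent.Lib.Lead.HNP.HNTCRel33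
import Cfsg.Agent.Lib.Lead.HNP.HNTCRel34
import Cfsg.Agent.Lib.Lead.HNP.HNTCRel35
import Cfsg.Agent.Lib.Lead.HNP.HNTCRel36
import Cfsg.Agent.Lib.Lead.HNP.HNTCRel37
import Cfsg.Agent.Lib.Lead.HNP.HNTCRel38
import Cfsg.Agent.Lib.Lead.HNP.HNTCRel39
import Cfsg.Agent.Lib.Lead.HNP.HNTCRel40
import Cfsg.Agent.Lib.Lead.HNP.HNTCRel41
import Cfsg.Agent.Lib.Lead.HNP.HNTCRel42
import Cfsg.Agent.Lib.Lead.HNP.HNTCRel43
import Cfsg.Agent.Lib.Lead.HNP.HNTCRel44
import Cfsg.Agent.Lib.Lead.HNP.HNTCRel45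
import Cfsg.Agent.Lib.Lead.HNP.HNTCRel46
import Cfsg.Agent.Lib.Lead.HNP.HNTCRel47
import Cfsg.Agent.Lib.Lead.HNP.HNTCRel48
import Cfsg.Agent.Lib.Lead.HNP.HNTCRel49
import Cfsg.Agent.Lib.Lead.HNP.HNTCRel50
import Cfsg.Agent.Lib.Lead.HNP.HNTCRel51
import Cfsg.Agent.Lib.Lead.HNP.HNTCRel52
import Cfsg.Agent.Lib.Lead.HNP.HNTCRel53
import Cfsg.Agent.Lib.Lead.HNP.HNTCRel54
import Cfsg.Agent.Lib.Lead.HNP.HNTCRel55
import Cfsg.Agent.Lib.Lead.HNP.HNTCRel56
import Cfsg.Agent.Lib.Lead.HNP.HNTCRel57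
import Cfsg.Agent.Lib.Lead.HNP.HNTCRel58
import Cfsg.Agent.Lib.Lead.HNP.HNTCRel59
import Cfsg.Agent.Lib.Lead.HNP.HNTCRel60
import Cfsg.Agent.Lib.Lead.HNP.HNTCRel61
import Cfsg.Agent.Lib.Lead.HNP.HNTCRel62
import Cfsg.Agent.Lib.Lead.HNP.HNTCRel63
import Cfsg.Agent.Lib.Lead.HNP.HNTCRel64
import Cfsg.Agent.Lib.Lead.HNP.HNTCRel65
import Cfsg.Agent.Lib.Lead.HNP.HNTCRel66
import Cfsg.Agent.Lib.Lead.HNP.HNTCRel67
import Cfsg.Agent.Lib.Lead.HNP.HNTCRel68
import Cfsg.Agent.Lib.Lead.HNP.HNTCRel69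
import Cfsg.Agent.Lib.Lead.HNP.HNTCRel70
import Cfsg.Agent.Lib.Lead.HNP.HNTCRel71
import Cfsg.Agent.Lib.Lead.HNP.HNTCRel72
import Cfsg.Agent.Lib.Lead.HNP.HNTCRel73
import Cfsg.Agent.Lib.Lead.HNP.HNTCRel74
import Cfsg.Agent.Lib.Lead.HNP.HNTCRel75
import Cfsg.Agent.Lib.Lead.HNP.HNTCRel76
import Cfsg.Agent.Lib.Lead.HNP.HNTCRel77
import Cfsg.Agent.Lib.Lead.HNP.HNTCRel78
import Cfsg.Agent.Lib.Lead.HNP.HNTCRel79
import Cfsg.Agent.Lib.Lead.HNP.HNTCRel80
import Cfsg.Agent.Lib.Lead.HNP.HNTCRel81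
import Cfsg.Agent.Lib.Lead.HNP.HNTCRel82
import Cfsg.Agent.Lib.Lead.HNP.HNTCRel83
import Cfsg.Agent.Lib.Lead.HNP.HNTCRel84
import Cfsg.Agent.Lib.Lead.HNP.HNTCRel85
import Cfsg.Agent.Lib.Lead.HNP.HNTCRel86
import Cfsg.Agent.Lib.Lead.HNP.HNTCRel87
import Cfsg.Agent.Lib.Lead.HNP.HNTCRel88
import Cfsg.Agent.Lib.Lead.HNP.HNTCRel89
import Cfsg.Agent.Lib.Lead.HNP.HNTCRel90
import Cfsg.Agent.Lib.Lead.HNP.HNTCRel91
import Cfsg.Agent.Lib.Lead.HNP.HNTCRel92
import Cfsg.Agent.Lib.Lead.HNP.HNTCRel93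
import Cfsg.Agent.Lib.Lead.HNP.HNTCRel94
import Cfsg.Agent.Lib.Lead.HNP.HNTCRel95
import Cfsg.Agent.Lib.Lead.HNP.HNTCRel96
import Cfsg.Agent.Lib.Lead.HNP.HNTCRel97
import Cfsg.Agent.Lib.Lead.HNP.HNTCRel98
import Cfsg.Agent.Lib.Lead.HNP.HNTCRel99
import Cfsg.Agent.Lib.Lead.HNP.HNTCRel100
import Cfsg.Agent.Lib.Lead.HNP.HNTCRel101
import Cfsg.Agent.Lib.Lead.HNP.HNTCRel102
import Cfsg.Agent.Lib.Lead.HNP.HNTCRel103
import Cfsg.Agent.Lib.Lead.HNP.HNTCRel104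
import Cfsg.Agent.Lib.Lead.HNP.HNTCRel105
import Cfsg.Agent.Lib.Lead.HNP.HNTCRel106
import Cfsg.Agent.Lib.Lead.HNP.HNTCRel107
import Cfsg.Agent.Lib.Lead.HNP.HNTCRel108
import Cfsg.Agent.Lib.Lead.HNP.HNTCRel109
import Cfsg.Agent.Lib.Lead.HNP.HNTCRel110
import Cfsg.Agent.Lib.Lead.HNP.HNTCRel111
import Cfsg.Agent.Lib.Lead.HNP.HNTCRel112
import Cfsg.Agent.Lib.Lead.HNP.HNTCRel113
import Cfsg.Agent.Lib.Lead.HNP.HNTCRel114
import Cfsg.Agent.Lib.Lead.HNP.HNTCRel115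
import Cfsg.Agent.Lib.Lead.HNP.HNTCRel116
import Cfsg.Agent.Lib.Lead.HNP.HNTCRel117
import Cfsg.Agent.Lib.Lead.HNP.HNTCRel118
import Cfsg.Agent.Lib.Lead.HNP.HNTCRel119
import Cfsg.Agent.Lib.Lead.HNP.HNTCRel120
import Cfsg.Agent.Lib.Lead.HNP.HNTCRel121
import Cfsg.Agent.Lib.Lead.HNP.HNTCRel122
import Cfsg.Agent.Lib.Lead.HNP.HNTCRel123
import Cfsg.Agent.Lib.Lead.HNP.HNTCRel124
import Cfsg.Agent.Lib.Lead.HNP.HNTCRel125
import Cfsg.Agent.Lib.Lead.HNP.HNTCRel126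
import Cfsg.Agent.Lib.Lead.HNP.HNTCRel127
import Cfsg.Agent.Lib.Lead.HNP.HNTCRel128
import Cfsg.Agent.Lib.Lead.HNP.HNTCRel129
import Cfsg.Agent.Lib.Lead.HNP.HNTCRel130
import Cfsg.Agent.Lib.Lead.HNP.HNTCRel131
import Cfsg.Agent.Lib.Lead.HNP.HNTCRel132
import Cfsg.Agent.Lib.Lead.HNP.HNTCRel133
import Cfsg.Agent.Lib.Lead.HNP.HNTCRel134
import Cfsg.Agent.Lib.Lead.HNP.HNTCRel135
import Cfsg.Agent.Lib.Lead.HNP.HNTCRel136
import Cfsg.Agent.Lib.Lead.HNP.HNTCRel137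
import Cfsg.Agent.Lib.Lead.HNP.HNTCRel138
import Cfsg.Agent.Lib.Lead.HNP.HNTCRel139
import Cfsg.Agent.Lib.Lead.HNP.HNTCRel140
import Cfsg.Agent.Lib.Lead.HNP.HNTCRel141
import Cfsg.Agent.Lib.Lead.HNP.HNTCRel142
import Cfsg.Agent.Lib.Lead.HNP.HNTCRel143
import Cfsg.Agent.Lib.Lead.HNP.HNTCRel144
import Cfsg.Agent.Lib.Lead.HNP.HNTCRel145
import Cfsg.Agent.Lib.Lead.HNP.HNTCRel146
import Cfsg.Agent.Lib.Lead.HNP.HNTCRel147
import Cfsg.Agent.Lib.Lead.HNP.HNTCRel148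
import Cfsg.Agent.Lib.Lead.HNP.HNTCRel149
import Cfsg.Agent.Lib.Lead.HNP.HNTCRel150
import Cfsg.Agent.Lib.Lead.HNP.HNTCRel151
import Cfsg.Agent.Lib.Lead.HNP.HNTCRel152
import Cfsg.Agent.Lib.Lead.HNP.HNTCRel153
import Cfsg.Agent.Lib.Lead.HNP.HNTCRel154
import Cfsg.Agent.Lib.Lead.HNP.HNTCRel155
import Cfsg.Agent.Lib.Lead.HNP.HNTCRel156
import Cfsg.Agent.Lib.Lead.HNP.HNTCRel157
import Cfsg.Agent.Lib.Lead.HNP.HNTCRel158
import Cfsg.Agent.Lib.Lead.HNP.HNTCRel159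
import Cfsg.Agent.Lib.Lead.HNP.HNTCRel160
import Cfsg.Agent.Lib.Lead.HNP.HNTCRel161
import Cfsg.Agent.Lib.Lead.HNP.HNTCRel162
import Cfsg.Agent.Lib.Lead.HNP.HNTCRel163
import Cfsg.Agent.Lib.Lead.HNP.HNTCRel164
import Cfsg.Agent.Lib.Lead.HNP.HNTCRel165
import Cfsg.Agent.Lib.Lead.HNP.HNTCRel166
import Cfsg.Agent.Lib.Lead.HNP.HNTCRel167
import Cfsg.Agent.Lib.Lead.HNP.HNTCRel168
import Cfsg.Agent.Lib.Lead.HNP.HNTCRel169
import Cfsg.Agent.Lib.Lead.HNP.HNTCRel170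
import Cfsg.Agent.Lib.Lead.HNP.HNTCRel171
import Cfsg.Agent.Lib.Lead.HNP.HNTCRel172
import Cfsg.Agent.Lib.Lead.HNP.HNTCRel173
import Cfsg.Agent.Lib.Lead.HNP.HNTCRel174
import Cfsg.Agent.Lib.Lead.HNP.HNTCRel175
import Cfsg.Agent.Lib.Lead.HNP.HNTCRel176
import Cfsg.Agent.Lib.Lead.HNP.HNTCRel177
import Cfsg.Agent.Lib.Lead.HNP.HNTCRel178
import Cfsg.Agent.Lib.Lead.HNP.HNTCRel179
import Cfsg.Agent.Lib.Lead.HNP.HNTCRel180

/-! # HNTC: the relators hold on the coset table -/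

set_option autoImplicit false

namespace Cfsg.Agent.Lib.Lead.HNP.HNTC

open Cfsg.Agent.Lib.Helper6.TC

theorem chk_pow0 : tab.minOK [2] 6 = true := by
  refine tab.minOK_of_chunks [2] 6 480000 4 (by decide +kernel) (by norm_num) (by show 1539000 ≤ 4 * 480000; norm_num) ?_
  intro i hi
  interval_cases i
  · exact chk_pow0_0
  · exact chk_pow0_1
  · exact chk_pow0_2
  · exact chk_pow0_3

theorem chk_pow1 : tab.minOK [0, 0, 2, 0, 0, 3] 1 = true := by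
  refine tab.minOK_of_chunks [0, 0, 2, 0, 0, 3] 1 79995 20 (by decide +kernel) (by norm_num) (by show 1539000 ≤ 20 * 79995; norm_num) ?_
  intro i hi
  interval_cases i
  · exact chk_pow1_0
  · exact chk_pow1_1
  · exact chk_pow1_2
  · exact chk_pow1_3
  · exact chk_pow1_4
  · exact chk_pow1_5
  · exact chk_pow1_6
  · exact chk_pow1_7
  · exact chk_pow1_8
  · exact chk_pow1_9
  · exact chk_pow1_10
  · exact chk_pow1_11
  · exact chk_pow1_12
  · exact chk_pow1_13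
  · exact chk_pow1_14
  · exact chk_pow1_15
  · exact chk_pow1_16
  · exact chk_pow1_17
  · exact chk_pow1_18
  · exact chk_pow1_19

theorem chk_pow2 : tab.minOK [1, 3, 0, 2] 3 = true := by
  refine tab.minOK_of_chunks [1, 3, 0, 2] 3 120000 13 (by decide +kernel) (by norm_num) (by show 1539000 ≤ 13 * 120000; norm_num) ?_
  intro i hi
  interval_cases i
  · exact chk_pow2_0
  · exact chk_pow2_1
  · exact chk_pow2_2
  · exact chk_pow2_3
  · exact chk_pow2_4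
  · exact chk_pow2_5
  · exact chk_pow2_6
  · exact chk_pow2_7
  · exact chk_pow2_8
  · exact chk_pow2_9
  · exact chk_pow2_10
  · exact chk_pow2_11
  · exact chk_pow2_12

theorem chk_pow3 : tab.minOK [1, 2, 2, 0, 2, 2, 2] 3 = true := by
  refine tab.minOK_of_chunks [1, 2, 2, 0, 2, 2, 2] 3 68565 23 (by decide +kernel) (by norm_num) (by show 1539000 ≤ 23 * 68565; norm_num) ?_
  intro i hi
  interval_cases i
  · exact chk_pow3_0
  · exact chk_pow3_1
  · exact chk_pow3_2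
  · exact chk_pow3_3
  · exact chk_pow3_4
  · exact chk_pow3_5
  · exact chk_pow3_6
  · exact chk_pow3_7
  · exact chk_pow3_8
  · exact chk_pow3_9
  · exact chk_pow3_10
  · exact chk_pow3_11
  · exact chk_pow3_12
  · exact chk_pow3_13
  · exact chk_pow3_14
  · exact chk_pow3_15
  · exact chk_pow3_16
  · exact chk_pow3_17
  · exact chk_pow3_18
  · exact chk_pow3_19
  · exact chk_pow3_20
  · exact chk_pow3_21
  · exact chk_pow3_22

theorem chk_pow4 : tab.minOK [0, 2] 8 = true := by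
  refine tab.minOK_of_chunks [0, 2] 8 240000 7 (by decide +kernel) (by norm_num) (by show 1539000 ≤ 7 * 240000; norm_num) ?_
  intro i hi
  interval_cases i
  · exact chk_pow4_0
  · exact chk_pow4_1
  · exact chk_pow4_2
  · exact chk_pow4_3
  · exact chk_pow4_4
  · exact chk_pow4_5
  · exact chk_pow4_6

theorem chk_pow5 : tab.minOK [0, 2, 0, 2, 2, 2] 4 = true := by
  refine tab.minOK_of_chunks [0, 2, 0, 2, 2, 2] 4 79995 20 (by decide +kernel) (by norm_num) (by show 1539000 ≤ 20 * 79995; norm_num) ?_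
  intro i hi
  interval_cases i
  · exact chk_pow5_0
  · exact chk_pow5_1
  · exact chk_pow5_2
  · exact chk_pow5_3
  · exact chk_pow5_4
  · exact chk_pow5_5
  · exact chk_pow5_6
  · exact chk_pow5_7
  · exact chk_pow5_8
  · exact chk_pow5_9
  · exact chk_pow5_10
  · exact chk_pow5_11
  · exact chk_pow5_12
  · exact chk_pow5_13
  · exact chk_pow5_14
  · exact chk_pow5_15
  · exact chk_pow5_16
  · exact chk_pow5_17
  · exact chk_pow5_18
  · exact chk_pow5_19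

theorem chk_pow6 : tab.minOK [4] 2 = true := by
  refine tab.minOK_of_chunks [4] 2 480000 4 (by decide +kernel) (by norm_num) (by show 1539000 ≤ 4 * 480000; norm_num) ?_
  intro i hi
  interval_cases i
  · exact chk_pow6_0
  · exact chk_pow6_1
  · exact chk_pow6_2
  · exact chk_pow6_3

theorem chk_pow7 : tab.minOK [4, 0] 2 = true := by
  refine tab.minOK_of_chunks [4, 0] 2 240000 7 (by decide +kernel) (by norm_num) (by show 1539000 ≤ 7 * 240000; norm_num) ?_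
  intro i hi
  interval_cases i
  · exact chk_pow7_0
  · exact chk_pow7_1
  · exact chk_pow7_2
  · exact chk_pow7_3
  · exact chk_pow7_4
  · exact chk_pow7_5
  · exact chk_pow7_6

theorem chk_pow8 : tab.minOK [5, 2, 1, 3, 3, 1, 3, 1, 3, 4, 2, 0, 2, 0, 2, 2, 0, 3, 1, 1] 1 = true := by
  refine tab.minOK_of_chunks [5, 2, 1, 3, 3, 1, 3, 1, 3, 4, 2, 0, 2, 0, 2, 2, 0, 3, 1, 1] 1 24000 65 (by decide +kernel) (by norm_num) (by show 1539000 ≤ 65 * 24000; norm_num) ?_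
  intro i hi
  interval_cases i
  · exact chk_pow8_0
  · exact chk_pow8_1
  · exact chk_pow8_2
  · exact chk_pow8_3
  · exact chk_pow8_4
  · exact chk_pow8_5
  · exact chk_pow8_6
  · exact chk_pow8_7
  · exact chk_pow8_8
  · exact chk_pow8_9
  · exact chk_pow8_10
  · exact chk_pow8_11
  · exact chk_pow8_12
  · exact chk_pow8_13
  · exact chk_pow8_14
  · exact chk_pow8_15
  · exact chk_pow8_16
  · exact chk_pow8_17
  · exact chk_pow8_18
  · exact chk_pow8_19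
  · exact chk_pow8_20
  · exact chk_pow8_21
  · exact chk_pow8_22
  · exact chk_pow8_23
  · exact chk_pow8_24
  · exact chk_pow8_25
  · exact chk_pow8_26
  · exact chk_pow8_27
  · exact chk_pow8_28
  · exact chk_pow8_29
  · exact chk_pow8_30
  · exact chk_pow8_31
  · exact chk_pow8_32
  · exact chk_pow8_33
  · exact chk_pow8_34
  · exact chk_pow8_35
  · exact chk_pow8_36
  · exact chk_pow8_37
  · exact chk_pow8_38
  · exact chk_pow8_39
  · exact chk_pow8_40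
  · exact chk_pow8_41
  · exact chk_pow8_42
  · exact chk_pow8_43
  · exact chk_pow8_44
  · exact chk_pow8_45
  · exact chk_pow8_46
  · exact chk_pow8_47
  · exact chk_pow8_48
  · exact chk_pow8_49
  · exact chk_pow8_50
  · exact chk_pow8_51
  · exact chk_pow8_52
  · exact chk_pow8_53
  · exact chk_pow8_54
  · exact chk_pow8_55
  · exact chk_pow8_56
  · exact chk_pow8_57
  · exact chk_pow8_58
  · exact chk_pow8_59
  · exact chk_pow8_60
  · exact chk_pow8_61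
  · exact chk_pow8_62
  · exact chk_pow8_63
  · exact chk_pow8_64

theorem chk_pow9 : tab.minOK [4, 3, 1, 3, 1, 3, 3, 3, 4, 2, 2, 2, 0, 2, 0, 2, 0, 3, 1, 3, 1, 3, 3, 3, 4, 2, 2, 2, 0, 2, 0, 2, 0, 3, 1, 3, 1, 3, 3, 3, 4, 2, 2, 2, 0, 2, 0, 2, 0] 1 = true := by
  refine tab.minOK_of_chunks [4, 3, 1, 3, 1, 3, 3, 3, 4, 2, 2, 2, 0, 2, 0, 2, 0, 3, 1, 3, 1, 3, 3, 3, 4, 2, 2, 2, 0, 2, 0, 2, 0, 3, 1, 3, 1, 3, 3, 3, 4, 2, 2, 2, 0, 2, 0, 2, 0] 1 9795 158 (by decide +kernel) (by norm_num) (by show 1539000 ≤ 158 * 9795; norm_num) ?_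
  intro i hi
  interval_cases i
  · exact chk_pow9_0
  · exact chk_pow9_1
  · exact chk_pow9_2
  · exact chk_pow9_3
  · exact chk_pow9_4
  · exact chk_pow9_5
  · exact chk_pow9_6
  · exact chk_pow9_7
  · exact chk_pow9_8
  · exact chk_pow9_9
  · exact chk_pow9_10
  · exact chk_pow9_11
  · exact chk_pow9_12
  · exact chk_pow9_13
  · exact chk_pow9_14
  · exact chk_pow9_15
  · exact chk_pow9_16
  · exact chk_pow9_17
  · exact chk_pow9_18
  · exact chk_pow9_19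
  · exact chk_pow9_20
  · exact chk_pow9_21
  · exact chk_pow9_22
  · exact chk_pow9_23
  · exact chk_pow9_24
  · exact chk_pow9_25
  · exact chk_pow9_26
  · exact chk_pow9_27
  · exact chk_pow9_28
  · exact chk_pow9_29
  · exact chk_pow9_30
  · exact chk_pow9_31
  · exact chk_pow9_32
  · exact chk_pow9_33
  · exact chk_pow9_34
  · exact chk_pow9_35
  · exact chk_pow9_36
  · exact chk_pow9_37
  · exact chk_pow9_38
  · exact chk_pow9_39
  · exact chk_pow9_40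
  · exact chk_pow9_41
  · exact chk_pow9_42
  · exact chk_pow9_43
  · exact chk_pow9_44
  · exact chk_pow9_45
  · exact chk_pow9_46
  · exact chk_pow9_47
  · exact chk_pow9_48
  · exact chk_pow9_49
  · exact chk_pow9_50
  · exact chk_pow9_51
  · exact chk_pow9_52
  · exact chk_pow9_53
  · exact chk_pow9_54
  · exact chk_pow9_55
  · exact chk_pow9_56
  · exact chk_pow9_57
  · exact chk_pow9_58
  · exact chk_pow9_59
  · exact chk_pow9_60
  · exact chk_pow9_61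
  · exact chk_pow9_62
  · exact chk_pow9_63
  · exact chk_pow9_64
  · exact chk_pow9_65
  · exact chk_pow9_66
  · exact chk_pow9_67
  · exact chk_pow9_68
  · exact chk_pow9_69
  · exact chk_pow9_70
  · exact chk_pow9_71
  · exact chk_pow9_72
  · exact chk_pow9_73
  · exact chk_pow9_74
  · exact chk_pow9_75
  · exact chk_pow9_76
  · exact chk_pow9_77
  · exact chk_pow9_78
  · exact chk_pow9_79
  · exact chk_pow9_80
  · exact chk_pow9_81
  · exact chk_pow9_82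
  · exact chk_pow9_83
  · exact chk_pow9_84
  · exact chk_pow9_85
  · exact chk_pow9_86
  · exact chk_pow9_87
  · exact chk_pow9_88
  · exact chk_pow9_89
  · exact chk_pow9_90
  · exact chk_pow9_91
  · exact chk_pow9_92
  · exact chk_pow9_93
  · exact chk_pow9_94
  · exact chk_pow9_95
  · exact chk_pow9_96
  · exact chk_pow9_97
  · exact chk_pow9_98
  · exact chk_pow9_99
  · exact chk_pow9_100
  · exact chk_pow9_101
  · exact chk_pow9_102
  · exact chk_pow9_103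
  · exact chk_pow9_104
  · exact chk_pow9_105
  · exact chk_pow9_106
  · exact chk_pow9_107
  · exact chk_pow9_108
  · exact chk_pow9_109
  · exact chk_pow9_110
  · exact chk_pow9_111
  · exact chk_pow9_112
  · exact chk_pow9_113
  · exact chk_pow9_114
  · exact chk_pow9_115
  · exact chk_pow9_116
  · exact chk_pow9_117
  · exact chk_pow9_118
  · exact chk_pow9_119
  · exact chk_pow9_120
  · exact chk_pow9_121
  · exact chk_pow9_122
  · exact chk_pow9_123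
  · exact chk_pow9_124
  · exact chk_pow9_125
  · exact chk_pow9_126
  · exact chk_pow9_127
  · exact chk_pow9_128
  · exact chk_pow9_129
  · exact chk_pow9_130
  · exact chk_pow9_131
  · exact chk_pow9_132
  · exact chk_pow9_133
  · exact chk_pow9_134
  · exact chk_pow9_135
  · exact chk_pow9_136
  · exact chk_pow9_137
  · exact chk_pow9_138
  · exact chk_pow9_139
  · exact chk_pow9_140
  · exact chk_pow9_141
  · exact chk_pow9_142
  · exact chk_pow9_143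
  · exact chk_pow9_144
  · exact chk_pow9_145
  · exact chk_pow9_146
  · exact chk_pow9_147
  · exact chk_pow9_148
  · exact chk_pow9_149
  · exact chk_pow9_150
  · exact chk_pow9_151
  · exact chk_pow9_152
  · exact chk_pow9_153
  · exact chk_pow9_154
  · exact chk_pow9_155
  · exact chk_pow9_156
  · exact chk_pow9_157

theorem chk_pow10 : tab.minOK [6] 5 = true := by
  refine tab.minOK_of_chunks [6] 5 480000 4 (by decide +kernel) (by norm_num) (by show 1539000 ≤ 4 * 480000; norm_num) ?_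
  intro i hi
  interval_cases i
  · exact chk_pow10_0
  · exact chk_pow10_1
  · exact chk_pow10_2
  · exact chk_pow10_3

theorem chk_pow11 : tab.minOK [1, 6, 0, 6, 6] 1 = true := by
  refine tab.minOK_of_chunks [1, 6, 0, 6, 6] 1 96000 17 (by decide +kernel) (by norm_num) (by show 1539000 ≤ 17 * 96000; norm_num) ?_
  intro i hi
  interval_cases i
  · exact chk_pow11_0
  · exact chk_pow11_1
  · exact chk_pow11_2
  · exact chk_pow11_3
  · exact chk_pow11_4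
  · exact chk_pow11_5
  · exact chk_pow11_6
  · exact chk_pow11_7
  · exact chk_pow11_8
  · exact chk_pow11_9
  · exact chk_pow11_10
  · exact chk_pow11_11
  · exact chk_pow11_12
  · exact chk_pow11_13
  · exact chk_pow11_14
  · exact chk_pow11_15
  · exact chk_pow11_16

theorem chk_pow12 : tab.minOK [7, 3, 6, 2] 1 = true := by
  refine tab.minOK_of_chunks [7, 3, 6, 2] 1 120000 13 (by decide +kernel) (by norm_num) (by show 1539000 ≤ 13 * 120000; norm_num) ?_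
  intro i hi
  interval_cases i
  · exact chk_pow12_0
  · exact chk_pow12_1
  · exact chk_pow12_2
  · exact chk_pow12_3
  · exact chk_pow12_4
  · exact chk_pow12_5
  · exact chk_pow12_6
  · exact chk_pow12_7
  · exact chk_pow12_8
  · exact chk_pow12_9
  · exact chk_pow12_10
  · exact chk_pow12_11
  · exact chk_pow12_12

theorem chk_pow13 : tab.minOK [4, 6] 3 = true := by
  refine tab.minOK_of_chunks [4, 6] 3 240000 7 (by decide +kernel) (by norm_num) (by show 1539000 ≤ 7 * 240000; norm_num) ?_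
  intro i hi
  interval_cases i
  · exact chk_pow13_0
  · exact chk_pow13_1
  · exact chk_pow13_2
  · exact chk_pow13_3
  · exact chk_pow13_4
  · exact chk_pow13_5
  · exact chk_pow13_6


end Cfsg.Agent.Lib.Lead.HNP.HNTC
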