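import Cfsg.Agent.Lib.Lead.HNP.HNTCData
import Cfsg.Agent.Lib.Helper6.TCGIndex
import Cfsg.Agent.Lib.Lead.HNP.HNTCRel157

/-! # HNTC: the kernel check of the coset table, part 0 -/

set_option autoImplicit false

namespace Cfsg.Agent.Lib.Lead.HNP.HNTC

open Cfsg.Agent.Lib.Helper6.TC Cfsg.Agent.Lib.Helper6.TCGS

theorem chk_tab0 : Cfsg.Agent.Lib.Helper6.TCG.tabOKc tab ivs 0 2000 = true := by decide +kernel

theorem chk_tab1 : Cfsg.Agent.Lib.Helper6.TCG.tabOKc tab ivs 2000 2000 = true := by decide +kernel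

theorem chk_tab2 : Cfsg.Agent.Lib.Helper6.TCG.tabOKc tab ivs 4000 2000 = true := by decide +kernel

theorem chk_tab3 : Cfsg.Agent.Lib.Helper6.TCG.tabOKc tab ivs 6000 2000 = true := by decide +kernel

theorem chk_tab4 : Cfsg.Agent.Lib.Helper6.TCG.tabOKc tab ivs 8000 2000 = true := by decide +kernel

theorem chk_tab5 : Cfsg.Agent.Lib.Helper6.TCG.tabOKc tab ivs 10000 2000 = true := by decide +kernel

theorem chk_tab6 : Cfsg.Agent.Lib.Helper6.TCG.tabOKc tab ivs 12000 2000 = true := by decide +kernel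

theorem chk_tab7 : Cfsg.Agent.Lib.Helper6.TCG.tabOKc tab ivs 14000 2000 = true := by decide +kernel

theorem chk_tab8 : Cfsg.Agent.Lib.Helper6.TCG.tabOKc tab ivs 16000 2000 = true := by decide +kernel


end Cfsg.Agent.Lib.Lead.HNP.HNTC
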