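import Cfsg.Agent.Lib.Lead.HNP.HNTCData
import Cfsg.Agent.Lib.Helper6.TCGIndex
import Cfsg.Agent.Lib.Lead.HNP.HNTCRel158

/-! # HNTC: the kernel check of the coset table, part 1 -/

set_option autoImplicit false

namespace Cfsg.Agent.Lib.Lead.HNP.HNTC

open Cfsg.Agent.Lib.Helper6.TC Cfsg.Agent.Lib.Helper6.TCGS

theorem chk_tab9 : Cfsg.Agent.Lib.Helper6.TCG.tabOKc tab ivs 18000 2000 = true := by decide +kernel

theorem chk_tab10 : Cfsg.Agent.Lib.Helper6.TCG.tabOKc tab ivs 20000 2000 = true := by decide +kernel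

theorem chk_tab11 : Cfsg.Agent.Lib.Helper6.TCG.tabOKc tab ivs 22000 2000 = true := by decide +kernel

theorem chk_tab12 : Cfsg.Agent.Lib.Helper6.TCG.tabOKc tab ivs 24000 2000 = true := by decide +kernel

theorem chk_tab13 : Cfsg.Agent.Lib.Helper6.TCG.tabOKc tab ivs 26000 2000 = true := by decide +kernel

theorem chk_tab14 : Cfsg.Agent.Lib.Helper6.TCG.tabOKc tab ivs 28000 2000 = true := by decide +kernel

theorem chk_tab15 : Cfsg.Agent.Lib.Helper6.TCG.tabOKc tab ivs 30000 2000 = true := by decide +kernel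

theorem chk_tab16 : Cfsg.Agent.Lib.Helper6.TCG.tabOKc tab ivs 32000 2000 = true := by decide +kernel

theorem chk_tab17 : Cfsg.Agent.Lib.Helper6.TCG.tabOKc tab ivs 34000 2000 = true := by decide +kernel


end Cfsg.Agent.Lib.Lead.HNP.HNTC
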