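import Cfsg.Agent.Lib.Lead.HNP.HNTCData
import Cfsg.Agent.Lib.Helper6.TCGIndex
import Cfsg.Agent.Lib.Lead.HNP.HNTCRel168

/-! # HNTC: the kernel check of the coset table, part 11 -/

set_option autoImplicit false

namespace Cfsg.Agent.Lib.Lead.HNP.HNTC

open Cfsg.Agent.Lib.Helper6.TC Cfsg.Agent.Lib.Helper6.TCGS

theorem chk_tab99 : Cfsg.Agent.Lib.Helper6.TCG.tabOKc tab ivs 198000 2000 = true := by decide +kernel

theorem chk_tab100 : Cfsg.Agent.Lib.Helper6.TCG.tabOKc tab ivs 200000 2000 = true := by decide +kernel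

theorem chk_tab101 : Cfsg.Agent.Lib.Helper6.TCG.tabOKc tab ivs 202000 2000 = true := by decide +kernel

theorem chk_tab102 : Cfsg.Agent.Lib.Helper6.TCG.tabOKc tab ivs 204000 2000 = true := by decide +kernel

theorem chk_tab103 : Cfsg.Agent.Lib.Helper6.TCG.tabOKc tab ivs 206000 2000 = true := by decide +kernel

theorem chk_tab104 : Cfsg.Agent.Lib.Helper6.TCG.tabOKc tab ivs 208000 2000 = true := by decide +kernel

theorem chk_tab105 : Cfsg.Agent.Lib.Helper6.TCG.tabOKc tab ivs 210000 2000 = true := by decide +kernel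

theorem chk_tab106 : Cfsg.Agent.Lib.Helper6.TCG.tabOKc tab ivs 212000 2000 = true := by decide +kernel

theorem chk_tab107 : Cfsg.Agent.Lib.Helper6.TCG.tabOKc tab ivs 214000 2000 = true := by decide +kernel


end Cfsg.Agent.Lib.Lead.HNP.HNTC
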