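import Cfsg.Agent.Lib.Lead.HNP.HNTCData
import Cfsg.Agent.Lib.Helper6.TCGIndex
import Cfsg.Agent.Lib.Lead.HNP.HNTCRel169

/-! # HNTC: the kernel check of the coset table, part 12 -/

set_option autoImplicit false

namespace Cfsg.Agent.Lib.Lead.HNP.HNTC

open Cfsg.Agent.Lib.Helper6.TC Cfsg.Agent.Lib.Helper6.TCGS

theorem chk_tab108 : Cfsg.Agent.Lib.Helper6.TCG.tabOKc tab ivs 216000 2000 = true := by decide +kernel

theorem chk_tab109 : Cfsg.Agent.Lib.Helper6.TCG.tabOKc tab ivs 218000 2000 = true := by decide +kernel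

theorem chk_tab110 : Cfsg.Agent.Lib.Helper6.TCG.tabOKc tab ivs 220000 2000 = true := by decide +kernel

theorem chk_tab111 : Cfsg.Agent.Lib.Helper6.TCG.tabOKc tab ivs 222000 2000 = true := by decide +kernel

theorem chk_tab112 : Cfsg.Agent.Lib.Helper6.TCG.tabOKc tab ivs 224000 2000 = true := by decide +kernel

theorem chk_tab113 : Cfsg.Agent.Lib.Helper6.TCG.tabOKc tab ivs 226000 2000 = true := by decide +kernel

theorem chk_tab114 : Cfsg.Agent.Lib.Helper6.TCG.tabOKc tab ivs 228000 2000 = true := by decide +kernel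

theorem chk_tab115 : Cfsg.Agent.Lib.Helper6.TCG.tabOKc tab ivs 230000 2000 = true := by decide +kernel

theorem chk_tab116 : Cfsg.Agent.Lib.Helper6.TCG.tabOKc tab ivs 232000 2000 = true := by decide +kernel


end Cfsg.Agent.Lib.Lead.HNP.HNTC
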