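import Cfsg.Agent.Lib.Lead.HNP.HNTCData
import Cfsg.Agent.Lib.Helper6.TCRel3
import Cfsg.Agent.Lib.Lead.HNP.HNTCRel146

/-! # HNTC: the kernel check of a part of the relators on the coset table -/

set_option autoImplicit false

namespace Cfsg.Agent.Lib.Lead.HNP.HNTC

open Cfsg.Agent.Lib.Helper6.TC

theorem chk_pow11_15_0 : tab.minOKc [1, 6, 0, 6, 6] 1 1440000 6400 = true := by decide +kernel

theorem chk_pow11_15_1 : tab.minOKc [1, 6, 0, 6, 6] 1 1446400 6400 = true := by decide +kernel

theorem chk_pow11_15_2 : tab.minOKc [1, 6, 0, 6, 6] 1 1452800 6400 = true := by decide +kernel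

theorem chk_pow11_15_3 : tab.minOKc [1, 6, 0, 6, 6] 1 1459200 6400 = true := by decide +kernel

theorem chk_pow11_15_4 : tab.minOKc [1, 6, 0, 6, 6] 1 1465600 6400 = true := by decide +kernel

theorem chk_pow11_15_5 : tab.minOKc [1, 6, 0, 6, 6] 1 1472000 6400 = true := by decide +kernel

theorem chk_pow11_15_6 : tab.minOKc [1, 6, 0, 6, 6] 1 1478400 6400 = true := by decide +kernel

theorem chk_pow11_15_7 : tab.minOKc [1, 6, 0, 6, 6] 1 1484800 6400 = true := by decide +kernel

theorem chk_pow11_15_8 : tab.minOKc [1, 6, 0, 6, 6] 1 1491200 6400 = true := by decide +kernel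

theorem chk_pow11_15_9 : tab.minOKc [1, 6, 0, 6, 6] 1 1497600 6400 = true := by decide +kernel

theorem chk_pow11_15_10 : tab.minOKc [1, 6, 0, 6, 6] 1 1504000 6400 = true := by decide +kernel

theorem chk_pow11_15_11 : tab.minOKc [1, 6, 0, 6, 6] 1 1510400 6400 = true := by decide +kernel

theorem chk_pow11_15_12 : tab.minOKc [1, 6, 0, 6, 6] 1 1516800 6400 = true := by decide +kernel

theorem chk_pow11_15_13 : tab.minOKc [1, 6, 0, 6, 6] 1 1523200 6400 = true := by decide +kernel

theorem chk_pow11_15_14 : tab.minOKc [1, 6, 0, 6, 6] 1 1529600 6400 = true := by decide +kernel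

theorem chk_pow11_15 : tab.minOKc [1, 6, 0, 6, 6] 1 1440000 96000 = true := by
  refine tab.minOKc_of_chunks [1, 6, 0, 6, 6] 1 1440000 6400 15 (by norm_num) ?_
  intro i hi
  interval_cases i
  · exact chk_pow11_15_0
  · exact chk_pow11_15_1
  · exact chk_pow11_15_2
  · exact chk_pow11_15_3
  · exact chk_pow11_15_4
  · exact chk_pow11_15_5
  · exact chk_pow11_15_6
  · exact chk_pow11_15_7
  · exact chk_pow11_15_8
  · exact chk_pow11_15_9
  · exact chk_pow11_15_10
  · exact chk_pow11_15_11
  · exact chk_pow11_15_12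
  · exact chk_pow11_15_13
  · exact chk_pow11_15_14

theorem chk_pow11_16_0 : tab.minOKc [1, 6, 0, 6, 6] 1 1536000 6400 = true := by decide +kernel

theorem chk_pow11_16_1 : tab.minOKc [1, 6, 0, 6, 6] 1 1542400 6400 = true := by decide +kernel

theorem chk_pow11_16_2 : tab.minOKc [1, 6, 0, 6, 6] 1 1548800 6400 = true := by decide +kernel

theorem chk_pow11_16_3 : tab.minOKc [1, 6, 0, 6, 6] 1 1555200 6400 = true := by decide +kernel

theorem chk_pow11_16_4 : tab.minOKc [1, 6, 0, 6, 6] 1 1561600 6400 = true := by decide +kernel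

theorem chk_pow11_16_5 : tab.minOKc [1, 6, 0, 6, 6] 1 1568000 6400 = true := by decide +kernel

theorem chk_pow11_16_6 : tab.minOKc [1, 6, 0, 6, 6] 1 1574400 6400 = true := by decide +kernel

theorem chk_pow11_16_7 : tab.minOKc [1, 6, 0, 6, 6] 1 1580800 6400 = true := by decide +kernel

theorem chk_pow11_16_8 : tab.minOKc [1, 6, 0, 6, 6] 1 1587200 6400 = true := by decide +kernel

theorem chk_pow11_16_9 : tab.minOKc [1, 6, 0, 6, 6] 1 1593600 6400 = true := by decide +kernel

theorem chk_pow11_16_10 : tab.minOKc [1, 6, 0, 6, 6] 1 1600000 6400 = true := by decide +kernel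

theorem chk_pow11_16_11 : tab.minOKc [1, 6, 0, 6, 6] 1 1606400 6400 = true := by decide +kernel

theorem chk_pow11_16_12 : tab.minOKc [1, 6, 0, 6, 6] 1 1612800 6400 = true := by decide +kernel

theorem chk_pow11_16_13 : tab.minOKc [1, 6, 0, 6, 6] 1 1619200 6400 = true := by decide +kernel

theorem chk_pow11_16_14 : tab.minOKc [1, 6, 0, 6, 6] 1 1625600 6400 = true := by decide +kernel

theorem chk_pow11_16 : tab.minOKc [1, 6, 0, 6, 6] 1 1536000 96000 = true := by
  refine tab.minOKc_of_chunks [1, 6, 0, 6, 6] 1 1536000 6400 15 (by norm_num) ?_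
  intro i hi
  interval_cases i
  · exact chk_pow11_16_0
  · exact chk_pow11_16_1
  · exact chk_pow11_16_2
  · exact chk_pow11_16_3
  · exact chk_pow11_16_4
  · exact chk_pow11_16_5
  · exact chk_pow11_16_6
  · exact chk_pow11_16_7
  · exact chk_pow11_16_8
  · exact chk_pow11_16_9
  · exact chk_pow11_16_10
  · exact chk_pow11_16_11
  · exact chk_pow11_16_12
  · exact chk_pow11_16_13
  · exact chk_pow11_16_14


end Cfsg.Agent.Lib.Lead.HNP.HNTC
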