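import Cfsg.Agent.Lib.Lead.HNP.HNTCData
import Cfsg.Agent.Lib.Helper6.TCGIndex
import Cfsg.Agent.Lib.Lead.HNP.HNTCRel170

/-! # HNTC: the kernel check of the coset table, part 13 -/

set_option autoImplicit false

namespace Cfsg.Agent.Lib.Lead.HNP.HNTC

open Cfsg.Agent.Lib.Helper6.TC Cfsg.Agent.Lib.Helper6.TCGS

theorem chk_tab117 : Cfsg.Agent.Lib.Helper6.TCG.tabOKc tab ivs 234000 2000 = true := by decide +kernel

theorem chk_tab118 : Cfsg.Agent.Lib.Helper6.TCG.tabOKc tab ivs 236000 2000 = true := by decide +kernel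

theorem chk_tab119 : Cfsg.Agent.Lib.Helper6.TCG.tabOKc tab ivs 238000 2000 = true := by decide +kernel

theorem chk_tab120 : Cfsg.Agent.Lib.Helper6.TCG.tabOKc tab ivs 240000 2000 = true := by decide +kernel

theorem chk_tab121 : Cfsg.Agent.Lib.Helper6.TCG.tabOKc tab ivs 242000 2000 = true := by decide +kernel

theorem chk_tab122 : Cfsg.Agent.Lib.Helper6.TCG.tabOKc tab ivs 244000 2000 = true := by decide +kernel

theorem chk_tab123 : Cfsg.Agent.Lib.Helper6.TCG.tabOKc tab ivs 246000 2000 = true := by decide +kernel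

theorem chk_tab124 : Cfsg.Agent.Lib.Helper6.TCG.tabOKc tab ivs 248000 2000 = true := by decide +kernel

theorem chk_tab125 : Cfsg.Agent.Lib.Helper6.TCG.tabOKc tab ivs 250000 2000 = true := by decide +kernel


end Cfsg.Agent.Lib.Lead.HNP.HNTC
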