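import Cfsg.Agent.Lib.Lead.HNP.HNTCData
import Cfsg.Agent.Lib.Helper6.TCGIndex
import Cfsg.Agent.Lib.Lead.HNP.HNTCRel171

/-! # HNTC: the kernel check of the coset table, part 14 -/

set_option autoImplicit false

namespace Cfsg.Agent.Lib.Lead.HNP.HNTC

open Cfsg.Agent.Lib.Helper6.TC Cfsg.Agent.Lib.Helper6.TCGS

theorem chk_tab126 : Cfsg.Agent.Lib.Helper6.TCG.tabOKc tab ivs 252000 2000 = true := by decide +kernel

theorem chk_tab127 : Cfsg.Agent.Lib.Helper6.TCG.tabOKc tab ivs 254000 2000 = true := by decide +kernel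

theorem chk_tab128 : Cfsg.Agent.Lib.Helper6.TCG.tabOKc tab ivs 256000 2000 = true := by decide +kernel

theorem chk_tab129 : Cfsg.Agent.Lib.Helper6.TCG.tabOKc tab ivs 258000 2000 = true := by decide +kernel

theorem chk_tab130 : Cfsg.Agent.Lib.Helper6.TCG.tabOKc tab ivs 260000 2000 = true := by decide +kernel

theorem chk_tab131 : Cfsg.Agent.Lib.Helper6.TCG.tabOKc tab ivs 262000 2000 = true := by decide +kernel

theorem chk_tab132 : Cfsg.Agent.Lib.Helper6.TCG.tabOKc tab ivs 264000 2000 = true := by decide +kernel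

theorem chk_tab133 : Cfsg.Agent.Lib.Helper6.TCG.tabOKc tab ivs 266000 2000 = true := by decide +kernel

theorem chk_tab134 : Cfsg.Agent.Lib.Helper6.TCG.tabOKc tab ivs 268000 2000 = true := by decide +kernel


end Cfsg.Agent.Lib.Lead.HNP.HNTC
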