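import Cfsg.Agent.Lib.Lead.HNP.HNTCData
import Cfsg.Agent.Lib.Helper6.TCGIndex
import Cfsg.Agent.Lib.Lead.HNP.HNTCRel172

/-! # HNTC: the kernel check of the coset table, part 15 -/

set_option autoImplicit false

namespace Cfsg.Agent.Lib.Lead.HNP.HNTC

open Cfsg.Agent.Lib.Helper6.TC Cfsg.Agent.Lib.Helper6.TCGS

theorem chk_tab135 : Cfsg.Agent.Lib.Helper6.TCG.tabOKc tab ivs 270000 2000 = true := by decide +kernel

theorem chk_tab136 : Cfsg.Agent.Lib.Helper6.TCG.tabOKc tab ivs 272000 2000 = true := by decide +kernel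

theorem chk_tab137 : Cfsg.Agent.Lib.Helper6.TCG.tabOKc tab ivs 274000 2000 = true := by decide +kernel

theorem chk_tab138 : Cfsg.Agent.Lib.Helper6.TCG.tabOKc tab ivs 276000 2000 = true := by decide +kernel

theorem chk_tab139 : Cfsg.Agent.Lib.Helper6.TCG.tabOKc tab ivs 278000 2000 = true := by decide +kernel

theorem chk_tab140 : Cfsg.Agent.Lib.Helper6.TCG.tabOKc tab ivs 280000 2000 = true := by decide +kernel

theorem chk_tab141 : Cfsg.Agent.Lib.Helper6.TCG.tabOKc tab ivs 282000 2000 = true := by decide +kernel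

theorem chk_tab142 : Cfsg.Agent.Lib.Helper6.TCG.tabOKc tab ivs 284000 2000 = true := by decide +kernel

theorem chk_tab143 : Cfsg.Agent.Lib.Helper6.TCG.tabOKc tab ivs 286000 2000 = true := by decide +kernel


end Cfsg.Agent.Lib.Lead.HNP.HNTC
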