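import Cfsg.Agent.Lib.Lead.HNP.HNTCData
import Cfsg.Agent.Lib.Helper6.TCGIndex
import Cfsg.Agent.Lib.Lead.HNP.HNTCRel173

/-! # HNTC: the kernel check of the coset table, part 16 -/

set_option autoImplicit false

namespace Cfsg.Agent.Lib.Lead.HNP.HNTC

open Cfsg.Agent.Lib.Helper6.TC Cfsg.Agent.Lib.Helper6.TCGS

theorem chk_tab144 : Cfsg.Agent.Lib.Helper6.TCG.tabOKc tab ivs 288000 2000 = true := by decide +kernel

theorem chk_tab145 : Cfsg.Agent.Lib.Helper6.TCG.tabOKc tab ivs 290000 2000 = true := by decide +kernel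

theorem chk_tab146 : Cfsg.Agent.Lib.Helper6.TCG.tabOKc tab ivs 292000 2000 = true := by decide +kernel

theorem chk_tab147 : Cfsg.Agent.Lib.Helper6.TCG.tabOKc tab ivs 294000 2000 = true := by decide +kernel

theorem chk_tab148 : Cfsg.Agent.Lib.Helper6.TCG.tabOKc tab ivs 296000 2000 = true := by decide +kernel

theorem chk_tab149 : Cfsg.Agent.Lib.Helper6.TCG.tabOKc tab ivs 298000 2000 = true := by decide +kernel

theorem chk_tab150 : Cfsg.Agent.Lib.Helper6.TCG.tabOKc tab ivs 300000 2000 = true := by decide +kernel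

theorem chk_tab151 : Cfsg.Agent.Lib.Helper6.TCG.tabOKc tab ivs 302000 2000 = true := by decide +kernel

theorem chk_tab152 : Cfsg.Agent.Lib.Helper6.TCG.tabOKc tab ivs 304000 2000 = true := by decide +kernel


end Cfsg.Agent.Lib.Lead.HNP.HNTC
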