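import Cfsg.Agent.Lib.Lead.HNP.HNTCData
import Cfsg.Agent.Lib.Helper6.TCGIndex
import Cfsg.Agent.Lib.Lead.HNP.HNTCRel178

/-! # HNTC: the kernel check of the coset table, part 21 -/

set_option autoImplicit false

namespace Cfsg.Agent.Lib.Lead.HNP.HNTC

open Cfsg.Agent.Lib.Helper6.TC Cfsg.Agent.Lib.Helper6.TCGS

theorem chk_tab189 : Cfsg.Agent.Lib.Helper6.TCG.tabOKc tab ivs 378000 2000 = true := by decide +kernel

theorem chk_tab190 : Cfsg.Agent.Lib.Helper6.TCG.tabOKc tab ivs 380000 2000 = true := by decide +kernel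

theorem chk_tab191 : Cfsg.Agent.Lib.Helper6.TCG.tabOKc tab ivs 382000 2000 = true := by decide +kernel

theorem chk_tab192 : Cfsg.Agent.Lib.Helper6.TCG.tabOKc tab ivs 384000 2000 = true := by decide +kernel

theorem chk_tab193 : Cfsg.Agent.Lib.Helper6.TCG.tabOKc tab ivs 386000 2000 = true := by decide +kernel

theorem chk_tab194 : Cfsg.Agent.Lib.Helper6.TCG.tabOKc tab ivs 388000 2000 = true := by decide +kernel

theorem chk_tab195 : Cfsg.Agent.Lib.Helper6.TCG.tabOKc tab ivs 390000 2000 = true := by decide +kernel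

theorem chk_tab196 : Cfsg.Agent.Lib.Helper6.TCG.tabOKc tab ivs 392000 2000 = true := by decide +kernel

theorem chk_tab197 : Cfsg.Agent.Lib.Helper6.TCG.tabOKc tab ivs 394000 2000 = true := by decide +kernel


end Cfsg.Agent.Lib.Lead.HNP.HNTC
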