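import Cfsg.Agent.Lib.Lead.HNP.HNTCData
import Cfsg.Agent.Lib.Helper6.TCGIndex
import Cfsg.Agent.Lib.Lead.HNP.HNTCRel179

/-! # HNTC: the kernel check of the coset table, part 22 -/

set_option autoImplicit false

namespace Cfsg.Agent.Lib.Lead.HNP.HNTC

open Cfsg.Agent.Lib.Helper6.TC Cfsg.Agent.Lib.Helper6.TCGS

theorem chk_tab198 : Cfsg.Agent.Lib.Helper6.TCG.tabOKc tab ivs 396000 2000 = true := by decide +kernel

theorem chk_tab199 : Cfsg.Agent.Lib.Helper6.TCG.tabOKc tab ivs 398000 2000 = true := by decide +kernel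

theorem chk_tab200 : Cfsg.Agent.Lib.Helper6.TCG.tabOKc tab ivs 400000 2000 = true := by decide +kernel

theorem chk_tab201 : Cfsg.Agent.Lib.Helper6.TCG.tabOKc tab ivs 402000 2000 = true := by decide +kernel

theorem chk_tab202 : Cfsg.Agent.Lib.Helper6.TCG.tabOKc tab ivs 404000 2000 = true := by decide +kernel

theorem chk_tab203 : Cfsg.Agent.Lib.Helper6.TCG.tabOKc tab ivs 406000 2000 = true := by decide +kernel

theorem chk_tab204 : Cfsg.Agent.Lib.Helper6.TCG.tabOKc tab ivs 408000 2000 = true := by decide +kernel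

theorem chk_tab205 : Cfsg.Agent.Lib.Helper6.TCG.tabOKc tab ivs 410000 2000 = true := by decide +kernel

theorem chk_tab206 : Cfsg.Agent.Lib.Helper6.TCG.tabOKc tab ivs 412000 2000 = true := by decide +kernel


end Cfsg.Agent.Lib.Lead.HNP.HNTC
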