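import Cfsg.Agent.Lib.Lead.HNP.HNTCData
import Cfsg.Agent.Lib.Helper6.TCGIndex
import Cfsg.Agent.Lib.Lead.HNP.HNTCRel180

/-! # HNTC: the kernel check of the coset table, part 23 -/

set_option autoImplicit false

namespace Cfsg.Agent.Lib.Lead.HNP.HNTC

open Cfsg.Agent.Lib.Helper6.TC Cfsg.Agent.Lib.Helper6.TCGS

theorem chk_tab207 : Cfsg.Agent.Lib.Helper6.TCG.tabOKc tab ivs 414000 2000 = true := by decide +kernel

theorem chk_tab208 : Cfsg.Agent.Lib.Helper6.TCG.tabOKc tab ivs 416000 2000 = true := by decide +kernel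

theorem chk_tab209 : Cfsg.Agent.Lib.Helper6.TCG.tabOKc tab ivs 418000 2000 = true := by decide +kernel

theorem chk_tab210 : Cfsg.Agent.Lib.Helper6.TCG.tabOKc tab ivs 420000 2000 = true := by decide +kernel

theorem chk_tab211 : Cfsg.Agent.Lib.Helper6.TCG.tabOKc tab ivs 422000 2000 = true := by decide +kernel

theorem chk_tab212 : Cfsg.Agent.Lib.Helper6.TCG.tabOKc tab ivs 424000 2000 = true := by decide +kernel

theorem chk_tab213 : Cfsg.Agent.Lib.Helper6.TCG.tabOKc tab ivs 426000 2000 = true := by decide +kernel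

theorem chk_tab214 : Cfsg.Agent.Lib.Helper6.TCG.tabOKc tab ivs 428000 2000 = true := by decide +kernel

theorem chk_tab215 : Cfsg.Agent.Lib.Helper6.TCG.tabOKc tab ivs 430000 2000 = true := by decide +kernel


end Cfsg.Agent.Lib.Lead.HNP.HNTC
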