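import Cfsg.Agent.Lib.Lead.HNP.HNTCData
import Cfsg.Agent.Lib.Helper6.TCGIndex
import Cfsg.Agent.Lib.Lead.HNP.HNTCTab1

/-! # HNTC: the kernel check of the coset table, part 25 -/

set_option autoImplicit false

namespace Cfsg.Agent.Lib.Lead.HNP.HNTC

open Cfsg.Agent.Lib.Helper6.TC Cfsg.Agent.Lib.Helper6.TCGS

theorem chk_tab225 : Cfsg.Agent.Lib.Helper6.TCG.tabOKc tab ivs 450000 2000 = true := by decide +kernel

theorem chk_tab226 : Cfsg.Agent.Lib.Helper6.TCG.tabOKc tab ivs 452000 2000 = true := by decide +kernel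

theorem chk_tab227 : Cfsg.Agent.Lib.Helper6.TCG.tabOKc tab ivs 454000 2000 = true := by decide +kernel

theorem chk_tab228 : Cfsg.Agent.Lib.Helper6.TCG.tabOKc tab ivs 456000 2000 = true := by decide +kernel

theorem chk_tab229 : Cfsg.Agent.Lib.Helper6.TCG.tabOKc tab ivs 458000 2000 = true := by decide +kernel

theorem chk_tab230 : Cfsg.Agent.Lib.Helper6.TCG.tabOKc tab ivs 460000 2000 = true := by decide +kernel

theorem chk_tab231 : Cfsg.Agent.Lib.Helper6.TCG.tabOKc tab ivs 462000 2000 = true := by decide +kernel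

theorem chk_tab232 : Cfsg.Agent.Lib.Helper6.TCG.tabOKc tab ivs 464000 2000 = true := by decide +kernel

theorem chk_tab233 : Cfsg.Agent.Lib.Helper6.TCG.tabOKc tab ivs 466000 2000 = true := by decide +kernel


end Cfsg.Agent.Lib.Lead.HNP.HNTC
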