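import Cfsg.Agent.Lib.Lead.HNP.HNTCData
import Cfsg.Agent.Lib.Helper6.TCGIndex
import Cfsg.Agent.Lib.Lead.HNP.HNTCTab2

/-! # HNTC: the kernel check of the coset table, part 26 -/

set_option autoImplicit false

namespace Cfsg.Agent.Lib.Lead.HNP.HNTC

open Cfsg.Agent.Lib.Helper6.TC Cfsg.Agent.Lib.Helper6.TCGS

theorem chk_tab234 : Cfsg.Agent.Lib.Helper6.TCG.tabOKc tab ivs 468000 2000 = true := by decide +kernel

theorem chk_tab235 : Cfsg.Agent.Lib.Helper6.TCG.tabOKc tab ivs 470000 2000 = true := by decide +kernel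

theorem chk_tab236 : Cfsg.Agent.Lib.Helper6.TCG.tabOKc tab ivs 472000 2000 = true := by decide +kernel

theorem chk_tab237 : Cfsg.Agent.Lib.Helper6.TCG.tabOKc tab ivs 474000 2000 = true := by decide +kernel

theorem chk_tab238 : Cfsg.Agent.Lib.Helper6.TCG.tabOKc tab ivs 476000 2000 = true := by decide +kernel

theorem chk_tab239 : Cfsg.Agent.Lib.Helper6.TCG.tabOKc tab ivs 478000 2000 = true := by decide +kernel

theorem chk_tab240 : Cfsg.Agent.Lib.Helper6.TCG.tabOKc tab ivs 480000 2000 = true := by decide +kernel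

theorem chk_tab241 : Cfsg.Agent.Lib.Helper6.TCG.tabOKc tab ivs 482000 2000 = true := by decide +kernel

theorem chk_tab242 : Cfsg.Agent.Lib.Helper6.TCG.tabOKc tab ivs 484000 2000 = true := by decide +kernel


end Cfsg.Agent.Lib.Lead.HNP.HNTC
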