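import Cfsg.Agent.Lib.Lead.HNP.HNTCData
import Cfsg.Agent.Lib.Helper6.TCGIndex
import Cfsg.Agent.Lib.Lead.HNP.HNTCRel160

/-! # HNTC: the kernel check of the coset table, part 3 -/

set_option autoImplicit false

namespace Cfsg.Agent.Lib.Lead.HNP.HNTC

open Cfsg.Agent.Lib.Helper6.TC Cfsg.Agent.Lib.Helper6.TCGS

theorem chk_tab27 : Cfsg.Agent.Lib.Helper6.TCG.tabOKc tab ivs 54000 2000 = true := by decide +kernel

theorem chk_tab28 : Cfsg.Agent.Lib.Helper6.TCG.tabOKc tab ivs 56000 2000 = true := by decide +kernel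

theorem chk_tab29 : Cfsg.Agent.Lib.Helper6.TCG.tabOKc tab ivs 58000 2000 = true := by decide +kernel

theorem chk_tab30 : Cfsg.Agent.Lib.Helper6.TCG.tabOKc tab ivs 60000 2000 = true := by decide +kernel

theorem chk_tab31 : Cfsg.Agent.Lib.Helper6.TCG.tabOKc tab ivs 62000 2000 = true := by decide +kernel

theorem chk_tab32 : Cfsg.Agent.Lib.Helper6.TCG.tabOKc tab ivs 64000 2000 = true := by decide +kernel

theorem chk_tab33 : Cfsg.Agent.Lib.Helper6.TCG.tabOKc tab ivs 66000 2000 = true := by decide +kernel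

theorem chk_tab34 : Cfsg.Agent.Lib.Helper6.TCG.tabOKc tab ivs 68000 2000 = true := by decide +kernel

theorem chk_tab35 : Cfsg.Agent.Lib.Helper6.TCG.tabOKc tab ivs 70000 2000 = true := by decide +kernel


end Cfsg.Agent.Lib.Lead.HNP.HNTC
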