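import Cfsg.Agent.Lib.Lead.HNP.HNTCData
import Cfsg.Agent.Lib.Helper6.TCGIndex
import Cfsg.Agent.Lib.Lead.HNP.HNTCTab3

/-! # HNTC: the kernel check of the coset table, part 27 -/

set_option autoImplicit false

namespace Cfsg.Agent.Lib.Lead.HNP.HNTC

open Cfsg.Agent.Lib.Helper6.TC Cfsg.Agent.Lib.Helper6.TCGS

theorem chk_tab243 : Cfsg.Agent.Lib.Helper6.TCG.tabOKc tab ivs 486000 2000 = true := by decide +kernel

theorem chk_tab244 : Cfsg.Agent.Lib.Helper6.TCG.tabOKc tab ivs 488000 2000 = true := by decide +kernel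

theorem chk_tab245 : Cfsg.Agent.Lib.Helper6.TCG.tabOKc tab ivs 490000 2000 = true := by decide +kernel

theorem chk_tab246 : Cfsg.Agent.Lib.Helper6.TCG.tabOKc tab ivs 492000 2000 = true := by decide +kernel

theorem chk_tab247 : Cfsg.Agent.Lib.Helper6.TCG.tabOKc tab ivs 494000 2000 = true := by decide +kernel

theorem chk_tab248 : Cfsg.Agent.Lib.Helper6.TCG.tabOKc tab ivs 496000 2000 = true := by decide +kernel

theorem chk_tab249 : Cfsg.Agent.Lib.Helper6.TCG.tabOKc tab ivs 498000 2000 = true := by decide +kernel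

theorem chk_tab250 : Cfsg.Agent.Lib.Helper6.TCG.tabOKc tab ivs 500000 2000 = true := by decide +kernel

theorem chk_tab251 : Cfsg.Agent.Lib.Helper6.TCG.tabOKc tab ivs 502000 2000 = true := by decide +kernel


end Cfsg.Agent.Lib.Lead.HNP.HNTC
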