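import Cfsg.Agent.Lib.Lead.HNP.HNTCData
import Cfsg.Agent.Lib.Helper6.TCGIndex
import Cfsg.Agent.Lib.Lead.HNP.HNTCRel161

/-! # HNTC: the kernel check of the coset table, part 4 -/

set_option autoImplicit false

namespace Cfsg.Agent.Lib.Lead.HNP.HNTC

open Cfsg.Agent.Lib.Helper6.TC Cfsg.Agent.Lib.Helper6.TCGS

theorem chk_tab36 : Cfsg.Agent.Lib.Helper6.TCG.tabOKc tab ivs 72000 2000 = true := by decide +kernel

theorem chk_tab37 : Cfsg.Agent.Lib.Helper6.TCG.tabOKc tab ivs 74000 2000 = true := by decide +kernel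

theorem chk_tab38 : Cfsg.Agent.Lib.Helper6.TCG.tabOKc tab ivs 76000 2000 = true := by decide +kernel

theorem chk_tab39 : Cfsg.Agent.Lib.Helper6.TCG.tabOKc tab ivs 78000 2000 = true := by decide +kernel

theorem chk_tab40 : Cfsg.Agent.Lib.Helper6.TCG.tabOKc tab ivs 80000 2000 = true := by decide +kernel

theorem chk_tab41 : Cfsg.Agent.Lib.Helper6.TCG.tabOKc tab ivs 82000 2000 = true := by decide +kernel

theorem chk_tab42 : Cfsg.Agent.Lib.Helper6.TCG.tabOKc tab ivs 84000 2000 = true := by decide +kernel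

theorem chk_tab43 : Cfsg.Agent.Lib.Helper6.TCG.tabOKc tab ivs 86000 2000 = true := by decide +kernel

theorem chk_tab44 : Cfsg.Agent.Lib.Helper6.TCG.tabOKc tab ivs 88000 2000 = true := by decide +kernel


end Cfsg.Agent.Lib.Lead.HNP.HNTC
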