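import Cfsg.Agent.Lib.Lead.HNP.HNTCData
import Cfsg.Agent.Lib.Helper6.TCGIndex
import Cfsg.Agent.Lib.Lead.HNP.HNTCTab4

/-! # HNTC: the kernel check of the coset table, part 28 -/

set_option autoImplicit false

namespace Cfsg.Agent.Lib.Lead.HNP.HNTC

open Cfsg.Agent.Lib.Helper6.TC Cfsg.Agent.Lib.Helper6.TCGS

theorem chk_tab252 : Cfsg.Agent.Lib.Helper6.TCG.tabOKc tab ivs 504000 2000 = true := by decide +kernel

theorem chk_tab253 : Cfsg.Agent.Lib.Helper6.TCG.tabOKc tab ivs 506000 2000 = true := by decide +kernel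

theorem chk_tab254 : Cfsg.Agent.Lib.Helper6.TCG.tabOKc tab ivs 508000 2000 = true := by decide +kernel

theorem chk_tab255 : Cfsg.Agent.Lib.Helper6.TCG.tabOKc tab ivs 510000 2000 = true := by decide +kernel

theorem chk_tab256 : Cfsg.Agent.Lib.Helper6.TCG.tabOKc tab ivs 512000 2000 = true := by decide +kernel

theorem chk_tab257 : Cfsg.Agent.Lib.Helper6.TCG.tabOKc tab ivs 514000 2000 = true := by decide +kernel

theorem chk_tab258 : Cfsg.Agent.Lib.Helper6.TCG.tabOKc tab ivs 516000 2000 = true := by decide +kernel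

theorem chk_tab259 : Cfsg.Agent.Lib.Helper6.TCG.tabOKc tab ivs 518000 2000 = true := by decide +kernel

theorem chk_tab260 : Cfsg.Agent.Lib.Helper6.TCG.tabOKc tab ivs 520000 2000 = true := by decide +kernel


end Cfsg.Agent.Lib.Lead.HNP.HNTC
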