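import Cfsg.Agent.Lib.Lead.HNP.HNTCData
import Cfsg.Agent.Lib.Helper6.TCGIndex
import Cfsg.Agent.Lib.Lead.HNP.HNTCTab5

/-! # HNTC: the kernel check of the coset table, part 29 -/

set_option autoImplicit false

namespace Cfsg.Agent.Lib.Lead.HNP.HNTC

open Cfsg.Agent.Lib.Helper6.TC Cfsg.Agent.Lib.Helper6.TCGS

theorem chk_tab261 : Cfsg.Agent.Lib.Helper6.TCG.tabOKc tab ivs 522000 2000 = true := by decide +kernel

theorem chk_tab262 : Cfsg.Agent.Lib.Helper6.TCG.tabOKc tab ivs 524000 2000 = true := by decide +kernel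

theorem chk_tab263 : Cfsg.Agent.Lib.Helper6.TCG.tabOKc tab ivs 526000 2000 = true := by decide +kernel

theorem chk_tab264 : Cfsg.Agent.Lib.Helper6.TCG.tabOKc tab ivs 528000 2000 = true := by decide +kernel

theorem chk_tab265 : Cfsg.Agent.Lib.Helper6.TCG.tabOKc tab ivs 530000 2000 = true := by decide +kernel

theorem chk_tab266 : Cfsg.Agent.Lib.Helper6.TCG.tabOKc tab ivs 532000 2000 = true := by decide +kernel

theorem chk_tab267 : Cfsg.Agent.Lib.Helper6.TCG.tabOKc tab ivs 534000 2000 = true := by decide +kernel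

theorem chk_tab268 : Cfsg.Agent.Lib.Helper6.TCG.tabOKc tab ivs 536000 2000 = true := by decide +kernel

theorem chk_tab269 : Cfsg.Agent.Lib.Helper6.TCG.tabOKc tab ivs 538000 2000 = true := by decide +kernel


end Cfsg.Agent.Lib.Lead.HNP.HNTC
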