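import Cfsg.Agent.Lib.Lead.HNP.HNTCData
import Cfsg.Agent.Lib.Helper6.TCGIndex
import Cfsg.Agent.Lib.Lead.HNP.HNTCTab6

/-! # HNTC: the kernel check of the coset table, part 30 -/

set_option autoImplicit false

namespace Cfsg.Agent.Lib.Lead.HNP.HNTC

open Cfsg.Agent.Lib.Helper6.TC Cfsg.Agent.Lib.Helper6.TCGS

theorem chk_tab270 : Cfsg.Agent.Lib.Helper6.TCG.tabOKc tab ivs 540000 2000 = true := by decide +kernel

theorem chk_tab271 : Cfsg.Agent.Lib.Helper6.TCG.tabOKc tab ivs 542000 2000 = true := by decide +kernel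

theorem chk_tab272 : Cfsg.Agent.Lib.Helper6.TCG.tabOKc tab ivs 544000 2000 = true := by decide +kernel

theorem chk_tab273 : Cfsg.Agent.Lib.Helper6.TCG.tabOKc tab ivs 546000 2000 = true := by decide +kernel

theorem chk_tab274 : Cfsg.Agent.Lib.Helper6.TCG.tabOKc tab ivs 548000 2000 = true := by decide +kernel

theorem chk_tab275 : Cfsg.Agent.Lib.Helper6.TCG.tabOKc tab ivs 550000 2000 = true := by decide +kernel

theorem chk_tab276 : Cfsg.Agent.Lib.Helper6.TCG.tabOKc tab ivs 552000 2000 = true := by decide +kernel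

theorem chk_tab277 : Cfsg.Agent.Lib.Helper6.TCG.tabOKc tab ivs 554000 2000 = true := by decide +kernel

theorem chk_tab278 : Cfsg.Agent.Lib.Helper6.TCG.tabOKc tab ivs 556000 2000 = true := by decide +kernel


end Cfsg.Agent.Lib.Lead.HNP.HNTC
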