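import Cfsg.Agent.Lib.Lead.HNP.HNTCData
import Cfsg.Agent.Lib.Helper6.TCGIndex
import Cfsg.Agent.Lib.Lead.HNP.HNTCTab7

/-! # HNTC: the kernel check of the coset table, part 31 -/

set_option autoImplicit false

namespace Cfsg.Agent.Lib.Lead.HNP.HNTC

open Cfsg.Agent.Lib.Helper6.TC Cfsg.Agent.Lib.Helper6.TCGS

theorem chk_tab279 : Cfsg.Agent.Lib.Helper6.TCG.tabOKc tab ivs 558000 2000 = true := by decide +kernel

theorem chk_tab280 : Cfsg.Agent.Lib.Helper6.TCG.tabOKc tab ivs 560000 2000 = true := by decide +kernel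

theorem chk_tab281 : Cfsg.Agent.Lib.Helper6.TCG.tabOKc tab ivs 562000 2000 = true := by decide +kernel

theorem chk_tab282 : Cfsg.Agent.Lib.Helper6.TCG.tabOKc tab ivs 564000 2000 = true := by decide +kernel

theorem chk_tab283 : Cfsg.Agent.Lib.Helper6.TCG.tabOKc tab ivs 566000 2000 = true := by decide +kernel

theorem chk_tab284 : Cfsg.Agent.Lib.Helper6.TCG.tabOKc tab ivs 568000 2000 = true := by decide +kernel

theorem chk_tab285 : Cfsg.Agent.Lib.Helper6.TCG.tabOKc tab ivs 570000 2000 = true := by decide +kernel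

theorem chk_tab286 : Cfsg.Agent.Lib.Helper6.TCG.tabOKc tab ivs 572000 2000 = true := by decide +kernel

theorem chk_tab287 : Cfsg.Agent.Lib.Helper6.TCG.tabOKc tab ivs 574000 2000 = true := by decide +kernel


end Cfsg.Agent.Lib.Lead.HNP.HNTC
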