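import Cfsg.Agent.Lib.Lead.HNP.HNTCData
import Cfsg.Agent.Lib.Helper6.TCGIndex
import Cfsg.Agent.Lib.Lead.HNP.HNTCRel165

/-! # HNTC: the kernel check of the coset table, part 8 -/

set_option autoImplicit false

namespace Cfsg.Agent.Lib.Lead.HNP.HNTC

open Cfsg.Agent.Lib.Helper6.TC Cfsg.Agent.Lib.Helper6.TCGS

theorem chk_tab72 : Cfsg.Agent.Lib.Helper6.TCG.tabOKc tab ivs 144000 2000 = true := by decide +kernel

theorem chk_tab73 : Cfsg.Agent.Lib.Helper6.TCG.tabOKc tab ivs 146000 2000 = true := by decide +kernel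

theorem chk_tab74 : Cfsg.Agent.Lib.Helper6.TCG.tabOKc tab ivs 148000 2000 = true := by decide +kernel

theorem chk_tab75 : Cfsg.Agent.Lib.Helper6.TCG.tabOKc tab ivs 150000 2000 = true := by decide +kernel

theorem chk_tab76 : Cfsg.Agent.Lib.Helper6.TCG.tabOKc tab ivs 152000 2000 = true := by decide +kernel

theorem chk_tab77 : Cfsg.Agent.Lib.Helper6.TCG.tabOKc tab ivs 154000 2000 = true := by decide +kernel

theorem chk_tab78 : Cfsg.Agent.Lib.Helper6.TCG.tabOKc tab ivs 156000 2000 = true := by decide +kernel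

theorem chk_tab79 : Cfsg.Agent.Lib.Helper6.TCG.tabOKc tab ivs 158000 2000 = true := by decide +kernel

theorem chk_tab80 : Cfsg.Agent.Lib.Helper6.TCG.tabOKc tab ivs 160000 2000 = true := by decide +kernel


end Cfsg.Agent.Lib.Lead.HNP.HNTC
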