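import Cfsg.Agent.Lib.Lead.HNP.HNTCData
import Cfsg.Agent.Lib.Helper6.TCGIndex
import Cfsg.Agent.Lib.Lead.HNP.HNTCTab8

/-! # HNTC: the kernel check of the coset table, part 32 -/

set_option autoImplicit false

namespace Cfsg.Agent.Lib.Lead.HNP.HNTC

open Cfsg.Agent.Lib.Helper6.TC Cfsg.Agent.Lib.Helper6.TCGS

theorem chk_tab288 : Cfsg.Agent.Lib.Helper6.TCG.tabOKc tab ivs 576000 2000 = true := by decide +kernel

theorem chk_tab289 : Cfsg.Agent.Lib.Helper6.TCG.tabOKc tab ivs 578000 2000 = true := by decide +kernel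

theorem chk_tab290 : Cfsg.Agent.Lib.Helper6.TCG.tabOKc tab ivs 580000 2000 = true := by decide +kernel

theorem chk_tab291 : Cfsg.Agent.Lib.Helper6.TCG.tabOKc tab ivs 582000 2000 = true := by decide +kernel

theorem chk_tab292 : Cfsg.Agent.Lib.Helper6.TCG.tabOKc tab ivs 584000 2000 = true := by decide +kernel

theorem chk_tab293 : Cfsg.Agent.Lib.Helper6.TCG.tabOKc tab ivs 586000 2000 = true := by decide +kernel

theorem chk_tab294 : Cfsg.Agent.Lib.Helper6.TCG.tabOKc tab ivs 588000 2000 = true := by decide +kernel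

theorem chk_tab295 : Cfsg.Agent.Lib.Helper6.TCG.tabOKc tab ivs 590000 2000 = true := by decide +kernel

theorem chk_tab296 : Cfsg.Agent.Lib.Helper6.TCG.tabOKc tab ivs 592000 2000 = true := by decide +kernel


end Cfsg.Agent.Lib.Lead.HNP.HNTC
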