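import Cfsg.Agent.Lib.Lead.HNP.HNTCData
import Cfsg.Agent.Lib.Helper6.TCGIndex
import Cfsg.Agent.Lib.Lead.HNP.HNTCTab9

/-! # HNTC: the kernel check of the coset table, part 33 -/

set_option autoImplicit false

namespace Cfsg.Agent.Lib.Lead.HNP.HNTC

open Cfsg.Agent.Lib.Helper6.TC Cfsg.Agent.Lib.Helper6.TCGS

theorem chk_tab297 : Cfsg.Agent.Lib.Helper6.TCG.tabOKc tab ivs 594000 2000 = true := by decide +kernel

theorem chk_tab298 : Cfsg.Agent.Lib.Helper6.TCG.tabOKc tab ivs 596000 2000 = true := by decide +kernel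

theorem chk_tab299 : Cfsg.Agent.Lib.Helper6.TCG.tabOKc tab ivs 598000 2000 = true := by decide +kernel

theorem chk_tab300 : Cfsg.Agent.Lib.Helper6.TCG.tabOKc tab ivs 600000 2000 = true := by decide +kernel

theorem chk_tab301 : Cfsg.Agent.Lib.Helper6.TCG.tabOKc tab ivs 602000 2000 = true := by decide +kernel

theorem chk_tab302 : Cfsg.Agent.Lib.Helper6.TCG.tabOKc tab ivs 604000 2000 = true := by decide +kernel

theorem chk_tab303 : Cfsg.Agent.Lib.Helper6.TCG.tabOKc tab ivs 606000 2000 = true := by decide +kernel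

theorem chk_tab304 : Cfsg.Agent.Lib.Helper6.TCG.tabOKc tab ivs 608000 2000 = true := by decide +kernel

theorem chk_tab305 : Cfsg.Agent.Lib.Helper6.TCG.tabOKc tab ivs 610000 2000 = true := by decide +kernel


end Cfsg.Agent.Lib.Lead.HNP.HNTC
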