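import Cfsg.Agent.Lib.Lead.HNP.HNTCData
import Cfsg.Agent.Lib.Helper6.TCGIndex
import Cfsg.Agent.Lib.Lead.HNP.HNTCRel167

/-! # HNTC: the kernel check of the coset table, part 10 -/

set_option autoImplicit false

namespace Cfsg.Agent.Lib.Lead.HNP.HNTC

open Cfsg.Agent.Lib.Helper6.TC Cfsg.Agent.Lib.Helper6.TCGS

theorem chk_tab90 : Cfsg.Agent.Lib.Helper6.TCG.tabOKc tab ivs 180000 2000 = true := by decide +kernel

theorem chk_tab91 : Cfsg.Agent.Lib.Helper6.TCG.tabOKc tab ivs 182000 2000 = true := by decide +kernel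

theorem chk_tab92 : Cfsg.Agent.Lib.Helper6.TCG.tabOKc tab ivs 184000 2000 = true := by decide +kernel

theorem chk_tab93 : Cfsg.Agent.Lib.Helper6.TCG.tabOKc tab ivs 186000 2000 = true := by decide +kernel

theorem chk_tab94 : Cfsg.Agent.Lib.Helper6.TCG.tabOKc tab ivs 188000 2000 = true := by decide +kernel

theorem chk_tab95 : Cfsg.Agent.Lib.Helper6.TCG.tabOKc tab ivs 190000 2000 = true := by decide +kernel

theorem chk_tab96 : Cfsg.Agent.Lib.Helper6.TCG.tabOKc tab ivs 192000 2000 = true := by decide +kernel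

theorem chk_tab97 : Cfsg.Agent.Lib.Helper6.TCG.tabOKc tab ivs 194000 2000 = true := by decide +kernel

theorem chk_tab98 : Cfsg.Agent.Lib.Helper6.TCG.tabOKc tab ivs 196000 2000 = true := by decide +kernel


end Cfsg.Agent.Lib.Lead.HNP.HNTC
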