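import Cfsg.Agent.Lib.Lead.HNP.HNTCData
import Cfsg.Agent.Lib.Helper6.TCGIndex
import Cfsg.Agent.Lib.Lead.HNP.HNTCTab10

/-! # HNTC: the kernel check of the coset table, part 34 -/

set_option autoImplicit false

namespace Cfsg.Agent.Lib.Lead.HNP.HNTC

open Cfsg.Agent.Lib.Helper6.TC Cfsg.Agent.Lib.Helper6.TCGS

theorem chk_tab306 : Cfsg.Agent.Lib.Helper6.TCG.tabOKc tab ivs 612000 2000 = true := by decide +kernel

theorem chk_tab307 : Cfsg.Agent.Lib.Helper6.TCG.tabOKc tab ivs 614000 2000 = true := by decide +kernel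

theorem chk_tab308 : Cfsg.Agent.Lib.Helper6.TCG.tabOKc tab ivs 616000 2000 = true := by decide +kernel

theorem chk_tab309 : Cfsg.Agent.Lib.Helper6.TCG.tabOKc tab ivs 618000 2000 = true := by decide +kernel

theorem chk_tab310 : Cfsg.Agent.Lib.Helper6.TCG.tabOKc tab ivs 620000 2000 = true := by decide +kernel

theorem chk_tab311 : Cfsg.Agent.Lib.Helper6.TCG.tabOKc tab ivs 622000 2000 = true := by decide +kernel

theorem chk_tab312 : Cfsg.Agent.Lib.Helper6.TCG.tabOKc tab ivs 624000 2000 = true := by decide +kernel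

theorem chk_tab313 : Cfsg.Agent.Lib.Helper6.TCG.tabOKc tab ivs 626000 2000 = true := by decide +kernel

theorem chk_tab314 : Cfsg.Agent.Lib.Helper6.TCG.tabOKc tab ivs 628000 2000 = true := by decide +kernel


end Cfsg.Agent.Lib.Lead.HNP.HNTC
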