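import Cfsg.Agent.Lib.Lead.HNP.HNTCData
import Cfsg.Agent.Lib.Helper6.TCGIndex
import Cfsg.Agent.Lib.Lead.HNP.HNTCTab11

/-! # HNTC: the kernel check of the coset table, part 35 -/

set_option autoImplicit false

namespace Cfsg.Agent.Lib.Lead.HNP.HNTC

open Cfsg.Agent.Lib.Helper6.TC Cfsg.Agent.Lib.Helper6.TCGS

theorem chk_tab315 : Cfsg.Agent.Lib.Helper6.TCG.tabOKc tab ivs 630000 2000 = true := by decide +kernel

theorem chk_tab316 : Cfsg.Agent.Lib.Helper6.TCG.tabOKc tab ivs 632000 2000 = true := by decide +kernel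

theorem chk_tab317 : Cfsg.Agent.Lib.Helper6.TCG.tabOKc tab ivs 634000 2000 = true := by decide +kernel

theorem chk_tab318 : Cfsg.Agent.Lib.Helper6.TCG.tabOKc tab ivs 636000 2000 = true := by decide +kernel

theorem chk_tab319 : Cfsg.Agent.Lib.Helper6.TCG.tabOKc tab ivs 638000 2000 = true := by decide +kernel

theorem chk_tab320 : Cfsg.Agent.Lib.Helper6.TCG.tabOKc tab ivs 640000 2000 = true := by decide +kernel

theorem chk_tab321 : Cfsg.Agent.Lib.Helper6.TCG.tabOKc tab ivs 642000 2000 = true := by decide +kernel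

theorem chk_tab322 : Cfsg.Agent.Lib.Helper6.TCG.tabOKc tab ivs 644000 2000 = true := by decide +kernel

theorem chk_tab323 : Cfsg.Agent.Lib.Helper6.TCG.tabOKc tab ivs 646000 2000 = true := by decide +kernel


end Cfsg.Agent.Lib.Lead.HNP.HNTC
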