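import Cfsg.Agent.Lib.Lead.HNP.HNTCData
import Cfsg.Agent.Lib.Helper6.TCGIndex
import Cfsg.Agent.Lib.Lead.HNP.HNTCTab12

/-! # HNTC: the kernel check of the coset table, part 36 -/

set_option autoImplicit false

namespace Cfsg.Agent.Lib.Lead.HNP.HNTC

open Cfsg.Agent.Lib.Helper6.TC Cfsg.Agent.Lib.Helper6.TCGS

theorem chk_tab324 : Cfsg.Agent.Lib.Helper6.TCG.tabOKc tab ivs 648000 2000 = true := by decide +kernel

theorem chk_tab325 : Cfsg.Agent.Lib.Helper6.TCG.tabOKc tab ivs 650000 2000 = true := by decide +kernel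

theorem chk_tab326 : Cfsg.Agent.Lib.Helper6.TCG.tabOKc tab ivs 652000 2000 = true := by decide +kernel

theorem chk_tab327 : Cfsg.Agent.Lib.Helper6.TCG.tabOKc tab ivs 654000 2000 = true := by decide +kernel

theorem chk_tab328 : Cfsg.Agent.Lib.Helper6.TCG.tabOKc tab ivs 656000 2000 = true := by decide +kernel

theorem chk_tab329 : Cfsg.Agent.Lib.Helper6.TCG.tabOKc tab ivs 658000 2000 = true := by decide +kernel

theorem chk_tab330 : Cfsg.Agent.Lib.Helper6.TCG.tabOKc tab ivs 660000 2000 = true := by decide +kernel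

theorem chk_tab331 : Cfsg.Agent.Lib.Helper6.TCG.tabOKc tab ivs 662000 2000 = true := by decide +kernel

theorem chk_tab332 : Cfsg.Agent.Lib.Helper6.TCG.tabOKc tab ivs 664000 2000 = true := by decide +kernel


end Cfsg.Agent.Lib.Lead.HNP.HNTC
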