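import Cfsg.Agent.Lib.Lead.HNP.HNTCData
import Cfsg.Agent.Lib.Helper6.TCGIndex
import Cfsg.Agent.Lib.Lead.HNP.HNTCTab13

/-! # HNTC: the kernel check of the coset table, part 37 -/

set_option autoImplicit false

namespace Cfsg.Agent.Lib.Lead.HNP.HNTC

open Cfsg.Agent.Lib.Helper6.TC Cfsg.Agent.Lib.Helper6.TCGS

theorem chk_tab333 : Cfsg.Agent.Lib.Helper6.TCG.tabOKc tab ivs 666000 2000 = true := by decide +kernel

theorem chk_tab334 : Cfsg.Agent.Lib.Helper6.TCG.tabOKc tab ivs 668000 2000 = true := by decide +kernel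

theorem chk_tab335 : Cfsg.Agent.Lib.Helper6.TCG.tabOKc tab ivs 670000 2000 = true := by decide +kernel

theorem chk_tab336 : Cfsg.Agent.Lib.Helper6.TCG.tabOKc tab ivs 672000 2000 = true := by decide +kernel

theorem chk_tab337 : Cfsg.Agent.Lib.Helper6.TCG.tabOKc tab ivs 674000 2000 = true := by decide +kernel

theorem chk_tab338 : Cfsg.Agent.Lib.Helper6.TCG.tabOKc tab ivs 676000 2000 = true := by decide +kernel

theorem chk_tab339 : Cfsg.Agent.Lib.Helper6.TCG.tabOKc tab ivs 678000 2000 = true := by decide +kernel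

theorem chk_tab340 : Cfsg.Agent.Lib.Helper6.TCG.tabOKc tab ivs 680000 2000 = true := by decide +kernel

theorem chk_tab341 : Cfsg.Agent.Lib.Helper6.TCG.tabOKc tab ivs 682000 2000 = true := by decide +kernel


end Cfsg.Agent.Lib.Lead.HNP.HNTC
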