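import Cfsg.Agent.Lib.Lead.HNP.HNTCData
import Cfsg.Agent.Lib.Helper6.TCGIndex
import Cfsg.Agent.Lib.Lead.HNP.HNTCTab15

/-! # HNTC: the kernel check of the coset table, part 39 -/

set_option autoImplicit false

namespace Cfsg.Agent.Lib.Lead.HNP.HNTC

open Cfsg.Agent.Lib.Helper6.TC Cfsg.Agent.Lib.Helper6.TCGS

theorem chk_tab351 : Cfsg.Agent.Lib.Helper6.TCG.tabOKc tab ivs 702000 2000 = true := by decide +kernel

theorem chk_tab352 : Cfsg.Agent.Lib.Helper6.TCG.tabOKc tab ivs 704000 2000 = true := by decide +kernel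

theorem chk_tab353 : Cfsg.Agent.Lib.Helper6.TCG.tabOKc tab ivs 706000 2000 = true := by decide +kernel

theorem chk_tab354 : Cfsg.Agent.Lib.Helper6.TCG.tabOKc tab ivs 708000 2000 = true := by decide +kernel

theorem chk_tab355 : Cfsg.Agent.Lib.Helper6.TCG.tabOKc tab ivs 710000 2000 = true := by decide +kernel

theorem chk_tab356 : Cfsg.Agent.Lib.Helper6.TCG.tabOKc tab ivs 712000 2000 = true := by decide +kernel

theorem chk_tab357 : Cfsg.Agent.Lib.Helper6.TCG.tabOKc tab ivs 714000 2000 = true := by decide +kernel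

theorem chk_tab358 : Cfsg.Agent.Lib.Helper6.TCG.tabOKc tab ivs 716000 2000 = true := by decide +kernel

theorem chk_tab359 : Cfsg.Agent.Lib.Helper6.TCG.tabOKc tab ivs 718000 2000 = true := by decide +kernel


end Cfsg.Agent.Lib.Lead.HNP.HNTC
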