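import Cfsg.Agent.Lib.Lead.HNP.HNTCData
import Cfsg.Agent.Lib.Helper6.TCGIndex
import Cfsg.Agent.Lib.Lead.HNP.HNTCTab16

/-! # HNTC: the kernel check of the coset table, part 40 -/

set_option autoImplicit false

namespace Cfsg.Agent.Lib.Lead.HNP.HNTC

open Cfsg.Agent.Lib.Helper6.TC Cfsg.Agent.Lib.Helper6.TCGS

theorem chk_tab360 : Cfsg.Agent.Lib.Helper6.TCG.tabOKc tab ivs 720000 2000 = true := by decide +kernel

theorem chk_tab361 : Cfsg.Agent.Lib.Helper6.TCG.tabOKc tab ivs 722000 2000 = true := by decide +kernel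

theorem chk_tab362 : Cfsg.Agent.Lib.Helper6.TCG.tabOKc tab ivs 724000 2000 = true := by decide +kernel

theorem chk_tab363 : Cfsg.Agent.Lib.Helper6.TCG.tabOKc tab ivs 726000 2000 = true := by decide +kernel

theorem chk_tab364 : Cfsg.Agent.Lib.Helper6.TCG.tabOKc tab ivs 728000 2000 = true := by decide +kernel

theorem chk_tab365 : Cfsg.Agent.Lib.Helper6.TCG.tabOKc tab ivs 730000 2000 = true := by decide +kernel

theorem chk_tab366 : Cfsg.Agent.Lib.Helper6.TCG.tabOKc tab ivs 732000 2000 = true := by decide +kernel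

theorem chk_tab367 : Cfsg.Agent.Lib.Helper6.TCG.tabOKc tab ivs 734000 2000 = true := by decide +kernel

theorem chk_tab368 : Cfsg.Agent.Lib.Helper6.TCG.tabOKc tab ivs 736000 2000 = true := by decide +kernel


end Cfsg.Agent.Lib.Lead.HNP.HNTC
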