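import Cfsg.Agent.Lib.Lead.HNP.HNTCData
import Cfsg.Agent.Lib.Helper6.TCGIndex
import Cfsg.Agent.Lib.Lead.HNP.HNTCTab17

/-! # HNTC: the kernel check of the coset table, part 41 -/

set_option autoImplicit false

namespace Cfsg.Agent.Lib.Lead.HNP.HNTC

open Cfsg.Agent.Lib.Helper6.TC Cfsg.Agent.Lib.Helper6.TCGS

theorem chk_tab369 : Cfsg.Agent.Lib.Helper6.TCG.tabOKc tab ivs 738000 2000 = true := by decide +kernel

theorem chk_tab370 : Cfsg.Agent.Lib.Helper6.TCG.tabOKc tab ivs 740000 2000 = true := by decide +kernel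

theorem chk_tab371 : Cfsg.Agent.Lib.Helper6.TCG.tabOKc tab ivs 742000 2000 = true := by decide +kernel

theorem chk_tab372 : Cfsg.Agent.Lib.Helper6.TCG.tabOKc tab ivs 744000 2000 = true := by decide +kernel

theorem chk_tab373 : Cfsg.Agent.Lib.Helper6.TCG.tabOKc tab ivs 746000 2000 = true := by decide +kernel

theorem chk_tab374 : Cfsg.Agent.Lib.Helper6.TCG.tabOKc tab ivs 748000 2000 = true := by decide +kernel

theorem chk_tab375 : Cfsg.Agent.Lib.Helper6.TCG.tabOKc tab ivs 750000 2000 = true := by decide +kernel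

theorem chk_tab376 : Cfsg.Agent.Lib.Helper6.TCG.tabOKc tab ivs 752000 2000 = true := by decide +kernel

theorem chk_tab377 : Cfsg.Agent.Lib.Helper6.TCG.tabOKc tab ivs 754000 2000 = true := by decide +kernel


end Cfsg.Agent.Lib.Lead.HNP.HNTC
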