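import Cfsg.Agent.Lib.Lead.HNP.HNTCData
import Cfsg.Agent.Lib.Helper6.TCGIndex
import Cfsg.Agent.Lib.Lead.HNP.HNTCTab18

/-! # HNTC: the kernel check of the coset table, part 42 -/

set_option autoImplicit false

namespace Cfsg.Agent.Lib.Lead.HNP.HNTC

open Cfsg.Agent.Lib.Helper6.TC Cfsg.Agent.Lib.Helper6.TCGS

theorem chk_tab378 : Cfsg.Agent.Lib.Helper6.TCG.tabOKc tab ivs 756000 2000 = true := by decide +kernel

theorem chk_tab379 : Cfsg.Agent.Lib.Helper6.TCG.tabOKc tab ivs 758000 2000 = true := by decide +kernel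

theorem chk_tab380 : Cfsg.Agent.Lib.Helper6.TCG.tabOKc tab ivs 760000 2000 = true := by decide +kernel

theorem chk_tab381 : Cfsg.Agent.Lib.Helper6.TCG.tabOKc tab ivs 762000 2000 = true := by decide +kernel

theorem chk_tab382 : Cfsg.Agent.Lib.Helper6.TCG.tabOKc tab ivs 764000 2000 = true := by decide +kernel

theorem chk_tab383 : Cfsg.Agent.Lib.Helper6.TCG.tabOKc tab ivs 766000 2000 = true := by decide +kernel

theorem chk_tab384 : Cfsg.Agent.Lib.Helper6.TCG.tabOKc tab ivs 768000 2000 = true := by decide +kernel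

theorem chk_tab385 : Cfsg.Agent.Lib.Helper6.TCG.tabOKc tab ivs 770000 2000 = true := by decide +kernel

theorem chk_tab386 : Cfsg.Agent.Lib.Helper6.TCG.tabOKc tab ivs 772000 2000 = true := by decide +kernel


end Cfsg.Agent.Lib.Lead.HNP.HNTC
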