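import Cfsg.Agent.Lib.Lead.HNP.HNTCData
import Cfsg.Agent.Lib.Helper6.TCGIndex
import Cfsg.Agent.Lib.Lead.HNP.HNTCTab19

/-! # HNTC: the kernel check of the coset table, part 43 -/

set_option autoImplicit false

namespace Cfsg.Agent.Lib.Lead.HNP.HNTC

open Cfsg.Agent.Lib.Helper6.TC Cfsg.Agent.Lib.Helper6.TCGS

theorem chk_tab387 : Cfsg.Agent.Lib.Helper6.TCG.tabOKc tab ivs 774000 2000 = true := by decide +kernel

theorem chk_tab388 : Cfsg.Agent.Lib.Helper6.TCG.tabOKc tab ivs 776000 2000 = true := by decide +kernel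

theorem chk_tab389 : Cfsg.Agent.Lib.Helper6.TCG.tabOKc tab ivs 778000 2000 = true := by decide +kernel

theorem chk_tab390 : Cfsg.Agent.Lib.Helper6.TCG.tabOKc tab ivs 780000 2000 = true := by decide +kernel

theorem chk_tab391 : Cfsg.Agent.Lib.Helper6.TCG.tabOKc tab ivs 782000 2000 = true := by decide +kernel

theorem chk_tab392 : Cfsg.Agent.Lib.Helper6.TCG.tabOKc tab ivs 784000 2000 = true := by decide +kernel

theorem chk_tab393 : Cfsg.Agent.Lib.Helper6.TCG.tabOKc tab ivs 786000 2000 = true := by decide +kernel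

theorem chk_tab394 : Cfsg.Agent.Lib.Helper6.TCG.tabOKc tab ivs 788000 2000 = true := by decide +kernel

theorem chk_tab395 : Cfsg.Agent.Lib.Helper6.TCG.tabOKc tab ivs 790000 2000 = true := by decide +kernel


end Cfsg.Agent.Lib.Lead.HNP.HNTC
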