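import Cfsg.Agent.Lib.Lead.HNP.HNTCData
import Cfsg.Agent.Lib.Helper6.TCGIndex
import Cfsg.Agent.Lib.Lead.HNP.HNTCTab20

/-! # HNTC: the kernel check of the coset table, part 44 -/

set_option autoImplicit false

namespace Cfsg.Agent.Lib.Lead.HNP.HNTC

open Cfsg.Agent.Lib.Helper6.TC Cfsg.Agent.Lib.Helper6.TCGS

theorem chk_tab396 : Cfsg.Agent.Lib.Helper6.TCG.tabOKc tab ivs 792000 2000 = true := by decide +kernel

theorem chk_tab397 : Cfsg.Agent.Lib.Helper6.TCG.tabOKc tab ivs 794000 2000 = true := by decide +kernel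

theorem chk_tab398 : Cfsg.Agent.Lib.Helper6.TCG.tabOKc tab ivs 796000 2000 = true := by decide +kernel

theorem chk_tab399 : Cfsg.Agent.Lib.Helper6.TCG.tabOKc tab ivs 798000 2000 = true := by decide +kernel

theorem chk_tab400 : Cfsg.Agent.Lib.Helper6.TCG.tabOKc tab ivs 800000 2000 = true := by decide +kernel

theorem chk_tab401 : Cfsg.Agent.Lib.Helper6.TCG.tabOKc tab ivs 802000 2000 = true := by decide +kernel

theorem chk_tab402 : Cfsg.Agent.Lib.Helper6.TCG.tabOKc tab ivs 804000 2000 = true := by decide +kernel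

theorem chk_tab403 : Cfsg.Agent.Lib.Helper6.TCG.tabOKc tab ivs 806000 2000 = true := by decide +kernel

theorem chk_tab404 : Cfsg.Agent.Lib.Helper6.TCG.tabOKc tab ivs 808000 2000 = true := by decide +kernel


end Cfsg.Agent.Lib.Lead.HNP.HNTC
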