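import Cfsg.Agent.Lib.Lead.HNP.HNTCData
import Cfsg.Agent.Lib.Helper6.TCGIndex
import Cfsg.Agent.Lib.Lead.HNP.HNTCTab21

/-! # HNTC: the kernel check of the coset table, part 45 -/

set_option autoImplicit false

namespace Cfsg.Agent.Lib.Lead.HNP.HNTC

open Cfsg.Agent.Lib.Helper6.TC Cfsg.Agent.Lib.Helper6.TCGS

theorem chk_tab405 : Cfsg.Agent.Lib.Helper6.TCG.tabOKc tab ivs 810000 2000 = true := by decide +kernel

theorem chk_tab406 : Cfsg.Agent.Lib.Helper6.TCG.tabOKc tab ivs 812000 2000 = true := by decide +kernel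

theorem chk_tab407 : Cfsg.Agent.Lib.Helper6.TCG.tabOKc tab ivs 814000 2000 = true := by decide +kernel

theorem chk_tab408 : Cfsg.Agent.Lib.Helper6.TCG.tabOKc tab ivs 816000 2000 = true := by decide +kernel

theorem chk_tab409 : Cfsg.Agent.Lib.Helper6.TCG.tabOKc tab ivs 818000 2000 = true := by decide +kernel

theorem chk_tab410 : Cfsg.Agent.Lib.Helper6.TCG.tabOKc tab ivs 820000 2000 = true := by decide +kernel

theorem chk_tab411 : Cfsg.Agent.Lib.Helper6.TCG.tabOKc tab ivs 822000 2000 = true := by decide +kernel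

theorem chk_tab412 : Cfsg.Agent.Lib.Helper6.TCG.tabOKc tab ivs 824000 2000 = true := by decide +kernel

theorem chk_tab413 : Cfsg.Agent.Lib.Helper6.TCG.tabOKc tab ivs 826000 2000 = true := by decide +kernel


end Cfsg.Agent.Lib.Lead.HNP.HNTC
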