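import Cfsg.Agent.Lib.Lead.HNP.HNTCData
import Cfsg.Agent.Lib.Helper6.TCGIndex
import Cfsg.Agent.Lib.Lead.HNP.HNTCTab22

/-! # HNTC: the kernel check of the coset table, part 46 -/

set_option autoImplicit false

namespace Cfsg.Agent.Lib.Lead.HNP.HNTC

open Cfsg.Agent.Lib.Helper6.TC Cfsg.Agent.Lib.Helper6.TCGS

theorem chk_tab414 : Cfsg.Agent.Lib.Helper6.TCG.tabOKc tab ivs 828000 2000 = true := by decide +kernel

theorem chk_tab415 : Cfsg.Agent.Lib.Helper6.TCG.tabOKc tab ivs 830000 2000 = true := by decide +kernel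

theorem chk_tab416 : Cfsg.Agent.Lib.Helper6.TCG.tabOKc tab ivs 832000 2000 = true := by decide +kernel

theorem chk_tab417 : Cfsg.Agent.Lib.Helper6.TCG.tabOKc tab ivs 834000 2000 = true := by decide +kernel

theorem chk_tab418 : Cfsg.Agent.Lib.Helper6.TCG.tabOKc tab ivs 836000 2000 = true := by decide +kernel

theorem chk_tab419 : Cfsg.Agent.Lib.Helper6.TCG.tabOKc tab ivs 838000 2000 = true := by decide +kernel

theorem chk_tab420 : Cfsg.Agent.Lib.Helper6.TCG.tabOKc tab ivs 840000 2000 = true := by decide +kernel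

theorem chk_tab421 : Cfsg.Agent.Lib.Helper6.TCG.tabOKc tab ivs 842000 2000 = true := by decide +kernel

theorem chk_tab422 : Cfsg.Agent.Lib.Helper6.TCG.tabOKc tab ivs 844000 2000 = true := by decide +kernel


end Cfsg.Agent.Lib.Lead.HNP.HNTC
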