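import Cfsg.Agent.Lib.Lead.HNP.HNTCData
import Cfsg.Agent.Lib.Helper6.TCGIndex
import Cfsg.Agent.Lib.Lead.HNP.HNTCTab23

/-! # HNTC: the kernel check of the coset table, part 47 -/

set_option autoImplicit false

namespace Cfsg.Agent.Lib.Lead.HNP.HNTC

open Cfsg.Agent.Lib.Helper6.TC Cfsg.Agent.Lib.Helper6.TCGS

theorem chk_tab423 : Cfsg.Agent.Lib.Helper6.TCG.tabOKc tab ivs 846000 2000 = true := by decide +kernel

theorem chk_tab424 : Cfsg.Agent.Lib.Helper6.TCG.tabOKc tab ivs 848000 2000 = true := by decide +kernel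

theorem chk_tab425 : Cfsg.Agent.Lib.Helper6.TCG.tabOKc tab ivs 850000 2000 = true := by decide +kernel

theorem chk_tab426 : Cfsg.Agent.Lib.Helper6.TCG.tabOKc tab ivs 852000 2000 = true := by decide +kernel

theorem chk_tab427 : Cfsg.Agent.Lib.Helper6.TCG.tabOKc tab ivs 854000 2000 = true := by decide +kernel

theorem chk_tab428 : Cfsg.Agent.Lib.Helper6.TCG.tabOKc tab ivs 856000 2000 = true := by decide +kernel

theorem chk_tab429 : Cfsg.Agent.Lib.Helper6.TCG.tabOKc tab ivs 858000 2000 = true := by decide +kernel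

theorem chk_tab430 : Cfsg.Agent.Lib.Helper6.TCG.tabOKc tab ivs 860000 2000 = true := by decide +kernel

theorem chk_tab431 : Cfsg.Agent.Lib.Helper6.TCG.tabOKc tab ivs 862000 2000 = true := by decide +kernel


end Cfsg.Agent.Lib.Lead.HNP.HNTC
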