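import Cfsg.Agent.Lib.Lead.HNP.HNTCData
import Cfsg.Agent.Lib.Helper6.TCGIndex
import Cfsg.Agent.Lib.Lead.HNP.HNTCTab0

/-! # HNTC: the kernel check of the coset table, part 24 -/

set_option autoImplicit false

namespace Cfsg.Agent.Lib.Lead.HNP.HNTC

open Cfsg.Agent.Lib.Helper6.TC Cfsg.Agent.Lib.Helper6.TCGS

theorem chk_tab216 : Cfsg.Agent.Lib.Helper6.TCG.tabOKc tab ivs 432000 2000 = true := by decide +kernel

theorem chk_tab217 : Cfsg.Agent.Lib.Helper6.TCG.tabOKc tab ivs 434000 2000 = true := by decide +kernel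

theorem chk_tab218 : Cfsg.Agent.Lib.Helper6.TCG.tabOKc tab ivs 436000 2000 = true := by decide +kernel

theorem chk_tab219 : Cfsg.Agent.Lib.Helper6.TCG.tabOKc tab ivs 438000 2000 = true := by decide +kernel

theorem chk_tab220 : Cfsg.Agent.Lib.Helper6.TCG.tabOKc tab ivs 440000 2000 = true := by decide +kernel

theorem chk_tab221 : Cfsg.Agent.Lib.Helper6.TCG.tabOKc tab ivs 442000 2000 = true := by decide +kernel

theorem chk_tab222 : Cfsg.Agent.Lib.Helper6.TCG.tabOKc tab ivs 444000 2000 = true := by decide +kernel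

theorem chk_tab223 : Cfsg.Agent.Lib.Helper6.TCG.tabOKc tab ivs 446000 2000 = true := by decide +kernel

theorem chk_tab224 : Cfsg.Agent.Lib.Helper6.TCG.tabOKc tab ivs 448000 2000 = true := by decide +kernel


end Cfsg.Agent.Lib.Lead.HNP.HNTC
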