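import Cfsg.Agent.Lib.Lead.HNP.HNTCData
import Cfsg.Agent.Lib.Helper6.TCGIndex
import Cfsg.Agent.Lib.Lead.HNP.HNTCTab24

/-! # HNTC: the kernel check of the coset table, part 48 -/

set_option autoImplicit false

namespace Cfsg.Agent.Lib.Lead.HNP.HNTC

open Cfsg.Agent.Lib.Helper6.TC Cfsg.Agent.Lib.Helper6.TCGS

theorem chk_tab432 : Cfsg.Agent.Lib.Helper6.TCG.tabOKc tab ivs 864000 2000 = true := by decide +kernel

theorem chk_tab433 : Cfsg.Agent.Lib.Helper6.TCG.tabOKc tab ivs 866000 2000 = true := by decide +kernel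

theorem chk_tab434 : Cfsg.Agent.Lib.Helper6.TCG.tabOKc tab ivs 868000 2000 = true := by decide +kernel

theorem chk_tab435 : Cfsg.Agent.Lib.Helper6.TCG.tabOKc tab ivs 870000 2000 = true := by decide +kernel

theorem chk_tab436 : Cfsg.Agent.Lib.Helper6.TCG.tabOKc tab ivs 872000 2000 = true := by decide +kernel

theorem chk_tab437 : Cfsg.Agent.Lib.Helper6.TCG.tabOKc tab ivs 874000 2000 = true := by decide +kernel

theorem chk_tab438 : Cfsg.Agent.Lib.Helper6.TCG.tabOKc tab ivs 876000 2000 = true := by decide +kernel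

theorem chk_tab439 : Cfsg.Agent.Lib.Helper6.TCG.tabOKc tab ivs 878000 2000 = true := by decide +kernel

theorem chk_tab440 : Cfsg.Agent.Lib.Helper6.TCG.tabOKc tab ivs 880000 2000 = true := by decide +kernel


end Cfsg.Agent.Lib.Lead.HNP.HNTC
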