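import Cfsg.Agent.Lib.Lead.HNP.HNTCData
import Cfsg.Agent.Lib.Helper6.TCGIndex
import Cfsg.Agent.Lib.Lead.HNP.HNTCTab25

/-! # HNTC: the kernel check of the coset table, part 49 -/

set_option autoImplicit false

namespace Cfsg.Agent.Lib.Lead.HNP.HNTC

open Cfsg.Agent.Lib.Helper6.TC Cfsg.Agent.Lib.Helper6.TCGS

theorem chk_tab441 : Cfsg.Agent.Lib.Helper6.TCG.tabOKc tab ivs 882000 2000 = true := by decide +kernel

theorem chk_tab442 : Cfsg.Agent.Lib.Helper6.TCG.tabOKc tab ivs 884000 2000 = true := by decide +kernel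

theorem chk_tab443 : Cfsg.Agent.Lib.Helper6.TCG.tabOKc tab ivs 886000 2000 = true := by decide +kernel

theorem chk_tab444 : Cfsg.Agent.Lib.Helper6.TCG.tabOKc tab ivs 888000 2000 = true := by decide +kernel

theorem chk_tab445 : Cfsg.Agent.Lib.Helper6.TCG.tabOKc tab ivs 890000 2000 = true := by decide +kernel

theorem chk_tab446 : Cfsg.Agent.Lib.Helper6.TCG.tabOKc tab ivs 892000 2000 = true := by decide +kernel

theorem chk_tab447 : Cfsg.Agent.Lib.Helper6.TCG.tabOKc tab ivs 894000 2000 = true := by decide +kernel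

theorem chk_tab448 : Cfsg.Agent.Lib.Helper6.TCG.tabOKc tab ivs 896000 2000 = true := by decide +kernel

theorem chk_tab449 : Cfsg.Agent.Lib.Helper6.TCG.tabOKc tab ivs 898000 2000 = true := by decide +kernel


end Cfsg.Agent.Lib.Lead.HNP.HNTC
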