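import Cfsg.Agent.Lib.Lead.HNP.HNTCData
import Cfsg.Agent.Lib.Helper6.TCGIndex
import Cfsg.Agent.Lib.Lead.HNP.HNTCTab26

/-! # HNTC: the kernel check of the coset table, part 50 -/

set_option autoImplicit false

namespace Cfsg.Agent.Lib.Lead.HNP.HNTC

open Cfsg.Agent.Lib.Helper6.TC Cfsg.Agent.Lib.Helper6.TCGS

theorem chk_tab450 : Cfsg.Agent.Lib.Helper6.TCG.tabOKc tab ivs 900000 2000 = true := by decide +kernel

theorem chk_tab451 : Cfsg.Agent.Lib.Helper6.TCG.tabOKc tab ivs 902000 2000 = true := by decide +kernel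

theorem chk_tab452 : Cfsg.Agent.Lib.Helper6.TCG.tabOKc tab ivs 904000 2000 = true := by decide +kernel

theorem chk_tab453 : Cfsg.Agent.Lib.Helper6.TCG.tabOKc tab ivs 906000 2000 = true := by decide +kernel

theorem chk_tab454 : Cfsg.Agent.Lib.Helper6.TCG.tabOKc tab ivs 908000 2000 = true := by decide +kernel

theorem chk_tab455 : Cfsg.Agent.Lib.Helper6.TCG.tabOKc tab ivs 910000 2000 = true := by decide +kernel

theorem chk_tab456 : Cfsg.Agent.Lib.Helper6.TCG.tabOKc tab ivs 912000 2000 = true := by decide +kernel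

theorem chk_tab457 : Cfsg.Agent.Lib.Helper6.TCG.tabOKc tab ivs 914000 2000 = true := by decide +kernel

theorem chk_tab458 : Cfsg.Agent.Lib.Helper6.TCG.tabOKc tab ivs 916000 2000 = true := by decide +kernel


end Cfsg.Agent.Lib.Lead.HNP.HNTC
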