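import Cfsg.Agent.Lib.Lead.HNP.HNTCData
import Cfsg.Agent.Lib.Helper6.TCGIndex
import Cfsg.Agent.Lib.Lead.HNP.HNTCTab27

/-! # HNTC: the kernel check of the coset table, part 51 -/

set_option autoImplicit false

namespace Cfsg.Agent.Lib.Lead.HNP.HNTC

open Cfsg.Agent.Lib.Helper6.TC Cfsg.Agent.Lib.Helper6.TCGS

theorem chk_tab459 : Cfsg.Agent.Lib.Helper6.TCG.tabOKc tab ivs 918000 2000 = true := by decide +kernel

theorem chk_tab460 : Cfsg.Agent.Lib.Helper6.TCG.tabOKc tab ivs 920000 2000 = true := by decide +kernel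

theorem chk_tab461 : Cfsg.Agent.Lib.Helper6.TCG.tabOKc tab ivs 922000 2000 = true := by decide +kernel

theorem chk_tab462 : Cfsg.Agent.Lib.Helper6.TCG.tabOKc tab ivs 924000 2000 = true := by decide +kernel

theorem chk_tab463 : Cfsg.Agent.Lib.Helper6.TCG.tabOKc tab ivs 926000 2000 = true := by decide +kernel

theorem chk_tab464 : Cfsg.Agent.Lib.Helper6.TCG.tabOKc tab ivs 928000 2000 = true := by decide +kernel

theorem chk_tab465 : Cfsg.Agent.Lib.Helper6.TCG.tabOKc tab ivs 930000 2000 = true := by decide +kernel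

theorem chk_tab466 : Cfsg.Agent.Lib.Helper6.TCG.tabOKc tab ivs 932000 2000 = true := by decide +kernel

theorem chk_tab467 : Cfsg.Agent.Lib.Helper6.TCG.tabOKc tab ivs 934000 2000 = true := by decide +kernel


end Cfsg.Agent.Lib.Lead.HNP.HNTC
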