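import Cfsg.Agent.Lib.Lead.HNP.HNTCData
import Cfsg.Agent.Lib.Helper6.TCGIndex
import Cfsg.Agent.Lib.Lead.HNP.HNTCTab29

/-! # HNTC: the kernel check of the coset table, part 53 -/

set_option autoImplicit false

namespace Cfsg.Agent.Lib.Lead.HNP.HNTC

open Cfsg.Agent.Lib.Helper6.TC Cfsg.Agent.Lib.Helper6.TCGS

theorem chk_tab477 : Cfsg.Agent.Lib.Helper6.TCG.tabOKc tab ivs 954000 2000 = true := by decide +kernel

theorem chk_tab478 : Cfsg.Agent.Lib.Helper6.TCG.tabOKc tab ivs 956000 2000 = true := by decide +kernel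

theorem chk_tab479 : Cfsg.Agent.Lib.Helper6.TCG.tabOKc tab ivs 958000 2000 = true := by decide +kernel

theorem chk_tab480 : Cfsg.Agent.Lib.Helper6.TCG.tabOKc tab ivs 960000 2000 = true := by decide +kernel

theorem chk_tab481 : Cfsg.Agent.Lib.Helper6.TCG.tabOKc tab ivs 962000 2000 = true := by decide +kernel

theorem chk_tab482 : Cfsg.Agent.Lib.Helper6.TCG.tabOKc tab ivs 964000 2000 = true := by decide +kernel

theorem chk_tab483 : Cfsg.Agent.Lib.Helper6.TCG.tabOKc tab ivs 966000 2000 = true := by decide +kernel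

theorem chk_tab484 : Cfsg.Agent.Lib.Helper6.TCG.tabOKc tab ivs 968000 2000 = true := by decide +kernel

theorem chk_tab485 : Cfsg.Agent.Lib.Helper6.TCG.tabOKc tab ivs 970000 2000 = true := by decide +kernel


end Cfsg.Agent.Lib.Lead.HNP.HNTC
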