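import Cfsg.Agent.Lib.Lead.HNP.HNTCData
import Cfsg.Agent.Lib.Helper6.TCGIndex
import Cfsg.Agent.Lib.Lead.HNP.HNTCTab30

/-! # HNTC: the kernel check of the coset table, part 54 -/

set_option autoImplicit false

namespace Cfsg.Agent.Lib.Lead.HNP.HNTC

open Cfsg.Agent.Lib.Helper6.TC Cfsg.Agent.Lib.Helper6.TCGS

theorem chk_tab486 : Cfsg.Agent.Lib.Helper6.TCG.tabOKc tab ivs 972000 2000 = true := by decide +kernel

theorem chk_tab487 : Cfsg.Agent.Lib.Helper6.TCG.tabOKc tab ivs 974000 2000 = true := by decide +kernel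

theorem chk_tab488 : Cfsg.Agent.Lib.Helper6.TCG.tabOKc tab ivs 976000 2000 = true := by decide +kernel

theorem chk_tab489 : Cfsg.Agent.Lib.Helper6.TCG.tabOKc tab ivs 978000 2000 = true := by decide +kernel

theorem chk_tab490 : Cfsg.Agent.Lib.Helper6.TCG.tabOKc tab ivs 980000 2000 = true := by decide +kernel

theorem chk_tab491 : Cfsg.Agent.Lib.Helper6.TCG.tabOKc tab ivs 982000 2000 = true := by decide +kernel

theorem chk_tab492 : Cfsg.Agent.Lib.Helper6.TCG.tabOKc tab ivs 984000 2000 = true := by decide +kernel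

theorem chk_tab493 : Cfsg.Agent.Lib.Helper6.TCG.tabOKc tab ivs 986000 2000 = true := by decide +kernel

theorem chk_tab494 : Cfsg.Agent.Lib.Helper6.TCG.tabOKc tab ivs 988000 2000 = true := by decide +kernel


end Cfsg.Agent.Lib.Lead.HNP.HNTC
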