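import Cfsg.Agent.Lib.Lead.HNP.HNTCData
import Cfsg.Agent.Lib.Helper6.TCGIndex
import Cfsg.Agent.Lib.Lead.HNP.HNTCTab31

/-! # HNTC: the kernel check of the coset table, part 55 -/

set_option autoImplicit false

namespace Cfsg.Agent.Lib.Lead.HNP.HNTC

open Cfsg.Agent.Lib.Helper6.TC Cfsg.Agent.Lib.Helper6.TCGS

theorem chk_tab495 : Cfsg.Agent.Lib.Helper6.TCG.tabOKc tab ivs 990000 2000 = true := by decide +kernel

theorem chk_tab496 : Cfsg.Agent.Lib.Helper6.TCG.tabOKc tab ivs 992000 2000 = true := by decide +kernel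

theorem chk_tab497 : Cfsg.Agent.Lib.Helper6.TCG.tabOKc tab ivs 994000 2000 = true := by decide +kernel

theorem chk_tab498 : Cfsg.Agent.Lib.Helper6.TCG.tabOKc tab ivs 996000 2000 = true := by decide +kernel

theorem chk_tab499 : Cfsg.Agent.Lib.Helper6.TCG.tabOKc tab ivs 998000 2000 = true := by decide +kernel

theorem chk_tab500 : Cfsg.Agent.Lib.Helper6.TCG.tabOKc tab ivs 1000000 2000 = true := by decide +kernel

theorem chk_tab501 : Cfsg.Agent.Lib.Helper6.TCG.tabOKc tab ivs 1002000 2000 = true := by decide +kernel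

theorem chk_tab502 : Cfsg.Agent.Lib.Helper6.TCG.tabOKc tab ivs 1004000 2000 = true := by decide +kernel

theorem chk_tab503 : Cfsg.Agent.Lib.Helper6.TCG.tabOKc tab ivs 1006000 2000 = true := by decide +kernel


end Cfsg.Agent.Lib.Lead.HNP.HNTC
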