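import Cfsg.Agent.Lib.Lead.HNP.HNTCData
import Cfsg.Agent.Lib.Helper6.TCGIndex
import Cfsg.Agent.Lib.Lead.HNP.HNTCTab32

/-! # HNTC: the kernel check of the coset table, part 56 -/

set_option autoImplicit false

namespace Cfsg.Agent.Lib.Lead.HNP.HNTC

open Cfsg.Agent.Lib.Helper6.TC Cfsg.Agent.Lib.Helper6.TCGS

theorem chk_tab504 : Cfsg.Agent.Lib.Helper6.TCG.tabOKc tab ivs 1008000 2000 = true := by decide +kernel

theorem chk_tab505 : Cfsg.Agent.Lib.Helper6.TCG.tabOKc tab ivs 1010000 2000 = true := by decide +kernel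

theorem chk_tab506 : Cfsg.Agent.Lib.Helper6.TCG.tabOKc tab ivs 1012000 2000 = true := by decide +kernel

theorem chk_tab507 : Cfsg.Agent.Lib.Helper6.TCG.tabOKc tab ivs 1014000 2000 = true := by decide +kernel

theorem chk_tab508 : Cfsg.Agent.Lib.Helper6.TCG.tabOKc tab ivs 1016000 2000 = true := by decide +kernel

theorem chk_tab509 : Cfsg.Agent.Lib.Helper6.TCG.tabOKc tab ivs 1018000 2000 = true := by decide +kernel

theorem chk_tab510 : Cfsg.Agent.Lib.Helper6.TCG.tabOKc tab ivs 1020000 2000 = true := by decide +kernel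

theorem chk_tab511 : Cfsg.Agent.Lib.Helper6.TCG.tabOKc tab ivs 1022000 2000 = true := by decide +kernel

theorem chk_tab512 : Cfsg.Agent.Lib.Helper6.TCG.tabOKc tab ivs 1024000 2000 = true := by decide +kernel


end Cfsg.Agent.Lib.Lead.HNP.HNTC
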