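import Cfsg.Agent.Lib.Lead.HNP.HNTCData
import Cfsg.Agent.Lib.Helper6.TCGIndex
import Cfsg.Agent.Lib.Lead.HNP.HNTCTab33

/-! # HNTC: the kernel check of the coset table, part 57 -/

set_option autoImplicit false

namespace Cfsg.Agent.Lib.Lead.HNP.HNTC

open Cfsg.Agent.Lib.Helper6.TC Cfsg.Agent.Lib.Helper6.TCGS

theorem chk_tab513 : Cfsg.Agent.Lib.Helper6.TCG.tabOKc tab ivs 1026000 2000 = true := by decide +kernel

theorem chk_tab514 : Cfsg.Agent.Lib.Helper6.TCG.tabOKc tab ivs 1028000 2000 = true := by decide +kernel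

theorem chk_tab515 : Cfsg.Agent.Lib.Helper6.TCG.tabOKc tab ivs 1030000 2000 = true := by decide +kernel

theorem chk_tab516 : Cfsg.Agent.Lib.Helper6.TCG.tabOKc tab ivs 1032000 2000 = true := by decide +kernel

theorem chk_tab517 : Cfsg.Agent.Lib.Helper6.TCG.tabOKc tab ivs 1034000 2000 = true := by decide +kernel

theorem chk_tab518 : Cfsg.Agent.Lib.Helper6.TCG.tabOKc tab ivs 1036000 2000 = true := by decide +kernel

theorem chk_tab519 : Cfsg.Agent.Lib.Helper6.TCG.tabOKc tab ivs 1038000 2000 = true := by decide +kernel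

theorem chk_tab520 : Cfsg.Agent.Lib.Helper6.TCG.tabOKc tab ivs 1040000 2000 = true := by decide +kernel

theorem chk_tab521 : Cfsg.Agent.Lib.Helper6.TCG.tabOKc tab ivs 1042000 2000 = true := by decide +kernel


end Cfsg.Agent.Lib.Lead.HNP.HNTC
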