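import Cfsg.Agent.Lib.Lead.HNP.HNTCData
import Cfsg.Agent.Lib.Helper6.TCGIndex
import Cfsg.Agent.Lib.Lead.HNP.HNTCTab34

/-! # HNTC: the kernel check of the coset table, part 58 -/

set_option autoImplicit false

namespace Cfsg.Agent.Lib.Lead.HNP.HNTC

open Cfsg.Agent.Lib.Helper6.TC Cfsg.Agent.Lib.Helper6.TCGS

theorem chk_tab522 : Cfsg.Agent.Lib.Helper6.TCG.tabOKc tab ivs 1044000 2000 = true := by decide +kernel

theorem chk_tab523 : Cfsg.Agent.Lib.Helper6.TCG.tabOKc tab ivs 1046000 2000 = true := by decide +kernel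

theorem chk_tab524 : Cfsg.Agent.Lib.Helper6.TCG.tabOKc tab ivs 1048000 2000 = true := by decide +kernel

theorem chk_tab525 : Cfsg.Agent.Lib.Helper6.TCG.tabOKc tab ivs 1050000 2000 = true := by decide +kernel

theorem chk_tab526 : Cfsg.Agent.Lib.Helper6.TCG.tabOKc tab ivs 1052000 2000 = true := by decide +kernel

theorem chk_tab527 : Cfsg.Agent.Lib.Helper6.TCG.tabOKc tab ivs 1054000 2000 = true := by decide +kernel

theorem chk_tab528 : Cfsg.Agent.Lib.Helper6.TCG.tabOKc tab ivs 1056000 2000 = true := by decide +kernel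

theorem chk_tab529 : Cfsg.Agent.Lib.Helper6.TCG.tabOKc tab ivs 1058000 2000 = true := by decide +kernel

theorem chk_tab530 : Cfsg.Agent.Lib.Helper6.TCG.tabOKc tab ivs 1060000 2000 = true := by decide +kernel


end Cfsg.Agent.Lib.Lead.HNP.HNTC
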