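import Cfsg.Agent.Lib.Lead.HNP.HNTCData
import Cfsg.Agent.Lib.Helper6.TCGIndex
import Cfsg.Agent.Lib.Lead.HNP.HNTCTab35

/-! # HNTC: the kernel check of the coset table, part 59 -/

set_option autoImplicit false

namespace Cfsg.Agent.Lib.Lead.HNP.HNTC

open Cfsg.Agent.Lib.Helper6.TC Cfsg.Agent.Lib.Helper6.TCGS

theorem chk_tab531 : Cfsg.Agent.Lib.Helper6.TCG.tabOKc tab ivs 1062000 2000 = true := by decide +kernel

theorem chk_tab532 : Cfsg.Agent.Lib.Helper6.TCG.tabOKc tab ivs 1064000 2000 = true := by decide +kernel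

theorem chk_tab533 : Cfsg.Agent.Lib.Helper6.TCG.tabOKc tab ivs 1066000 2000 = true := by decide +kernel

theorem chk_tab534 : Cfsg.Agent.Lib.Helper6.TCG.tabOKc tab ivs 1068000 2000 = true := by decide +kernel

theorem chk_tab535 : Cfsg.Agent.Lib.Helper6.TCG.tabOKc tab ivs 1070000 2000 = true := by decide +kernel

theorem chk_tab536 : Cfsg.Agent.Lib.Helper6.TCG.tabOKc tab ivs 1072000 2000 = true := by decide +kernel

theorem chk_tab537 : Cfsg.Agent.Lib.Helper6.TCG.tabOKc tab ivs 1074000 2000 = true := by decide +kernel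

theorem chk_tab538 : Cfsg.Agent.Lib.Helper6.TCG.tabOKc tab ivs 1076000 2000 = true := by decide +kernel

theorem chk_tab539 : Cfsg.Agent.Lib.Helper6.TCG.tabOKc tab ivs 1078000 2000 = true := by decide +kernel


end Cfsg.Agent.Lib.Lead.HNP.HNTC
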