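import Cfsg.Agent.Lib.Lead.HNP.HNTCData
import Cfsg.Agent.Lib.Helper6.TCGIndex
import Cfsg.Agent.Lib.Lead.HNP.HNTCTab36

/-! # HNTC: the kernel check of the coset table, part 60 -/

set_option autoImplicit false

namespace Cfsg.Agent.Lib.Lead.HNP.HNTC

open Cfsg.Agent.Lib.Helper6.TC Cfsg.Agent.Lib.Helper6.TCGS

theorem chk_tab540 : Cfsg.Agent.Lib.Helper6.TCG.tabOKc tab ivs 1080000 2000 = true := by decide +kernel

theorem chk_tab541 : Cfsg.Agent.Lib.Helper6.TCG.tabOKc tab ivs 1082000 2000 = true := by decide +kernel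

theorem chk_tab542 : Cfsg.Agent.Lib.Helper6.TCG.tabOKc tab ivs 1084000 2000 = true := by decide +kernel

theorem chk_tab543 : Cfsg.Agent.Lib.Helper6.TCG.tabOKc tab ivs 1086000 2000 = true := by decide +kernel

theorem chk_tab544 : Cfsg.Agent.Lib.Helper6.TCG.tabOKc tab ivs 1088000 2000 = true := by decide +kernel

theorem chk_tab545 : Cfsg.Agent.Lib.Helper6.TCG.tabOKc tab ivs 1090000 2000 = true := by decide +kernel

theorem chk_tab546 : Cfsg.Agent.Lib.Helper6.TCG.tabOKc tab ivs 1092000 2000 = true := by decide +kernel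

theorem chk_tab547 : Cfsg.Agent.Lib.Helper6.TCG.tabOKc tab ivs 1094000 2000 = true := by decide +kernel

theorem chk_tab548 : Cfsg.Agent.Lib.Helper6.TCG.tabOKc tab ivs 1096000 2000 = true := by decide +kernel


end Cfsg.Agent.Lib.Lead.HNP.HNTC
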