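import Cfsg.Agent.Lib.Lead.HNP.HNTCData
import Cfsg.Agent.Lib.Helper6.TCGIndex
import Cfsg.Agent.Lib.Lead.HNP.HNTCTab37

/-! # HNTC: the kernel check of the coset table, part 61 -/

set_option autoImplicit false

namespace Cfsg.Agent.Lib.Lead.HNP.HNTC

open Cfsg.Agent.Lib.Helper6.TC Cfsg.Agent.Lib.Helper6.TCGS

theorem chk_tab549 : Cfsg.Agent.Lib.Helper6.TCG.tabOKc tab ivs 1098000 2000 = true := by decide +kernel

theorem chk_tab550 : Cfsg.Agent.Lib.Helper6.TCG.tabOKc tab ivs 1100000 2000 = true := by decide +kernel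

theorem chk_tab551 : Cfsg.Agent.Lib.Helper6.TCG.tabOKc tab ivs 1102000 2000 = true := by decide +kernel

theorem chk_tab552 : Cfsg.Agent.Lib.Helper6.TCG.tabOKc tab ivs 1104000 2000 = true := by decide +kernel

theorem chk_tab553 : Cfsg.Agent.Lib.Helper6.TCG.tabOKc tab ivs 1106000 2000 = true := by decide +kernel

theorem chk_tab554 : Cfsg.Agent.Lib.Helper6.TCG.tabOKc tab ivs 1108000 2000 = true := by decide +kernel

theorem chk_tab555 : Cfsg.Agent.Lib.Helper6.TCG.tabOKc tab ivs 1110000 2000 = true := by decide +kernel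

theorem chk_tab556 : Cfsg.Agent.Lib.Helper6.TCG.tabOKc tab ivs 1112000 2000 = true := by decide +kernel

theorem chk_tab557 : Cfsg.Agent.Lib.Helper6.TCG.tabOKc tab ivs 1114000 2000 = true := by decide +kernel


end Cfsg.Agent.Lib.Lead.HNP.HNTC
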