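import Cfsg.Agent.Lib.Lead.HNP.HNTCData
import Cfsg.Agent.Lib.Helper6.TCGIndex
import Cfsg.Agent.Lib.Lead.HNP.HNTCTab14

/-! # HNTC: the kernel check of the coset table, part 38 -/

set_option autoImplicit false

namespace Cfsg.Agent.Lib.Lead.HNP.HNTC

open Cfsg.Agent.Lib.Helper6.TC Cfsg.Agent.Lib.Helper6.TCGS

theorem chk_tab342 : Cfsg.Agent.Lib.Helper6.TCG.tabOKc tab ivs 684000 2000 = true := by decide +kernel

theorem chk_tab343 : Cfsg.Agent.Lib.Helper6.TCG.tabOKc tab ivs 686000 2000 = true := by decide +kernel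

theorem chk_tab344 : Cfsg.Agent.Lib.Helper6.TCG.tabOKc tab ivs 688000 2000 = true := by decide +kernel

theorem chk_tab345 : Cfsg.Agent.Lib.Helper6.TCG.tabOKc tab ivs 690000 2000 = true := by decide +kernel

theorem chk_tab346 : Cfsg.Agent.Lib.Helper6.TCG.tabOKc tab ivs 692000 2000 = true := by decide +kernel

theorem chk_tab347 : Cfsg.Agent.Lib.Helper6.TCG.tabOKc tab ivs 694000 2000 = true := by decide +kernel

theorem chk_tab348 : Cfsg.Agent.Lib.Helper6.TCG.tabOKc tab ivs 696000 2000 = true := by decide +kernel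

theorem chk_tab349 : Cfsg.Agent.Lib.Helper6.TCG.tabOKc tab ivs 698000 2000 = true := by decide +kernel

theorem chk_tab350 : Cfsg.Agent.Lib.Helper6.TCG.tabOKc tab ivs 700000 2000 = true := by decide +kernel


end Cfsg.Agent.Lib.Lead.HNP.HNTC
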