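import Cfsg.Agent.Lib.Lead.HNP.HNTCData
import Cfsg.Agent.Lib.Helper6.TCGIndex
import Cfsg.Agent.Lib.Lead.HNP.HNTCTab38

/-! # HNTC: the kernel check of the coset table, part 62 -/

set_option autoImplicit false

namespace Cfsg.Agent.Lib.Lead.HNP.HNTC

open Cfsg.Agent.Lib.Helper6.TC Cfsg.Agent.Lib.Helper6.TCGS

theorem chk_tab558 : Cfsg.Agent.Lib.Helper6.TCG.tabOKc tab ivs 1116000 2000 = true := by decide +kernel

theorem chk_tab559 : Cfsg.Agent.Lib.Helper6.TCG.tabOKc tab ivs 1118000 2000 = true := by decide +kernel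

theorem chk_tab560 : Cfsg.Agent.Lib.Helper6.TCG.tabOKc tab ivs 1120000 2000 = true := by decide +kernel

theorem chk_tab561 : Cfsg.Agent.Lib.Helper6.TCG.tabOKc tab ivs 1122000 2000 = true := by decide +kernel

theorem chk_tab562 : Cfsg.Agent.Lib.Helper6.TCG.tabOKc tab ivs 1124000 2000 = true := by decide +kernel

theorem chk_tab563 : Cfsg.Agent.Lib.Helper6.TCG.tabOKc tab ivs 1126000 2000 = true := by decide +kernel

theorem chk_tab564 : Cfsg.Agent.Lib.Helper6.TCG.tabOKc tab ivs 1128000 2000 = true := by decide +kernel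

theorem chk_tab565 : Cfsg.Agent.Lib.Helper6.TCG.tabOKc tab ivs 1130000 2000 = true := by decide +kernel

theorem chk_tab566 : Cfsg.Agent.Lib.Helper6.TCG.tabOKc tab ivs 1132000 2000 = true := by decide +kernel


end Cfsg.Agent.Lib.Lead.HNP.HNTC
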