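import Cfsg.Agent.Lib.Lead.HNP.HNTCData
import Cfsg.Agent.Lib.Helper6.TCGIndex
import Cfsg.Agent.Lib.Lead.HNP.HNTCTab39

/-! # HNTC: the kernel check of the coset table, part 63 -/

set_option autoImplicit false

namespace Cfsg.Agent.Lib.Lead.HNP.HNTC

open Cfsg.Agent.Lib.Helper6.TC Cfsg.Agent.Lib.Helper6.TCGS

theorem chk_tab567 : Cfsg.Agent.Lib.Helper6.TCG.tabOKc tab ivs 1134000 2000 = true := by decide +kernel

theorem chk_tab568 : Cfsg.Agent.Lib.Helper6.TCG.tabOKc tab ivs 1136000 2000 = true := by decide +kernel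

theorem chk_tab569 : Cfsg.Agent.Lib.Helper6.TCG.tabOKc tab ivs 1138000 2000 = true := by decide +kernel

theorem chk_tab570 : Cfsg.Agent.Lib.Helper6.TCG.tabOKc tab ivs 1140000 2000 = true := by decide +kernel

theorem chk_tab571 : Cfsg.Agent.Lib.Helper6.TCG.tabOKc tab ivs 1142000 2000 = true := by decide +kernel

theorem chk_tab572 : Cfsg.Agent.Lib.Helper6.TCG.tabOKc tab ivs 1144000 2000 = true := by decide +kernel

theorem chk_tab573 : Cfsg.Agent.Lib.Helper6.TCG.tabOKc tab ivs 1146000 2000 = true := by decide +kernel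

theorem chk_tab574 : Cfsg.Agent.Lib.Helper6.TCG.tabOKc tab ivs 1148000 2000 = true := by decide +kernel

theorem chk_tab575 : Cfsg.Agent.Lib.Helper6.TCG.tabOKc tab ivs 1150000 2000 = true := by decide +kernel


end Cfsg.Agent.Lib.Lead.HNP.HNTC
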