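import Cfsg.Agent.Lib.Lead.HNP.HNTCData
import Cfsg.Agent.Lib.Helper6.TCGIndex
import Cfsg.Agent.Lib.Lead.HNP.HNTCTab40

/-! # HNTC: the kernel check of the coset table, part 64 -/

set_option autoImplicit false

namespace Cfsg.Agent.Lib.Lead.HNP.HNTC

open Cfsg.Agent.Lib.Helper6.TC Cfsg.Agent.Lib.Helper6.TCGS

theorem chk_tab576 : Cfsg.Agent.Lib.Helper6.TCG.tabOKc tab ivs 1152000 2000 = true := by decide +kernel

theorem chk_tab577 : Cfsg.Agent.Lib.Helper6.TCG.tabOKc tab ivs 1154000 2000 = true := by decide +kernel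

theorem chk_tab578 : Cfsg.Agent.Lib.Helper6.TCG.tabOKc tab ivs 1156000 2000 = true := by decide +kernel

theorem chk_tab579 : Cfsg.Agent.Lib.Helper6.TCG.tabOKc tab ivs 1158000 2000 = true := by decide +kernel

theorem chk_tab580 : Cfsg.Agent.Lib.Helper6.TCG.tabOKc tab ivs 1160000 2000 = true := by decide +kernel

theorem chk_tab581 : Cfsg.Agent.Lib.Helper6.TCG.tabOKc tab ivs 1162000 2000 = true := by decide +kernel

theorem chk_tab582 : Cfsg.Agent.Lib.Helper6.TCG.tabOKc tab ivs 1164000 2000 = true := by decide +kernel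

theorem chk_tab583 : Cfsg.Agent.Lib.Helper6.TCG.tabOKc tab ivs 1166000 2000 = true := by decide +kernel

theorem chk_tab584 : Cfsg.Agent.Lib.Helper6.TCG.tabOKc tab ivs 1168000 2000 = true := by decide +kernel


end Cfsg.Agent.Lib.Lead.HNP.HNTC
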