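import Cfsg.Agent.Lib.Lead.HNP.HNTCData
import Cfsg.Agent.Lib.Helper6.TCGIndex
import Cfsg.Agent.Lib.Lead.HNP.HNTCTab41

/-! # HNTC: the kernel check of the coset table, part 65 -/

set_option autoImplicit false

namespace Cfsg.Agent.Lib.Lead.HNP.HNTC

open Cfsg.Agent.Lib.Helper6.TC Cfsg.Agent.Lib.Helper6.TCGS

theorem chk_tab585 : Cfsg.Agent.Lib.Helper6.TCG.tabOKc tab ivs 1170000 2000 = true := by decide +kernel

theorem chk_tab586 : Cfsg.Agent.Lib.Helper6.TCG.tabOKc tab ivs 1172000 2000 = true := by decide +kernel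

theorem chk_tab587 : Cfsg.Agent.Lib.Helper6.TCG.tabOKc tab ivs 1174000 2000 = true := by decide +kernel

theorem chk_tab588 : Cfsg.Agent.Lib.Helper6.TCG.tabOKc tab ivs 1176000 2000 = true := by decide +kernel

theorem chk_tab589 : Cfsg.Agent.Lib.Helper6.TCG.tabOKc tab ivs 1178000 2000 = true := by decide +kernel

theorem chk_tab590 : Cfsg.Agent.Lib.Helper6.TCG.tabOKc tab ivs 1180000 2000 = true := by decide +kernel

theorem chk_tab591 : Cfsg.Agent.Lib.Helper6.TCG.tabOKc tab ivs 1182000 2000 = true := by decide +kernel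

theorem chk_tab592 : Cfsg.Agent.Lib.Helper6.TCG.tabOKc tab ivs 1184000 2000 = true := by decide +kernel

theorem chk_tab593 : Cfsg.Agent.Lib.Helper6.TCG.tabOKc tab ivs 1186000 2000 = true := by decide +kernel


end Cfsg.Agent.Lib.Lead.HNP.HNTC
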