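import Cfsg.Agent.Lib.Lead.HNP.HNTCData
import Cfsg.Agent.Lib.Helper6.TCGIndex
import Cfsg.Agent.Lib.Lead.HNP.HNTCTab43

/-! # HNTC: the kernel check of the coset table, part 67 -/

set_option autoImplicit false

namespace Cfsg.Agent.Lib.Lead.HNP.HNTC

open Cfsg.Agent.Lib.Helper6.TC Cfsg.Agent.Lib.Helper6.TCGS

theorem chk_tab603 : Cfsg.Agent.Lib.Helper6.TCG.tabOKc tab ivs 1206000 2000 = true := by decide +kernel

theorem chk_tab604 : Cfsg.Agent.Lib.Helper6.TCG.tabOKc tab ivs 1208000 2000 = true := by decide +kernel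

theorem chk_tab605 : Cfsg.Agent.Lib.Helper6.TCG.tabOKc tab ivs 1210000 2000 = true := by decide +kernel

theorem chk_tab606 : Cfsg.Agent.Lib.Helper6.TCG.tabOKc tab ivs 1212000 2000 = true := by decide +kernel

theorem chk_tab607 : Cfsg.Agent.Lib.Helper6.TCG.tabOKc tab ivs 1214000 2000 = true := by decide +kernel

theorem chk_tab608 : Cfsg.Agent.Lib.Helper6.TCG.tabOKc tab ivs 1216000 2000 = true := by decide +kernel

theorem chk_tab609 : Cfsg.Agent.Lib.Helper6.TCG.tabOKc tab ivs 1218000 2000 = true := by decide +kernel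

theorem chk_tab610 : Cfsg.Agent.Lib.Helper6.TCG.tabOKc tab ivs 1220000 2000 = true := by decide +kernel

theorem chk_tab611 : Cfsg.Agent.Lib.Helper6.TCG.tabOKc tab ivs 1222000 2000 = true := by decide +kernel


end Cfsg.Agent.Lib.Lead.HNP.HNTC
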