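import Cfsg.Agent.Lib.Lead.HNP.HNTCData
import Cfsg.Agent.Lib.Helper6.TCGIndex
import Cfsg.Agent.Lib.Lead.HNP.HNTCTab44

/-! # HNTC: the kernel check of the coset table, part 68 -/

set_option autoImplicit false

namespace Cfsg.Agent.Lib.Lead.HNP.HNTC

open Cfsg.Agent.Lib.Helper6.TC Cfsg.Agent.Lib.Helper6.TCGS

theorem chk_tab612 : Cfsg.Agent.Lib.Helper6.TCG.tabOKc tab ivs 1224000 2000 = true := by decide +kernel

theorem chk_tab613 : Cfsg.Agent.Lib.Helper6.TCG.tabOKc tab ivs 1226000 2000 = true := by decide +kernel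

theorem chk_tab614 : Cfsg.Agent.Lib.Helper6.TCG.tabOKc tab ivs 1228000 2000 = true := by decide +kernel

theorem chk_tab615 : Cfsg.Agent.Lib.Helper6.TCG.tabOKc tab ivs 1230000 2000 = true := by decide +kernel

theorem chk_tab616 : Cfsg.Agent.Lib.Helper6.TCG.tabOKc tab ivs 1232000 2000 = true := by decide +kernel

theorem chk_tab617 : Cfsg.Agent.Lib.Helper6.TCG.tabOKc tab ivs 1234000 2000 = true := by decide +kernel

theorem chk_tab618 : Cfsg.Agent.Lib.Helper6.TCG.tabOKc tab ivs 1236000 2000 = true := by decide +kernel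

theorem chk_tab619 : Cfsg.Agent.Lib.Helper6.TCG.tabOKc tab ivs 1238000 2000 = true := by decide +kernel

theorem chk_tab620 : Cfsg.Agent.Lib.Helper6.TCG.tabOKc tab ivs 1240000 2000 = true := by decide +kernel


end Cfsg.Agent.Lib.Lead.HNP.HNTC
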