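import Cfsg.Agent.Lib.Lead.HNP.HNTCData
import Cfsg.Agent.Lib.Helper6.TCGIndex
import Cfsg.Agent.Lib.Lead.HNP.HNTCTab45

/-! # HNTC: the kernel check of the coset table, part 69 -/

set_option autoImplicit false

namespace Cfsg.Agent.Lib.Lead.HNP.HNTC

open Cfsg.Agent.Lib.Helper6.TC Cfsg.Agent.Lib.Helper6.TCGS

theorem chk_tab621 : Cfsg.Agent.Lib.Helper6.TCG.tabOKc tab ivs 1242000 2000 = true := by decide +kernel

theorem chk_tab622 : Cfsg.Agent.Lib.Helper6.TCG.tabOKc tab ivs 1244000 2000 = true := by decide +kernel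

theorem chk_tab623 : Cfsg.Agent.Lib.Helper6.TCG.tabOKc tab ivs 1246000 2000 = true := by decide +kernel

theorem chk_tab624 : Cfsg.Agent.Lib.Helper6.TCG.tabOKc tab ivs 1248000 2000 = true := by decide +kernel

theorem chk_tab625 : Cfsg.Agent.Lib.Helper6.TCG.tabOKc tab ivs 1250000 2000 = true := by decide +kernel

theorem chk_tab626 : Cfsg.Agent.Lib.Helper6.TCG.tabOKc tab ivs 1252000 2000 = true := by decide +kernel

theorem chk_tab627 : Cfsg.Agent.Lib.Helper6.TCG.tabOKc tab ivs 1254000 2000 = true := by decide +kernel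

theorem chk_tab628 : Cfsg.Agent.Lib.Helper6.TCG.tabOKc tab ivs 1256000 2000 = true := by decide +kernel

theorem chk_tab629 : Cfsg.Agent.Lib.Helper6.TCG.tabOKc tab ivs 1258000 2000 = true := by decide +kernel


end Cfsg.Agent.Lib.Lead.HNP.HNTC
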