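import Cfsg.Agent.Lib.Lead.HNP.HNTCData
import Cfsg.Agent.Lib.Helper6.TCGIndex
import Cfsg.Agent.Lib.Lead.HNP.HNTCTab46

/-! # HNTC: the kernel check of the coset table, part 70 -/

set_option autoImplicit false

namespace Cfsg.Agent.Lib.Lead.HNP.HNTC

open Cfsg.Agent.Lib.Helper6.TC Cfsg.Agent.Lib.Helper6.TCGS

theorem chk_tab630 : Cfsg.Agent.Lib.Helper6.TCG.tabOKc tab ivs 1260000 2000 = true := by decide +kernel

theorem chk_tab631 : Cfsg.Agent.Lib.Helper6.TCG.tabOKc tab ivs 1262000 2000 = true := by decide +kernel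

theorem chk_tab632 : Cfsg.Agent.Lib.Helper6.TCG.tabOKc tab ivs 1264000 2000 = true := by decide +kernel

theorem chk_tab633 : Cfsg.Agent.Lib.Helper6.TCG.tabOKc tab ivs 1266000 2000 = true := by decide +kernel

theorem chk_tab634 : Cfsg.Agent.Lib.Helper6.TCG.tabOKc tab ivs 1268000 2000 = true := by decide +kernel

theorem chk_tab635 : Cfsg.Agent.Lib.Helper6.TCG.tabOKc tab ivs 1270000 2000 = true := by decide +kernel

theorem chk_tab636 : Cfsg.Agent.Lib.Helper6.TCG.tabOKc tab ivs 1272000 2000 = true := by decide +kernel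

theorem chk_tab637 : Cfsg.Agent.Lib.Helper6.TCG.tabOKc tab ivs 1274000 2000 = true := by decide +kernel

theorem chk_tab638 : Cfsg.Agent.Lib.Helper6.TCG.tabOKc tab ivs 1276000 2000 = true := by decide +kernel


end Cfsg.Agent.Lib.Lead.HNP.HNTC
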