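import Cfsg.Agent.Lib.Lead.HNP.HNTCData
import Cfsg.Agent.Lib.Helper6.TCGIndex
import Cfsg.Agent.Lib.Lead.HNP.HNTCTab47

/-! # HNTC: the kernel check of the coset table, part 71 -/

set_option autoImplicit false

namespace Cfsg.Agent.Lib.Lead.HNP.HNTC

open Cfsg.Agent.Lib.Helper6.TC Cfsg.Agent.Lib.Helper6.TCGS

theorem chk_tab639 : Cfsg.Agent.Lib.Helper6.TCG.tabOKc tab ivs 1278000 2000 = true := by decide +kernel

theorem chk_tab640 : Cfsg.Agent.Lib.Helper6.TCG.tabOKc tab ivs 1280000 2000 = true := by decide +kernel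

theorem chk_tab641 : Cfsg.Agent.Lib.Helper6.TCG.tabOKc tab ivs 1282000 2000 = true := by decide +kernel

theorem chk_tab642 : Cfsg.Agent.Lib.Helper6.TCG.tabOKc tab ivs 1284000 2000 = true := by decide +kernel

theorem chk_tab643 : Cfsg.Agent.Lib.Helper6.TCG.tabOKc tab ivs 1286000 2000 = true := by decide +kernel

theorem chk_tab644 : Cfsg.Agent.Lib.Helper6.TCG.tabOKc tab ivs 1288000 2000 = true := by decide +kernel

theorem chk_tab645 : Cfsg.Agent.Lib.Helper6.TCG.tabOKc tab ivs 1290000 2000 = true := by decide +kernel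

theorem chk_tab646 : Cfsg.Agent.Lib.Helper6.TCG.tabOKc tab ivs 1292000 2000 = true := by decide +kernel

theorem chk_tab647 : Cfsg.Agent.Lib.Helper6.TCG.tabOKc tab ivs 1294000 2000 = true := by decide +kernel


end Cfsg.Agent.Lib.Lead.HNP.HNTC
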