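import Cfsg.Agent.Lib.Lead.HNP.HNTCData
import Cfsg.Agent.Lib.Helper6.TCGIndex
import Cfsg.Agent.Lib.Lead.HNP.HNTCTab48

/-! # HNTC: the kernel check of the coset table, part 72 -/

set_option autoImplicit false

namespace Cfsg.Agent.Lib.Lead.HNP.HNTC

open Cfsg.Agent.Lib.Helper6.TC Cfsg.Agent.Lib.Helper6.TCGS

theorem chk_tab648 : Cfsg.Agent.Lib.Helper6.TCG.tabOKc tab ivs 1296000 2000 = true := by decide +kernel

theorem chk_tab649 : Cfsg.Agent.Lib.Helper6.TCG.tabOKc tab ivs 1298000 2000 = true := by decide +kernel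

theorem chk_tab650 : Cfsg.Agent.Lib.Helper6.TCG.tabOKc tab ivs 1300000 2000 = true := by decide +kernel

theorem chk_tab651 : Cfsg.Agent.Lib.Helper6.TCG.tabOKc tab ivs 1302000 2000 = true := by decide +kernel

theorem chk_tab652 : Cfsg.Agent.Lib.Helper6.TCG.tabOKc tab ivs 1304000 2000 = true := by decide +kernel

theorem chk_tab653 : Cfsg.Agent.Lib.Helper6.TCG.tabOKc tab ivs 1306000 2000 = true := by decide +kernel

theorem chk_tab654 : Cfsg.Agent.Lib.Helper6.TCG.tabOKc tab ivs 1308000 2000 = true := by decide +kernel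

theorem chk_tab655 : Cfsg.Agent.Lib.Helper6.TCG.tabOKc tab ivs 1310000 2000 = true := by decide +kernel

theorem chk_tab656 : Cfsg.Agent.Lib.Helper6.TCG.tabOKc tab ivs 1312000 2000 = true := by decide +kernel


end Cfsg.Agent.Lib.Lead.HNP.HNTC
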