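import Cfsg.Agent.Lib.Lead.HNP.HNTCData
import Cfsg.Agent.Lib.Helper6.TCGIndex
import Cfsg.Agent.Lib.Lead.HNP.HNTCTab49

/-! # HNTC: the kernel check of the coset table, part 73 -/

set_option autoImplicit false

namespace Cfsg.Agent.Lib.Lead.HNP.HNTC

open Cfsg.Agent.Lib.Helper6.TC Cfsg.Agent.Lib.Helper6.TCGS

theorem chk_tab657 : Cfsg.Agent.Lib.Helper6.TCG.tabOKc tab ivs 1314000 2000 = true := by decide +kernel

theorem chk_tab658 : Cfsg.Agent.Lib.Helper6.TCG.tabOKc tab ivs 1316000 2000 = true := by decide +kernel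

theorem chk_tab659 : Cfsg.Agent.Lib.Helper6.TCG.tabOKc tab ivs 1318000 2000 = true := by decide +kernel

theorem chk_tab660 : Cfsg.Agent.Lib.Helper6.TCG.tabOKc tab ivs 1320000 2000 = true := by decide +kernel

theorem chk_tab661 : Cfsg.Agent.Lib.Helper6.TCG.tabOKc tab ivs 1322000 2000 = true := by decide +kernel

theorem chk_tab662 : Cfsg.Agent.Lib.Helper6.TCG.tabOKc tab ivs 1324000 2000 = true := by decide +kernel

theorem chk_tab663 : Cfsg.Agent.Lib.Helper6.TCG.tabOKc tab ivs 1326000 2000 = true := by decide +kernel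

theorem chk_tab664 : Cfsg.Agent.Lib.Helper6.TCG.tabOKc tab ivs 1328000 2000 = true := by decide +kernel

theorem chk_tab665 : Cfsg.Agent.Lib.Helper6.TCG.tabOKc tab ivs 1330000 2000 = true := by decide +kernel


end Cfsg.Agent.Lib.Lead.HNP.HNTC
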