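import Cfsg.Agent.Lib.Lead.HNP.HNTCData
import Cfsg.Agent.Lib.Helper6.TCGIndex
import Cfsg.Agent.Lib.Lead.HNP.HNTCTab50

/-! # HNTC: the kernel check of the coset table, part 74 -/

set_option autoImplicit false

namespace Cfsg.Agent.Lib.Lead.HNP.HNTC

open Cfsg.Agent.Lib.Helper6.TC Cfsg.Agent.Lib.Helper6.TCGS

theorem chk_tab666 : Cfsg.Agent.Lib.Helper6.TCG.tabOKc tab ivs 1332000 2000 = true := by decide +kernel

theorem chk_tab667 : Cfsg.Agent.Lib.Helper6.TCG.tabOKc tab ivs 1334000 2000 = true := by decide +kernel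

theorem chk_tab668 : Cfsg.Agent.Lib.Helper6.TCG.tabOKc tab ivs 1336000 2000 = true := by decide +kernel

theorem chk_tab669 : Cfsg.Agent.Lib.Helper6.TCG.tabOKc tab ivs 1338000 2000 = true := by decide +kernel

theorem chk_tab670 : Cfsg.Agent.Lib.Helper6.TCG.tabOKc tab ivs 1340000 2000 = true := by decide +kernel

theorem chk_tab671 : Cfsg.Agent.Lib.Helper6.TCG.tabOKc tab ivs 1342000 2000 = true := by decide +kernel

theorem chk_tab672 : Cfsg.Agent.Lib.Helper6.TCG.tabOKc tab ivs 1344000 2000 = true := by decide +kernel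

theorem chk_tab673 : Cfsg.Agent.Lib.Helper6.TCG.tabOKc tab ivs 1346000 2000 = true := by decide +kernel

theorem chk_tab674 : Cfsg.Agent.Lib.Helper6.TCG.tabOKc tab ivs 1348000 2000 = true := by decide +kernel


end Cfsg.Agent.Lib.Lead.HNP.HNTC
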