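import Cfsg.Agent.Lib.Lead.HNP.HNTCData
import Cfsg.Agent.Lib.Helper6.TCGIndex
import Cfsg.Agent.Lib.Lead.HNP.HNTCTab51

/-! # HNTC: the kernel check of the coset table, part 75 -/

set_option autoImplicit false

namespace Cfsg.Agent.Lib.Lead.HNP.HNTC

open Cfsg.Agent.Lib.Helper6.TC Cfsg.Agent.Lib.Helper6.TCGS

theorem chk_tab675 : Cfsg.Agent.Lib.Helper6.TCG.tabOKc tab ivs 1350000 2000 = true := by decide +kernel

theorem chk_tab676 : Cfsg.Agent.Lib.Helper6.TCG.tabOKc tab ivs 1352000 2000 = true := by decide +kernel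

theorem chk_tab677 : Cfsg.Agent.Lib.Helper6.TCG.tabOKc tab ivs 1354000 2000 = true := by decide +kernel

theorem chk_tab678 : Cfsg.Agent.Lib.Helper6.TCG.tabOKc tab ivs 1356000 2000 = true := by decide +kernel

theorem chk_tab679 : Cfsg.Agent.Lib.Helper6.TCG.tabOKc tab ivs 1358000 2000 = true := by decide +kernel

theorem chk_tab680 : Cfsg.Agent.Lib.Helper6.TCG.tabOKc tab ivs 1360000 2000 = true := by decide +kernel

theorem chk_tab681 : Cfsg.Agent.Lib.Helper6.TCG.tabOKc tab ivs 1362000 2000 = true := by decide +kernel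

theorem chk_tab682 : Cfsg.Agent.Lib.Helper6.TCG.tabOKc tab ivs 1364000 2000 = true := by decide +kernel

theorem chk_tab683 : Cfsg.Agent.Lib.Helper6.TCG.tabOKc tab ivs 1366000 2000 = true := by decide +kernel


end Cfsg.Agent.Lib.Lead.HNP.HNTC
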