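import Cfsg.Agent.Lib.Lead.HNP.HNTCData
import Cfsg.Agent.Lib.Helper6.TCGIndex
import Cfsg.Agent.Lib.Lead.HNP.HNTCTab28

/-! # HNTC: the kernel check of the coset table, part 52 -/

set_option autoImplicit false

namespace Cfsg.Agent.Lib.Lead.HNP.HNTC

open Cfsg.Agent.Lib.Helper6.TC Cfsg.Agent.Lib.Helper6.TCGS

theorem chk_tab468 : Cfsg.Agent.Lib.Helper6.TCG.tabOKc tab ivs 936000 2000 = true := by decide +kernel

theorem chk_tab469 : Cfsg.Agent.Lib.Helper6.TCG.tabOKc tab ivs 938000 2000 = true := by decide +kernel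

theorem chk_tab470 : Cfsg.Agent.Lib.Helper6.TCG.tabOKc tab ivs 940000 2000 = true := by decide +kernel

theorem chk_tab471 : Cfsg.Agent.Lib.Helper6.TCG.tabOKc tab ivs 942000 2000 = true := by decide +kernel

theorem chk_tab472 : Cfsg.Agent.Lib.Helper6.TCG.tabOKc tab ivs 944000 2000 = true := by decide +kernel

theorem chk_tab473 : Cfsg.Agent.Lib.Helper6.TCG.tabOKc tab ivs 946000 2000 = true := by decide +kernel

theorem chk_tab474 : Cfsg.Agent.Lib.Helper6.TCG.tabOKc tab ivs 948000 2000 = true := by decide +kernel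

theorem chk_tab475 : Cfsg.Agent.Lib.Helper6.TCG.tabOKc tab ivs 950000 2000 = true := by decide +kernel

theorem chk_tab476 : Cfsg.Agent.Lib.Helper6.TCG.tabOKc tab ivs 952000 2000 = true := by decide +kernel


end Cfsg.Agent.Lib.Lead.HNP.HNTC
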