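import Cfsg.Agent.Lib.Lead.HNP.HNTCData
import Cfsg.Agent.Lib.Helper6.TCGIndex
import Cfsg.Agent.Lib.Lead.HNP.HNTCTab52

/-! # HNTC: the kernel check of the coset table, part 76 -/

set_option autoImplicit false

namespace Cfsg.Agent.Lib.Lead.HNP.HNTC

open Cfsg.Agent.Lib.Helper6.TC Cfsg.Agent.Lib.Helper6.TCGS

theorem chk_tab684 : Cfsg.Agent.Lib.Helper6.TCG.tabOKc tab ivs 1368000 2000 = true := by decide +kernel

theorem chk_tab685 : Cfsg.Agent.Lib.Helper6.TCG.tabOKc tab ivs 1370000 2000 = true := by decide +kernel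

theorem chk_tab686 : Cfsg.Agent.Lib.Helper6.TCG.tabOKc tab ivs 1372000 2000 = true := by decide +kernel

theorem chk_tab687 : Cfsg.Agent.Lib.Helper6.TCG.tabOKc tab ivs 1374000 2000 = true := by decide +kernel

theorem chk_tab688 : Cfsg.Agent.Lib.Helper6.TCG.tabOKc tab ivs 1376000 2000 = true := by decide +kernel

theorem chk_tab689 : Cfsg.Agent.Lib.Helper6.TCG.tabOKc tab ivs 1378000 2000 = true := by decide +kernel

theorem chk_tab690 : Cfsg.Agent.Lib.Helper6.TCG.tabOKc tab ivs 1380000 2000 = true := by decide +kernel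

theorem chk_tab691 : Cfsg.Agent.Lib.Helper6.TCG.tabOKc tab ivs 1382000 2000 = true := by decide +kernel

theorem chk_tab692 : Cfsg.Agent.Lib.Helper6.TCG.tabOKc tab ivs 1384000 2000 = true := by decide +kernel


end Cfsg.Agent.Lib.Lead.HNP.HNTC
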