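import Cfsg.Agent.Lib.Lead.HNP.HNTCData
import Cfsg.Agent.Lib.Helper6.TCGIndex
import Cfsg.Agent.Lib.Lead.HNP.HNTCTab53

/-! # HNTC: the kernel check of the coset table, part 77 -/

set_option autoImplicit false

namespace Cfsg.Agent.Lib.Lead.HNP.HNTC

open Cfsg.Agent.Lib.Helper6.TC Cfsg.Agent.Lib.Helper6.TCGS

theorem chk_tab693 : Cfsg.Agent.Lib.Helper6.TCG.tabOKc tab ivs 1386000 2000 = true := by decide +kernel

theorem chk_tab694 : Cfsg.Agent.Lib.Helper6.TCG.tabOKc tab ivs 1388000 2000 = true := by decide +kernel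

theorem chk_tab695 : Cfsg.Agent.Lib.Helper6.TCG.tabOKc tab ivs 1390000 2000 = true := by decide +kernel

theorem chk_tab696 : Cfsg.Agent.Lib.Helper6.TCG.tabOKc tab ivs 1392000 2000 = true := by decide +kernel

theorem chk_tab697 : Cfsg.Agent.Lib.Helper6.TCG.tabOKc tab ivs 1394000 2000 = true := by decide +kernel

theorem chk_tab698 : Cfsg.Agent.Lib.Helper6.TCG.tabOKc tab ivs 1396000 2000 = true := by decide +kernel

theorem chk_tab699 : Cfsg.Agent.Lib.Helper6.TCG.tabOKc tab ivs 1398000 2000 = true := by decide +kernel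

theorem chk_tab700 : Cfsg.Agent.Lib.Helper6.TCG.tabOKc tab ivs 1400000 2000 = true := by decide +kernel

theorem chk_tab701 : Cfsg.Agent.Lib.Helper6.TCG.tabOKc tab ivs 1402000 2000 = true := by decide +kernel


end Cfsg.Agent.Lib.Lead.HNP.HNTC
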