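import Cfsg.Agent.Lib.Lead.HNP.HNTCData
import Cfsg.Agent.Lib.Helper6.TCGIndex
import Cfsg.Agent.Lib.Lead.HNP.HNTCTab54

/-! # HNTC: the kernel check of the coset table, part 78 -/

set_option autoImplicit false

namespace Cfsg.Agent.Lib.Lead.HNP.HNTC

open Cfsg.Agent.Lib.Helper6.TC Cfsg.Agent.Lib.Helper6.TCGS

theorem chk_tab702 : Cfsg.Agent.Lib.Helper6.TCG.tabOKc tab ivs 1404000 2000 = true := by decide +kernel

theorem chk_tab703 : Cfsg.Agent.Lib.Helper6.TCG.tabOKc tab ivs 1406000 2000 = true := by decide +kernel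

theorem chk_tab704 : Cfsg.Agent.Lib.Helper6.TCG.tabOKc tab ivs 1408000 2000 = true := by decide +kernel

theorem chk_tab705 : Cfsg.Agent.Lib.Helper6.TCG.tabOKc tab ivs 1410000 2000 = true := by decide +kernel

theorem chk_tab706 : Cfsg.Agent.Lib.Helper6.TCG.tabOKc tab ivs 1412000 2000 = true := by decide +kernel

theorem chk_tab707 : Cfsg.Agent.Lib.Helper6.TCG.tabOKc tab ivs 1414000 2000 = true := by decide +kernel

theorem chk_tab708 : Cfsg.Agent.Lib.Helper6.TCG.tabOKc tab ivs 1416000 2000 = true := by decide +kernel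

theorem chk_tab709 : Cfsg.Agent.Lib.Helper6.TCG.tabOKc tab ivs 1418000 2000 = true := by decide +kernel

theorem chk_tab710 : Cfsg.Agent.Lib.Helper6.TCG.tabOKc tab ivs 1420000 2000 = true := by decide +kernel


end Cfsg.Agent.Lib.Lead.HNP.HNTC
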