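import Cfsg.Agent.Lib.Lead.HNP.HNTCData
import Cfsg.Agent.Lib.Helper6.TCGIndex
import Cfsg.Agent.Lib.Lead.HNP.HNTCTab55

/-! # HNTC: the kernel check of the coset table, part 79 -/

set_option autoImplicit false

namespace Cfsg.Agent.Lib.Lead.HNP.HNTC

open Cfsg.Agent.Lib.Helper6.TC Cfsg.Agent.Lib.Helper6.TCGS

theorem chk_tab711 : Cfsg.Agent.Lib.Helper6.TCG.tabOKc tab ivs 1422000 2000 = true := by decide +kernel

theorem chk_tab712 : Cfsg.Agent.Lib.Helper6.TCG.tabOKc tab ivs 1424000 2000 = true := by decide +kernel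

theorem chk_tab713 : Cfsg.Agent.Lib.Helper6.TCG.tabOKc tab ivs 1426000 2000 = true := by decide +kernel

theorem chk_tab714 : Cfsg.Agent.Lib.Helper6.TCG.tabOKc tab ivs 1428000 2000 = true := by decide +kernel

theorem chk_tab715 : Cfsg.Agent.Lib.Helper6.TCG.tabOKc tab ivs 1430000 2000 = true := by decide +kernel

theorem chk_tab716 : Cfsg.Agent.Lib.Helper6.TCG.tabOKc tab ivs 1432000 2000 = true := by decide +kernel

theorem chk_tab717 : Cfsg.Agent.Lib.Helper6.TCG.tabOKc tab ivs 1434000 2000 = true := by decide +kernel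

theorem chk_tab718 : Cfsg.Agent.Lib.Helper6.TCG.tabOKc tab ivs 1436000 2000 = true := by decide +kernel

theorem chk_tab719 : Cfsg.Agent.Lib.Helper6.TCG.tabOKc tab ivs 1438000 2000 = true := by decide +kernel


end Cfsg.Agent.Lib.Lead.HNP.HNTC
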