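import Cfsg.Agent.Lib.Lead.HNP.HNTCData
import Cfsg.Agent.Lib.Helper6.TCGIndex
import Cfsg.Agent.Lib.Lead.HNP.HNTCTab57

/-! # HNTC: the kernel check of the coset table, part 81 -/

set_option autoImplicit false

namespace Cfsg.Agent.Lib.Lead.HNP.HNTC

open Cfsg.Agent.Lib.Helper6.TC Cfsg.Agent.Lib.Helper6.TCGS

theorem chk_tab729 : Cfsg.Agent.Lib.Helper6.TCG.tabOKc tab ivs 1458000 2000 = true := by decide +kernel

theorem chk_tab730 : Cfsg.Agent.Lib.Helper6.TCG.tabOKc tab ivs 1460000 2000 = true := by decide +kernel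

theorem chk_tab731 : Cfsg.Agent.Lib.Helper6.TCG.tabOKc tab ivs 1462000 2000 = true := by decide +kernel

theorem chk_tab732 : Cfsg.Agent.Lib.Helper6.TCG.tabOKc tab ivs 1464000 2000 = true := by decide +kernel

theorem chk_tab733 : Cfsg.Agent.Lib.Helper6.TCG.tabOKc tab ivs 1466000 2000 = true := by decide +kernel

theorem chk_tab734 : Cfsg.Agent.Lib.Helper6.TCG.tabOKc tab ivs 1468000 2000 = true := by decide +kernel

theorem chk_tab735 : Cfsg.Agent.Lib.Helper6.TCG.tabOKc tab ivs 1470000 2000 = true := by decide +kernel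

theorem chk_tab736 : Cfsg.Agent.Lib.Helper6.TCG.tabOKc tab ivs 1472000 2000 = true := by decide +kernel

theorem chk_tab737 : Cfsg.Agent.Lib.Helper6.TCG.tabOKc tab ivs 1474000 2000 = true := by decide +kernel


end Cfsg.Agent.Lib.Lead.HNP.HNTC
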