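import Cfsg.Agent.Lib.Lead.HNP.HNTCData
import Cfsg.Agent.Lib.Helper6.TCGIndex
import Cfsg.Agent.Lib.Lead.HNP.HNTCTab58

/-! # HNTC: the kernel check of the coset table, part 82 -/

set_option autoImplicit false

namespace Cfsg.Agent.Lib.Lead.HNP.HNTC

open Cfsg.Agent.Lib.Helper6.TC Cfsg.Agent.Lib.Helper6.TCGS

theorem chk_tab738 : Cfsg.Agent.Lib.Helper6.TCG.tabOKc tab ivs 1476000 2000 = true := by decide +kernel

theorem chk_tab739 : Cfsg.Agent.Lib.Helper6.TCG.tabOKc tab ivs 1478000 2000 = true := by decide +kernel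

theorem chk_tab740 : Cfsg.Agent.Lib.Helper6.TCG.tabOKc tab ivs 1480000 2000 = true := by decide +kernel

theorem chk_tab741 : Cfsg.Agent.Lib.Helper6.TCG.tabOKc tab ivs 1482000 2000 = true := by decide +kernel

theorem chk_tab742 : Cfsg.Agent.Lib.Helper6.TCG.tabOKc tab ivs 1484000 2000 = true := by decide +kernel

theorem chk_tab743 : Cfsg.Agent.Lib.Helper6.TCG.tabOKc tab ivs 1486000 2000 = true := by decide +kernel

theorem chk_tab744 : Cfsg.Agent.Lib.Helper6.TCG.tabOKc tab ivs 1488000 2000 = true := by decide +kernel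

theorem chk_tab745 : Cfsg.Agent.Lib.Helper6.TCG.tabOKc tab ivs 1490000 2000 = true := by decide +kernel

theorem chk_tab746 : Cfsg.Agent.Lib.Helper6.TCG.tabOKc tab ivs 1492000 2000 = true := by decide +kernel


end Cfsg.Agent.Lib.Lead.HNP.HNTC
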