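import Cfsg.Agent.Lib.Lead.HNP.HNTCData
import Cfsg.Agent.Lib.Helper6.TCGIndex
import Cfsg.Agent.Lib.Lead.HNP.HNTCTab59

/-! # HNTC: the kernel check of the coset table, part 83 -/

set_option autoImplicit false

namespace Cfsg.Agent.Lib.Lead.HNP.HNTC

open Cfsg.Agent.Lib.Helper6.TC Cfsg.Agent.Lib.Helper6.TCGS

theorem chk_tab747 : Cfsg.Agent.Lib.Helper6.TCG.tabOKc tab ivs 1494000 2000 = true := by decide +kernel

theorem chk_tab748 : Cfsg.Agent.Lib.Helper6.TCG.tabOKc tab ivs 1496000 2000 = true := by decide +kernel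

theorem chk_tab749 : Cfsg.Agent.Lib.Helper6.TCG.tabOKc tab ivs 1498000 2000 = true := by decide +kernel

theorem chk_tab750 : Cfsg.Agent.Lib.Helper6.TCG.tabOKc tab ivs 1500000 2000 = true := by decide +kernel

theorem chk_tab751 : Cfsg.Agent.Lib.Helper6.TCG.tabOKc tab ivs 1502000 2000 = true := by decide +kernel

theorem chk_tab752 : Cfsg.Agent.Lib.Helper6.TCG.tabOKc tab ivs 1504000 2000 = true := by decide +kernel

theorem chk_tab753 : Cfsg.Agent.Lib.Helper6.TCG.tabOKc tab ivs 1506000 2000 = true := by decide +kernel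

theorem chk_tab754 : Cfsg.Agent.Lib.Helper6.TCG.tabOKc tab ivs 1508000 2000 = true := by decide +kernel

theorem chk_tab755 : Cfsg.Agent.Lib.Helper6.TCG.tabOKc tab ivs 1510000 2000 = true := by decide +kernel


end Cfsg.Agent.Lib.Lead.HNP.HNTC
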