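import Cfsg.Agent.Lib.Lead.HNP.HNTCData
import Cfsg.Agent.Lib.Helper6.TCGIndex
import Cfsg.Agent.Lib.Lead.HNP.HNTCTab60

/-! # HNTC: the kernel check of the coset table, part 84 -/

set_option autoImplicit false

namespace Cfsg.Agent.Lib.Lead.HNP.HNTC

open Cfsg.Agent.Lib.Helper6.TC Cfsg.Agent.Lib.Helper6.TCGS

theorem chk_tab756 : Cfsg.Agent.Lib.Helper6.TCG.tabOKc tab ivs 1512000 2000 = true := by decide +kernel

theorem chk_tab757 : Cfsg.Agent.Lib.Helper6.TCG.tabOKc tab ivs 1514000 2000 = true := by decide +kernel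

theorem chk_tab758 : Cfsg.Agent.Lib.Helper6.TCG.tabOKc tab ivs 1516000 2000 = true := by decide +kernel

theorem chk_tab759 : Cfsg.Agent.Lib.Helper6.TCG.tabOKc tab ivs 1518000 2000 = true := by decide +kernel

theorem chk_tab760 : Cfsg.Agent.Lib.Helper6.TCG.tabOKc tab ivs 1520000 2000 = true := by decide +kernel

theorem chk_tab761 : Cfsg.Agent.Lib.Helper6.TCG.tabOKc tab ivs 1522000 2000 = true := by decide +kernel

theorem chk_tab762 : Cfsg.Agent.Lib.Helper6.TCG.tabOKc tab ivs 1524000 2000 = true := by decide +kernel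

theorem chk_tab763 : Cfsg.Agent.Lib.Helper6.TCG.tabOKc tab ivs 1526000 2000 = true := by decide +kernel

theorem chk_tab764 : Cfsg.Agent.Lib.Helper6.TCG.tabOKc tab ivs 1528000 2000 = true := by decide +kernel


end Cfsg.Agent.Lib.Lead.HNP.HNTC
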