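import Cfsg.Agent.Lib.Lead.HNP.HNTCData
import Cfsg.Agent.Lib.Helper6.TCGIndex
import Cfsg.Agent.Lib.Lead.HNP.HNTCTab61

/-! # HNTC: the kernel check of the coset table, part 85 -/

set_option autoImplicit false

namespace Cfsg.Agent.Lib.Lead.HNP.HNTC

open Cfsg.Agent.Lib.Helper6.TC Cfsg.Agent.Lib.Helper6.TCGS

theorem chk_tab765 : Cfsg.Agent.Lib.Helper6.TCG.tabOKc tab ivs 1530000 2000 = true := by decide +kernel

theorem chk_tab766 : Cfsg.Agent.Lib.Helper6.TCG.tabOKc tab ivs 1532000 2000 = true := by decide +kernel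

theorem chk_tab767 : Cfsg.Agent.Lib.Helper6.TCG.tabOKc tab ivs 1534000 2000 = true := by decide +kernel

theorem chk_tab768 : Cfsg.Agent.Lib.Helper6.TCG.tabOKc tab ivs 1536000 2000 = true := by decide +kernel

theorem chk_tab769 : Cfsg.Agent.Lib.Helper6.TCG.tabOKc tab ivs 1538000 2000 = true := by decide +kernel


end Cfsg.Agent.Lib.Lead.HNP.HNTC
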