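import Cfsg.Agent.Lib.Lead.HNP.HNTCData
import Cfsg.Agent.Lib.Helper6.TCChunk
import Cfsg.Agent.Lib.Lead.HNP.HNTCTab62

/-! # HNTC: the kernel check that the coset table is connected, part 0 -/

set_option autoImplicit false

namespace Cfsg.Agent.Lib.Lead.HNP.HNTC

open Cfsg.Agent.Lib.Helper6.TC Cfsg.Agent.Lib.Helper6.TCGS

theorem chk_tree0 : tab.treeOKc 0 2000 = true := by decide +kernel

theorem chk_tree1 : tab.treeOKc 2000 2000 = true := by decide +kernel

theorem chk_tree2 : tab.treeOKc 4000 2000 = true := by decide +kernel

theorem chk_tree3 : tab.treeOKc 6000 2000 = true := by decide +kernel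

theorem chk_tree4 : tab.treeOKc 8000 2000 = true := by decide +kernel

theorem chk_tree5 : tab.treeOKc 10000 2000 = true := by decide +kernel

theorem chk_tree6 : tab.treeOKc 12000 2000 = true := by decide +kernel

theorem chk_tree7 : tab.treeOKc 14000 2000 = true := by decide +kernel

theorem chk_tree8 : tab.treeOKc 16000 2000 = true := by decide +kernel

theorem chk_tree9 : tab.treeOKc 18000 2000 = true := by decide +kernel

theorem chk_tree10 : tab.treeOKc 20000 2000 = true := by decide +kernel

theorem chk_tree11 : tab.treeOKc 22000 2000 = true := by decide +kernel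

theorem chk_tree12 : tab.treeOKc 24000 2000 = true := by decide +kernel

theorem chk_tree13 : tab.treeOKc 26000 2000 = true := by decide +kernel

theorem chk_tree14 : tab.treeOKc 28000 2000 = true := by decide +kernel

theorem chk_tree15 : tab.treeOKc 30000 2000 = true := by decide +kernel

theorem chk_tree16 : tab.treeOKc 32000 2000 = true := by decide +kernel

theorem chk_tree17 : tab.treeOKc 34000 2000 = true := by decide +kernel

theorem chk_tree18 : tab.treeOKc 36000 2000 = true := by decide +kernel

theorem chk_tree19 : tab.treeOKc 38000 2000 = true := by decide +kernel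

theorem chk_tree20 : tab.treeOKc 40000 2000 = true := by decide +kernel

theorem chk_tree21 : tab.treeOKc 42000 2000 = true := by decide +kernel

theorem chk_tree22 : tab.treeOKc 44000 2000 = true := by decide +kernel

theorem chk_tree23 : tab.treeOKc 46000 2000 = true := by decide +kernel

theorem chk_tree24 : tab.treeOKc 48000 2000 = true := by decide +kernel

theorem chk_tree25 : tab.treeOKc 50000 2000 = true := by decide +kernel

theorem chk_tree26 : tab.treeOKc 52000 2000 = true := by decide +kernel


end Cfsg.Agent.Lib.Lead.HNP.HNTC
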