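import Cfsg.Agent.Lib.Lead.HNP.HNTCData
import Cfsg.Agent.Lib.Helper6.TCChunk
import Cfsg.Agent.Lib.Lead.HNP.HNTCTab72

/-! # HNTC: the kernel check that the coset table is connected, part 10 -/

set_option autoImplicit false

namespace Cfsg.Agent.Lib.Lead.HNP.HNTC

open Cfsg.Agent.Lib.Helper6.TC Cfsg.Agent.Lib.Helper6.TCGS

theorem chk_tree270 : tab.treeOKc 540000 2000 = true := by decide +kernel

theorem chk_tree271 : tab.treeOKc 542000 2000 = true := by decide +kernel

theorem chk_tree272 : tab.treeOKc 544000 2000 = true := by decide +kernel

theorem chk_tree273 : tab.treeOKc 546000 2000 = true := by decide +kernel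

theorem chk_tree274 : tab.treeOKc 548000 2000 = true := by decide +kernel

theorem chk_tree275 : tab.treeOKc 550000 2000 = true := by decide +kernel

theorem chk_tree276 : tab.treeOKc 552000 2000 = true := by decide +kernel

theorem chk_tree277 : tab.treeOKc 554000 2000 = true := by decide +kernel

theorem chk_tree278 : tab.treeOKc 556000 2000 = true := by decide +kernel

theorem chk_tree279 : tab.treeOKc 558000 2000 = true := by decide +kernel

theorem chk_tree280 : tab.treeOKc 560000 2000 = true := by decide +kernel

theorem chk_tree281 : tab.treeOKc 562000 2000 = true := by decide +kernel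

theorem chk_tree282 : tab.treeOKc 564000 2000 = true := by decide +kernel

theorem chk_tree283 : tab.treeOKc 566000 2000 = true := by decide +kernel

theorem chk_tree284 : tab.treeOKc 568000 2000 = true := by decide +kernel

theorem chk_tree285 : tab.treeOKc 570000 2000 = true := by decide +kernel

theorem chk_tree286 : tab.treeOKc 572000 2000 = true := by decide +kernel

theorem chk_tree287 : tab.treeOKc 574000 2000 = true := by decide +kernel

theorem chk_tree288 : tab.treeOKc 576000 2000 = true := by decide +kernel

theorem chk_tree289 : tab.treeOKc 578000 2000 = true := by decide +kernel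

theorem chk_tree290 : tab.treeOKc 580000 2000 = true := by decide +kernel

theorem chk_tree291 : tab.treeOKc 582000 2000 = true := by decide +kernel

theorem chk_tree292 : tab.treeOKc 584000 2000 = true := by decide +kernel

theorem chk_tree293 : tab.treeOKc 586000 2000 = true := by decide +kernel

theorem chk_tree294 : tab.treeOKc 588000 2000 = true := by decide +kernel

theorem chk_tree295 : tab.treeOKc 590000 2000 = true := by decide +kernel

theorem chk_tree296 : tab.treeOKc 592000 2000 = true := by decide +kernel


end Cfsg.Agent.Lib.Lead.HNP.HNTC
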