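import Cfsg.Agent.Lib.Lead.HNP.HNTCData
import Cfsg.Agent.Lib.Helper6.TCChunk
import Cfsg.Agent.Lib.Lead.HNP.HNTCTab73

/-! # HNTC: the kernel check that the coset table is connected, part 11 -/

set_option autoImplicit false

namespace Cfsg.Agent.Lib.Lead.HNP.HNTC

open Cfsg.Agent.Lib.Helper6.TC Cfsg.Agent.Lib.Helper6.TCGS

theorem chk_tree297 : tab.treeOKc 594000 2000 = true := by decide +kernel

theorem chk_tree298 : tab.treeOKc 596000 2000 = true := by decide +kernel

theorem chk_tree299 : tab.treeOKc 598000 2000 = true := by decide +kernel

theorem chk_tree300 : tab.treeOKc 600000 2000 = true := by decide +kernel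

theorem chk_tree301 : tab.treeOKc 602000 2000 = true := by decide +kernel

theorem chk_tree302 : tab.treeOKc 604000 2000 = true := by decide +kernel

theorem chk_tree303 : tab.treeOKc 606000 2000 = true := by decide +kernel

theorem chk_tree304 : tab.treeOKc 608000 2000 = true := by decide +kernel

theorem chk_tree305 : tab.treeOKc 610000 2000 = true := by decide +kernel

theorem chk_tree306 : tab.treeOKc 612000 2000 = true := by decide +kernel

theorem chk_tree307 : tab.treeOKc 614000 2000 = true := by decide +kernel

theorem chk_tree308 : tab.treeOKc 616000 2000 = true := by decide +kernel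

theorem chk_tree309 : tab.treeOKc 618000 2000 = true := by decide +kernel

theorem chk_tree310 : tab.treeOKc 620000 2000 = true := by decide +kernel

theorem chk_tree311 : tab.treeOKc 622000 2000 = true := by decide +kernel

theorem chk_tree312 : tab.treeOKc 624000 2000 = true := by decide +kernel

theorem chk_tree313 : tab.treeOKc 626000 2000 = true := by decide +kernel

theorem chk_tree314 : tab.treeOKc 628000 2000 = true := by decide +kernel

theorem chk_tree315 : tab.treeOKc 630000 2000 = true := by decide +kernel

theorem chk_tree316 : tab.treeOKc 632000 2000 = true := by decide +kernel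

theorem chk_tree317 : tab.treeOKc 634000 2000 = true := by decide +kernel

theorem chk_tree318 : tab.treeOKc 636000 2000 = true := by decide +kernel

theorem chk_tree319 : tab.treeOKc 638000 2000 = true := by decide +kernel

theorem chk_tree320 : tab.treeOKc 640000 2000 = true := by decide +kernel

theorem chk_tree321 : tab.treeOKc 642000 2000 = true := by decide +kernel

theorem chk_tree322 : tab.treeOKc 644000 2000 = true := by decide +kernel

theorem chk_tree323 : tab.treeOKc 646000 2000 = true := by decide +kernel


end Cfsg.Agent.Lib.Lead.HNP.HNTC
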