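import Cfsg.Agent.Lib.Lead.HNP.HNTCData
import Cfsg.Agent.Lib.Helper6.TCChunk
import Cfsg.Agent.Lib.Lead.HNP.HNTCTab74

/-! # HNTC: the kernel check that the coset table is connected, part 12 -/

set_option autoImplicit false

namespace Cfsg.Agent.Lib.Lead.HNP.HNTC

open Cfsg.Agent.Lib.Helper6.TC Cfsg.Agent.Lib.Helper6.TCGS

theorem chk_tree324 : tab.treeOKc 648000 2000 = true := by decide +kernel

theorem chk_tree325 : tab.treeOKc 650000 2000 = true := by decide +kernel

theorem chk_tree326 : tab.treeOKc 652000 2000 = true := by decide +kernel

theorem chk_tree327 : tab.treeOKc 654000 2000 = true := by decide +kernel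

theorem chk_tree328 : tab.treeOKc 656000 2000 = true := by decide +kernel

theorem chk_tree329 : tab.treeOKc 658000 2000 = true := by decide +kernel

theorem chk_tree330 : tab.treeOKc 660000 2000 = true := by decide +kernel

theorem chk_tree331 : tab.treeOKc 662000 2000 = true := by decide +kernel

theorem chk_tree332 : tab.treeOKc 664000 2000 = true := by decide +kernel

theorem chk_tree333 : tab.treeOKc 666000 2000 = true := by decide +kernel

theorem chk_tree334 : tab.treeOKc 668000 2000 = true := by decide +kernel

theorem chk_tree335 : tab.treeOKc 670000 2000 = true := by decide +kernel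

theorem chk_tree336 : tab.treeOKc 672000 2000 = true := by decide +kernel

theorem chk_tree337 : tab.treeOKc 674000 2000 = true := by decide +kernel

theorem chk_tree338 : tab.treeOKc 676000 2000 = true := by decide +kernel

theorem chk_tree339 : tab.treeOKc 678000 2000 = true := by decide +kernel

theorem chk_tree340 : tab.treeOKc 680000 2000 = true := by decide +kernel

theorem chk_tree341 : tab.treeOKc 682000 2000 = true := by decide +kernel

theorem chk_tree342 : tab.treeOKc 684000 2000 = true := by decide +kernel

theorem chk_tree343 : tab.treeOKc 686000 2000 = true := by decide +kernel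

theorem chk_tree344 : tab.treeOKc 688000 2000 = true := by decide +kernel

theorem chk_tree345 : tab.treeOKc 690000 2000 = true := by decide +kernel

theorem chk_tree346 : tab.treeOKc 692000 2000 = true := by decide +kernel

theorem chk_tree347 : tab.treeOKc 694000 2000 = true := by decide +kernel

theorem chk_tree348 : tab.treeOKc 696000 2000 = true := by decide +kernel

theorem chk_tree349 : tab.treeOKc 698000 2000 = true := by decide +kernel

theorem chk_tree350 : tab.treeOKc 700000 2000 = true := by decide +kernel


end Cfsg.Agent.Lib.Lead.HNP.HNTC
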