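import Cfsg.Agent.Lib.Lead.HNP.HNTCData
import Cfsg.Agent.Lib.Helper6.TCChunk
import Cfsg.Agent.Lib.Lead.HNP.HNTCTab75

/-! # HNTC: the kernel check that the coset table is connected, part 13 -/

set_option autoImplicit false

namespace Cfsg.Agent.Lib.Lead.HNP.HNTC

open Cfsg.Agent.Lib.Helper6.TC Cfsg.Agent.Lib.Helper6.TCGS

theorem chk_tree351 : tab.treeOKc 702000 2000 = true := by decide +kernel

theorem chk_tree352 : tab.treeOKc 704000 2000 = true := by decide +kernel

theorem chk_tree353 : tab.treeOKc 706000 2000 = true := by decide +kernel

theorem chk_tree354 : tab.treeOKc 708000 2000 = true := by decide +kernel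

theorem chk_tree355 : tab.treeOKc 710000 2000 = true := by decide +kernel

theorem chk_tree356 : tab.treeOKc 712000 2000 = true := by decide +kernel

theorem chk_tree357 : tab.treeOKc 714000 2000 = true := by decide +kernel

theorem chk_tree358 : tab.treeOKc 716000 2000 = true := by decide +kernel

theorem chk_tree359 : tab.treeOKc 718000 2000 = true := by decide +kernel

theorem chk_tree360 : tab.treeOKc 720000 2000 = true := by decide +kernel

theorem chk_tree361 : tab.treeOKc 722000 2000 = true := by decide +kernel

theorem chk_tree362 : tab.treeOKc 724000 2000 = true := by decide +kernel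

theorem chk_tree363 : tab.treeOKc 726000 2000 = true := by decide +kernel

theorem chk_tree364 : tab.treeOKc 728000 2000 = true := by decide +kernel

theorem chk_tree365 : tab.treeOKc 730000 2000 = true := by decide +kernel

theorem chk_tree366 : tab.treeOKc 732000 2000 = true := by decide +kernel

theorem chk_tree367 : tab.treeOKc 734000 2000 = true := by decide +kernel

theorem chk_tree368 : tab.treeOKc 736000 2000 = true := by decide +kernel

theorem chk_tree369 : tab.treeOKc 738000 2000 = true := by decide +kernel

theorem chk_tree370 : tab.treeOKc 740000 2000 = true := by decide +kernel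

theorem chk_tree371 : tab.treeOKc 742000 2000 = true := by decide +kernel

theorem chk_tree372 : tab.treeOKc 744000 2000 = true := by decide +kernel

theorem chk_tree373 : tab.treeOKc 746000 2000 = true := by decide +kernel

theorem chk_tree374 : tab.treeOKc 748000 2000 = true := by decide +kernel

theorem chk_tree375 : tab.treeOKc 750000 2000 = true := by decide +kernel

theorem chk_tree376 : tab.treeOKc 752000 2000 = true := by decide +kernel

theorem chk_tree377 : tab.treeOKc 754000 2000 = true := by decide +kernel


end Cfsg.Agent.Lib.Lead.HNP.HNTC
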