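import Cfsg.Agent.Lib.Lead.HNP.HNTCData
import Cfsg.Agent.Lib.Helper6.TCChunk
import Cfsg.Agent.Lib.Lead.HNP.HNTCTab76

/-! # HNTC: the kernel check that the coset table is connected, part 14 -/

set_option autoImplicit false

namespace Cfsg.Agent.Lib.Lead.HNP.HNTC

open Cfsg.Agent.Lib.Helper6.TC Cfsg.Agent.Lib.Helper6.TCGS

theorem chk_tree378 : tab.treeOKc 756000 2000 = true := by decide +kernel

theorem chk_tree379 : tab.treeOKc 758000 2000 = true := by decide +kernel

theorem chk_tree380 : tab.treeOKc 760000 2000 = true := by decide +kernel

theorem chk_tree381 : tab.treeOKc 762000 2000 = true := by decide +kernel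

theorem chk_tree382 : tab.treeOKc 764000 2000 = true := by decide +kernel

theorem chk_tree383 : tab.treeOKc 766000 2000 = true := by decide +kernel

theorem chk_tree384 : tab.treeOKc 768000 2000 = true := by decide +kernel

theorem chk_tree385 : tab.treeOKc 770000 2000 = true := by decide +kernel

theorem chk_tree386 : tab.treeOKc 772000 2000 = true := by decide +kernel

theorem chk_tree387 : tab.treeOKc 774000 2000 = true := by decide +kernel

theorem chk_tree388 : tab.treeOKc 776000 2000 = true := by decide +kernel

theorem chk_tree389 : tab.treeOKc 778000 2000 = true := by decide +kernel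

theorem chk_tree390 : tab.treeOKc 780000 2000 = true := by decide +kernel

theorem chk_tree391 : tab.treeOKc 782000 2000 = true := by decide +kernel

theorem chk_tree392 : tab.treeOKc 784000 2000 = true := by decide +kernel

theorem chk_tree393 : tab.treeOKc 786000 2000 = true := by decide +kernel

theorem chk_tree394 : tab.treeOKc 788000 2000 = true := by decide +kernel

theorem chk_tree395 : tab.treeOKc 790000 2000 = true := by decide +kernel

theorem chk_tree396 : tab.treeOKc 792000 2000 = true := by decide +kernel

theorem chk_tree397 : tab.treeOKc 794000 2000 = true := by decide +kernel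

theorem chk_tree398 : tab.treeOKc 796000 2000 = true := by decide +kernel

theorem chk_tree399 : tab.treeOKc 798000 2000 = true := by decide +kernel

theorem chk_tree400 : tab.treeOKc 800000 2000 = true := by decide +kernel

theorem chk_tree401 : tab.treeOKc 802000 2000 = true := by decide +kernel

theorem chk_tree402 : tab.treeOKc 804000 2000 = true := by decide +kernel

theorem chk_tree403 : tab.treeOKc 806000 2000 = true := by decide +kernel

theorem chk_tree404 : tab.treeOKc 808000 2000 = true := by decide +kernel


end Cfsg.Agent.Lib.Lead.HNP.HNTC
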