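import Cfsg.Agent.Lib.Lead.HNP.HNTCData
import Cfsg.Agent.Lib.Helper6.TCChunk
import Cfsg.Agent.Lib.Lead.HNP.HNTCTab77

/-! # HNTC: the kernel check that the coset table is connected, part 15 -/

set_option autoImplicit false

namespace Cfsg.Agent.Lib.Lead.HNP.HNTC

open Cfsg.Agent.Lib.Helper6.TC Cfsg.Agent.Lib.Helper6.TCGS

theorem chk_tree405 : tab.treeOKc 810000 2000 = true := by decide +kernel

theorem chk_tree406 : tab.treeOKc 812000 2000 = true := by decide +kernel

theorem chk_tree407 : tab.treeOKc 814000 2000 = true := by decide +kernel

theorem chk_tree408 : tab.treeOKc 816000 2000 = true := by decide +kernel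

theorem chk_tree409 : tab.treeOKc 818000 2000 = true := by decide +kernel

theorem chk_tree410 : tab.treeOKc 820000 2000 = true := by decide +kernel

theorem chk_tree411 : tab.treeOKc 822000 2000 = true := by decide +kernel

theorem chk_tree412 : tab.treeOKc 824000 2000 = true := by decide +kernel

theorem chk_tree413 : tab.treeOKc 826000 2000 = true := by decide +kernel

theorem chk_tree414 : tab.treeOKc 828000 2000 = true := by decide +kernel

theorem chk_tree415 : tab.treeOKc 830000 2000 = true := by decide +kernel

theorem chk_tree416 : tab.treeOKc 832000 2000 = true := by decide +kernel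

theorem chk_tree417 : tab.treeOKc 834000 2000 = true := by decide +kernel

theorem chk_tree418 : tab.treeOKc 836000 2000 = true := by decide +kernel

theorem chk_tree419 : tab.treeOKc 838000 2000 = true := by decide +kernel

theorem chk_tree420 : tab.treeOKc 840000 2000 = true := by decide +kernel

theorem chk_tree421 : tab.treeOKc 842000 2000 = true := by decide +kernel

theorem chk_tree422 : tab.treeOKc 844000 2000 = true := by decide +kernel

theorem chk_tree423 : tab.treeOKc 846000 2000 = true := by decide +kernel

theorem chk_tree424 : tab.treeOKc 848000 2000 = true := by decide +kernel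

theorem chk_tree425 : tab.treeOKc 850000 2000 = true := by decide +kernel

theorem chk_tree426 : tab.treeOKc 852000 2000 = true := by decide +kernel

theorem chk_tree427 : tab.treeOKc 854000 2000 = true := by decide +kernel

theorem chk_tree428 : tab.treeOKc 856000 2000 = true := by decide +kernel

theorem chk_tree429 : tab.treeOKc 858000 2000 = true := by decide +kernel

theorem chk_tree430 : tab.treeOKc 860000 2000 = true := by decide +kernel

theorem chk_tree431 : tab.treeOKc 862000 2000 = true := by decide +kernel


end Cfsg.Agent.Lib.Lead.HNP.HNTC
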