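import Cfsg.Agent.Lib.Lead.HNP.HNTCData
import Cfsg.Agent.Lib.Helper6.TCChunk
import Cfsg.Agent.Lib.Lead.HNP.HNTCTab78

/-! # HNTC: the kernel check that the coset table is connected, part 16 -/

set_option autoImplicit false

namespace Cfsg.Agent.Lib.Lead.HNP.HNTC

open Cfsg.Agent.Lib.Helper6.TC Cfsg.Agent.Lib.Helper6.TCGS

theorem chk_tree432 : tab.treeOKc 864000 2000 = true := by decide +kernel

theorem chk_tree433 : tab.treeOKc 866000 2000 = true := by decide +kernel

theorem chk_tree434 : tab.treeOKc 868000 2000 = true := by decide +kernel

theorem chk_tree435 : tab.treeOKc 870000 2000 = true := by decide +kernel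

theorem chk_tree436 : tab.treeOKc 872000 2000 = true := by decide +kernel

theorem chk_tree437 : tab.treeOKc 874000 2000 = true := by decide +kernel

theorem chk_tree438 : tab.treeOKc 876000 2000 = true := by decide +kernel

theorem chk_tree439 : tab.treeOKc 878000 2000 = true := by decide +kernel

theorem chk_tree440 : tab.treeOKc 880000 2000 = true := by decide +kernel

theorem chk_tree441 : tab.treeOKc 882000 2000 = true := by decide +kernel

theorem chk_tree442 : tab.treeOKc 884000 2000 = true := by decide +kernel

theorem chk_tree443 : tab.treeOKc 886000 2000 = true := by decide +kernel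

theorem chk_tree444 : tab.treeOKc 888000 2000 = true := by decide +kernel

theorem chk_tree445 : tab.treeOKc 890000 2000 = true := by decide +kernel

theorem chk_tree446 : tab.treeOKc 892000 2000 = true := by decide +kernel

theorem chk_tree447 : tab.treeOKc 894000 2000 = true := by decide +kernel

theorem chk_tree448 : tab.treeOKc 896000 2000 = true := by decide +kernel

theorem chk_tree449 : tab.treeOKc 898000 2000 = true := by decide +kernel

theorem chk_tree450 : tab.treeOKc 900000 2000 = true := by decide +kernel

theorem chk_tree451 : tab.treeOKc 902000 2000 = true := by decide +kernel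

theorem chk_tree452 : tab.treeOKc 904000 2000 = true := by decide +kernel

theorem chk_tree453 : tab.treeOKc 906000 2000 = true := by decide +kernel

theorem chk_tree454 : tab.treeOKc 908000 2000 = true := by decide +kernel

theorem chk_tree455 : tab.treeOKc 910000 2000 = true := by decide +kernel

theorem chk_tree456 : tab.treeOKc 912000 2000 = true := by decide +kernel

theorem chk_tree457 : tab.treeOKc 914000 2000 = true := by decide +kernel

theorem chk_tree458 : tab.treeOKc 916000 2000 = true := by decide +kernel


end Cfsg.Agent.Lib.Lead.HNP.HNTC
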