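import Cfsg.Agent.Lib.Lead.HNP.HNTCData
import Cfsg.Agent.Lib.Helper6.TCChunk
import Cfsg.Agent.Lib.Lead.HNP.HNTCTab79

/-! # HNTC: the kernel check that the coset table is connected, part 17 -/

set_option autoImplicit false

namespace Cfsg.Agent.Lib.Lead.HNP.HNTC

open Cfsg.Agent.Lib.Helper6.TC Cfsg.Agent.Lib.Helper6.TCGS

theorem chk_tree459 : tab.treeOKc 918000 2000 = true := by decide +kernel

theorem chk_tree460 : tab.treeOKc 920000 2000 = true := by decide +kernel

theorem chk_tree461 : tab.treeOKc 922000 2000 = true := by decide +kernel

theorem chk_tree462 : tab.treeOKc 924000 2000 = true := by decide +kernel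

theorem chk_tree463 : tab.treeOKc 926000 2000 = true := by decide +kernel

theorem chk_tree464 : tab.treeOKc 928000 2000 = true := by decide +kernel

theorem chk_tree465 : tab.treeOKc 930000 2000 = true := by decide +kernel

theorem chk_tree466 : tab.treeOKc 932000 2000 = true := by decide +kernel

theorem chk_tree467 : tab.treeOKc 934000 2000 = true := by decide +kernel

theorem chk_tree468 : tab.treeOKc 936000 2000 = true := by decide +kernel

theorem chk_tree469 : tab.treeOKc 938000 2000 = true := by decide +kernel

theorem chk_tree470 : tab.treeOKc 940000 2000 = true := by decide +kernel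

theorem chk_tree471 : tab.treeOKc 942000 2000 = true := by decide +kernel

theorem chk_tree472 : tab.treeOKc 944000 2000 = true := by decide +kernel

theorem chk_tree473 : tab.treeOKc 946000 2000 = true := by decide +kernel

theorem chk_tree474 : tab.treeOKc 948000 2000 = true := by decide +kernel

theorem chk_tree475 : tab.treeOKc 950000 2000 = true := by decide +kernel

theorem chk_tree476 : tab.treeOKc 952000 2000 = true := by decide +kernel

theorem chk_tree477 : tab.treeOKc 954000 2000 = true := by decide +kernel

theorem chk_tree478 : tab.treeOKc 956000 2000 = true := by decide +kernel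

theorem chk_tree479 : tab.treeOKc 958000 2000 = true := by decide +kernel

theorem chk_tree480 : tab.treeOKc 960000 2000 = true := by decide +kernel

theorem chk_tree481 : tab.treeOKc 962000 2000 = true := by decide +kernel

theorem chk_tree482 : tab.treeOKc 964000 2000 = true := by decide +kernel

theorem chk_tree483 : tab.treeOKc 966000 2000 = true := by decide +kernel

theorem chk_tree484 : tab.treeOKc 968000 2000 = true := by decide +kernel

theorem chk_tree485 : tab.treeOKc 970000 2000 = true := by decide +kernel


end Cfsg.Agent.Lib.Lead.HNP.HNTC
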