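import Cfsg.Agent.Lib.Lead.HNP.HNTCData
import Cfsg.Agent.Lib.Helper6.TCGIndex
import Cfsg.Agent.Lib.Lead.HNP.HNTCTab56

/-! # HNTC: the kernel check of the coset table, part 80 -/

set_option autoImplicit false

namespace Cfsg.Agent.Lib.Lead.HNP.HNTC

open Cfsg.Agent.Lib.Helper6.TC Cfsg.Agent.Lib.Helper6.TCGS

theorem chk_tab720 : Cfsg.Agent.Lib.Helper6.TCG.tabOKc tab ivs 1440000 2000 = true := by decide +kernel

theorem chk_tab721 : Cfsg.Agent.Lib.Helper6.TCG.tabOKc tab ivs 1442000 2000 = true := by decide +kernel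

theorem chk_tab722 : Cfsg.Agent.Lib.Helper6.TCG.tabOKc tab ivs 1444000 2000 = true := by decide +kernel

theorem chk_tab723 : Cfsg.Agent.Lib.Helper6.TCG.tabOKc tab ivs 1446000 2000 = true := by decide +kernel

theorem chk_tab724 : Cfsg.Agent.Lib.Helper6.TCG.tabOKc tab ivs 1448000 2000 = true := by decide +kernel

theorem chk_tab725 : Cfsg.Agent.Lib.Helper6.TCG.tabOKc tab ivs 1450000 2000 = true := by decide +kernel

theorem chk_tab726 : Cfsg.Agent.Lib.Helper6.TCG.tabOKc tab ivs 1452000 2000 = true := by decide +kernel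

theorem chk_tab727 : Cfsg.Agent.Lib.Helper6.TCG.tabOKc tab ivs 1454000 2000 = true := by decide +kernel

theorem chk_tab728 : Cfsg.Agent.Lib.Helper6.TCG.tabOKc tab ivs 1456000 2000 = true := by decide +kernel


end Cfsg.Agent.Lib.Lead.HNP.HNTC
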