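import Cfsg.Agent.Lib.Lead.HNP.HNTCData
import Cfsg.Agent.Lib.Helper6.TCChunk
import Cfsg.Agent.Lib.Lead.HNP.HNTCTab80

/-! # HNTC: the kernel check that the coset table is connected, part 18 -/

set_option autoImplicit false

namespace Cfsg.Agent.Lib.Lead.HNP.HNTC

open Cfsg.Agent.Lib.Helper6.TC Cfsg.Agent.Lib.Helper6.TCGS

theorem chk_tree486 : tab.treeOKc 972000 2000 = true := by decide +kernel

theorem chk_tree487 : tab.treeOKc 974000 2000 = true := by decide +kernel

theorem chk_tree488 : tab.treeOKc 976000 2000 = true := by decide +kernel

theorem chk_tree489 : tab.treeOKc 978000 2000 = true := by decide +kernel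

theorem chk_tree490 : tab.treeOKc 980000 2000 = true := by decide +kernel

theorem chk_tree491 : tab.treeOKc 982000 2000 = true := by decide +kernel

theorem chk_tree492 : tab.treeOKc 984000 2000 = true := by decide +kernel

theorem chk_tree493 : tab.treeOKc 986000 2000 = true := by decide +kernel

theorem chk_tree494 : tab.treeOKc 988000 2000 = true := by decide +kernel

theorem chk_tree495 : tab.treeOKc 990000 2000 = true := by decide +kernel

theorem chk_tree496 : tab.treeOKc 992000 2000 = true := by decide +kernel

theorem chk_tree497 : tab.treeOKc 994000 2000 = true := by decide +kernel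

theorem chk_tree498 : tab.treeOKc 996000 2000 = true := by decide +kernel

theorem chk_tree499 : tab.treeOKc 998000 2000 = true := by decide +kernel

theorem chk_tree500 : tab.treeOKc 1000000 2000 = true := by decide +kernel

theorem chk_tree501 : tab.treeOKc 1002000 2000 = true := by decide +kernel

theorem chk_tree502 : tab.treeOKc 1004000 2000 = true := by decide +kernel

theorem chk_tree503 : tab.treeOKc 1006000 2000 = true := by decide +kernel

theorem chk_tree504 : tab.treeOKc 1008000 2000 = true := by decide +kernel

theorem chk_tree505 : tab.treeOKc 1010000 2000 = true := by decide +kernel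

theorem chk_tree506 : tab.treeOKc 1012000 2000 = true := by decide +kernel

theorem chk_tree507 : tab.treeOKc 1014000 2000 = true := by decide +kernel

theorem chk_tree508 : tab.treeOKc 1016000 2000 = true := by decide +kernel

theorem chk_tree509 : tab.treeOKc 1018000 2000 = true := by decide +kernel

theorem chk_tree510 : tab.treeOKc 1020000 2000 = true := by decide +kernel

theorem chk_tree511 : tab.treeOKc 1022000 2000 = true := by decide +kernel

theorem chk_tree512 : tab.treeOKc 1024000 2000 = true := by decide +kernel


end Cfsg.Agent.Lib.Lead.HNP.HNTC
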