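import Cfsg.Agent.Lib.Lead.HNP.HNTCData
import Cfsg.Agent.Lib.Helper6.TCChunk
import Cfsg.Agent.Lib.Lead.HNP.HNTCTab81

/-! # HNTC: the kernel check that the coset table is connected, part 19 -/

set_option autoImplicit false

namespace Cfsg.Agent.Lib.Lead.HNP.HNTC

open Cfsg.Agent.Lib.Helper6.TC Cfsg.Agent.Lib.Helper6.TCGS

theorem chk_tree513 : tab.treeOKc 1026000 2000 = true := by decide +kernel

theorem chk_tree514 : tab.treeOKc 1028000 2000 = true := by decide +kernel

theorem chk_tree515 : tab.treeOKc 1030000 2000 = true := by decide +kernel

theorem chk_tree516 : tab.treeOKc 1032000 2000 = true := by decide +kernel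

theorem chk_tree517 : tab.treeOKc 1034000 2000 = true := by decide +kernel

theorem chk_tree518 : tab.treeOKc 1036000 2000 = true := by decide +kernel

theorem chk_tree519 : tab.treeOKc 1038000 2000 = true := by decide +kernel

theorem chk_tree520 : tab.treeOKc 1040000 2000 = true := by decide +kernel

theorem chk_tree521 : tab.treeOKc 1042000 2000 = true := by decide +kernel

theorem chk_tree522 : tab.treeOKc 1044000 2000 = true := by decide +kernel

theorem chk_tree523 : tab.treeOKc 1046000 2000 = true := by decide +kernel

theorem chk_tree524 : tab.treeOKc 1048000 2000 = true := by decide +kernel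

theorem chk_tree525 : tab.treeOKc 1050000 2000 = true := by decide +kernel

theorem chk_tree526 : tab.treeOKc 1052000 2000 = true := by decide +kernel

theorem chk_tree527 : tab.treeOKc 1054000 2000 = true := by decide +kernel

theorem chk_tree528 : tab.treeOKc 1056000 2000 = true := by decide +kernel

theorem chk_tree529 : tab.treeOKc 1058000 2000 = true := by decide +kernel

theorem chk_tree530 : tab.treeOKc 1060000 2000 = true := by decide +kernel

theorem chk_tree531 : tab.treeOKc 1062000 2000 = true := by decide +kernel

theorem chk_tree532 : tab.treeOKc 1064000 2000 = true := by decide +kernel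

theorem chk_tree533 : tab.treeOKc 1066000 2000 = true := by decide +kernel

theorem chk_tree534 : tab.treeOKc 1068000 2000 = true := by decide +kernel

theorem chk_tree535 : tab.treeOKc 1070000 2000 = true := by decide +kernel

theorem chk_tree536 : tab.treeOKc 1072000 2000 = true := by decide +kernel

theorem chk_tree537 : tab.treeOKc 1074000 2000 = true := by decide +kernel

theorem chk_tree538 : tab.treeOKc 1076000 2000 = true := by decide +kernel

theorem chk_tree539 : tab.treeOKc 1078000 2000 = true := by decide +kernel


end Cfsg.Agent.Lib.Lead.HNP.HNTC
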