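import Cfsg.Agent.Lib.Lead.HNP.HNTCData
import Cfsg.Agent.Lib.Helper6.TCChunk
import Cfsg.Agent.Lib.Lead.HNP.HNTCTab82

/-! # HNTC: the kernel check that the coset table is connected, part 20 -/

set_option autoImplicit false

namespace Cfsg.Agent.Lib.Lead.HNP.HNTC

open Cfsg.Agent.Lib.Helper6.TC Cfsg.Agent.Lib.Helper6.TCGS

theorem chk_tree540 : tab.treeOKc 1080000 2000 = true := by decide +kernel

theorem chk_tree541 : tab.treeOKc 1082000 2000 = true := by decide +kernel

theorem chk_tree542 : tab.treeOKc 1084000 2000 = true := by decide +kernel

theorem chk_tree543 : tab.treeOKc 1086000 2000 = true := by decide +kernel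

theorem chk_tree544 : tab.treeOKc 1088000 2000 = true := by decide +kernel

theorem chk_tree545 : tab.treeOKc 1090000 2000 = true := by decide +kernel

theorem chk_tree546 : tab.treeOKc 1092000 2000 = true := by decide +kernel

theorem chk_tree547 : tab.treeOKc 1094000 2000 = true := by decide +kernel

theorem chk_tree548 : tab.treeOKc 1096000 2000 = true := by decide +kernel

theorem chk_tree549 : tab.treeOKc 1098000 2000 = true := by decide +kernel

theorem chk_tree550 : tab.treeOKc 1100000 2000 = true := by decide +kernel

theorem chk_tree551 : tab.treeOKc 1102000 2000 = true := by decide +kernel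

theorem chk_tree552 : tab.treeOKc 1104000 2000 = true := by decide +kernel

theorem chk_tree553 : tab.treeOKc 1106000 2000 = true := by decide +kernel

theorem chk_tree554 : tab.treeOKc 1108000 2000 = true := by decide +kernel

theorem chk_tree555 : tab.treeOKc 1110000 2000 = true := by decide +kernel

theorem chk_tree556 : tab.treeOKc 1112000 2000 = true := by decide +kernel

theorem chk_tree557 : tab.treeOKc 1114000 2000 = true := by decide +kernel

theorem chk_tree558 : tab.treeOKc 1116000 2000 = true := by decide +kernel

theorem chk_tree559 : tab.treeOKc 1118000 2000 = true := by decide +kernel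

theorem chk_tree560 : tab.treeOKc 1120000 2000 = true := by decide +kernel

theorem chk_tree561 : tab.treeOKc 1122000 2000 = true := by decide +kernel

theorem chk_tree562 : tab.treeOKc 1124000 2000 = true := by decide +kernel

theorem chk_tree563 : tab.treeOKc 1126000 2000 = true := by decide +kernel

theorem chk_tree564 : tab.treeOKc 1128000 2000 = true := by decide +kernel

theorem chk_tree565 : tab.treeOKc 1130000 2000 = true := by decide +kernel

theorem chk_tree566 : tab.treeOKc 1132000 2000 = true := by decide +kernel


end Cfsg.Agent.Lib.Lead.HNP.HNTC
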