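import Cfsg.Agent.Lib.Lead.HNP.HNTCData
import Cfsg.Agent.Lib.Helper6.TCChunk
import Cfsg.Agent.Lib.Lead.HNP.HNTCTab83

/-! # HNTC: the kernel check that the coset table is connected, part 21 -/

set_option autoImplicit false

namespace Cfsg.Agent.Lib.Lead.HNP.HNTC

open Cfsg.Agent.Lib.Helper6.TC Cfsg.Agent.Lib.Helper6.TCGS

theorem chk_tree567 : tab.treeOKc 1134000 2000 = true := by decide +kernel

theorem chk_tree568 : tab.treeOKc 1136000 2000 = true := by decide +kernel

theorem chk_tree569 : tab.treeOKc 1138000 2000 = true := by decide +kernel

theorem chk_tree570 : tab.treeOKc 1140000 2000 = true := by decide +kernel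

theorem chk_tree571 : tab.treeOKc 1142000 2000 = true := by decide +kernel

theorem chk_tree572 : tab.treeOKc 1144000 2000 = true := by decide +kernel

theorem chk_tree573 : tab.treeOKc 1146000 2000 = true := by decide +kernel

theorem chk_tree574 : tab.treeOKc 1148000 2000 = true := by decide +kernel

theorem chk_tree575 : tab.treeOKc 1150000 2000 = true := by decide +kernel

theorem chk_tree576 : tab.treeOKc 1152000 2000 = true := by decide +kernel

theorem chk_tree577 : tab.treeOKc 1154000 2000 = true := by decide +kernel

theorem chk_tree578 : tab.treeOKc 1156000 2000 = true := by decide +kernel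

theorem chk_tree579 : tab.treeOKc 1158000 2000 = true := by decide +kernel

theorem chk_tree580 : tab.treeOKc 1160000 2000 = true := by decide +kernel

theorem chk_tree581 : tab.treeOKc 1162000 2000 = true := by decide +kernel

theorem chk_tree582 : tab.treeOKc 1164000 2000 = true := by decide +kernel

theorem chk_tree583 : tab.treeOKc 1166000 2000 = true := by decide +kernel

theorem chk_tree584 : tab.treeOKc 1168000 2000 = true := by decide +kernel

theorem chk_tree585 : tab.treeOKc 1170000 2000 = true := by decide +kernel

theorem chk_tree586 : tab.treeOKc 1172000 2000 = true := by decide +kernel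

theorem chk_tree587 : tab.treeOKc 1174000 2000 = true := by decide +kernel

theorem chk_tree588 : tab.treeOKc 1176000 2000 = true := by decide +kernel

theorem chk_tree589 : tab.treeOKc 1178000 2000 = true := by decide +kernel

theorem chk_tree590 : tab.treeOKc 1180000 2000 = true := by decide +kernel

theorem chk_tree591 : tab.treeOKc 1182000 2000 = true := by decide +kernel

theorem chk_tree592 : tab.treeOKc 1184000 2000 = true := by decide +kernel

theorem chk_tree593 : tab.treeOKc 1186000 2000 = true := by decide +kernel


end Cfsg.Agent.Lib.Lead.HNP.HNTC
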