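import Cfsg.Agent.Lib.Lead.HNP.HNTCData
import Cfsg.Agent.Lib.Helper6.TCChunk
import Cfsg.Agent.Lib.Lead.HNP.HNTCTab85

/-! # HNTC: the kernel check that the coset table is connected, part 23 -/

set_option autoImplicit false

namespace Cfsg.Agent.Lib.Lead.HNP.HNTC

open Cfsg.Agent.Lib.Helper6.TC Cfsg.Agent.Lib.Helper6.TCGS

theorem chk_tree621 : tab.treeOKc 1242000 2000 = true := by decide +kernel

theorem chk_tree622 : tab.treeOKc 1244000 2000 = true := by decide +kernel

theorem chk_tree623 : tab.treeOKc 1246000 2000 = true := by decide +kernel

theorem chk_tree624 : tab.treeOKc 1248000 2000 = true := by decide +kernel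

theorem chk_tree625 : tab.treeOKc 1250000 2000 = true := by decide +kernel

theorem chk_tree626 : tab.treeOKc 1252000 2000 = true := by decide +kernel

theorem chk_tree627 : tab.treeOKc 1254000 2000 = true := by decide +kernel

theorem chk_tree628 : tab.treeOKc 1256000 2000 = true := by decide +kernel

theorem chk_tree629 : tab.treeOKc 1258000 2000 = true := by decide +kernel

theorem chk_tree630 : tab.treeOKc 1260000 2000 = true := by decide +kernel

theorem chk_tree631 : tab.treeOKc 1262000 2000 = true := by decide +kernel

theorem chk_tree632 : tab.treeOKc 1264000 2000 = true := by decide +kernel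

theorem chk_tree633 : tab.treeOKc 1266000 2000 = true := by decide +kernel

theorem chk_tree634 : tab.treeOKc 1268000 2000 = true := by decide +kernel

theorem chk_tree635 : tab.treeOKc 1270000 2000 = true := by decide +kernel

theorem chk_tree636 : tab.treeOKc 1272000 2000 = true := by decide +kernel

theorem chk_tree637 : tab.treeOKc 1274000 2000 = true := by decide +kernel

theorem chk_tree638 : tab.treeOKc 1276000 2000 = true := by decide +kernel

theorem chk_tree639 : tab.treeOKc 1278000 2000 = true := by decide +kernel

theorem chk_tree640 : tab.treeOKc 1280000 2000 = true := by decide +kernel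

theorem chk_tree641 : tab.treeOKc 1282000 2000 = true := by decide +kernel

theorem chk_tree642 : tab.treeOKc 1284000 2000 = true := by decide +kernel

theorem chk_tree643 : tab.treeOKc 1286000 2000 = true := by decide +kernel

theorem chk_tree644 : tab.treeOKc 1288000 2000 = true := by decide +kernel

theorem chk_tree645 : tab.treeOKc 1290000 2000 = true := by decide +kernel

theorem chk_tree646 : tab.treeOKc 1292000 2000 = true := by decide +kernel

theorem chk_tree647 : tab.treeOKc 1294000 2000 = true := by decide +kernel


end Cfsg.Agent.Lib.Lead.HNP.HNTC
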