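import Cfsg.Agent.Lib.Lead.HNP.HNTCData
import Cfsg.Agent.Lib.Helper6.TCChunk
import Cfsg.Agent.Lib.Lead.HNP.HNTCTree0

/-! # HNTC: the kernel check that the coset table is connected, part 24 -/

set_option autoImplicit false

namespace Cfsg.Agent.Lib.Lead.HNP.HNTC

open Cfsg.Agent.Lib.Helper6.TC Cfsg.Agent.Lib.Helper6.TCGS

theorem chk_tree648 : tab.treeOKc 1296000 2000 = true := by decide +kernel

theorem chk_tree649 : tab.treeOKc 1298000 2000 = true := by decide +kernel

theorem chk_tree650 : tab.treeOKc 1300000 2000 = true := by decide +kernel

theorem chk_tree651 : tab.treeOKc 1302000 2000 = true := by decide +kernel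

theorem chk_tree652 : tab.treeOKc 1304000 2000 = true := by decide +kernel

theorem chk_tree653 : tab.treeOKc 1306000 2000 = true := by decide +kernel

theorem chk_tree654 : tab.treeOKc 1308000 2000 = true := by decide +kernel

theorem chk_tree655 : tab.treeOKc 1310000 2000 = true := by decide +kernel

theorem chk_tree656 : tab.treeOKc 1312000 2000 = true := by decide +kernel

theorem chk_tree657 : tab.treeOKc 1314000 2000 = true := by decide +kernel

theorem chk_tree658 : tab.treeOKc 1316000 2000 = true := by decide +kernel

theorem chk_tree659 : tab.treeOKc 1318000 2000 = true := by decide +kernel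

theorem chk_tree660 : tab.treeOKc 1320000 2000 = true := by decide +kernel

theorem chk_tree661 : tab.treeOKc 1322000 2000 = true := by decide +kernel

theorem chk_tree662 : tab.treeOKc 1324000 2000 = true := by decide +kernel

theorem chk_tree663 : tab.treeOKc 1326000 2000 = true := by decide +kernel

theorem chk_tree664 : tab.treeOKc 1328000 2000 = true := by decide +kernel

theorem chk_tree665 : tab.treeOKc 1330000 2000 = true := by decide +kernel

theorem chk_tree666 : tab.treeOKc 1332000 2000 = true := by decide +kernel

theorem chk_tree667 : tab.treeOKc 1334000 2000 = true := by decide +kernel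

theorem chk_tree668 : tab.treeOKc 1336000 2000 = true := by decide +kernel

theorem chk_tree669 : tab.treeOKc 1338000 2000 = true := by decide +kernel

theorem chk_tree670 : tab.treeOKc 1340000 2000 = true := by decide +kernel

theorem chk_tree671 : tab.treeOKc 1342000 2000 = true := by decide +kernel

theorem chk_tree672 : tab.treeOKc 1344000 2000 = true := by decide +kernel

theorem chk_tree673 : tab.treeOKc 1346000 2000 = true := by decide +kernel

theorem chk_tree674 : tab.treeOKc 1348000 2000 = true := by decide +kernel


end Cfsg.Agent.Lib.Lead.HNP.HNTC
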