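import Cfsg.Agent.Lib.Lead.HNP.HNTCData
import Cfsg.Agent.Lib.Helper6.TCChunk
import Cfsg.Agent.Lib.Lead.HNP.HNTCTree1

/-! # HNTC: the kernel check that the coset table is connected, part 25 -/

set_option autoImplicit false

namespace Cfsg.Agent.Lib.Lead.HNP.HNTC

open Cfsg.Agent.Lib.Helper6.TC Cfsg.Agent.Lib.Helper6.TCGS

theorem chk_tree675 : tab.treeOKc 1350000 2000 = true := by decide +kernel

theorem chk_tree676 : tab.treeOKc 1352000 2000 = true := by decide +kernel

theorem chk_tree677 : tab.treeOKc 1354000 2000 = true := by decide +kernel

theorem chk_tree678 : tab.treeOKc 1356000 2000 = true := by decide +kernel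

theorem chk_tree679 : tab.treeOKc 1358000 2000 = true := by decide +kernel

theorem chk_tree680 : tab.treeOKc 1360000 2000 = true := by decide +kernel

theorem chk_tree681 : tab.treeOKc 1362000 2000 = true := by decide +kernel

theorem chk_tree682 : tab.treeOKc 1364000 2000 = true := by decide +kernel

theorem chk_tree683 : tab.treeOKc 1366000 2000 = true := by decide +kernel

theorem chk_tree684 : tab.treeOKc 1368000 2000 = true := by decide +kernel

theorem chk_tree685 : tab.treeOKc 1370000 2000 = true := by decide +kernel

theorem chk_tree686 : tab.treeOKc 1372000 2000 = true := by decide +kernel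

theorem chk_tree687 : tab.treeOKc 1374000 2000 = true := by decide +kernel

theorem chk_tree688 : tab.treeOKc 1376000 2000 = true := by decide +kernel

theorem chk_tree689 : tab.treeOKc 1378000 2000 = true := by decide +kernel

theorem chk_tree690 : tab.treeOKc 1380000 2000 = true := by decide +kernel

theorem chk_tree691 : tab.treeOKc 1382000 2000 = true := by decide +kernel

theorem chk_tree692 : tab.treeOKc 1384000 2000 = true := by decide +kernel

theorem chk_tree693 : tab.treeOKc 1386000 2000 = true := by decide +kernel

theorem chk_tree694 : tab.treeOKc 1388000 2000 = true := by decide +kernel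

theorem chk_tree695 : tab.treeOKc 1390000 2000 = true := by decide +kernel

theorem chk_tree696 : tab.treeOKc 1392000 2000 = true := by decide +kernel

theorem chk_tree697 : tab.treeOKc 1394000 2000 = true := by decide +kernel

theorem chk_tree698 : tab.treeOKc 1396000 2000 = true := by decide +kernel

theorem chk_tree699 : tab.treeOKc 1398000 2000 = true := by decide +kernel

theorem chk_tree700 : tab.treeOKc 1400000 2000 = true := by decide +kernel

theorem chk_tree701 : tab.treeOKc 1402000 2000 = true := by decide +kernel


end Cfsg.Agent.Lib.Lead.HNP.HNTC
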