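import Cfsg.Agent.Lib.Lead.HNP.HNTCData
import Cfsg.Agent.Lib.Helper6.TCChunk
import Cfsg.Agent.Lib.Lead.HNP.HNTCTree2

/-! # HNTC: the kernel check that the coset table is connected, part 26 -/

set_option autoImplicit false

namespace Cfsg.Agent.Lib.Lead.HNP.HNTC

open Cfsg.Agent.Lib.Helper6.TC Cfsg.Agent.Lib.Helper6.TCGS

theorem chk_tree702 : tab.treeOKc 1404000 2000 = true := by decide +kernel

theorem chk_tree703 : tab.treeOKc 1406000 2000 = true := by decide +kernel

theorem chk_tree704 : tab.treeOKc 1408000 2000 = true := by decide +kernel

theorem chk_tree705 : tab.treeOKc 1410000 2000 = true := by decide +kernel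

theorem chk_tree706 : tab.treeOKc 1412000 2000 = true := by decide +kernel

theorem chk_tree707 : tab.treeOKc 1414000 2000 = true := by decide +kernel

theorem chk_tree708 : tab.treeOKc 1416000 2000 = true := by decide +kernel

theorem chk_tree709 : tab.treeOKc 1418000 2000 = true := by decide +kernel

theorem chk_tree710 : tab.treeOKc 1420000 2000 = true := by decide +kernel

theorem chk_tree711 : tab.treeOKc 1422000 2000 = true := by decide +kernel

theorem chk_tree712 : tab.treeOKc 1424000 2000 = true := by decide +kernel

theorem chk_tree713 : tab.treeOKc 1426000 2000 = true := by decide +kernel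

theorem chk_tree714 : tab.treeOKc 1428000 2000 = true := by decide +kernel

theorem chk_tree715 : tab.treeOKc 1430000 2000 = true := by decide +kernel

theorem chk_tree716 : tab.treeOKc 1432000 2000 = true := by decide +kernel

theorem chk_tree717 : tab.treeOKc 1434000 2000 = true := by decide +kernel

theorem chk_tree718 : tab.treeOKc 1436000 2000 = true := by decide +kernel

theorem chk_tree719 : tab.treeOKc 1438000 2000 = true := by decide +kernel

theorem chk_tree720 : tab.treeOKc 1440000 2000 = true := by decide +kernel

theorem chk_tree721 : tab.treeOKc 1442000 2000 = true := by decide +kernel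

theorem chk_tree722 : tab.treeOKc 1444000 2000 = true := by decide +kernel

theorem chk_tree723 : tab.treeOKc 1446000 2000 = true := by decide +kernel

theorem chk_tree724 : tab.treeOKc 1448000 2000 = true := by decide +kernel

theorem chk_tree725 : tab.treeOKc 1450000 2000 = true := by decide +kernel

theorem chk_tree726 : tab.treeOKc 1452000 2000 = true := by decide +kernel

theorem chk_tree727 : tab.treeOKc 1454000 2000 = true := by decide +kernel

theorem chk_tree728 : tab.treeOKc 1456000 2000 = true := by decide +kernel


end Cfsg.Agent.Lib.Lead.HNP.HNTC
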