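import Cfsg.Agent.Lib.Lead.HNP.HNTCData
import Cfsg.Agent.Lib.Helper6.TCChunk
import Cfsg.Agent.Lib.Lead.HNP.HNTCTree3

/-! # HNTC: the kernel check that the coset table is connected, part 27 -/

set_option autoImplicit false

namespace Cfsg.Agent.Lib.Lead.HNP.HNTC

open Cfsg.Agent.Lib.Helper6.TC Cfsg.Agent.Lib.Helper6.TCGS

theorem chk_tree729 : tab.treeOKc 1458000 2000 = true := by decide +kernel

theorem chk_tree730 : tab.treeOKc 1460000 2000 = true := by decide +kernel

theorem chk_tree731 : tab.treeOKc 1462000 2000 = true := by decide +kernel

theorem chk_tree732 : tab.treeOKc 1464000 2000 = true := by decide +kernel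

theorem chk_tree733 : tab.treeOKc 1466000 2000 = true := by decide +kernel

theorem chk_tree734 : tab.treeOKc 1468000 2000 = true := by decide +kernel

theorem chk_tree735 : tab.treeOKc 1470000 2000 = true := by decide +kernel

theorem chk_tree736 : tab.treeOKc 1472000 2000 = true := by decide +kernel

theorem chk_tree737 : tab.treeOKc 1474000 2000 = true := by decide +kernel

theorem chk_tree738 : tab.treeOKc 1476000 2000 = true := by decide +kernel

theorem chk_tree739 : tab.treeOKc 1478000 2000 = true := by decide +kernel

theorem chk_tree740 : tab.treeOKc 1480000 2000 = true := by decide +kernel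

theorem chk_tree741 : tab.treeOKc 1482000 2000 = true := by decide +kernel

theorem chk_tree742 : tab.treeOKc 1484000 2000 = true := by decide +kernel

theorem chk_tree743 : tab.treeOKc 1486000 2000 = true := by decide +kernel

theorem chk_tree744 : tab.treeOKc 1488000 2000 = true := by decide +kernel

theorem chk_tree745 : tab.treeOKc 1490000 2000 = true := by decide +kernel

theorem chk_tree746 : tab.treeOKc 1492000 2000 = true := by decide +kernel

theorem chk_tree747 : tab.treeOKc 1494000 2000 = true := by decide +kernel

theorem chk_tree748 : tab.treeOKc 1496000 2000 = true := by decide +kernel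

theorem chk_tree749 : tab.treeOKc 1498000 2000 = true := by decide +kernel

theorem chk_tree750 : tab.treeOKc 1500000 2000 = true := by decide +kernel

theorem chk_tree751 : tab.treeOKc 1502000 2000 = true := by decide +kernel

theorem chk_tree752 : tab.treeOKc 1504000 2000 = true := by decide +kernel

theorem chk_tree753 : tab.treeOKc 1506000 2000 = true := by decide +kernel

theorem chk_tree754 : tab.treeOKc 1508000 2000 = true := by decide +kernel

theorem chk_tree755 : tab.treeOKc 1510000 2000 = true := by decide +kernel


end Cfsg.Agent.Lib.Lead.HNP.HNTC
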