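import Cfsg.Agent.Lib.Lead.HNP.HNTCData
import Cfsg.Agent.Lib.Helper6.TCGIndex
import Cfsg.Agent.Lib.Lead.HNP.HNTCTab42

/-! # HNTC: the kernel check of the coset table, part 66 -/

set_option autoImplicit false

namespace Cfsg.Agent.Lib.Lead.HNP.HNTC

open Cfsg.Agent.Lib.Helper6.TC Cfsg.Agent.Lib.Helper6.TCGS

theorem chk_tab594 : Cfsg.Agent.Lib.Helper6.TCG.tabOKc tab ivs 1188000 2000 = true := by decide +kernel

theorem chk_tab595 : Cfsg.Agent.Lib.Helper6.TCG.tabOKc tab ivs 1190000 2000 = true := by decide +kernel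

theorem chk_tab596 : Cfsg.Agent.Lib.Helper6.TCG.tabOKc tab ivs 1192000 2000 = true := by decide +kernel

theorem chk_tab597 : Cfsg.Agent.Lib.Helper6.TCG.tabOKc tab ivs 1194000 2000 = true := by decide +kernel

theorem chk_tab598 : Cfsg.Agent.Lib.Helper6.TCG.tabOKc tab ivs 1196000 2000 = true := by decide +kernel

theorem chk_tab599 : Cfsg.Agent.Lib.Helper6.TCG.tabOKc tab ivs 1198000 2000 = true := by decide +kernel

theorem chk_tab600 : Cfsg.Agent.Lib.Helper6.TCG.tabOKc tab ivs 1200000 2000 = true := by decide +kernel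

theorem chk_tab601 : Cfsg.Agent.Lib.Helper6.TCG.tabOKc tab ivs 1202000 2000 = true := by decide +kernel

theorem chk_tab602 : Cfsg.Agent.Lib.Helper6.TCG.tabOKc tab ivs 1204000 2000 = true := by decide +kernel


end Cfsg.Agent.Lib.Lead.HNP.HNTC
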