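import Cfsg.Agent.Lib.Lead.HNP.HNTCData
import Cfsg.Agent.Lib.Helper6.TCChunk
import Cfsg.Agent.Lib.Lead.HNP.HNTCTab66

/-! # HNTC: the kernel check that the coset table is connected, part 4 -/

set_option autoImplicit false

namespace Cfsg.Agent.Lib.Lead.HNP.HNTC

open Cfsg.Agent.Lib.Helper6.TC Cfsg.Agent.Lib.Helper6.TCGS

theorem chk_tree108 : tab.treeOKc 216000 2000 = true := by decide +kernel

theorem chk_tree109 : tab.treeOKc 218000 2000 = true := by decide +kernel

theorem chk_tree110 : tab.treeOKc 220000 2000 = true := by decide +kernel

theorem chk_tree111 : tab.treeOKc 222000 2000 = true := by decide +kernel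

theorem chk_tree112 : tab.treeOKc 224000 2000 = true := by decide +kernel

theorem chk_tree113 : tab.treeOKc 226000 2000 = true := by decide +kernel

theorem chk_tree114 : tab.treeOKc 228000 2000 = true := by decide +kernel

theorem chk_tree115 : tab.treeOKc 230000 2000 = true := by decide +kernel

theorem chk_tree116 : tab.treeOKc 232000 2000 = true := by decide +kernel

theorem chk_tree117 : tab.treeOKc 234000 2000 = true := by decide +kernel

theorem chk_tree118 : tab.treeOKc 236000 2000 = true := by decide +kernel

theorem chk_tree119 : tab.treeOKc 238000 2000 = true := by decide +kernel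

theorem chk_tree120 : tab.treeOKc 240000 2000 = true := by decide +kernel

theorem chk_tree121 : tab.treeOKc 242000 2000 = true := by decide +kernel

theorem chk_tree122 : tab.treeOKc 244000 2000 = true := by decide +kernel

theorem chk_tree123 : tab.treeOKc 246000 2000 = true := by decide +kernel

theorem chk_tree124 : tab.treeOKc 248000 2000 = true := by decide +kernel

theorem chk_tree125 : tab.treeOKc 250000 2000 = true := by decide +kernel

theorem chk_tree126 : tab.treeOKc 252000 2000 = true := by decide +kernel

theorem chk_tree127 : tab.treeOKc 254000 2000 = true := by decide +kernel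

theorem chk_tree128 : tab.treeOKc 256000 2000 = true := by decide +kernel

theorem chk_tree129 : tab.treeOKc 258000 2000 = true := by decide +kernel

theorem chk_tree130 : tab.treeOKc 260000 2000 = true := by decide +kernel

theorem chk_tree131 : tab.treeOKc 262000 2000 = true := by decide +kernel

theorem chk_tree132 : tab.treeOKc 264000 2000 = true := by decide +kernel

theorem chk_tree133 : tab.treeOKc 266000 2000 = true := by decide +kernel

theorem chk_tree134 : tab.treeOKc 268000 2000 = true := by decide +kernel


end Cfsg.Agent.Lib.Lead.HNP.HNTC
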