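import Cfsg.Agent.Lib.Lead.HNP.HNTCData
import Cfsg.Agent.Lib.Helper6.TCChunk
import Cfsg.Agent.Lib.Lead.HNP.HNTCTree4

/-! # HNTC: the kernel check that the coset table is connected, part 28 -/

set_option autoImplicit false

namespace Cfsg.Agent.Lib.Lead.HNP.HNTC

open Cfsg.Agent.Lib.Helper6.TC Cfsg.Agent.Lib.Helper6.TCGS

theorem chk_tree756 : tab.treeOKc 1512000 2000 = true := by decide +kernel

theorem chk_tree757 : tab.treeOKc 1514000 2000 = true := by decide +kernel

theorem chk_tree758 : tab.treeOKc 1516000 2000 = true := by decide +kernel

theorem chk_tree759 : tab.treeOKc 1518000 2000 = true := by decide +kernel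

theorem chk_tree760 : tab.treeOKc 1520000 2000 = true := by decide +kernel

theorem chk_tree761 : tab.treeOKc 1522000 2000 = true := by decide +kernel

theorem chk_tree762 : tab.treeOKc 1524000 2000 = true := by decide +kernel

theorem chk_tree763 : tab.treeOKc 1526000 2000 = true := by decide +kernel

theorem chk_tree764 : tab.treeOKc 1528000 2000 = true := by decide +kernel

theorem chk_tree765 : tab.treeOKc 1530000 2000 = true := by decide +kernel

theorem chk_tree766 : tab.treeOKc 1532000 2000 = true := by decide +kernel

theorem chk_tree767 : tab.treeOKc 1534000 2000 = true := by decide +kernel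

theorem chk_tree768 : tab.treeOKc 1536000 2000 = true := by decide +kernel

theorem chk_tree769 : tab.treeOKc 1538000 2000 = true := by decide +kernel


end Cfsg.Agent.Lib.Lead.HNP.HNTC
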