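import Cfsg.Agent.Lib.Lead.HNP.HNTCData
import Cfsg.Agent.Lib.Helper6.TCChunk
import Cfsg.Agent.Lib.Lead.HNP.HNTCTab68

/-! # HNTC: the kernel check that the coset table is connected, part 6 -/

set_option autoImplicit false

namespace Cfsg.Agent.Lib.Lead.HNP.HNTC

open Cfsg.Agent.Lib.Helper6.TC Cfsg.Agent.Lib.Helper6.TCGS

theorem chk_tree162 : tab.treeOKc 324000 2000 = true := by decide +kernel

theorem chk_tree163 : tab.treeOKc 326000 2000 = true := by decide +kernel

theorem chk_tree164 : tab.treeOKc 328000 2000 = true := by decide +kernel

theorem chk_tree165 : tab.treeOKc 330000 2000 = true := by decide +kernel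

theorem chk_tree166 : tab.treeOKc 332000 2000 = true := by decide +kernel

theorem chk_tree167 : tab.treeOKc 334000 2000 = true := by decide +kernel

theorem chk_tree168 : tab.treeOKc 336000 2000 = true := by decide +kernel

theorem chk_tree169 : tab.treeOKc 338000 2000 = true := by decide +kernel

theorem chk_tree170 : tab.treeOKc 340000 2000 = true := by decide +kernel

theorem chk_tree171 : tab.treeOKc 342000 2000 = true := by decide +kernel

theorem chk_tree172 : tab.treeOKc 344000 2000 = true := by decide +kernel

theorem chk_tree173 : tab.treeOKc 346000 2000 = true := by decide +kernel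

theorem chk_tree174 : tab.treeOKc 348000 2000 = true := by decide +kernel

theorem chk_tree175 : tab.treeOKc 350000 2000 = true := by decide +kernel

theorem chk_tree176 : tab.treeOKc 352000 2000 = true := by decide +kernel

theorem chk_tree177 : tab.treeOKc 354000 2000 = true := by decide +kernel

theorem chk_tree178 : tab.treeOKc 356000 2000 = true := by decide +kernel

theorem chk_tree179 : tab.treeOKc 358000 2000 = true := by decide +kernel

theorem chk_tree180 : tab.treeOKc 360000 2000 = true := by decide +kernel

theorem chk_tree181 : tab.treeOKc 362000 2000 = true := by decide +kernel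

theorem chk_tree182 : tab.treeOKc 364000 2000 = true := by decide +kernel

theorem chk_tree183 : tab.treeOKc 366000 2000 = true := by decide +kernel

theorem chk_tree184 : tab.treeOKc 368000 2000 = true := by decide +kernel

theorem chk_tree185 : tab.treeOKc 370000 2000 = true := by decide +kernel

theorem chk_tree186 : tab.treeOKc 372000 2000 = true := by decide +kernel

theorem chk_tree187 : tab.treeOKc 374000 2000 = true := by decide +kernel

theorem chk_tree188 : tab.treeOKc 376000 2000 = true := by decide +kernel


end Cfsg.Agent.Lib.Lead.HNP.HNTC
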