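import Cfsg.Agent.Lib.Lead.HNP.HNTCData
import Cfsg.Agent.Lib.Helper6.TCChunk
import Cfsg.Agent.Lib.Lead.HNP.HNTCTab69

/-! # HNTC: the kernel check that the coset table is connected, part 7 -/

set_option autoImplicit false

namespace Cfsg.Agent.Lib.Lead.HNP.HNTC

open Cfsg.Agent.Lib.Helper6.TC Cfsg.Agent.Lib.Helper6.TCGS

theorem chk_tree189 : tab.treeOKc 378000 2000 = true := by decide +kernel

theorem chk_tree190 : tab.treeOKc 380000 2000 = true := by decide +kernel

theorem chk_tree191 : tab.treeOKc 382000 2000 = true := by decide +kernel

theorem chk_tree192 : tab.treeOKc 384000 2000 = true := by decide +kernel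

theorem chk_tree193 : tab.treeOKc 386000 2000 = true := by decide +kernel

theorem chk_tree194 : tab.treeOKc 388000 2000 = true := by decide +kernel

theorem chk_tree195 : tab.treeOKc 390000 2000 = true := by decide +kernel

theorem chk_tree196 : tab.treeOKc 392000 2000 = true := by decide +kernel

theorem chk_tree197 : tab.treeOKc 394000 2000 = true := by decide +kernel

theorem chk_tree198 : tab.treeOKc 396000 2000 = true := by decide +kernel

theorem chk_tree199 : tab.treeOKc 398000 2000 = true := by decide +kernel

theorem chk_tree200 : tab.treeOKc 400000 2000 = true := by decide +kernel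

theorem chk_tree201 : tab.treeOKc 402000 2000 = true := by decide +kernel

theorem chk_tree202 : tab.treeOKc 404000 2000 = true := by decide +kernel

theorem chk_tree203 : tab.treeOKc 406000 2000 = true := by decide +kernel

theorem chk_tree204 : tab.treeOKc 408000 2000 = true := by decide +kernel

theorem chk_tree205 : tab.treeOKc 410000 2000 = true := by decide +kernel

theorem chk_tree206 : tab.treeOKc 412000 2000 = true := by decide +kernel

theorem chk_tree207 : tab.treeOKc 414000 2000 = true := by decide +kernel

theorem chk_tree208 : tab.treeOKc 416000 2000 = true := by decide +kernel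

theorem chk_tree209 : tab.treeOKc 418000 2000 = true := by decide +kernel

theorem chk_tree210 : tab.treeOKc 420000 2000 = true := by decide +kernel

theorem chk_tree211 : tab.treeOKc 422000 2000 = true := by decide +kernel

theorem chk_tree212 : tab.treeOKc 424000 2000 = true := by decide +kernel

theorem chk_tree213 : tab.treeOKc 426000 2000 = true := by decide +kernel

theorem chk_tree214 : tab.treeOKc 428000 2000 = true := by decide +kernel

theorem chk_tree215 : tab.treeOKc 430000 2000 = true := by decide +kernel


end Cfsg.Agent.Lib.Lead.HNP.HNTC
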