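import Cfsg.Agent.Lib.Lead.HNP.HNTCData
import Cfsg.Agent.Lib.Helper6.TCChunk
import Cfsg.Agent.Lib.Lead.HNP.HNTCTab71

/-! # HNTC: the kernel check that the coset table is connected, part 9 -/

set_option autoImplicit false

namespace Cfsg.Agent.Lib.Lead.HNP.HNTC

open Cfsg.Agent.Lib.Helper6.TC Cfsg.Agent.Lib.Helper6.TCGS

theorem chk_tree243 : tab.treeOKc 486000 2000 = true := by decide +kernel

theorem chk_tree244 : tab.treeOKc 488000 2000 = true := by decide +kernel

theorem chk_tree245 : tab.treeOKc 490000 2000 = true := by decide +kernel

theorem chk_tree246 : tab.treeOKc 492000 2000 = true := by decide +kernel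

theorem chk_tree247 : tab.treeOKc 494000 2000 = true := by decide +kernel

theorem chk_tree248 : tab.treeOKc 496000 2000 = true := by decide +kernel

theorem chk_tree249 : tab.treeOKc 498000 2000 = true := by decide +kernel

theorem chk_tree250 : tab.treeOKc 500000 2000 = true := by decide +kernel

theorem chk_tree251 : tab.treeOKc 502000 2000 = true := by decide +kernel

theorem chk_tree252 : tab.treeOKc 504000 2000 = true := by decide +kernel

theorem chk_tree253 : tab.treeOKc 506000 2000 = true := by decide +kernel

theorem chk_tree254 : tab.treeOKc 508000 2000 = true := by decide +kernel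

theorem chk_tree255 : tab.treeOKc 510000 2000 = true := by decide +kernel

theorem chk_tree256 : tab.treeOKc 512000 2000 = true := by decide +kernel

theorem chk_tree257 : tab.treeOKc 514000 2000 = true := by decide +kernel

theorem chk_tree258 : tab.treeOKc 516000 2000 = true := by decide +kernel

theorem chk_tree259 : tab.treeOKc 518000 2000 = true := by decide +kernel

theorem chk_tree260 : tab.treeOKc 520000 2000 = true := by decide +kernel

theorem chk_tree261 : tab.treeOKc 522000 2000 = true := by decide +kernel

theorem chk_tree262 : tab.treeOKc 524000 2000 = true := by decide +kernel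

theorem chk_tree263 : tab.treeOKc 526000 2000 = true := by decide +kernel

theorem chk_tree264 : tab.treeOKc 528000 2000 = true := by decide +kernel

theorem chk_tree265 : tab.treeOKc 530000 2000 = true := by decide +kernel

theorem chk_tree266 : tab.treeOKc 532000 2000 = true := by decide +kernel

theorem chk_tree267 : tab.treeOKc 534000 2000 = true := by decide +kernel

theorem chk_tree268 : tab.treeOKc 536000 2000 = true := by decide +kernel

theorem chk_tree269 : tab.treeOKc 538000 2000 = true := by decide +kernel


end Cfsg.Agent.Lib.Lead.HNP.HNTC
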