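import Cfsg.Agent.Lib.Lead.HNP.HNTCData
import Cfsg.Agent.Lib.Helper6.TCGInst
import Cfsg.Agent.Lib.Lead.HNP.HNTCChk3
import Cfsg.Agent.Lib.Lead.HNP.HNTCTab0
import Cfsg.Agent.Lib.Lead.HNP.HNTCTab1
import Cfsg.Agent.Lib.Lead.HNP.HNTCTab2
import Cfsg.Agent.Lib.Lead.HNP.HNTCTab3
import Cfsg.Agent.Lib.Lead.HNP.HNTCTab4
import Cfsg.Agent.Lib.Lead.HNP.HNTCTab5
import Cfsg.Agent.Lib.Lead.HNP.HNTCTab6
import Cfsg.Agent.Lib.Lead.HNP.HNTCTab7
import Cfsg.Agent.Lib.Lead.HNP.HNTCTab8
import Cfsg.Agent.Lib.Lead.HNP.HNTCTab9
import Cfsg.Agent.Lib.Lead.HNP.HNTCTab10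
import Cfsg.Agent.Lib.Lead.HNP.HNTCTab11
import Cfsg.Agent.Lib.Lead.HNP.HNTCTab12
import Cfsg.Agent.Lib.Lead.HNP.HNTCTab13
import Cfsg.Agent.Lib.Lead.HNP.HNTCTab14
import Cfsg.Agent.Lib.Lead.HNP.HNTCTab15
import Cfsg.Agent.Lib.Lead.HNP.HNTCTab16
import Cfsg.Agent.Lib.Lead.HNP.HNTCTab17
import Cfsg.Agent.Lib.Lead.HNP.HNTCTab18
import Cfsg.Agent.Lib.Lead.HNP.HNTCTab19
import Cfsg.Agent.Lib.Lead.HNP.HNTCTab20
import Cfsg.Agent.Lib.Lead.HNP.HNTCTab21
import Cfsg.Agent.Lib.Lead.HNP.HNTCTab22
import Cfsg.Agent.Lib.Lead.HNP.HNTCTab23
import Cfsg.Agent.Lib.Lead.HNP.HNTCTab24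
import Cfsg.Agent.Lib.Lead.HNP.HNTCTab25
import Cfsg.Agent.Lib.Lead.HNP.HNTCTab26
import Cfsg.Agent.Lib.Lead.HNP.HNTCTab27
import Cfsg.Agent.Lib.Lead.HNP.HNTCTab28
import Cfsg.Agent.Lib.Lead.HNP.HNTCTab29
import Cfsg.Agent.Lib.Lead.HNP.HNTCTab30
import Cfsg.Agent.Lib.Lead.HNP.HNTCTab31
import Cfsg.Agent.Lib.Lead.HNP.HNTCTab32
import Cfsg.Agent.Lib.Lead.HNP.HNTCTab33
import Cfsg.Agent.Lib.Lead.HNP.HNTCTab34
import Cfsg.Agent.Lib.Lead.HNP.HNTCTab35
import Cfsg.Agent.Lib.Lead.HNP.HNTCTab36
import Cfsg.Agent.Lib.Lead.HNP.HNTCTab37
import Cfsg.Agent.Lib.Lead.HNP.HNTCTab38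
import Cfsg.Agent.Lib.Lead.HNP.HNTCTab39
import Cfsg.Agent.Lib.Lead.HNP.HNTCTab40
import Cfsg.Agent.Lib.Lead.HNP.HNTCTab41
import Cfsg.Agent.Lib.Lead.HNP.HNTCTab42
import Cfsg.Agent.Lib.Lead.HNP.HNTCTab43
import Cfsg.Agent.Lib.Lead.HNP.HNTCTab44
import Cfsg.Agent.Lib.Lead.HNP.HNTCTab45
import Cfsg.Agent.Lib.Lead.HNP.HNTCTab46
import Cfsg.Agent.Lib.Lead.HNP.HNTCTab47
import Cfsg.Agent.Lib.Lead.HNP.HNTCTab48
import Cfsg.Agent.Lib.Lead.HNP.HNTCTab49
import Cfsg.Agent.Lib.Lead.HNP.HNTCTab50
import Cfsg.Agent.Lib.Lead.HNP.HNTCTab51
import Cfsg.Agent.Lib.Lead.HNP.HNTCTab52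
import Cfsg.Agent.Lib.Lead.HNP.HNTCTab53
import Cfsg.Agent.Lib.Lead.HNP.HNTCTab54
import Cfsg.Agent.Lib.Lead.HNP.HNTCTab55
import Cfsg.Agent.Lib.Lead.HNP.HNTCTab56
import Cfsg.Agent.Lib.Lead.HNP.HNTCTab57
import Cfsg.Agent.Lib.Lead.HNP.HNTCTab58
import Cfsg.Agent.Lib.Lead.HNP.HNTCTab59
import Cfsg.Agent.Lib.Lead.HNP.HNTCTab60
import Cfsg.Agent.Lib.Lead.HNP.HNTCTab61
import Cfsg.Agent.Lib.Lead.HNP.HNTCTab62
import Cfsg.Agent.Lib.Lead.HNP.HNTCTab63
import Cfsg.Agent.Lib.Lead.HNP.HNTCTab64
import Cfsg.Agent.Lib.Lead.HNP.HNTCTab65
import Cfsg.Agent.Lib.Lead.HNP.HNTCTab66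
import Cfsg.Agent.Lib.Lead.HNP.HNTCTab67
import Cfsg.Agent.Lib.Lead.HNP.HNTCTab68
import Cfsg.Agent.Lib.Lead.HNP.HNTCTab69
import Cfsg.Agent.Lib.Lead.HNP.HNTCTab70
import Cfsg.Agent.Lib.Lead.HNP.HNTCTab71
import Cfsg.Agent.Lib.Lead.HNP.HNTCTab72
import Cfsg.Agent.Lib.Lead.HNP.HNTCTab73
import Cfsg.Agent.Lib.Lead.HNP.HNTCTab74
import Cfsg.Agent.Lib.Lead.HNP.HNTCTab75
import Cfsg.Agent.Lib.Lead.HNP.HNTCTab76
import Cfsg.Agent.Lib.Lead.HNP.HNTCTab77
import Cfsg.Agent.Lib.Lead.HNP.HNTCTab78
import Cfsg.Agent.Lib.Lead.HNP.HNTCTab79
import Cfsg.Agent.Lib.Lead.HNP.HNTCTab80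
import Cfsg.Agent.Lib.Lead.HNP.HNTCTab81
import Cfsg.Agent.Lib.Lead.HNP.HNTCTab82
import Cfsg.Agent.Lib.Lead.HNP.HNTCTab83
import Cfsg.Agent.Lib.Lead.HNP.HNTCTab84
import Cfsg.Agent.Lib.Lead.HNP.HNTCTab85
import Cfsg.Agent.Lib.Lead.HNP.HNTCTree0
import Cfsg.Agent.Lib.Lead.HNP.HNTCTree1
import Cfsg.Agent.Lib.Lead.HNP.HNTCTree2
import Cfsg.Agent.Lib.Lead.HNP.HNTCTree3
import Cfsg.Agent.Lib.Lead.HNP.HNTCTree4
import Cfsg.Agent.Lib.Lead.HNP.HNTCTree5
import Cfsg.Agent.Lib.Lead.HNP.HNTCTree6
import Cfsg.Agent.Lib.Lead.HNP.HNTCTree7
import Cfsg.Agent.Lib.Lead.HNP.HNTCTree8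
import Cfsg.Agent.Lib.Lead.HNP.HNTCTree9
import Cfsg.Agent.Lib.Lead.HNP.HNTCTree10
import Cfsg.Agent.Lib.Lead.HNP.HNTCTree11
import Cfsg.Agent.Lib.Lead.HNP.HNTCTree12
import Cfsg.Agent.Lib.Lead.HNP.HNTCTree13
import Cfsg.Agent.Lib.Lead.HNP.HNTCTree14
import Cfsg.Agent.Lib.Lead.HNP.HNTCTree15
import Cfsg.Agent.Lib.Lead.HNP.HNTCTree16
import Cfsg.Agent.Lib.Lead.HNP.HNTCTree17
import Cfsg.Agent.Lib.Lead.HNP.HNTCTree18
import Cfsg.Agent.Lib.Lead.HNP.HNTCTree19
import Cfsg.Agent.Lib.Lead.HNP.HNTCTree20
import Cfsg.Agent.Lib.Lead.HNP.HNTCTree21
import Cfsg.Agent.Lib.Lead.HNP.HNTCTree22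
import Cfsg.Agent.Lib.Lead.HNP.HNTCTree23
import Cfsg.Agent.Lib.Lead.HNP.HNTCTree24
import Cfsg.Agent.Lib.Lead.HNP.HNTCTree25
import Cfsg.Agent.Lib.Lead.HNP.HNTCTree26
import Cfsg.Agent.Lib.Lead.HNP.HNTCTree27
import Cfsg.Agent.Lib.Lead.HNP.HNTCTree28

/-! # HNTC: the checks of the coset table and the relators -/

set_option autoImplicit false

namespace Cfsg.Agent.Lib.Lead.HNP.HNTC

open Cfsg.Agent.Lib.Helper6.TC Cfsg.Agent.Lib.Helper6.TCG

theorem chk_tab : Cfsg.Agent.Lib.Helper6.TCG.tabOK tab ivs = true := by
  refine Cfsg.Agent.Lib.Helper6.TCG.tabOK_of_chunks tab ivs 2000 770 (by decide +kernel) (by norm_num) (by show 1539000 ≤ 770 * 2000; norm_num) ?_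
  intro k hk
  interval_cases k
  · exact chk_tab0
  · exact chk_tab1
  · exact chk_tab2
  · exact chk_tab3
  · exact chk_tab4
  · exact chk_tab5
  · exact chk_tab6
  · exact chk_tab7
  · exact chk_tab8
  · exact chk_tab9
  · exact chk_tab10
  · exact chk_tab11
  · exact chk_tab12
  · exact chk_tab13
  · exact chk_tab14
  · exact chk_tab15
  · exact chk_tab16
  · exact chk_tab17
  · exact chk_tab18
  · exact chk_tab19
  · exact chk_tab20
  · exact chk_tab21
  · exact chk_tab22
  · exact chk_tab23
  · exact chk_tab24
  · exact chk_tab25
  · exact chk_tab26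
  · exact chk_tab27
  · exact chk_tab28
  · exact chk_tab29
  · exact chk_tab30
  · exact chk_tab31
  · exact chk_tab32
  · exact chk_tab33
  · exact chk_tab34
  · exact chk_tab35
  · exact chk_tab36
  · exact chk_tab37
  · exact chk_tab38
  · exact chk_tab39
  · exact chk_tab40
  · exact chk_tab41
  · exact chk_tab42
  · exact chk_tab43
  · exact chk_tab44
  · exact chk_tab45
  · exact chk_tab46
  · exact chk_tab47
  · exact chk_tab48
  · exact chk_tab49
  · exact chk_tab50
  · exact chk_tab51
  · exact chk_tab52
  · exact chk_tab53
  · exact chk_tab54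
  · exact chk_tab55
  · exact chk_tab56
  · exact chk_tab57
  · exact chk_tab58
  · exact chk_tab59
  · exact chk_tab60
  · exact chk_tab61
  · exact chk_tab62
  · exact chk_tab63
  · exact chk_tab64
  · exact chk_tab65
  · exact chk_tab66
  · exact chk_tab67
  · exact chk_tab68
  · exact chk_tab69
  · exact chk_tab70
  · exact chk_tab71
  · exact chk_tab72
  · exact chk_tab73
  · exact chk_tab74
  · exact chk_tab75
  · exact chk_tab76
  · exact chk_tab77
  · exact chk_tab78
  · exact chk_tab79
  · exact chk_tab80
  · exact chk_tab81
  · exact chk_tab82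
  · exact chk_tab83
  · exact chk_tab84
  · exact chk_tab85
  · exact chk_tab86
  · exact chk_tab87
  · exact chk_tab88
  · exact chk_tab89
  · exact chk_tab90
  · exact chk_tab91
  · exact chk_tab92
  · exact chk_tab93
  · exact chk_tab94
  · exact chk_tab95
  · exact chk_tab96
  · exact chk_tab97
  · exact chk_tab98
  · exact chk_tab99
  · exact chk_tab100
  · exact chk_tab101
  · exact chk_tab102
  · exact chk_tab103
  · exact chk_tab104
  · exact chk_tab105
  · exact chk_tab106
  · exact chk_tab107
  · exact chk_tab108
  · exact chk_tab109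
  · exact chk_tab110
  · exact chk_tab111
  · exact chk_tab112
  · exact chk_tab113
  · exact chk_tab114
  · exact chk_tab115
  · exact chk_tab116
  · exact chk_tab117
  · exact chk_tab118
  · exact chk_tab119
  · exact chk_tab120
  · exact chk_tab121
  · exact chk_tab122
  · exact chk_tab123
  · exact chk_tab124
  · exact chk_tab125
  · exact chk_tab126
  · exact chk_tab127
  · exact chk_tab128
  · exact chk_tab129
  · exact chk_tab130
  · exact chk_tab131
  · exact chk_tab132
  · exact chk_tab133
  · exact chk_tab134
  · exact chk_tab135
  · exact chk_tab136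
  · exact chk_tab137
  · exact chk_tab138
  · exact chk_tab139
  · exact chk_tab140
  · exact chk_tab141
  · exact chk_tab142
  · exact chk_tab143
  · exact chk_tab144
  · exact chk_tab145
  · exact chk_tab146
  · exact chk_tab147
  · exact chk_tab148
  · exact chk_tab149
  · exact chk_tab150
  · exact chk_tab151
  · exact chk_tab152
  · exact chk_tab153
  · exact chk_tab154
  · exact chk_tab155
  · exact chk_tab156
  · exact chk_tab157
  · exact chk_tab158
  · exact chk_tab159
  · exact chk_tab160
  · exact chk_tab161
  · exact chk_tab162
  · exact chk_tab163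
  · exact chk_tab164
  · exact chk_tab165
  · exact chk_tab166
  · exact chk_tab167
  · exact chk_tab168
  · exact chk_tab169
  · exact chk_tab170
  · exact chk_tab171
  · exact chk_tab172
  · exact chk_tab173
  · exact chk_tab174
  · exact chk_tab175
  · exact chk_tab176
  · exact chk_tab177
  · exact chk_tab178
  · exact chk_tab179
  · exact chk_tab180
  · exact chk_tab181
  · exact chk_tab182
  · exact chk_tab183
  · exact chk_tab184
  · exact chk_tab185
  · exact chk_tab186
  · exact chk_tab187
  · exact chk_tab188
  · exact chk_tab189
  · exact chk_tab190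
  · exact chk_tab191
  · exact chk_tab192
  · exact chk_tab193
  · exact chk_tab194
  · exact chk_tab195
  · exact chk_tab196
  · exact chk_tab197
  · exact chk_tab198
  · exact chk_tab199
  · exact chk_tab200
  · exact chk_tab201
  · exact chk_tab202
  · exact chk_tab203
  · exact chk_tab204
  · exact chk_tab205
  · exact chk_tab206
  · exact chk_tab207
  · exact chk_tab208
  · exact chk_tab209
  · exact chk_tab210
  · exact chk_tab211
  · exact chk_tab212
  · exact chk_tab213
  · exact chk_tab214
  · exact chk_tab215
  · exact chk_tab216
  · exact chk_tab217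
  · exact chk_tab218
  · exact chk_tab219
  · exact chk_tab220
  · exact chk_tab221
  · exact chk_tab222
  · exact chk_tab223
  · exact chk_tab224
  · exact chk_tab225
  · exact chk_tab226
  · exact chk_tab227
  · exact chk_tab228
  · exact chk_tab229
  · exact chk_tab230
  · exact chk_tab231
  · exact chk_tab232
  · exact chk_tab233
  · exact chk_tab234
  · exact chk_tab235
  · exact chk_tab236
  · exact chk_tab237
  · exact chk_tab238
  · exact chk_tab239
  · exact chk_tab240
  · exact chk_tab241
  · exact chk_tab242
  · exact chk_tab243
  · exact chk_tab244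
  · exact chk_tab245
  · exact chk_tab246
  · exact chk_tab247
  · exact chk_tab248
  · exact chk_tab249
  · exact chk_tab250
  · exact chk_tab251
  · exact chk_tab252
  · exact chk_tab253
  · exact chk_tab254
  · exact chk_tab255
  · exact chk_tab256
  · exact chk_tab257
  · exact chk_tab258
  · exact chk_tab259
  · exact chk_tab260
  · exact chk_tab261
  · exact chk_tab262
  · exact chk_tab263
  · exact chk_tab264
  · exact chk_tab265
  · exact chk_tab266
  · exact chk_tab267
  · exact chk_tab268
  · exact chk_tab269
  · exact chk_tab270
  · exact chk_tab271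
  · exact chk_tab272
  · exact chk_tab273
  · exact chk_tab274
  · exact chk_tab275
  · exact chk_tab276
  · exact chk_tab277
  · exact chk_tab278
  · exact chk_tab279
  · exact chk_tab280
  · exact chk_tab281
  · exact chk_tab282
  · exact chk_tab283
  · exact chk_tab284
  · exact chk_tab285
  · exact chk_tab286
  · exact chk_tab287
  · exact chk_tab288
  · exact chk_tab289
  · exact chk_tab290
  · exact chk_tab291
  · exact chk_tab292
  · exact chk_tab293
  · exact chk_tab294
  · exact chk_tab295
  · exact chk_tab296
  · exact chk_tab297
  · exact chk_tab298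
  · exact chk_tab299
  · exact chk_tab300
  · exact chk_tab301
  · exact chk_tab302
  · exact chk_tab303
  · exact chk_tab304
  · exact chk_tab305
  · exact chk_tab306
  · exact chk_tab307
  · exact chk_tab308
  · exact chk_tab309
  · exact chk_tab310
  · exact chk_tab311
  · exact chk_tab312
  · exact chk_tab313
  · exact chk_tab314
  · exact chk_tab315
  · exact chk_tab316
  · exact chk_tab317
  · exact chk_tab318
  · exact chk_tab319
  · exact chk_tab320
  · exact chk_tab321
  · exact chk_tab322
  · exact chk_tab323
  · exact chk_tab324
  · exact chk_tab325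
  · exact chk_tab326
  · exact chk_tab327
  · exact chk_tab328
  · exact chk_tab329
  · exact chk_tab330
  · exact chk_tab331
  · exact chk_tab332
  · exact chk_tab333
  · exact chk_tab334
  · exact chk_tab335
  · exact chk_tab336
  · exact chk_tab337
  · exact chk_tab338
  · exact chk_tab339
  · exact chk_tab340
  · exact chk_tab341
  · exact chk_tab342
  · exact chk_tab343
  · exact chk_tab344
  · exact chk_tab345
  · exact chk_tab346
  · exact chk_tab347
  · exact chk_tab348
  · exact chk_tab349
  · exact chk_tab350
  · exact chk_tab351
  · exact chk_tab352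
  · exact chk_tab353
  · exact chk_tab354
  · exact chk_tab355
  · exact chk_tab356
  · exact chk_tab357
  · exact chk_tab358
  · exact chk_tab359
  · exact chk_tab360
  · exact chk_tab361
  · exact chk_tab362
  · exact chk_tab363
  · exact chk_tab364
  · exact chk_tab365
  · exact chk_tab366
  · exact chk_tab367
  · exact chk_tab368
  · exact chk_tab369
  · exact chk_tab370
  · exact chk_tab371
  · exact chk_tab372
  · exact chk_tab373
  · exact chk_tab374
  · exact chk_tab375
  · exact chk_tab376
  · exact chk_tab377
  · exact chk_tab378
  · exact chk_tab379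
  · exact chk_tab380
  · exact chk_tab381
  · exact chk_tab382
  · exact chk_tab383
  · exact chk_tab384
  · exact chk_tab385
  · exact chk_tab386
  · exact chk_tab387
  · exact chk_tab388
  · exact chk_tab389
  · exact chk_tab390
  · exact chk_tab391
  · exact chk_tab392
  · exact chk_tab393
  · exact chk_tab394
  · exact chk_tab395
  · exact chk_tab396
  · exact chk_tab397
  · exact chk_tab398
  · exact chk_tab399
  · exact chk_tab400
  · exact chk_tab401
  · exact chk_tab402
  · exact chk_tab403
  · exact chk_tab404
  · exact chk_tab405
  · exact chk_tab406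
  · exact chk_tab407
  · exact chk_tab408
  · exact chk_tab409
  · exact chk_tab410
  · exact chk_tab411
  · exact chk_tab412
  · exact chk_tab413
  · exact chk_tab414
  · exact chk_tab415
  · exact chk_tab416
  · exact chk_tab417
  · exact chk_tab418
  · exact chk_tab419
  · exact chk_tab420
  · exact chk_tab421
  · exact chk_tab422
  · exact chk_tab423
  · exact chk_tab424
  · exact chk_tab425
  · exact chk_tab426
  · exact chk_tab427
  · exact chk_tab428
  · exact chk_tab429
  · exact chk_tab430
  · exact chk_tab431
  · exact chk_tab432
  · exact chk_tab433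
  · exact chk_tab434
  · exact chk_tab435
  · exact chk_tab436
  · exact chk_tab437
  · exact chk_tab438
  · exact chk_tab439
  · exact chk_tab440
  · exact chk_tab441
  · exact chk_tab442
  · exact chk_tab443
  · exact chk_tab444
  · exact chk_tab445
  · exact chk_tab446
  · exact chk_tab447
  · exact chk_tab448
  · exact chk_tab449
  · exact chk_tab450
  · exact chk_tab451
  · exact chk_tab452
  · exact chk_tab453
  · exact chk_tab454
  · exact chk_tab455
  · exact chk_tab456
  · exact chk_tab457
  · exact chk_tab458
  · exact chk_tab459
  · exact chk_tab460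
  · exact chk_tab461
  · exact chk_tab462
  · exact chk_tab463
  · exact chk_tab464
  · exact chk_tab465
  · exact chk_tab466
  · exact chk_tab467
  · exact chk_tab468
  · exact chk_tab469
  · exact chk_tab470
  · exact chk_tab471
  · exact chk_tab472
  · exact chk_tab473
  · exact chk_tab474
  · exact chk_tab475
  · exact chk_tab476
  · exact chk_tab477
  · exact chk_tab478
  · exact chk_tab479
  · exact chk_tab480
  · exact chk_tab481
  · exact chk_tab482
  · exact chk_tab483
  · exact chk_tab484
  · exact chk_tab485
  · exact chk_tab486
  · exact chk_tab487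
  · exact chk_tab488
  · exact chk_tab489
  · exact chk_tab490
  · exact chk_tab491
  · exact chk_tab492
  · exact chk_tab493
  · exact chk_tab494
  · exact chk_tab495
  · exact chk_tab496
  · exact chk_tab497
  · exact chk_tab498
  · exact chk_tab499
  · exact chk_tab500
  · exact chk_tab501
  · exact chk_tab502
  · exact chk_tab503
  · exact chk_tab504
  · exact chk_tab505
  · exact chk_tab506
  · exact chk_tab507
  · exact chk_tab508
  · exact chk_tab509
  · exact chk_tab510
  · exact chk_tab511
  · exact chk_tab512
  · exact chk_tab513
  · exact chk_tab514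
  · exact chk_tab515
  · exact chk_tab516
  · exact chk_tab517
  · exact chk_tab518
  · exact chk_tab519
  · exact chk_tab520
  · exact chk_tab521
  · exact chk_tab522
  · exact chk_tab523
  · exact chk_tab524
  · exact chk_tab525
  · exact chk_tab526
  · exact chk_tab527
  · exact chk_tab528
  · exact chk_tab529
  · exact chk_tab530
  · exact chk_tab531
  · exact chk_tab532
  · exact chk_tab533
  · exact chk_tab534
  · exact chk_tab535
  · exact chk_tab536
  · exact chk_tab537
  · exact chk_tab538
  · exact chk_tab539
  · exact chk_tab540
  · exact chk_tab541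
  · exact chk_tab542
  · exact chk_tab543
  · exact chk_tab544
  · exact chk_tab545
  · exact chk_tab546
  · exact chk_tab547
  · exact chk_tab548
  · exact chk_tab549
  · exact chk_tab550
  · exact chk_tab551
  · exact chk_tab552
  · exact chk_tab553
  · exact chk_tab554
  · exact chk_tab555
  · exact chk_tab556
  · exact chk_tab557
  · exact chk_tab558
  · exact chk_tab559
  · exact chk_tab560
  · exact chk_tab561
  · exact chk_tab562
  · exact chk_tab563
  · exact chk_tab564
  · exact chk_tab565
  · exact chk_tab566
  · exact chk_tab567
  · exact chk_tab568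
  · exact chk_tab569
  · exact chk_tab570
  · exact chk_tab571
  · exact chk_tab572
  · exact chk_tab573
  · exact chk_tab574
  · exact chk_tab575
  · exact chk_tab576
  · exact chk_tab577
  · exact chk_tab578
  · exact chk_tab579
  · exact chk_tab580
  · exact chk_tab581
  · exact chk_tab582
  · exact chk_tab583
  · exact chk_tab584
  · exact chk_tab585
  · exact chk_tab586
  · exact chk_tab587
  · exact chk_tab588
  · exact chk_tab589
  · exact chk_tab590
  · exact chk_tab591
  · exact chk_tab592
  · exact chk_tab593
  · exact chk_tab594
  · exact chk_tab595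
  · exact chk_tab596
  · exact chk_tab597
  · exact chk_tab598
  · exact chk_tab599
  · exact chk_tab600
  · exact chk_tab601
  · exact chk_tab602
  · exact chk_tab603
  · exact chk_tab604
  · exact chk_tab605
  · exact chk_tab606
  · exact chk_tab607
  · exact chk_tab608
  · exact chk_tab609
  · exact chk_tab610
  · exact chk_tab611
  · exact chk_tab612
  · exact chk_tab613
  · exact chk_tab614
  · exact chk_tab615
  · exact chk_tab616
  · exact chk_tab617
  · exact chk_tab618
  · exact chk_tab619
  · exact chk_tab620
  · exact chk_tab621
  · exact chk_tab622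
  · exact chk_tab623
  · exact chk_tab624
  · exact chk_tab625
  · exact chk_tab626
  · exact chk_tab627
  · exact chk_tab628
  · exact chk_tab629
  · exact chk_tab630
  · exact chk_tab631
  · exact chk_tab632
  · exact chk_tab633
  · exact chk_tab634
  · exact chk_tab635
  · exact chk_tab636
  · exact chk_tab637
  · exact chk_tab638
  · exact chk_tab639
  · exact chk_tab640
  · exact chk_tab641
  · exact chk_tab642
  · exact chk_tab643
  · exact chk_tab644
  · exact chk_tab645
  · exact chk_tab646
  · exact chk_tab647
  · exact chk_tab648
  · exact chk_tab649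
  · exact chk_tab650
  · exact chk_tab651
  · exact chk_tab652
  · exact chk_tab653
  · exact chk_tab654
  · exact chk_tab655
  · exact chk_tab656
  · exact chk_tab657
  · exact chk_tab658
  · exact chk_tab659
  · exact chk_tab660
  · exact chk_tab661
  · exact chk_tab662
  · exact chk_tab663
  · exact chk_tab664
  · exact chk_tab665
  · exact chk_tab666
  · exact chk_tab667
  · exact chk_tab668
  · exact chk_tab669
  · exact chk_tab670
  · exact chk_tab671
  · exact chk_tab672
  · exact chk_tab673
  · exact chk_tab674
  · exact chk_tab675
  · exact chk_tab676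
  · exact chk_tab677
  · exact chk_tab678
  · exact chk_tab679
  · exact chk_tab680
  · exact chk_tab681
  · exact chk_tab682
  · exact chk_tab683
  · exact chk_tab684
  · exact chk_tab685
  · exact chk_tab686
  · exact chk_tab687
  · exact chk_tab688
  · exact chk_tab689
  · exact chk_tab690
  · exact chk_tab691
  · exact chk_tab692
  · exact chk_tab693
  · exact chk_tab694
  · exact chk_tab695
  · exact chk_tab696
  · exact chk_tab697
  · exact chk_tab698
  · exact chk_tab699
  · exact chk_tab700
  · exact chk_tab701
  · exact chk_tab702
  · exact chk_tab703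
  · exact chk_tab704
  · exact chk_tab705
  · exact chk_tab706
  · exact chk_tab707
  · exact chk_tab708
  · exact chk_tab709
  · exact chk_tab710
  · exact chk_tab711
  · exact chk_tab712
  · exact chk_tab713
  · exact chk_tab714
  · exact chk_tab715
  · exact chk_tab716
  · exact chk_tab717
  · exact chk_tab718
  · exact chk_tab719
  · exact chk_tab720
  · exact chk_tab721
  · exact chk_tab722
  · exact chk_tab723
  · exact chk_tab724
  · exact chk_tab725
  · exact chk_tab726
  · exact chk_tab727
  · exact chk_tab728
  · exact chk_tab729
  · exact chk_tab730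
  · exact chk_tab731
  · exact chk_tab732
  · exact chk_tab733
  · exact chk_tab734
  · exact chk_tab735
  · exact chk_tab736
  · exact chk_tab737
  · exact chk_tab738
  · exact chk_tab739
  · exact chk_tab740
  · exact chk_tab741
  · exact chk_tab742
  · exact chk_tab743
  · exact chk_tab744
  · exact chk_tab745
  · exact chk_tab746
  · exact chk_tab747
  · exact chk_tab748
  · exact chk_tab749
  · exact chk_tab750
  · exact chk_tab751
  · exact chk_tab752
  · exact chk_tab753
  · exact chk_tab754
  · exact chk_tab755
  · exact chk_tab756
  · exact chk_tab757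
  · exact chk_tab758
  · exact chk_tab759
  · exact chk_tab760
  · exact chk_tab761
  · exact chk_tab762
  · exact chk_tab763
  · exact chk_tab764
  · exact chk_tab765
  · exact chk_tab766
  · exact chk_tab767
  · exact chk_tab768
  · exact chk_tab769

theorem chk_tree : tab.treeOK = true := by
  refine tab.treeOK_of_chunks 2000 770 (by norm_num) (by show 1539000 ≤ 770 * 2000; norm_num) ?_
  intro k hk
  interval_cases k
  · exact chk_tree0
  · exact chk_tree1
  · exact chk_tree2
  · exact chk_tree3
  · exact chk_tree4
  · exact chk_tree5
  · exact chk_tree6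
  · exact chk_tree7
  · exact chk_tree8
  · exact chk_tree9
  · exact chk_tree10
  · exact chk_tree11
  · exact chk_tree12
  · exact chk_tree13
  · exact chk_tree14
  · exact chk_tree15
  · exact chk_tree16
  · exact chk_tree17
  · exact chk_tree18
  · exact chk_tree19
  · exact chk_tree20
  · exact chk_tree21
  · exact chk_tree22
  · exact chk_tree23
  · exact chk_tree24
  · exact chk_tree25
  · exact chk_tree26
  · exact chk_tree27
  · exact chk_tree28
  · exact chk_tree29
  · exact chk_tree30
  · exact chk_tree31
  · exact chk_tree32
  · exact chk_tree33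
  · exact chk_tree34
  · exact chk_tree35
  · exact chk_tree36
  · exact chk_tree37
  · exact chk_tree38
  · exact chk_tree39
  · exact chk_tree40
  · exact chk_tree41
  · exact chk_tree42
  · exact chk_tree43
  · exact chk_tree44
  · exact chk_tree45
  · exact chk_tree46
  · exact chk_tree47
  · exact chk_tree48
  · exact chk_tree49
  · exact chk_tree50
  · exact chk_tree51
  · exact chk_tree52
  · exact chk_tree53
  · exact chk_tree54
  · exact chk_tree55
  · exact chk_tree56
  · exact chk_tree57
  · exact chk_tree58
  · exact chk_tree59
  · exact chk_tree60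
  · exact chk_tree61
  · exact chk_tree62
  · exact chk_tree63
  · exact chk_tree64
  · exact chk_tree65
  · exact chk_tree66
  · exact chk_tree67
  · exact chk_tree68
  · exact chk_tree69
  · exact chk_tree70
  · exact chk_tree71
  · exact chk_tree72
  · exact chk_tree73
  · exact chk_tree74
  · exact chk_tree75
  · exact chk_tree76
  · exact chk_tree77
  · exact chk_tree78
  · exact chk_tree79
  · exact chk_tree80
  · exact chk_tree81
  · exact chk_tree82
  · exact chk_tree83
  · exact chk_tree84
  · exact chk_tree85
  · exact chk_tree86
  · exact chk_tree87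
  · exact chk_tree88
  · exact chk_tree89
  · exact chk_tree90
  · exact chk_tree91
  · exact chk_tree92
  · exact chk_tree93
  · exact chk_tree94
  · exact chk_tree95
  · exact chk_tree96
  · exact chk_tree97
  · exact chk_tree98
  · exact chk_tree99
  · exact chk_tree100
  · exact chk_tree101
  · exact chk_tree102
  · exact chk_tree103
  · exact chk_tree104
  · exact chk_tree105
  · exact chk_tree106
  · exact chk_tree107
  · exact chk_tree108
  · exact chk_tree109
  · exact chk_tree110
  · exact chk_tree111
  · exact chk_tree112
  · exact chk_tree113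
  · exact chk_tree114
  · exact chk_tree115
  · exact chk_tree116
  · exact chk_tree117
  · exact chk_tree118
  · exact chk_tree119
  · exact chk_tree120
  · exact chk_tree121
  · exact chk_tree122
  · exact chk_tree123
  · exact chk_tree124
  · exact chk_tree125
  · exact chk_tree126
  · exact chk_tree127
  · exact chk_tree128
  · exact chk_tree129
  · exact chk_tree130
  · exact chk_tree131
  · exact chk_tree132
  · exact chk_tree133
  · exact chk_tree134
  · exact chk_tree135
  · exact chk_tree136
  · exact chk_tree137
  · exact chk_tree138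
  · exact chk_tree139
  · exact chk_tree140
  · exact chk_tree141
  · exact chk_tree142
  · exact chk_tree143
  · exact chk_tree144
  · exact chk_tree145
  · exact chk_tree146
  · exact chk_tree147
  · exact chk_tree148
  · exact chk_tree149
  · exact chk_tree150
  · exact chk_tree151
  · exact chk_tree152
  · exact chk_tree153
  · exact chk_tree154
  · exact chk_tree155
  · exact chk_tree156
  · exact chk_tree157
  · exact chk_tree158
  · exact chk_tree159
  · exact chk_tree160
  · exact chk_tree161
  · exact chk_tree162
  · exact chk_tree163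
  · exact chk_tree164
  · exact chk_tree165
  · exact chk_tree166
  · exact chk_tree167
  · exact chk_tree168
  · exact chk_tree169
  · exact chk_tree170
  · exact chk_tree171
  · exact chk_tree172
  · exact chk_tree173
  · exact chk_tree174
  · exact chk_tree175
  · exact chk_tree176
  · exact chk_tree177
  · exact chk_tree178
  · exact chk_tree179
  · exact chk_tree180
  · exact chk_tree181
  · exact chk_tree182
  · exact chk_tree183
  · exact chk_tree184
  · exact chk_tree185
  · exact chk_tree186
  · exact chk_tree187
  · exact chk_tree188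
  · exact chk_tree189
  · exact chk_tree190
  · exact chk_tree191
  · exact chk_tree192
  · exact chk_tree193
  · exact chk_tree194
  · exact chk_tree195
  · exact chk_tree196
  · exact chk_tree197
  · exact chk_tree198
  · exact chk_tree199
  · exact chk_tree200
  · exact chk_tree201
  · exact chk_tree202
  · exact chk_tree203
  · exact chk_tree204
  · exact chk_tree205
  · exact chk_tree206
  · exact chk_tree207
  · exact chk_tree208
  · exact chk_tree209
  · exact chk_tree210
  · exact chk_tree211
  · exact chk_tree212
  · exact chk_tree213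
  · exact chk_tree214
  · exact chk_tree215
  · exact chk_tree216
  · exact chk_tree217
  · exact chk_tree218
  · exact chk_tree219
  · exact chk_tree220
  · exact chk_tree221
  · exact chk_tree222
  · exact chk_tree223
  · exact chk_tree224
  · exact chk_tree225
  · exact chk_tree226
  · exact chk_tree227
  · exact chk_tree228
  · exact chk_tree229
  · exact chk_tree230
  · exact chk_tree231
  · exact chk_tree232
  · exact chk_tree233
  · exact chk_tree234
  · exact chk_tree235
  · exact chk_tree236
  · exact chk_tree237
  · exact chk_tree238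
  · exact chk_tree239
  · exact chk_tree240
  · exact chk_tree241
  · exact chk_tree242
  · exact chk_tree243
  · exact chk_tree244
  · exact chk_tree245
  · exact chk_tree246
  · exact chk_tree247
  · exact chk_tree248
  · exact chk_tree249
  · exact chk_tree250
  · exact chk_tree251
  · exact chk_tree252
  · exact chk_tree253
  · exact chk_tree254
  · exact chk_tree255
  · exact chk_tree256
  · exact chk_tree257
  · exact chk_tree258
  · exact chk_tree259
  · exact chk_tree260
  · exact chk_tree261
  · exact chk_tree262
  · exact chk_tree263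
  · exact chk_tree264
  · exact chk_tree265
  · exact chk_tree266
  · exact chk_tree267
  · exact chk_tree268
  · exact chk_tree269
  · exact chk_tree270
  · exact chk_tree271
  · exact chk_tree272
  · exact chk_tree273
  · exact chk_tree274
  · exact chk_tree275
  · exact chk_tree276
  · exact chk_tree277
  · exact chk_tree278
  · exact chk_tree279
  · exact chk_tree280
  · exact chk_tree281
  · exact chk_tree282
  · exact chk_tree283
  · exact chk_tree284
  · exact chk_tree285
  · exact chk_tree286
  · exact chk_tree287
  · exact chk_tree288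
  · exact chk_tree289
  · exact chk_tree290
  · exact chk_tree291
  · exact chk_tree292
  · exact chk_tree293
  · exact chk_tree294
  · exact chk_tree295
  · exact chk_tree296
  · exact chk_tree297
  · exact chk_tree298
  · exact chk_tree299
  · exact chk_tree300
  · exact chk_tree301
  · exact chk_tree302
  · exact chk_tree303
  · exact chk_tree304
  · exact chk_tree305
  · exact chk_tree306
  · exact chk_tree307
  · exact chk_tree308
  · exact chk_tree309
  · exact chk_tree310
  · exact chk_tree311
  · exact chk_tree312
  · exact chk_tree313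
  · exact chk_tree314
  · exact chk_tree315
  · exact chk_tree316
  · exact chk_tree317
  · exact chk_tree318
  · exact chk_tree319
  · exact chk_tree320
  · exact chk_tree321
  · exact chk_tree322
  · exact chk_tree323
  · exact chk_tree324
  · exact chk_tree325
  · exact chk_tree326
  · exact chk_tree327
  · exact chk_tree328
  · exact chk_tree329
  · exact chk_tree330
  · exact chk_tree331
  · exact chk_tree332
  · exact chk_tree333
  · exact chk_tree334
  · exact chk_tree335
  · exact chk_tree336
  · exact chk_tree337
  · exact chk_tree338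
  · exact chk_tree339
  · exact chk_tree340
  · exact chk_tree341
  · exact chk_tree342
  · exact chk_tree343
  · exact chk_tree344
  · exact chk_tree345
  · exact chk_tree346
  · exact chk_tree347
  · exact chk_tree348
  · exact chk_tree349
  · exact chk_tree350
  · exact chk_tree351
  · exact chk_tree352
  · exact chk_tree353
  · exact chk_tree354
  · exact chk_tree355
  · exact chk_tree356
  · exact chk_tree357
  · exact chk_tree358
  · exact chk_tree359
  · exact chk_tree360
  · exact chk_tree361
  · exact chk_tree362
  · exact chk_tree363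
  · exact chk_tree364
  · exact chk_tree365
  · exact chk_tree366
  · exact chk_tree367
  · exact chk_tree368
  · exact chk_tree369
  · exact chk_tree370
  · exact chk_tree371
  · exact chk_tree372
  · exact chk_tree373
  · exact chk_tree374
  · exact chk_tree375
  · exact chk_tree376
  · exact chk_tree377
  · exact chk_tree378
  · exact chk_tree379
  · exact chk_tree380
  · exact chk_tree381
  · exact chk_tree382
  · exact chk_tree383
  · exact chk_tree384
  · exact chk_tree385
  · exact chk_tree386
  · exact chk_tree387
  · exact chk_tree388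
  · exact chk_tree389
  · exact chk_tree390
  · exact chk_tree391
  · exact chk_tree392
  · exact chk_tree393
  · exact chk_tree394
  · exact chk_tree395
  · exact chk_tree396
  · exact chk_tree397
  · exact chk_tree398
  · exact chk_tree399
  · exact chk_tree400
  · exact chk_tree401
  · exact chk_tree402
  · exact chk_tree403
  · exact chk_tree404
  · exact chk_tree405
  · exact chk_tree406
  · exact chk_tree407
  · exact chk_tree408
  · exact chk_tree409
  · exact chk_tree410
  · exact chk_tree411
  · exact chk_tree412
  · exact chk_tree413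
  · exact chk_tree414
  · exact chk_tree415
  · exact chk_tree416
  · exact chk_tree417
  · exact chk_tree418
  · exact chk_tree419
  · exact chk_tree420
  · exact chk_tree421
  · exact chk_tree422
  · exact chk_tree423
  · exact chk_tree424
  · exact chk_tree425
  · exact chk_tree426
  · exact chk_tree427
  · exact chk_tree428
  · exact chk_tree429
  · exact chk_tree430
  · exact chk_tree431
  · exact chk_tree432
  · exact chk_tree433
  · exact chk_tree434
  · exact chk_tree435
  · exact chk_tree436
  · exact chk_tree437
  · exact chk_tree438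
  · exact chk_tree439
  · exact chk_tree440
  · exact chk_tree441
  · exact chk_tree442
  · exact chk_tree443
  · exact chk_tree444
  · exact chk_tree445
  · exact chk_tree446
  · exact chk_tree447
  · exact chk_tree448
  · exact chk_tree449
  · exact chk_tree450
  · exact chk_tree451
  · exact chk_tree452
  · exact chk_tree453
  · exact chk_tree454
  · exact chk_tree455
  · exact chk_tree456
  · exact chk_tree457
  · exact chk_tree458
  · exact chk_tree459
  · exact chk_tree460
  · exact chk_tree461
  · exact chk_tree462
  · exact chk_tree463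
  · exact chk_tree464
  · exact chk_tree465
  · exact chk_tree466
  · exact chk_tree467
  · exact chk_tree468
  · exact chk_tree469
  · exact chk_tree470
  · exact chk_tree471
  · exact chk_tree472
  · exact chk_tree473
  · exact chk_tree474
  · exact chk_tree475
  · exact chk_tree476
  · exact chk_tree477
  · exact chk_tree478
  · exact chk_tree479
  · exact chk_tree480
  · exact chk_tree481
  · exact chk_tree482
  · exact chk_tree483
  · exact chk_tree484
  · exact chk_tree485
  · exact chk_tree486
  · exact chk_tree487
  · exact chk_tree488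
  · exact chk_tree489
  · exact chk_tree490
  · exact chk_tree491
  · exact chk_tree492
  · exact chk_tree493
  · exact chk_tree494
  · exact chk_tree495
  · exact chk_tree496
  · exact chk_tree497
  · exact chk_tree498
  · exact chk_tree499
  · exact chk_tree500
  · exact chk_tree501
  · exact chk_tree502
  · exact chk_tree503
  · exact chk_tree504
  · exact chk_tree505
  · exact chk_tree506
  · exact chk_tree507
  · exact chk_tree508
  · exact chk_tree509
  · exact chk_tree510
  · exact chk_tree511
  · exact chk_tree512
  · exact chk_tree513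
  · exact chk_tree514
  · exact chk_tree515
  · exact chk_tree516
  · exact chk_tree517
  · exact chk_tree518
  · exact chk_tree519
  · exact chk_tree520
  · exact chk_tree521
  · exact chk_tree522
  · exact chk_tree523
  · exact chk_tree524
  · exact chk_tree525
  · exact chk_tree526
  · exact chk_tree527
  · exact chk_tree528
  · exact chk_tree529
  · exact chk_tree530
  · exact chk_tree531
  · exact chk_tree532
  · exact chk_tree533
  · exact chk_tree534
  · exact chk_tree535
  · exact chk_tree536
  · exact chk_tree537
  · exact chk_tree538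
  · exact chk_tree539
  · exact chk_tree540
  · exact chk_tree541
  · exact chk_tree542
  · exact chk_tree543
  · exact chk_tree544
  · exact chk_tree545
  · exact chk_tree546
  · exact chk_tree547
  · exact chk_tree548
  · exact chk_tree549
  · exact chk_tree550
  · exact chk_tree551
  · exact chk_tree552
  · exact chk_tree553
  · exact chk_tree554
  · exact chk_tree555
  · exact chk_tree556
  · exact chk_tree557
  · exact chk_tree558
  · exact chk_tree559
  · exact chk_tree560
  · exact chk_tree561
  · exact chk_tree562
  · exact chk_tree563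
  · exact chk_tree564
  · exact chk_tree565
  · exact chk_tree566
  · exact chk_tree567
  · exact chk_tree568
  · exact chk_tree569
  · exact chk_tree570
  · exact chk_tree571
  · exact chk_tree572
  · exact chk_tree573
  · exact chk_tree574
  · exact chk_tree575
  · exact chk_tree576
  · exact chk_tree577
  · exact chk_tree578
  · exact chk_tree579
  · exact chk_tree580
  · exact chk_tree581
  · exact chk_tree582
  · exact chk_tree583
  · exact chk_tree584
  · exact chk_tree585
  · exact chk_tree586
  · exact chk_tree587
  · exact chk_tree588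
  · exact chk_tree589
  · exact chk_tree590
  · exact chk_tree591
  · exact chk_tree592
  · exact chk_tree593
  · exact chk_tree594
  · exact chk_tree595
  · exact chk_tree596
  · exact chk_tree597
  · exact chk_tree598
  · exact chk_tree599
  · exact chk_tree600
  · exact chk_tree601
  · exact chk_tree602
  · exact chk_tree603
  · exact chk_tree604
  · exact chk_tree605
  · exact chk_tree606
  · exact chk_tree607
  · exact chk_tree608
  · exact chk_tree609
  · exact chk_tree610
  · exact chk_tree611
  · exact chk_tree612
  · exact chk_tree613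
  · exact chk_tree614
  · exact chk_tree615
  · exact chk_tree616
  · exact chk_tree617
  · exact chk_tree618
  · exact chk_tree619
  · exact chk_tree620
  · exact chk_tree621
  · exact chk_tree622
  · exact chk_tree623
  · exact chk_tree624
  · exact chk_tree625
  · exact chk_tree626
  · exact chk_tree627
  · exact chk_tree628
  · exact chk_tree629
  · exact chk_tree630
  · exact chk_tree631
  · exact chk_tree632
  · exact chk_tree633
  · exact chk_tree634
  · exact chk_tree635
  · exact chk_tree636
  · exact chk_tree637
  · exact chk_tree638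
  · exact chk_tree639
  · exact chk_tree640
  · exact chk_tree641
  · exact chk_tree642
  · exact chk_tree643
  · exact chk_tree644
  · exact chk_tree645
  · exact chk_tree646
  · exact chk_tree647
  · exact chk_tree648
  · exact chk_tree649
  · exact chk_tree650
  · exact chk_tree651
  · exact chk_tree652
  · exact chk_tree653
  · exact chk_tree654
  · exact chk_tree655
  · exact chk_tree656
  · exact chk_tree657
  · exact chk_tree658
  · exact chk_tree659
  · exact chk_tree660
  · exact chk_tree661
  · exact chk_tree662
  · exact chk_tree663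
  · exact chk_tree664
  · exact chk_tree665
  · exact chk_tree666
  · exact chk_tree667
  · exact chk_tree668
  · exact chk_tree669
  · exact chk_tree670
  · exact chk_tree671
  · exact chk_tree672
  · exact chk_tree673
  · exact chk_tree674
  · exact chk_tree675
  · exact chk_tree676
  · exact chk_tree677
  · exact chk_tree678
  · exact chk_tree679
  · exact chk_tree680
  · exact chk_tree681
  · exact chk_tree682
  · exact chk_tree683
  · exact chk_tree684
  · exact chk_tree685
  · exact chk_tree686
  · exact chk_tree687
  · exact chk_tree688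
  · exact chk_tree689
  · exact chk_tree690
  · exact chk_tree691
  · exact chk_tree692
  · exact chk_tree693
  · exact chk_tree694
  · exact chk_tree695
  · exact chk_tree696
  · exact chk_tree697
  · exact chk_tree698
  · exact chk_tree699
  · exact chk_tree700
  · exact chk_tree701
  · exact chk_tree702
  · exact chk_tree703
  · exact chk_tree704
  · exact chk_tree705
  · exact chk_tree706
  · exact chk_tree707
  · exact chk_tree708
  · exact chk_tree709
  · exact chk_tree710
  · exact chk_tree711
  · exact chk_tree712
  · exact chk_tree713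
  · exact chk_tree714
  · exact chk_tree715
  · exact chk_tree716
  · exact chk_tree717
  · exact chk_tree718
  · exact chk_tree719
  · exact chk_tree720
  · exact chk_tree721
  · exact chk_tree722
  · exact chk_tree723
  · exact chk_tree724
  · exact chk_tree725
  · exact chk_tree726
  · exact chk_tree727
  · exact chk_tree728
  · exact chk_tree729
  · exact chk_tree730
  · exact chk_tree731
  · exact chk_tree732
  · exact chk_tree733
  · exact chk_tree734
  · exact chk_tree735
  · exact chk_tree736
  · exact chk_tree737
  · exact chk_tree738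
  · exact chk_tree739
  · exact chk_tree740
  · exact chk_tree741
  · exact chk_tree742
  · exact chk_tree743
  · exact chk_tree744
  · exact chk_tree745
  · exact chk_tree746
  · exact chk_tree747
  · exact chk_tree748
  · exact chk_tree749
  · exact chk_tree750
  · exact chk_tree751
  · exact chk_tree752
  · exact chk_tree753
  · exact chk_tree754
  · exact chk_tree755
  · exact chk_tree756
  · exact chk_tree757
  · exact chk_tree758
  · exact chk_tree759
  · exact chk_tree760
  · exact chk_tree761
  · exact chk_tree762
  · exact chk_tree763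
  · exact chk_tree764
  · exact chk_tree765
  · exact chk_tree766
  · exact chk_tree767
  · exact chk_tree768
  · exact chk_tree769

theorem chk_pows : tab.minsOK extraPow = true := by
  simp only [extraPow, Tab.minsOK_cons, Tab.minsOK_nil, Bool.and_eq_true, and_true]
  exact ⟨chk_pow0, chk_pow1, chk_pow2, chk_pow3, chk_pow4, chk_pow5, chk_pow6, chk_pow7, chk_pow8, chk_pow9, chk_pow10, chk_pow11, chk_pow12, chk_pow13⟩

theorem chk_sub : Cfsg.Agent.Lib.Helper6.TCG.subOK cfg tab subW = true := by decide +kernel

end Cfsg.Agent.Lib.Lead.HNP.HNTC
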