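import Cfsg.Agent.Lib.Lead.HNP.HNTCData
import Cfsg.Agent.Lib.Helper6.TCGInst
import Cfsg.Agent.Lib.Lead.HNP.DefsH

/-! # HNTC: the words of the enumeration are the relators of the presentation -/

set_option autoImplicit false
set_option maxRecDepth 1000000
set_option maxHeartbeats 40000000
set_option linter.unusedSimpArgs false

namespace Cfsg.Agent.Lib.Lead.HNP.HNTC

open Cfsg.Agent.Lib.Helper6.TC Cfsg.Agent.Lib.Helper6.TCG Cfsg.Spor Cfsg.Agent.Lib.Lead.HNP

/-- where the words of the presentation come from -/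
def srcs0 : List ℕ := [0, 512, 1024, 1536, 2048, 2560, 3072, 3584, 4096, 4608, 5120, 5632, 6144, 6656]

theorem chk_words : wordsSrcOK cfg0 ivs
    (relWords ([] : List (HN.Gen × ℕ × HN.Gen)) genH 0 extraPow) nw0 srcs0 = true := by
  decide +kernel

theorem chk_words_all : wordsSrcOK cfg ivs
    (relWords ([] : List (HN.Gen × ℕ × HN.Gen)) genH 0 extraPow ++ derivedW) nw srcs = true := by
  decide +kernel

theorem extra_iff {K : Type} [Group K] (f : HN.Gen → K)
    (_hf : ∀ a ∈ coxNodes ([] : List (HN.Gen × ℕ × HN.Gen)), f a * f a = 1) :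
    (∀ r ∈ HN.extra, FreeGroup.lift f r = 1) ↔
      ∀ p ∈ extraPow, (((List.replicate p.2 p.1).flatten).map
        (fun x => FreeGroup.lift f (lt genH sgnH x))).prod = 1 := by
  simp only [HN.extra, extraPow, List.forall_mem_cons, List.not_mem_nil, false_imp_iff,
    implies_true, and_true, IsEmpty.forall_iff]
  simp only [HN.x, HN.y, HN.z, HN.t, map_mul, map_inv, map_pow,
    FreeGroup.lift_apply_of, List.map_cons, List.map_nil, List.prod_cons, List.prod_nil, genH, sgnH, lt,
    List.replicate, List.flatten_cons, List.flatten_nil, List.cons_append, List.nil_append, List.append_nil,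
    cond_true, cond_false,
    mul_inv_rev, inv_pow, inv_inv, pow_succ, pow_zero, one_mul, mul_one, mul_assoc]

theorem hS (s : FreeGroup HN.Gen) : s ∈ SH ↔ ∃ w ∈ subW, s = fgWord genH sgnH w := by
  simp only [SH, subW, fgWord, lt, Set.mem_insert_iff, Set.mem_singleton_iff, List.mem_cons,
    List.not_mem_nil, or_false, exists_eq_or_imp, exists_eq_left, List.map_cons, List.map_nil,
    List.prod_cons, List.prod_nil, mul_one, genH, sgnH, cond_false, cond_true, HN.x, HN.y, HN.z, HN.t, Set.mem_empty_iff_false, false_and, exists_false]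

end Cfsg.Agent.Lib.Lead.HNP.HNTC
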