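import Cfsg.Agent.Lib.Helper6.TCGInst

/-! # Coset enumerations with derived relators

A checked coset enumeration whose words are the relators of a presentation together with further words that are
trivial in the presented group is as good as one with the relators of the presentation only. -/

set_option autoImplicit false

namespace Cfsg.Agent.Lib.Lead.HNP

open Cfsg.Agent.Lib.Helper6.TC Cfsg.Agent.Lib.Helper6.TCG Cfsg.Agent.Lib.Helper6.TCGS
  Cfsg.Agent.Lib.Helper6.NatArr Cfsg.Spor

section

variable {α : Type} [DecidableEq α]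

/-- the words of `c0` are the first words of `c`, and they are the given relator words -/
def weakOK (c c0 : Cfg) (relW : List (List ℕ)) : Bool :=
  Nat.beq c0.g c.g && (Nat.beq c0.nsub c.nsub &&
  ((allBelow c0.nsub fun k => Nat.beq (wordAt c0 k) (wordAt c k)) &&
   (allBelow relW.length fun j => unpack (wordAt c0 (Nat.add c0.nsub j)) == relW.getD j [])))

/-- the relators of a presentation without a graph -/
abbrev plainRels (extra : List (FreeGroup α)) : Set (FreeGroup α) :=
  coxRelators ([] : List (α × ℕ × α)) ∪ {r | r ∈ extra}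

/-- the homomorphism from a presented group without a graph given by images of the generators -/
def plainLift {extra : List (FreeGroup α)} {K : Type*} [Group K] (f : α → K)
    (hf : ∀ r ∈ extra, FreeGroup.lift f r = 1) :
    CoxPresented α ([] : List (α × ℕ × α)) extra →* K :=
  PresentedGroup.toGroup (f := f) (by
    intro r hr
    rcases hr with ⟨x, hx, _⟩ | hr
    · simp [coxNodes] at hx
    · exact hf r hr)

theorem plainLift_mk {extra : List (FreeGroup α)} {K : Type*} [Group K] (f : α → K)
    (hf : ∀ r ∈ extra, FreeGroup.lift f r = 1) (r : FreeGroup α) :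
    plainLift f hf (PresentedGroup.mk _ r) = FreeGroup.lift f r := by
  have : (plainLift f hf).comp (PresentedGroup.mk _) = FreeGroup.lift f := by
    apply FreeGroup.ext_hom
    intro a
    rw [MonoidHom.comp_apply, FreeGroup.lift_apply_of]
    exact PresentedGroup.toGroup.of _
  rw [← this]
  rfl

/-- **weakening**: if the further words `derivedW` of the configuration `c` are trivial in the presented group, the
enumeration is one for the configuration `c0` of the words of the presentation alone -/
theorem runCertG_weaken {extra : List (FreeGroup α)} (gen : ℕ → α) (sgn : ℕ → Bool) (code : α → ℕ)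
    {c c0 : Cfg} {ivs n : ℕ} (extraPow : List (List ℕ × ℕ)) (derivedW : List (List ℕ)) {nw : ℕ}
    {srcs : List ℕ} (hrun : RunCertG c ivs n)
    (hweak : weakOK c c0 (relWords ([] : List (α × ℕ × α)) gen 0 extraPow) = true)
    (chk : wordsSrcOK c ivs (relWords ([] : List (α × ℕ × α)) gen 0 extraPow ++ derivedW) nw srcs = true)
    (hletter : ∀ x, x < c.g → gen (ivN ivs x) = gen x ∧
      (sgn x = true → sgn (ivN ivs x) = false ∧ code (gen x) = ivN ivs x) ∧
      (sgn x = false → code (gen x) = x))
    (hextra : ∀ {K : Type} [Group K] (f : α → K),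
      ((∀ r ∈ extra, FreeGroup.lift f r = 1) ↔
        ∀ p ∈ extraPow, (((List.replicate p.2 p.1).flatten).map
          (fun x => FreeGroup.lift f (lt gen sgn x))).prod = 1))
    (hder : ∀ w ∈ derivedW, (w.map (fun x =>
      (PresentedGroup.mk (plainRels extra) (lt gen sgn x)))).prod = 1) :
    RunCertG c0 ivs n := by
  intro G _ γ' H hinv hW0 hgen
  simp only [weakOK, Bool.and_eq_true] at hweak
  obtain ⟨hg, hns, hsubw, hrelw⟩ := hweak
  have hg : c0.g = c.g := Nat.eq_of_beq_eq_true hg
  have hns : c0.nsub = c.nsub := Nat.eq_of_beq_eq_true hns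
  have hinv' : ∀ x, x < c.g → ivN ivs x < c.g ∧ γ' (ivN ivs x) = (γ' x)⁻¹ := by
    intro x hx
    have := hinv x (by rw [hg]; exact hx)
    rwa [hg] at this
  set relW := relWords ([] : List (α × ℕ × α)) gen 0 extraPow with hrelW
  have chk' := chk
  simp only [Cfsg.Agent.Lib.Helper6.TCG.wordsSrcOK, Bool.and_eq_true] at chk'
  obtain ⟨_, _, h3, _, _⟩ := chk'
  have hlet : ∀ w ∈ relW ++ derivedW, ∀ x ∈ w, x < c.g := by
    intro w hw x hx
    have := List.all_eq_true.1 (List.all_eq_true.1 h3 w hw) x hx
    rwa [Nat.blt_eq] at this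
  -- the relators of the presentation hold
  have hrelG : ∀ w ∈ relW, (w.map γ').prod = 1 := by
    intro w hw
    obtain ⟨j, hj, rfl⟩ := List.mem_iff_getElem.1 hw
    have h1 := eq_of_beq (allBelow_spec _ _ hrelw j hj)
    rw [List.getD_eq_getElem _ _ hj] at h1
    rw [← h1, ← ev_unpack]
    exact hW0.rel _ (Nat.le_add_right _ _)
  -- the images of the generators
  let f : α → G := fun a => γ' (code a)
  have hfl : ∀ x, x < c.g → FreeGroup.lift f (lt gen sgn x) = γ' x := by
    intro x hx
    obtain ⟨h1, h2, h3⟩ := hletter x hx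
    unfold lt
    cases hs : sgn x
    · rw [cond_false, FreeGroup.lift_apply_of]
      show γ' (code (gen x)) = γ' x
      rw [h3 hs]
    · rw [cond_true, map_inv, FreeGroup.lift_apply_of]
      show (γ' (code (gen x)))⁻¹ = γ' x
      rw [(h2 hs).2, (hinv' x hx).2, inv_inv]
  have hmapf : ∀ w : List ℕ, (∀ x ∈ w, x < c.g) →
      (w.map (fun x => FreeGroup.lift f (lt gen sgn x))).prod = (w.map γ').prod := by
    intro w hw
    congr 1
    apply List.map_congr_left
    intro x hx
    exact hfl x (hw x hx)
  have hf : ∀ r ∈ extra, FreeGroup.lift f r = 1 := by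
    refine (hextra f).2 ?_
    intro p hp
    have hm : (List.replicate p.2 p.1).flatten ∈ relW := by
      rw [hrelW]
      unfold relWords
      exact List.mem_append_right _ (List.mem_map.2 ⟨p, hp, rfl⟩)
    rw [hmapf _ (hlet _ (List.mem_append_left _ hm))]
    exact hrelG _ hm
  have hderG : ∀ w ∈ derivedW, (w.map γ').prod = 1 := by
    intro w hw
    have h1 := congrArg (plainLift f hf) (hder w hw)
    rw [map_one, map_list_prod, List.map_map] at h1
    rw [← hmapf _ (hlet _ (List.mem_append_right _ hw)), ← h1]
    exact congrArg List.prod (List.map_congr_left fun x _ => (plainLift_mk f hf _).symm)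
  have hWc : WordsOK c γ' H := by
    refine wordsOK_of_src hinv' chk ?_ ?_
    · intro w hw
      rcases List.mem_append.1 hw with hw | hw
      · exact hrelG w hw
      · exact hderG w hw
    · intro k hk
      have hk0 : k < c0.nsub := by rw [hns]; exact hk
      have h1 := Nat.eq_of_beq_eq_true (allBelow_spec _ _ hsubw k hk0)
      rw [← h1, ← ev_unpack]
      exact hW0.sub k hk0
  refine hrun γ' H hinv' hWc ?_
  intro z
  obtain ⟨u, hu, e⟩ := hgen z
  exact ⟨u, fun x hx => by rw [← hg]; exact hu x hx, e⟩

end

end Cfsg.Agent.Lib.Lead.HNP
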