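import Cfsg.Agent.Lib.Lead.HNP.PVSCert

/-! # PV: the kernel check of the rows from 19200 on -/

set_option autoImplicit false

namespace Cfsg.Agent.Lib.Lead.HNP.PV

open Cfsg.Agent.Lib.Helper6.TC Cfsg.Agent.Lib.Helper6.TCGS

theorem chk_rows1_0 : cert.rowsOK 19200 800 = true := by decide +kernel

theorem chk_rows1_1 : cert.rowsOK 20000 800 = true := by decide +kernel

theorem chk_rows1_2 : cert.rowsOK 20800 800 = true := by decide +kernel

theorem chk_rows1_3 : cert.rowsOK 21600 800 = true := by decide +kernel

theorem chk_rows1_4 : cert.rowsOK 22400 800 = true := by decide +kernel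

theorem chk_rows1_5 : cert.rowsOK 23200 800 = true := by decide +kernel

theorem chk_rows1_6 : cert.rowsOK 24000 800 = true := by decide +kernel

theorem chk_rows1_7 : cert.rowsOK 24800 800 = true := by decide +kernel

theorem chk_rows1_8 : cert.rowsOK 25600 800 = true := by decide +kernel

theorem chk_rows1_9 : cert.rowsOK 26400 800 = true := by decide +kernel

theorem chk_rows1_10 : cert.rowsOK 27200 800 = true := by decide +kernel

theorem chk_rows1_11 : cert.rowsOK 28000 800 = true := by decide +kernel

theorem chk_rows1_12 : cert.rowsOK 28800 800 = true := by decide +kernel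

theorem chk_rows1_13 : cert.rowsOK 29600 800 = true := by decide +kernel

theorem chk_rows1_14 : cert.rowsOK 30400 800 = true := by decide +kernel

theorem chk_rows1_15 : cert.rowsOK 31200 800 = true := by decide +kernel

theorem chk_rows1_16 : cert.rowsOK 32000 800 = true := by decide +kernel

theorem chk_rows1_17 : cert.rowsOK 32800 800 = true := by decide +kernel

theorem chk_rows1_18 : cert.rowsOK 33600 800 = true := by decide +kernel

theorem chk_rows1_19 : cert.rowsOK 34400 800 = true := by decide +kernel

theorem chk_rows1_20 : cert.rowsOK 35200 800 = true := by decide +kernel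

theorem chk_rows1_21 : cert.rowsOK 36000 800 = true := by decide +kernel

theorem chk_rows1_22 : cert.rowsOK 36800 800 = true := by decide +kernel

theorem chk_rows1_23 : cert.rowsOK 37600 800 = true := by decide +kernel

theorem chk_range1 : ∀ a, 19200 ≤ a → a < 38400 → ∀ x < cert.c.g, cert.slotOK a x = true := by
  refine cert.range_of_chunks 19200 800 24 (by norm_num) ?_
  intro k hk
  interval_cases k
  · exact chk_rows1_0
  · exact chk_rows1_1
  · exact chk_rows1_2
  · exact chk_rows1_3
  · exact chk_rows1_4
  · exact chk_rows1_5
  · exact chk_rows1_6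
  · exact chk_rows1_7
  · exact chk_rows1_8
  · exact chk_rows1_9
  · exact chk_rows1_10
  · exact chk_rows1_11
  · exact chk_rows1_12
  · exact chk_rows1_13
  · exact chk_rows1_14
  · exact chk_rows1_15
  · exact chk_rows1_16
  · exact chk_rows1_17
  · exact chk_rows1_18
  · exact chk_rows1_19
  · exact chk_rows1_20
  · exact chk_rows1_21
  · exact chk_rows1_22
  · exact chk_rows1_23

end Cfsg.Agent.Lib.Lead.HNP.PV
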