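import Cfsg.Agent.Lib.Lead.HNP.PVSCert
import Cfsg.Agent.Lib.Helper6.TCGIndex
import Cfsg.Agent.Lib.Lead.HNP.PVSRows5

/-! # PV: the kernel check that the first rows are closed, part 1 -/

set_option autoImplicit false

namespace Cfsg.Agent.Lib.Lead.HNP.PV

open Cfsg.Agent.Lib.Helper6.TC Cfsg.Agent.Lib.Helper6.TCGS

theorem chk_fin9 : cert.finalOKc 44352 18000 2000 = true := by decide +kernel

theorem chk_fin10 : cert.finalOKc 44352 20000 2000 = true := by decide +kernel

theorem chk_fin11 : cert.finalOKc 44352 22000 2000 = true := by decide +kernel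

theorem chk_fin12 : cert.finalOKc 44352 24000 2000 = true := by decide +kernel

theorem chk_fin13 : cert.finalOKc 44352 26000 2000 = true := by decide +kernel

theorem chk_fin14 : cert.finalOKc 44352 28000 2000 = true := by decide +kernel

theorem chk_fin15 : cert.finalOKc 44352 30000 2000 = true := by decide +kernel

theorem chk_fin16 : cert.finalOKc 44352 32000 2000 = true := by decide +kernel

theorem chk_fin17 : cert.finalOKc 44352 34000 2000 = true := by decide +kernel


end Cfsg.Agent.Lib.Lead.HNP.PV
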