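import Cfsg.Agent.Lib.Lead.HNP.PVData
import Cfsg.Agent.Lib.Helper6.TCRel3
import Cfsg.Agent.Lib.Lead.HNP.PVSFin1

/-! # PV: the kernel check of a part of the relators on the coset table -/

set_option autoImplicit false

namespace Cfsg.Agent.Lib.Lead.HNP.PV

open Cfsg.Agent.Lib.Helper6.TC

theorem chk_pow0_0_0 : tab.minOKc [2] 6 0 32000 = true := by decide +kernel

theorem chk_pow0_0_1 : tab.minOKc [2] 6 32000 32000 = true := by decide +kernel

theorem chk_pow0_0_2 : tab.minOKc [2] 6 64000 32000 = true := by decide +kernel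

theorem chk_pow0_0_3 : tab.minOKc [2] 6 96000 32000 = true := by decide +kernel

theorem chk_pow0_0_4 : tab.minOKc [2] 6 128000 32000 = true := by decide +kernel

theorem chk_pow0_0_5 : tab.minOKc [2] 6 160000 32000 = true := by decide +kernel

theorem chk_pow0_0_6 : tab.minOKc [2] 6 192000 32000 = true := by decide +kernel

theorem chk_pow0_0_7 : tab.minOKc [2] 6 224000 32000 = true := by decide +kernel

theorem chk_pow0_0_8 : tab.minOKc [2] 6 256000 32000 = true := by decide +kernel

theorem chk_pow0_0_9 : tab.minOKc [2] 6 288000 32000 = true := by decide +kernel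

theorem chk_pow0_0_10 : tab.minOKc [2] 6 320000 32000 = true := by decide +kernel

theorem chk_pow0_0_11 : tab.minOKc [2] 6 352000 32000 = true := by decide +kernel

theorem chk_pow0_0_12 : tab.minOKc [2] 6 384000 32000 = true := by decide +kernel

theorem chk_pow0_0_13 : tab.minOKc [2] 6 416000 32000 = true := by decide +kernel

theorem chk_pow0_0_14 : tab.minOKc [2] 6 448000 32000 = true := by decide +kernel

theorem chk_pow0_0 : tab.minOKc [2] 6 0 480000 = true := by
  refine tab.minOKc_of_chunks [2] 6 0 32000 15 (by norm_num) ?_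
  intro i hi
  interval_cases i
  · exact chk_pow0_0_0
  · exact chk_pow0_0_1
  · exact chk_pow0_0_2
  · exact chk_pow0_0_3
  · exact chk_pow0_0_4
  · exact chk_pow0_0_5
  · exact chk_pow0_0_6
  · exact chk_pow0_0_7
  · exact chk_pow0_0_8
  · exact chk_pow0_0_9
  · exact chk_pow0_0_10
  · exact chk_pow0_0_11
  · exact chk_pow0_0_12
  · exact chk_pow0_0_13
  · exact chk_pow0_0_14

theorem chk_pow1_0_0 : tab.minOKc [0, 0, 2, 0, 0, 3] 1 0 5333 = true := by decide +kernel

theorem chk_pow1_0_1 : tab.minOKc [0, 0, 2, 0, 0, 3] 1 5333 5333 = true := by decide +kernel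

theorem chk_pow1_0_2 : tab.minOKc [0, 0, 2, 0, 0, 3] 1 10666 5333 = true := by decide +kernel

theorem chk_pow1_0_3 : tab.minOKc [0, 0, 2, 0, 0, 3] 1 15999 5333 = true := by decide +kernel

theorem chk_pow1_0_4 : tab.minOKc [0, 0, 2, 0, 0, 3] 1 21332 5333 = true := by decide +kernel

theorem chk_pow1_0_5 : tab.minOKc [0, 0, 2, 0, 0, 3] 1 26665 5333 = true := by decide +kernel

theorem chk_pow1_0_6 : tab.minOKc [0, 0, 2, 0, 0, 3] 1 31998 5333 = true := by decide +kernel

theorem chk_pow1_0_7 : tab.minOKc [0, 0, 2, 0, 0, 3] 1 37331 5333 = true := by decide +kernel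

theorem chk_pow1_0_8 : tab.minOKc [0, 0, 2, 0, 0, 3] 1 42664 5333 = true := by decide +kernel

theorem chk_pow1_0_9 : tab.minOKc [0, 0, 2, 0, 0, 3] 1 47997 5333 = true := by decide +kernel

theorem chk_pow1_0_10 : tab.minOKc [0, 0, 2, 0, 0, 3] 1 53330 5333 = true := by decide +kernel

theorem chk_pow1_0_11 : tab.minOKc [0, 0, 2, 0, 0, 3] 1 58663 5333 = true := by decide +kernel

theorem chk_pow1_0_12 : tab.minOKc [0, 0, 2, 0, 0, 3] 1 63996 5333 = true := by decide +kernel

theorem chk_pow1_0_13 : tab.minOKc [0, 0, 2, 0, 0, 3] 1 69329 5333 = true := by decide +kernel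

theorem chk_pow1_0_14 : tab.minOKc [0, 0, 2, 0, 0, 3] 1 74662 5333 = true := by decide +kernel

theorem chk_pow1_0 : tab.minOKc [0, 0, 2, 0, 0, 3] 1 0 79995 = true := by
  refine tab.minOKc_of_chunks [0, 0, 2, 0, 0, 3] 1 0 5333 15 (by norm_num) ?_
  intro i hi
  interval_cases i
  · exact chk_pow1_0_0
  · exact chk_pow1_0_1
  · exact chk_pow1_0_2
  · exact chk_pow1_0_3
  · exact chk_pow1_0_4
  · exact chk_pow1_0_5
  · exact chk_pow1_0_6
  · exact chk_pow1_0_7
  · exact chk_pow1_0_8
  · exact chk_pow1_0_9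
  · exact chk_pow1_0_10
  · exact chk_pow1_0_11
  · exact chk_pow1_0_12
  · exact chk_pow1_0_13
  · exact chk_pow1_0_14


end Cfsg.Agent.Lib.Lead.HNP.PV
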