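import Cfsg.Agent.Lib.Lead.HNP.PVSCert
import Cfsg.Agent.Lib.Lead.HNP.PVSRows2

/-! # PV: the kernel check of the rows from 115200 on -/

set_option autoImplicit false

namespace Cfsg.Agent.Lib.Lead.HNP.PV

open Cfsg.Agent.Lib.Helper6.TC Cfsg.Agent.Lib.Helper6.TCGS

theorem chk_rows6_0 : cert.rowsOK 115200 800 = true := by decide +kernel

theorem chk_rows6_1 : cert.rowsOK 116000 800 = true := by decide +kernel

theorem chk_rows6_2 : cert.rowsOK 116800 800 = true := by decide +kernel

theorem chk_rows6_3 : cert.rowsOK 117600 800 = true := by decide +kernel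

theorem chk_rows6_4 : cert.rowsOK 118400 800 = true := by decide +kernel

theorem chk_rows6_5 : cert.rowsOK 119200 800 = true := by decide +kernel

theorem chk_rows6_6 : cert.rowsOK 120000 800 = true := by decide +kernel

theorem chk_rows6_7 : cert.rowsOK 120800 800 = true := by decide +kernel

theorem chk_rows6_8 : cert.rowsOK 121600 800 = true := by decide +kernel

theorem chk_rows6_9 : cert.rowsOK 122400 800 = true := by decide +kernel

theorem chk_rows6_10 : cert.rowsOK 123200 800 = true := by decide +kernel

theorem chk_rows6_11 : cert.rowsOK 124000 800 = true := by decide +kernel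

theorem chk_rows6_12 : cert.rowsOK 124800 800 = true := by decide +kernel

theorem chk_rows6_13 : cert.rowsOK 125600 800 = true := by decide +kernel

theorem chk_rows6_14 : cert.rowsOK 126400 800 = true := by decide +kernel

theorem chk_rows6_15 : cert.rowsOK 127200 800 = true := by decide +kernel

theorem chk_rows6_16 : cert.rowsOK 128000 800 = true := by decide +kernel

theorem chk_rows6_17 : cert.rowsOK 128800 800 = true := by decide +kernel

theorem chk_rows6_18 : cert.rowsOK 129600 800 = true := by decide +kernel

theorem chk_rows6_19 : cert.rowsOK 130400 800 = true := by decide +kernel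

theorem chk_rows6_20 : cert.rowsOK 131200 800 = true := by decide +kernel

theorem chk_rows6_21 : cert.rowsOK 132000 800 = true := by decide +kernel

theorem chk_rows6_22 : cert.rowsOK 132800 800 = true := by decide +kernel

theorem chk_rows6_23 : cert.rowsOK 133600 800 = true := by decide +kernel

theorem chk_range6 : ∀ a, 115200 ≤ a → a < 134400 → ∀ x < cert.c.g, cert.slotOK a x = true := by
  refine cert.range_of_chunks 115200 800 24 (by norm_num) ?_
  intro k hk
  interval_cases k
  · exact chk_rows6_0
  · exact chk_rows6_1
  · exact chk_rows6_2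
  · exact chk_rows6_3
  · exact chk_rows6_4
  · exact chk_rows6_5
  · exact chk_rows6_6
  · exact chk_rows6_7
  · exact chk_rows6_8
  · exact chk_rows6_9
  · exact chk_rows6_10
  · exact chk_rows6_11
  · exact chk_rows6_12
  · exact chk_rows6_13
  · exact chk_rows6_14
  · exact chk_rows6_15
  · exact chk_rows6_16
  · exact chk_rows6_17
  · exact chk_rows6_18
  · exact chk_rows6_19
  · exact chk_rows6_20
  · exact chk_rows6_21
  · exact chk_rows6_22
  · exact chk_rows6_23

end Cfsg.Agent.Lib.Lead.HNP.PV
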