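import Cfsg.Agent.Lib.Lead.HNP.PVSCert
import Cfsg.Agent.Lib.Lead.HNP.PVSRows3

/-! # PV: the kernel check of the rows from 134400 on -/

set_option autoImplicit false

namespace Cfsg.Agent.Lib.Lead.HNP.PV

open Cfsg.Agent.Lib.Helper6.TC Cfsg.Agent.Lib.Helper6.TCGS

theorem chk_rows7_0 : cert.rowsOK 134400 800 = true := by decide +kernel

theorem chk_rows7_1 : cert.rowsOK 135200 800 = true := by decide +kernel

theorem chk_rows7_2 : cert.rowsOK 136000 800 = true := by decide +kernel

theorem chk_rows7_3 : cert.rowsOK 136800 800 = true := by decide +kernel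

theorem chk_rows7_4 : cert.rowsOK 137600 800 = true := by decide +kernel

theorem chk_rows7_5 : cert.rowsOK 138400 800 = true := by decide +kernel

theorem chk_rows7_6 : cert.rowsOK 139200 800 = true := by decide +kernel

theorem chk_rows7_7 : cert.rowsOK 140000 800 = true := by decide +kernel

theorem chk_rows7_8 : cert.rowsOK 140800 800 = true := by decide +kernel

theorem chk_rows7_9 : cert.rowsOK 141600 800 = true := by decide +kernel

theorem chk_rows7_10 : cert.rowsOK 142400 800 = true := by decide +kernel

theorem chk_rows7_11 : cert.rowsOK 143200 800 = true := by decide +kernel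

theorem chk_rows7_12 : cert.rowsOK 144000 800 = true := by decide +kernel

theorem chk_rows7_13 : cert.rowsOK 144800 800 = true := by decide +kernel

theorem chk_rows7_14 : cert.rowsOK 145600 800 = true := by decide +kernel

theorem chk_rows7_15 : cert.rowsOK 146400 800 = true := by decide +kernel

theorem chk_rows7_16 : cert.rowsOK 147200 800 = true := by decide +kernel

theorem chk_rows7_17 : cert.rowsOK 148000 800 = true := by decide +kernel

theorem chk_rows7_18 : cert.rowsOK 148800 800 = true := by decide +kernel

theorem chk_rows7_19 : cert.rowsOK 149600 800 = true := by decide +kernel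

theorem chk_rows7_20 : cert.rowsOK 150400 800 = true := by decide +kernel

theorem chk_rows7_21 : cert.rowsOK 151200 800 = true := by decide +kernel

theorem chk_rows7_22 : cert.rowsOK 152000 800 = true := by decide +kernel

theorem chk_rows7_23 : cert.rowsOK 152800 800 = true := by decide +kernel

theorem chk_range7 : ∀ a, 134400 ≤ a → a < 153600 → ∀ x < cert.c.g, cert.slotOK a x = true := by
  refine cert.range_of_chunks 134400 800 24 (by norm_num) ?_
  intro k hk
  interval_cases k
  · exact chk_rows7_0
  · exact chk_rows7_1
  · exact chk_rows7_2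
  · exact chk_rows7_3
  · exact chk_rows7_4
  · exact chk_rows7_5
  · exact chk_rows7_6
  · exact chk_rows7_7
  · exact chk_rows7_8
  · exact chk_rows7_9
  · exact chk_rows7_10
  · exact chk_rows7_11
  · exact chk_rows7_12
  · exact chk_rows7_13
  · exact chk_rows7_14
  · exact chk_rows7_15
  · exact chk_rows7_16
  · exact chk_rows7_17
  · exact chk_rows7_18
  · exact chk_rows7_19
  · exact chk_rows7_20
  · exact chk_rows7_21
  · exact chk_rows7_22
  · exact chk_rows7_23

end Cfsg.Agent.Lib.Lead.HNP.PV
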