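import Cfsg.Agent.Lib.Lead.HNP.PVData
import Cfsg.Agent.Lib.Helper6.TCRel3
import Cfsg.Agent.Lib.Lead.HNP.PVSMRows0

/-! # PV: the kernel check of a part of the relators on the coset table -/

set_option autoImplicit false

namespace Cfsg.Agent.Lib.Lead.HNP.PV

open Cfsg.Agent.Lib.Helper6.TC

theorem chk_pow4_0_0 : tab.minOKc [0, 2] 8 0 16000 = true := by decide +kernel

theorem chk_pow4_0_1 : tab.minOKc [0, 2] 8 16000 16000 = true := by decide +kernel

theorem chk_pow4_0_2 : tab.minOKc [0, 2] 8 32000 16000 = true := by decide +kernel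

theorem chk_pow4_0_3 : tab.minOKc [0, 2] 8 48000 16000 = true := by decide +kernel

theorem chk_pow4_0_4 : tab.minOKc [0, 2] 8 64000 16000 = true := by decide +kernel

theorem chk_pow4_0_5 : tab.minOKc [0, 2] 8 80000 16000 = true := by decide +kernel

theorem chk_pow4_0_6 : tab.minOKc [0, 2] 8 96000 16000 = true := by decide +kernel

theorem chk_pow4_0_7 : tab.minOKc [0, 2] 8 112000 16000 = true := by decide +kernel

theorem chk_pow4_0_8 : tab.minOKc [0, 2] 8 128000 16000 = true := by decide +kernel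

theorem chk_pow4_0_9 : tab.minOKc [0, 2] 8 144000 16000 = true := by decide +kernel

theorem chk_pow4_0_10 : tab.minOKc [0, 2] 8 160000 16000 = true := by decide +kernel

theorem chk_pow4_0_11 : tab.minOKc [0, 2] 8 176000 16000 = true := by decide +kernel

theorem chk_pow4_0_12 : tab.minOKc [0, 2] 8 192000 16000 = true := by decide +kernel

theorem chk_pow4_0_13 : tab.minOKc [0, 2] 8 208000 16000 = true := by decide +kernel

theorem chk_pow4_0_14 : tab.minOKc [0, 2] 8 224000 16000 = true := by decide +kernel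

theorem chk_pow4_0 : tab.minOKc [0, 2] 8 0 240000 = true := by
  refine tab.minOKc_of_chunks [0, 2] 8 0 16000 15 (by norm_num) ?_
  intro i hi
  interval_cases i
  · exact chk_pow4_0_0
  · exact chk_pow4_0_1
  · exact chk_pow4_0_2
  · exact chk_pow4_0_3
  · exact chk_pow4_0_4
  · exact chk_pow4_0_5
  · exact chk_pow4_0_6
  · exact chk_pow4_0_7
  · exact chk_pow4_0_8
  · exact chk_pow4_0_9
  · exact chk_pow4_0_10
  · exact chk_pow4_0_11
  · exact chk_pow4_0_12
  · exact chk_pow4_0_13
  · exact chk_pow4_0_14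

theorem chk_pow5_0_0 : tab.minOKc [0, 2, 0, 2, 2, 2] 4 0 5333 = true := by decide +kernel

theorem chk_pow5_0_1 : tab.minOKc [0, 2, 0, 2, 2, 2] 4 5333 5333 = true := by decide +kernel

theorem chk_pow5_0_2 : tab.minOKc [0, 2, 0, 2, 2, 2] 4 10666 5333 = true := by decide +kernel

theorem chk_pow5_0_3 : tab.minOKc [0, 2, 0, 2, 2, 2] 4 15999 5333 = true := by decide +kernel

theorem chk_pow5_0_4 : tab.minOKc [0, 2, 0, 2, 2, 2] 4 21332 5333 = true := by decide +kernel

theorem chk_pow5_0_5 : tab.minOKc [0, 2, 0, 2, 2, 2] 4 26665 5333 = true := by decide +kernel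

theorem chk_pow5_0_6 : tab.minOKc [0, 2, 0, 2, 2, 2] 4 31998 5333 = true := by decide +kernel

theorem chk_pow5_0_7 : tab.minOKc [0, 2, 0, 2, 2, 2] 4 37331 5333 = true := by decide +kernel

theorem chk_pow5_0_8 : tab.minOKc [0, 2, 0, 2, 2, 2] 4 42664 5333 = true := by decide +kernel

theorem chk_pow5_0_9 : tab.minOKc [0, 2, 0, 2, 2, 2] 4 47997 5333 = true := by decide +kernel

theorem chk_pow5_0_10 : tab.minOKc [0, 2, 0, 2, 2, 2] 4 53330 5333 = true := by decide +kernel

theorem chk_pow5_0_11 : tab.minOKc [0, 2, 0, 2, 2, 2] 4 58663 5333 = true := by decide +kernel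

theorem chk_pow5_0_12 : tab.minOKc [0, 2, 0, 2, 2, 2] 4 63996 5333 = true := by decide +kernel

theorem chk_pow5_0_13 : tab.minOKc [0, 2, 0, 2, 2, 2] 4 69329 5333 = true := by decide +kernel

theorem chk_pow5_0_14 : tab.minOKc [0, 2, 0, 2, 2, 2] 4 74662 5333 = true := by decide +kernel

theorem chk_pow5_0 : tab.minOKc [0, 2, 0, 2, 2, 2] 4 0 79995 = true := by
  refine tab.minOKc_of_chunks [0, 2, 0, 2, 2, 2] 4 0 5333 15 (by norm_num) ?_
  intro i hi
  interval_cases i
  · exact chk_pow5_0_0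
  · exact chk_pow5_0_1
  · exact chk_pow5_0_2
  · exact chk_pow5_0_3
  · exact chk_pow5_0_4
  · exact chk_pow5_0_5
  · exact chk_pow5_0_6
  · exact chk_pow5_0_7
  · exact chk_pow5_0_8
  · exact chk_pow5_0_9
  · exact chk_pow5_0_10
  · exact chk_pow5_0_11
  · exact chk_pow5_0_12
  · exact chk_pow5_0_13
  · exact chk_pow5_0_14


end Cfsg.Agent.Lib.Lead.HNP.PV
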