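import Cfsg.Agent.Lib.Lead.HNP.PVSCert
import Cfsg.Agent.Lib.Lead.HNP.PVSRows0

/-! # PV: the kernel check of the rows from 76800 on -/

set_option autoImplicit false

namespace Cfsg.Agent.Lib.Lead.HNP.PV

open Cfsg.Agent.Lib.Helper6.TC Cfsg.Agent.Lib.Helper6.TCGS

theorem chk_rows4_0 : cert.rowsOK 76800 800 = true := by decide +kernel

theorem chk_rows4_1 : cert.rowsOK 77600 800 = true := by decide +kernel

theorem chk_rows4_2 : cert.rowsOK 78400 800 = true := by decide +kernel

theorem chk_rows4_3 : cert.rowsOK 79200 800 = true := by decide +kernel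

theorem chk_rows4_4 : cert.rowsOK 80000 800 = true := by decide +kernel

theorem chk_rows4_5 : cert.rowsOK 80800 800 = true := by decide +kernel

theorem chk_rows4_6 : cert.rowsOK 81600 800 = true := by decide +kernel

theorem chk_rows4_7 : cert.rowsOK 82400 800 = true := by decide +kernel

theorem chk_rows4_8 : cert.rowsOK 83200 800 = true := by decide +kernel

theorem chk_rows4_9 : cert.rowsOK 84000 800 = true := by decide +kernel

theorem chk_rows4_10 : cert.rowsOK 84800 800 = true := by decide +kernel

theorem chk_rows4_11 : cert.rowsOK 85600 800 = true := by decide +kernel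

theorem chk_rows4_12 : cert.rowsOK 86400 800 = true := by decide +kernel

theorem chk_rows4_13 : cert.rowsOK 87200 800 = true := by decide +kernel

theorem chk_rows4_14 : cert.rowsOK 88000 800 = true := by decide +kernel

theorem chk_rows4_15 : cert.rowsOK 88800 800 = true := by decide +kernel

theorem chk_rows4_16 : cert.rowsOK 89600 800 = true := by decide +kernel

theorem chk_rows4_17 : cert.rowsOK 90400 800 = true := by decide +kernel

theorem chk_rows4_18 : cert.rowsOK 91200 800 = true := by decide +kernel

theorem chk_rows4_19 : cert.rowsOK 92000 800 = true := by decide +kernel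

theorem chk_rows4_20 : cert.rowsOK 92800 800 = true := by decide +kernel

theorem chk_rows4_21 : cert.rowsOK 93600 800 = true := by decide +kernel

theorem chk_rows4_22 : cert.rowsOK 94400 800 = true := by decide +kernel

theorem chk_rows4_23 : cert.rowsOK 95200 800 = true := by decide +kernel

theorem chk_range4 : ∀ a, 76800 ≤ a → a < 96000 → ∀ x < cert.c.g, cert.slotOK a x = true := by
  refine cert.range_of_chunks 76800 800 24 (by norm_num) ?_
  intro k hk
  interval_cases k
  · exact chk_rows4_0
  · exact chk_rows4_1
  · exact chk_rows4_2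
  · exact chk_rows4_3
  · exact chk_rows4_4
  · exact chk_rows4_5
  · exact chk_rows4_6
  · exact chk_rows4_7
  · exact chk_rows4_8
  · exact chk_rows4_9
  · exact chk_rows4_10
  · exact chk_rows4_11
  · exact chk_rows4_12
  · exact chk_rows4_13
  · exact chk_rows4_14
  · exact chk_rows4_15
  · exact chk_rows4_16
  · exact chk_rows4_17
  · exact chk_rows4_18
  · exact chk_rows4_19
  · exact chk_rows4_20
  · exact chk_rows4_21
  · exact chk_rows4_22
  · exact chk_rows4_23

end Cfsg.Agent.Lib.Lead.HNP.PV
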