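import Cfsg.Agent.Lib.Lead.HNP.PVData
import Cfsg.Agent.Lib.Helper6.TCGInst
import Cfsg.Agent.Lib.Lead.HNP.PVChk3
import Cfsg.Agent.Lib.Lead.HNP.PVTab0
import Cfsg.Agent.Lib.Lead.HNP.PVTab1
import Cfsg.Agent.Lib.Lead.HNP.PVTab2
import Cfsg.Agent.Lib.Lead.HNP.PVTree0

/-! # PV: the checks of the coset table and the relators -/

set_option autoImplicit false

namespace Cfsg.Agent.Lib.Lead.HNP.PV

open Cfsg.Agent.Lib.Helper6.TC Cfsg.Agent.Lib.Helper6.TCG

theorem chk_tab : Cfsg.Agent.Lib.Helper6.TCG.tabOK tab ivs = true := by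
  refine Cfsg.Agent.Lib.Helper6.TCG.tabOK_of_chunks tab ivs 2000 23 (by decide +kernel) (by norm_num) (by show 44352 ≤ 23 * 2000; norm_num) ?_
  intro k hk
  interval_cases k
  · exact chk_tab0
  · exact chk_tab1
  · exact chk_tab2
  · exact chk_tab3
  · exact chk_tab4
  · exact chk_tab5
  · exact chk_tab6
  · exact chk_tab7
  · exact chk_tab8
  · exact chk_tab9
  · exact chk_tab10
  · exact chk_tab11
  · exact chk_tab12
  · exact chk_tab13
  · exact chk_tab14
  · exact chk_tab15
  · exact chk_tab16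
  · exact chk_tab17
  · exact chk_tab18
  · exact chk_tab19
  · exact chk_tab20
  · exact chk_tab21
  · exact chk_tab22

theorem chk_tree : tab.treeOK = true := by
  refine tab.treeOK_of_chunks 2000 23 (by norm_num) (by show 44352 ≤ 23 * 2000; norm_num) ?_
  intro k hk
  interval_cases k
  · exact chk_tree0
  · exact chk_tree1
  · exact chk_tree2
  · exact chk_tree3
  · exact chk_tree4
  · exact chk_tree5
  · exact chk_tree6
  · exact chk_tree7
  · exact chk_tree8
  · exact chk_tree9
  · exact chk_tree10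
  · exact chk_tree11
  · exact chk_tree12
  · exact chk_tree13
  · exact chk_tree14
  · exact chk_tree15
  · exact chk_tree16
  · exact chk_tree17
  · exact chk_tree18
  · exact chk_tree19
  · exact chk_tree20
  · exact chk_tree21
  · exact chk_tree22

theorem chk_pows : tab.minsOK extraPow = true := by
  simp only [extraPow, Tab.minsOK_cons, Tab.minsOK_nil, Bool.and_eq_true, and_true]
  exact ⟨chk_pow0, chk_pow1, chk_pow2, chk_pow3, chk_pow4, chk_pow5, chk_pow6, chk_pow7, chk_pow8, chk_pow9⟩

theorem chk_sub : Cfsg.Agent.Lib.Helper6.TCG.subOK cfg tab subW = true := by decide +kernel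

end Cfsg.Agent.Lib.Lead.HNP.PV
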