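import Cfsg.Agent.Lib.Lead.HNP.Defs

/-! # A presentation of the subgroup `V = ⟨v₁, v₂⟩` of order 4000 of `Qt`

`v₁ = x y x y⁻¹ x y⁻¹ y⁻¹` and `v₂ = y x y x y y y x y`; `Vt` is the group on `a, b` with four relators that hold for
`a = v₁`, `b = v₂`; it has order 4000. Letters: `0 = a, 1 = a⁻¹, 2 = b, 3 = b⁻¹`. -/

set_option autoImplicit false

namespace Cfsg.Agent.Lib.Lead.HNP

open Cfsg.Spor

/-- the generators `a, b` -/
inductive VGen
  | a
  | b
  deriving DecidableEq

namespace VGen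

/-- the generator `a` as a word -/
abbrev fa : FreeGroup VGen := FreeGroup.of VGen.a
/-- the generator `b` as a word -/
abbrev fb : FreeGroup VGen := FreeGroup.of VGen.b

end VGen

open VGen in
/-- four relators of `V` on `a = v₁`, `b = v₂` -/
def Vextra : List (FreeGroup VGen) := [
  fa ^ 8,
  fa * fa * fa * fb * fa * fa * fb * fb * fa⁻¹ * fb,
  fa * fa * fb⁻¹ * fa * fb * fa * fb * fb * fb * fb,
  fa * fb * fa⁻¹ * fb * fa⁻¹ * fb * fb * fb * fa * fb⁻¹ ]

/-- the group on `a, b` with these relators -/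
abbrev Vt : Type := CoxPresented VGen ([] : List (VGen × ℕ × VGen)) Vextra

/-- the trivial subgroup of `Vt` is generated by the empty set -/
abbrev SV : Set (FreeGroup VGen) := ∅

/-- the generator of a letter -/
def genV : ℕ → VGen
  | 0 => .a
  | 1 => .a
  | _ => .b

/-- is the letter the inverse of its generator? -/
def sgnV : ℕ → Bool
  | 1 => true
  | 3 => true
  | _ => false

/-- the letter of a generator -/
def codeV : VGen → ℕ
  | .a => 0
  | .b => 2

/-- the word of `v₁` in the letters of `Qt` -/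
def v1W : List ℕ := [0, 2, 0, 3, 0, 3, 3]

/-- the word of `v₂` in the letters of `Qt` -/
def v2W : List ℕ := [2, 0, 2, 0, 2, 2, 2, 0, 2]

/-- the generating set of the subgroup `V` of `Pt` -/
abbrev SPV : Set (FreeGroup PGen) :=
  {PGen.fx * (PGen.fy * (PGen.fx * (PGen.fy⁻¹ * (PGen.fx * (PGen.fy⁻¹ * PGen.fy⁻¹))))),
   PGen.fy * (PGen.fx * (PGen.fy * (PGen.fx * (PGen.fy * (PGen.fy * (PGen.fy * (PGen.fx * PGen.fy)))))))}

/-- the generating set of the subgroup `⟨y, x⁻¹ y x⟩` of index 1408 of `Pt` -/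
abbrev SP1408 : Set (FreeGroup PGen) :=
  {PGen.fy, PGen.fx⁻¹ * (PGen.fy * PGen.fx)}

end Cfsg.Agent.Lib.Lead.HNP
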