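import Cfsg.Agent.Lib.Lead.HNP.PVChk1
import Cfsg.Agent.Lib.Lead.HNP.PVChk2
import Cfsg.Agent.Lib.Lead.HNP.PVGlue
import Cfsg.Agent.Lib.Lead.HNP.Weaken
import Cfsg.Agent.Lib.Lead.HNP.Der35

/-! # PV: the data of the enumeration and the index of the subgroup -/

set_option autoImplicit false
set_option maxRecDepth 1000000
set_option maxHeartbeats 40000000

namespace Cfsg.Agent.Lib.Lead.HNP.PV

open Cfsg.Agent.Lib.Helper6.TC Cfsg.Agent.Lib.Helper6.TCG Cfsg.Agent.Lib.Helper6.TCGS Cfsg.Spor Cfsg.Agent.Lib.Lead.HNP

theorem chk_weak : weakOK cfg cfg0 (relWords ([] : List (PGen × ℕ × PGen)) genP 0 extraPow) = true := by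
  decide +kernel

theorem chk_sub0 : Cfsg.Agent.Lib.Helper6.TCG.subOK cfg0 tab subW = true := by decide +kernel

theorem derivedW_eq : derivedW = derived35 := by decide

theorem hrun0 : RunCertG cfg0 ivs tab.n :=
  runCertG_weaken genP sgnP codeP extraPow derivedW hrun chk_weak chk_words_all
    (by
      intro x hx
      have hx' : x < 6 := hx
      interval_cases x <;> decide)
    (fun f => extra_iff f (fun a ha => absurd ha (by simp [coxNodes])))
    (by
      intro w hw
      rw [derivedW_eq] at hw
      exact der35_Pt w hw)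

/-- the data of the enumeration -/
noncomputable def data : GenData ([] : List (PGen × ℕ × PGen)) Pextra SPV where
  gen := genP
  sgn := sgnP
  code := codeP
  c := cfg0
  ivs := ivs
  gn := 0
  extraPow := extraPow
  nw := nw0
  srcs := srcs0
  T := tab
  subW := subW
  hnode := by decide
  hlow := by
    intro x hx
    exact absurd hx (Nat.not_lt_zero x)
  hgn := by decide
  hcode := by intro a; cases a <;> decide
  hletter := by
    intro x hx
    have hx' : x < 6 := hx
    interval_cases x <;> decide
  hTg := rfl
  hTn := show 0 < 44352 by norm_num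
  chk_words := chk_words
  hrun := hrun0
  chk_tab := chk_tab
  chk_pows := chk_pows
  chk_tree := chk_tree
  hextra := fun f hf => extra_iff f hf
  hS := hS
  chk_sub := chk_sub0

theorem index_eq : ((Subgroup.closure SPV).map (PresentedGroup.mk
      (coxRelators ([] : List (PGen × ℕ × PGen)) ∪ {r | r ∈ Pextra}))).index = 44352 :=
  data.index_eq

end Cfsg.Agent.Lib.Lead.HNP.PV
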