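import Cfsg.Agent.Lib.Lead.HNP.VTData
import Cfsg.Agent.Lib.Helper6.TCRel3

/-! # VT: the kernel check of a part of the relators on the coset table -/

set_option autoImplicit false

namespace Cfsg.Agent.Lib.Lead.HNP.VT

open Cfsg.Agent.Lib.Helper6.TC

theorem chk_pow0_0_0 : tab.minOKc [0] 8 0 32000 = true := by decide +kernel

theorem chk_pow0_0_1 : tab.minOKc [0] 8 32000 32000 = true := by decide +kernel

theorem chk_pow0_0_2 : tab.minOKc [0] 8 64000 32000 = true := by decide +kernel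

theorem chk_pow0_0_3 : tab.minOKc [0] 8 96000 32000 = true := by decide +kernel

theorem chk_pow0_0 : tab.minOKc [0] 8 0 128000 = true := by
  refine tab.minOKc_of_chunks [0] 8 0 32000 4 (by norm_num) ?_
  intro i hi
  interval_cases i
  · exact chk_pow0_0_0
  · exact chk_pow0_0_1
  · exact chk_pow0_0_2
  · exact chk_pow0_0_3

theorem chk_pow1_0_0 : tab.minOKc [0, 0, 0, 2, 0, 0, 2, 2, 1, 2] 1 0 3200 = true := by decide +kernel

theorem chk_pow1_0_1 : tab.minOKc [0, 0, 0, 2, 0, 0, 2, 2, 1, 2] 1 3200 3200 = true := by decide +kernel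

theorem chk_pow1_0_2 : tab.minOKc [0, 0, 0, 2, 0, 0, 2, 2, 1, 2] 1 6400 3200 = true := by decide +kernel

theorem chk_pow1_0_3 : tab.minOKc [0, 0, 0, 2, 0, 0, 2, 2, 1, 2] 1 9600 3200 = true := by decide +kernel

theorem chk_pow1_0 : tab.minOKc [0, 0, 0, 2, 0, 0, 2, 2, 1, 2] 1 0 12800 = true := by
  refine tab.minOKc_of_chunks [0, 0, 0, 2, 0, 0, 2, 2, 1, 2] 1 0 3200 4 (by norm_num) ?_
  intro i hi
  interval_cases i
  · exact chk_pow1_0_0
  · exact chk_pow1_0_1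
  · exact chk_pow1_0_2
  · exact chk_pow1_0_3

theorem chk_pow2_0_0 : tab.minOKc [0, 0, 3, 0, 2, 0, 2, 2, 2, 2] 1 0 3200 = true := by decide +kernel

theorem chk_pow2_0_1 : tab.minOKc [0, 0, 3, 0, 2, 0, 2, 2, 2, 2] 1 3200 3200 = true := by decide +kernel

theorem chk_pow2_0_2 : tab.minOKc [0, 0, 3, 0, 2, 0, 2, 2, 2, 2] 1 6400 3200 = true := by decide +kernel

theorem chk_pow2_0_3 : tab.minOKc [0, 0, 3, 0, 2, 0, 2, 2, 2, 2] 1 9600 3200 = true := by decide +kernel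

theorem chk_pow2_0 : tab.minOKc [0, 0, 3, 0, 2, 0, 2, 2, 2, 2] 1 0 12800 = true := by
  refine tab.minOKc_of_chunks [0, 0, 3, 0, 2, 0, 2, 2, 2, 2] 1 0 3200 4 (by norm_num) ?_
  intro i hi
  interval_cases i
  · exact chk_pow2_0_0
  · exact chk_pow2_0_1
  · exact chk_pow2_0_2
  · exact chk_pow2_0_3

theorem chk_pow3_0_0 : tab.minOKc [0, 2, 1, 2, 1, 2, 2, 2, 0, 3] 1 0 3200 = true := by decide +kernel

theorem chk_pow3_0_1 : tab.minOKc [0, 2, 1, 2, 1, 2, 2, 2, 0, 3] 1 3200 3200 = true := by decide +kernel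

theorem chk_pow3_0_2 : tab.minOKc [0, 2, 1, 2, 1, 2, 2, 2, 0, 3] 1 6400 3200 = true := by decide +kernel

theorem chk_pow3_0_3 : tab.minOKc [0, 2, 1, 2, 1, 2, 2, 2, 0, 3] 1 9600 3200 = true := by decide +kernel

theorem chk_pow3_0 : tab.minOKc [0, 2, 1, 2, 1, 2, 2, 2, 0, 3] 1 0 12800 = true := by
  refine tab.minOKc_of_chunks [0, 2, 1, 2, 1, 2, 2, 2, 0, 3] 1 0 3200 4 (by norm_num) ?_
  intro i hi
  interval_cases i
  · exact chk_pow3_0_0
  · exact chk_pow3_0_1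
  · exact chk_pow3_0_2
  · exact chk_pow3_0_3


end Cfsg.Agent.Lib.Lead.HNP.VT
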