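import Cfsg.Agent.Lib.Lead.HNP.VTData
import Cfsg.Agent.Lib.Helper6.TCRel3
import Cfsg.Agent.Lib.Lead.HNP.VTRel0

/-! # VT: the relators hold on the coset table -/

set_option autoImplicit false

namespace Cfsg.Agent.Lib.Lead.HNP.VT

open Cfsg.Agent.Lib.Helper6.TC

theorem chk_pow0 : tab.minOK [0] 8 = true := by
  refine tab.minOK_of_chunks [0] 8 128000 1 (by decide +kernel) (by norm_num) (by show 4000 ≤ 1 * 128000; norm_num) ?_
  intro i hi
  interval_cases i
  · exact chk_pow0_0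

theorem chk_pow1 : tab.minOK [0, 0, 0, 2, 0, 0, 2, 2, 1, 2] 1 = true := by
  refine tab.minOK_of_chunks [0, 0, 0, 2, 0, 0, 2, 2, 1, 2] 1 12800 1 (by decide +kernel) (by norm_num) (by show 4000 ≤ 1 * 12800; norm_num) ?_
  intro i hi
  interval_cases i
  · exact chk_pow1_0

theorem chk_pow2 : tab.minOK [0, 0, 3, 0, 2, 0, 2, 2, 2, 2] 1 = true := by
  refine tab.minOK_of_chunks [0, 0, 3, 0, 2, 0, 2, 2, 2, 2] 1 12800 1 (by decide +kernel) (by norm_num) (by show 4000 ≤ 1 * 12800; norm_num) ?_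
  intro i hi
  interval_cases i
  · exact chk_pow2_0

theorem chk_pow3 : tab.minOK [0, 2, 1, 2, 1, 2, 2, 2, 0, 3] 1 = true := by
  refine tab.minOK_of_chunks [0, 2, 1, 2, 1, 2, 2, 2, 0, 3] 1 12800 1 (by decide +kernel) (by norm_num) (by show 4000 ≤ 1 * 12800; norm_num) ?_
  intro i hi
  interval_cases i
  · exact chk_pow3_0


end Cfsg.Agent.Lib.Lead.HNP.VT
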