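import Cfsg.Agent.Lib.Lead.HNP.VTSCert
import Cfsg.Agent.Lib.Helper6.TCGIndex

/-! # VT: the kernel check that the first rows are closed, part 0 -/

set_option autoImplicit false

namespace Cfsg.Agent.Lib.Lead.HNP.VT

open Cfsg.Agent.Lib.Helper6.TC Cfsg.Agent.Lib.Helper6.TCGS

theorem chk_fin0 : cert.finalOKc 4000 0 1000 = true := by decide +kernel

theorem chk_fin1 : cert.finalOKc 4000 1000 1000 = true := by decide +kernel

theorem chk_fin2 : cert.finalOKc 4000 2000 1000 = true := by decide +kernel

theorem chk_fin3 : cert.finalOKc 4000 3000 1000 = true := by decide +kernel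


end Cfsg.Agent.Lib.Lead.HNP.VT
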