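import Cfsg.Agent.Lib.Lead.HNP.VTData
import Cfsg.Agent.Lib.Helper6.TCChunk
import Cfsg.Agent.Lib.Lead.HNP.VTSFin0

/-! # VT: the kernel check that the coset table is connected, part 0 -/

set_option autoImplicit false

namespace Cfsg.Agent.Lib.Lead.HNP.VT

open Cfsg.Agent.Lib.Helper6.TC Cfsg.Agent.Lib.Helper6.TCGS

theorem chk_tree0 : tab.treeOKc 0 1000 = true := by decide +kernel

theorem chk_tree1 : tab.treeOKc 1000 1000 = true := by decide +kernel

theorem chk_tree2 : tab.treeOKc 2000 1000 = true := by decide +kernel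

theorem chk_tree3 : tab.treeOKc 3000 1000 = true := by decide +kernel


end Cfsg.Agent.Lib.Lead.HNP.VT
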