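import Cfsg.Agent.Lib.Lead.HNP.VTData
import Cfsg.Agent.Lib.Helper6.TCGInst
import Cfsg.Agent.Lib.Lead.HNP.DefsV

/-! # VT: the words of the enumeration are the relators of the presentation -/

set_option autoImplicit false
set_option maxRecDepth 1000000
set_option maxHeartbeats 40000000
set_option linter.unusedSimpArgs false

namespace Cfsg.Agent.Lib.Lead.HNP.VT

open Cfsg.Agent.Lib.Helper6.TC Cfsg.Agent.Lib.Helper6.TCG Cfsg.Spor Cfsg.Agent.Lib.Lead.HNP

theorem chk_words : wordsSrcOK cfg ivs
    (relWords ([] : List (VGen × ℕ × VGen)) genV 0 extraPow) nw srcs = true := by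
  decide +kernel

theorem extra_iff {K : Type} [Group K] (f : VGen → K)
    (_hf : ∀ a ∈ coxNodes ([] : List (VGen × ℕ × VGen)), f a * f a = 1) :
    (∀ r ∈ Vextra, FreeGroup.lift f r = 1) ↔
      ∀ p ∈ extraPow, (((List.replicate p.2 p.1).flatten).map
        (fun x => FreeGroup.lift f (lt genV sgnV x))).prod = 1 := by
  simp only [Vextra, extraPow, List.forall_mem_cons, List.not_mem_nil, false_imp_iff,
    implies_true, and_true, IsEmpty.forall_iff]
  simp only [VGen.fa, VGen.fb, map_mul, map_inv, map_pow,
    FreeGroup.lift_apply_of, List.map_cons, List.map_nil, List.prod_cons, List.prod_nil, genV, sgnV, lt,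
    List.replicate, List.flatten_cons, List.flatten_nil, List.cons_append, List.nil_append, List.append_nil,
    cond_true, cond_false,
    mul_inv_rev, inv_pow, inv_inv, pow_succ, pow_zero, one_mul, mul_one, mul_assoc]

theorem hS (s : FreeGroup VGen) : s ∈ SV ↔ ∃ w ∈ subW, s = fgWord genV sgnV w := by
  simp only [SV, subW, fgWord, lt, Set.mem_insert_iff, Set.mem_singleton_iff, List.mem_cons,
    List.not_mem_nil, or_false, exists_eq_or_imp, exists_eq_left, List.map_cons, List.map_nil,
    List.prod_cons, List.prod_nil, mul_one, genV, sgnV, cond_false, cond_true, VGen.fa, VGen.fb, Set.mem_empty_iff_false, false_and, exists_false]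

end Cfsg.Agent.Lib.Lead.HNP.VT
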