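import Cfsg.Agent.Lib.Lead.HNP.Path
import Cfsg.Agent.Lib.Lead.HNP.DefsV

/-! # The word problem of `Pt = ⟨x, y, z⟩` from three coset enumerations

Given checked coset enumerations of `Vt` over the trivial subgroup, of `Pt` over the image `V` of `Vt`, and of `Pt`
over `⟨y, x⁻¹ y x⟩`, a word in `x, y, z` is trivial in `Pt` as soon as it fixes the first row and one further row `b`
of the second table and a row `p` of the third: it lies in `V`, so it is the image of the element of a path of the
first table, and a check over the rows of the first table shows that only the trivial path fixes `b` and `p`. -/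

set_option autoImplicit false

namespace Cfsg.Agent.Lib.Lead.HNP

open Cfsg.Agent.Lib.Helper6.TC Cfsg.Agent.Lib.Helper6.TCG Cfsg.Agent.Lib.Helper6.TCGS
  Cfsg.Agent.Lib.Helper6.NatArr Cfsg.Spor

/-- the letters of `Pt` as elements -/
noncomputable def γP (x : ℕ) : Pt := PresentedGroup.mk _ (lt genP sgnP x)

/-- the letters of `Vt` as elements -/
noncomputable def γV (x : ℕ) : Vt := PresentedGroup.mk _ (lt genV sgnV x)

/-- the inverse of the word of `v₁` -/
def v1Wi : List ℕ := [2, 2, 1, 2, 1, 3, 1]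

/-- the inverse of the word of `v₂` -/
def v2Wi : List ℕ := [3, 1, 3, 3, 3, 1, 3, 1, 3]

/-- the words in `x, y` of the letters of `Vt` -/
def vexp : ℕ → List ℕ
  | 0 => v1W
  | 1 => v1Wi
  | 2 => v2W
  | _ => v2Wi

theorem vexp_lt (l : ℕ) : ∀ x ∈ vexp l, x < 6 := by
  intro x hx
  unfold vexp at hx
  split at hx <;> simp only [v1W, v1Wi, v2W, v2Wi, List.mem_cons, List.not_mem_nil, or_false] at hx <;>
    omega

/-- only the trivial path of the first table fixes the rows `b` and `p` -/
noncomputable def pvRow (TPV T8 : Tab) (b p : ℕ) (w : List ℕ) : Bool :=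
  !(Nat.beq (TPV.trace b w) b) || !(Nat.beq (T8.trace p w) p)

/-- only the trivial path of the first table fixes the rows `b` and `p` -/
noncomputable def pvOK (TV TPV T8 : Tab) (b p : ℕ) : Bool :=
  allBelow TV.n fun k => Nat.beq k 0 || pvRow TPV T8 b p ((pathW TV k k).flatMap vexp)

theorem prod_flatMap {K : Type*} [Monoid K] (γ : ℕ → K) (e : ℕ → List ℕ) :
    ∀ l : List ℕ, (l.map (fun x => ((e x).map γ).prod)).prod = ((l.flatMap e).map γ).prod
  | [] => by simp
  | x :: l => by
    rw [List.map_cons, List.prod_cons, List.flatMap_cons, List.map_append, List.prod_append,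
      prod_flatMap γ e l]

section

variable (DV : GenData ([] : List (VGen × ℕ × VGen)) Vextra SV)
  (DPV : GenData ([] : List (PGen × ℕ × PGen)) Pextra SPV)
  (D8 : GenData ([] : List (PGen × ℕ × PGen)) Pextra SP1408)

/-- **the word problem of `Pt`** -/
theorem pt_word_problem
    (hVg : DV.gen = genV) (hVs : DV.sgn = sgnV) (hV4 : DV.c.g = 4)
    (hPg : DPV.gen = genP) (hPs : DPV.sgn = sgnP) (hP6 : DPV.c.g = 6)
    (h8g : D8.gen = genP) (h8s : D8.sgn = sgnP) (h86 : D8.c.g = 6)
    (θ : Vt →* Pt) (hθ : ∀ l, l < 4 → θ (γV l) = ((vexp l).map γP).prod)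
    {b p : ℕ} (hb : b < DPV.T.n) (hp : p < D8.T.n)
    (hchk : pvOK DV.T DPV.T D8.T b p = true)
    {w : List ℕ} (hw : ∀ x ∈ w, x < 6)
    (h0 : DPV.T.trace 0 w = 0) (h1 : DPV.T.trace b w = b) (h2 : D8.T.trace p w = p) :
    (w.map γP).prod = 1 := by
  have eV : DV.γ = γV := by
    funext x
    unfold GenData.γ γV
    rw [hVg, hVs]
  have eP : DPV.γ = γP := by
    funext x
    unfold GenData.γ γP
    rw [hPg, hPs]
  have e8 : D8.γ = γP := by
    funext x
    unfold GenData.γ γP
    rw [h8g, h8s]
  have hwP : ∀ x ∈ w, x < DPV.c.g := by rw [hP6]; exact hw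
  have hw8 : ∀ x ∈ w, x < D8.c.g := by rw [h86]; exact hw
  -- the word lies in `V`
  have hH : (w.map γP).prod ∈ DPV.H := by
    have := mem_H_of_trace DPV hwP h0
    rwa [eP] at this
  -- `V` is the image of `Vt`
  have hrange : DPV.H ≤ θ.range := by
    unfold GenData.H
    rw [Subgroup.map_le_iff_le_comap, Subgroup.closure_le]
    intro s hs
    simp only [SPV, Set.mem_insert_iff, Set.mem_singleton_iff] at hs
    rcases hs with rfl | rfl
    · refine ⟨γV 0, ?_⟩
      rw [hθ 0 (by norm_num)]
      simp only [vexp, v1W, γP, lt, genP, sgnP, List.map_cons, List.map_nil, List.prod_cons,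
        List.prod_nil, mul_one, cond_true, cond_false, map_mul, map_inv, PGen.fx, PGen.fy]
    · refine ⟨γV 2, ?_⟩
      rw [hθ 2 (by norm_num)]
      simp only [vexp, v2W, γP, lt, genP, sgnP, List.map_cons, List.map_nil, List.prod_cons,
        List.prod_nil, mul_one, cond_true, cond_false, map_mul, map_inv, PGen.fx, PGen.fy]
  obtain ⟨v, hv⟩ := hrange hH
  -- the element of `Vt` is the element of a path
  obtain ⟨a, ha, h, hh, rfl⟩ := exists_path DV v
  have hh1 : h = 1 := by
    unfold GenData.H at hh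
    simp only [SV, Subgroup.closure_empty, Subgroup.map_bot, Subgroup.mem_bot] at hh
    exact hh
  subst hh1
  rw [mul_one] at hv
  obtain ⟨hl, _⟩ := pathW_spec DV.chk_tab DV.chk_tree a a ha le_rfl
  have hv2 : (((pathW DV.T a a).flatMap vexp).map γP).prod = (w.map γP).prod := by
    rw [← hv]
    unfold pathEl
    rw [eV, map_list_prod, List.map_map, ← prod_flatMap]
    exact congrArg List.prod (List.map_congr_left fun x hx =>
      (hθ x (by rw [← hV4, ← DV.hTg]; exact hl x hx)).symm)
  have hlw : ∀ x ∈ (pathW DV.T a a).flatMap vexp, x < 6 := by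
    intro x hx
    obtain ⟨l, _, hxl⟩ := List.mem_flatMap.1 hx
    exact vexp_lt l x hxl
  -- the path fixes the rows `b` and `p`
  have hfb : DPV.T.trace b ((pathW DV.T a a).flatMap vexp) = b := by
    have hl6 : ∀ x ∈ (pathW DV.T a a).flatMap vexp, x < DPV.c.g := by rw [hP6]; exact hlw
    have := (ρ_fix_iff DPV hwP ⟨b, hb⟩).2 h1
    rw [eP, ← hv2, ← eP] at this
    exact (ρ_fix_iff DPV hl6 ⟨b, hb⟩).1 this
  have hfp : D8.T.trace p ((pathW DV.T a a).flatMap vexp) = p := by
    have hl6 : ∀ x ∈ (pathW DV.T a a).flatMap vexp, x < D8.c.g := by rw [h86]; exact hlw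
    have := (ρ_fix_iff D8 hw8 ⟨p, hp⟩).2 h2
    rw [e8, ← hv2, ← e8] at this
    exact (ρ_fix_iff D8 hl6 ⟨p, hp⟩).1 this
  have hk := allBelow_spec _ _ hchk a ha
  unfold pvRow at hk
  rw [hfb, hfp] at hk
  have hbb : Nat.beq b b = true := Nat.beq_refl _
  have hpp : Nat.beq p p = true := Nat.beq_refl _
  rw [hbb, hpp] at hk
  simp only [Bool.not_true, Bool.or_false] at hk
  have ha0 : a = 0 := Nat.eq_of_beq_eq_true hk
  subst ha0
  rw [← hv2]
  simp [pathW]

end

end Cfsg.Agent.Lib.Lead.HNP
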