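import Cfsg.Prelude.Def_Spor_HN

/-! # The subgroups `⟨x, y⟩` and `⟨x, y, z⟩` of the presented Harada–Norton group as presented groups

`Qt` is the group on `x, y` with the first six relators of `HN.extra`, `Pt` the group on `x, y, z` with the first ten.
Letters: `0 = x, 1 = x⁻¹, 2 = y, 3 = y⁻¹, 4 = z, 5 = z⁻¹`. -/

set_option autoImplicit false

namespace Cfsg.Agent.Lib.Lead.HNP

open Cfsg.Spor

/-- the generators `x, y` -/
inductive QGen
  | x
  | y
  deriving DecidableEq

namespace QGen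

/-- the generator `x` as a word -/
abbrev fx : FreeGroup QGen := FreeGroup.of QGen.x
/-- the generator `y` as a word -/
abbrev fy : FreeGroup QGen := FreeGroup.of QGen.y

end QGen

open QGen in
/-- the first six relators of the Harada–Norton presentation -/
def Qextra : List (FreeGroup QGen) := [
  fy ^ 6,
  (fx ^ 2) * fy * (fx ^ 2) * (fy⁻¹),
  (fx⁻¹ * fy⁻¹ * fx * fy) ^ 3,
  ((fx⁻¹) * (fy ^ 2) * fx * (fy ^ 3)) ^ 3,
  (fx * fy) ^ 8,
  (fx * fy * fx * (fy ^ 3)) ^ 4 ]

/-- the group on `x, y` with the first six relators -/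
abbrev Qt : Type := CoxPresented QGen ([] : List (QGen × ℕ × QGen)) Qextra

/-- the generating set of the subgroup `⟨x², y⟩` of `Qt` -/
abbrev SQ : Set (FreeGroup QGen) := {QGen.fx * QGen.fx, QGen.fy}

/-- the generator of a letter -/
def genQ : ℕ → QGen
  | 0 => .x
  | 1 => .x
  | _ => .y

/-- is the letter the inverse of its generator? -/
def sgnQ : ℕ → Bool
  | 1 => true
  | 3 => true
  | _ => false

/-- the letter of a generator -/
def codeQ : QGen → ℕ
  | .x => 0
  | .y => 2

/-- the generators `x, y, z` -/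
inductive PGen
  | x
  | y
  | z
  deriving DecidableEq

namespace PGen

/-- the generator `x` as a word -/
abbrev fx : FreeGroup PGen := FreeGroup.of PGen.x
/-- the generator `y` as a word -/
abbrev fy : FreeGroup PGen := FreeGroup.of PGen.y
/-- the generator `z` as a word -/
abbrev fz : FreeGroup PGen := FreeGroup.of PGen.z

end PGen

open PGen in
/-- the first ten relators of the Harada–Norton presentation -/
def Pextra : List (FreeGroup PGen) := [
  fy ^ 6,
  (fx ^ 2) * fy * (fx ^ 2) * (fy⁻¹),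
  (fx⁻¹ * fy⁻¹ * fx * fy) ^ 3,
  ((fx⁻¹) * (fy ^ 2) * fx * (fy ^ 3)) ^ 3,
  (fx * fy) ^ 8,
  (fx * fy * fx * (fy ^ 3)) ^ 4,
  fz ^ 2,
  (fz * fx) ^ 2,
  (fz⁻¹ * (fy * fx * fy * fx * (fy ^ 2) * fx * (fy⁻¹))⁻¹ * fz * (fy * fx * fy * fx * (fy ^ 2) * fx * (fy⁻¹))) * ((fx ^ 2)⁻¹),
  fz * (((((fy ^ 3) * fx * fy * fx * fy)⁻¹ * fz * ((fy ^ 3) * fx * fy * fx * fy)) * fx) ^ 3) ]

/-- the group on `x, y, z` with the first ten relators -/
abbrev Pt : Type := CoxPresented PGen ([] : List (PGen × ℕ × PGen)) Pextra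

/-- the generator of a letter -/
def genP : ℕ → PGen
  | 0 => .x
  | 1 => .x
  | 2 => .y
  | 3 => .y
  | _ => .z

/-- is the letter the inverse of its generator? -/
def sgnP : ℕ → Bool
  | 1 => true
  | 3 => true
  | 5 => true
  | _ => false

/-- the letter of a generator -/
def codeP : PGen → ℕ
  | .x => 0
  | .y => 2
  | .z => 4

/-- the inclusion of the generators `x, y` -/
def ιQP : QGen → PGen
  | .x => .x
  | .y => .y

/-- the inclusion of the generators `x, y, z` -/
def ιPH : PGen → HN.Gen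
  | .x => .x
  | .y => .y
  | .z => .z

end Cfsg.Agent.Lib.Lead.HNP
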