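import Mathlib.Data.List.Basic

/-! # The 35 derived relators `z u z = u'` of `⟨x, y, z⟩` that hold already in the amalgam (generated)

Letters: `0 = x, 1 = x⁻¹, 2 = y, 3 = y⁻¹, 4 = z, 5 = z⁻¹`. An entry `(u, u', d, z2)` stands for the derived word
`4 :: u ++ z2 :: inv u'` (so `z u z u'⁻¹ = 1`); `d` is a word in the letters `0 = x, 1 = x⁻¹, 2 = w, 3 = w⁻¹`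
(`w = y x y x y y x y⁻¹`) with `u = expand d` in `Qt`, and `u' = expand d'` for `d'` the image of `d` under
`x ↦ x⁻¹, w ↦ w x⁻²`. -/

set_option autoImplicit false

namespace Cfsg.Agent.Lib.Lead.HNP

/-- the 35 exact derived relators with their words in `x, w` -/
def exact35 : List (List ℕ × List ℕ × List ℕ × ℕ) := [
  ([0], [1], [0], 4),
  ([1], [0], [1], 4),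
  ([0, 0], [0, 0], [0, 0], 4),
  ([2, 0, 3, 0, 2], [2, 0, 3, 0, 2], [2, 0, 2, 2, 2, 0, 2, 2, 0, 2, 2, 2, 0, 2], 4),
  ([2, 0, 3, 1, 2], [2, 0, 3, 1, 2], [2, 0, 2, 2, 2, 0, 2, 2, 0, 2, 2, 2, 1, 2], 4),
  ([3, 0, 2, 0, 3], [3, 0, 2, 0, 3], [3, 0, 3, 3, 3, 0, 3, 3, 0, 3, 3, 3, 0, 3], 4),
  ([3, 0, 2, 1, 3], [3, 0, 2, 1, 3], [3, 0, 3, 3, 3, 0, 3, 3, 0, 3, 3, 3, 1, 3], 4),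
  ([0, 2, 0, 3, 0, 2], [0, 2, 0, 3, 1, 2], [0, 2, 0, 2, 2, 2, 0, 2, 2, 0, 2, 2, 2, 0, 2], 4),
  ([0, 2, 0, 3, 1, 2], [0, 2, 0, 3, 0, 2], [0, 2, 0, 2, 2, 2, 0, 2, 2, 0, 2, 2, 2, 1, 2], 4),
  ([0, 3, 0, 2, 0, 3], [0, 3, 0, 2, 1, 3], [0, 3, 0, 3, 3, 3, 0, 3, 3, 0, 3, 3, 3, 0, 3], 4),
  ([0, 3, 0, 2, 1, 3], [0, 3, 0, 2, 0, 3], [0, 3, 0, 3, 3, 3, 0, 3, 3, 0, 3, 3, 3, 1, 3], 4),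
  ([2, 0, 2, 2, 0, 2], [2, 0, 2, 2, 0, 2], [0, 2, 0, 2, 0, 2, 0, 3, 3, 3, 3, 3, 0, 3, 0, 3], 4),
  ([2, 0, 2, 2, 1, 2], [2, 0, 2, 2, 1, 2], [0, 2, 0, 2, 0, 2, 0, 3, 3, 3, 3, 3, 0, 3, 1, 3], 4),
  ([3, 0, 3, 3, 0, 3], [3, 0, 3, 3, 0, 3], [0, 2, 2, 0, 3, 3, 3, 0, 2, 2, 2, 0, 2, 2, 2, 2], 4),
  ([3, 0, 3, 3, 1, 3], [3, 0, 3, 3, 1, 3], [0, 2, 2, 0, 3, 3, 3, 0, 2, 2, 2, 1, 2, 2, 2, 2], 4),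
  ([0, 2, 0, 2, 2, 0, 2], [0, 2, 0, 2, 2, 1, 2], [2, 0, 2, 0, 2, 0, 3, 3, 3, 3, 3, 0, 3, 1, 3], 4),
  ([0, 2, 0, 2, 2, 1, 2], [0, 2, 0, 2, 2, 0, 2], [2, 0, 2, 0, 2, 0, 3, 3, 3, 3, 3, 0, 3, 0, 3], 4),
  ([0, 3, 0, 3, 3, 0, 3], [0, 3, 0, 3, 3, 1, 3], [2, 2, 0, 3, 3, 3, 0, 2, 2, 2, 1, 2, 2, 2, 2], 4),
  ([0, 3, 0, 3, 3, 1, 3], [0, 3, 0, 3, 3, 0, 3], [2, 2, 0, 3, 3, 3, 0, 2, 2, 2, 0, 2, 2, 2, 2], 4),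
  ([2, 0, 2, 0, 2, 0, 2], [2, 0, 2, 0, 2, 1, 2], [2, 2, 0, 2, 2, 2, 0, 2, 2, 0, 2, 2, 2, 1, 2], 4),
  ([2, 0, 2, 0, 2, 1, 2], [2, 0, 2, 0, 2, 0, 2], [2, 2, 0, 2, 2, 2, 0, 2, 2, 0, 2, 2, 2, 0, 2], 4),
  ([2, 0, 2, 0, 3, 0, 3], [2, 0, 2, 0, 3, 1, 3], [0, 2, 2, 0, 2, 2, 2, 2, 0, 2, 2, 1, 3], 4),
  ([2, 0, 2, 0, 3, 1, 3], [2, 0, 2, 0, 3, 0, 3], [0, 2, 2, 0, 2, 2, 2, 2, 0, 2, 2, 0, 3], 4),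
  ([2, 0, 2, 2, 0, 2, 0], [2, 0, 2, 2, 0, 2, 1], [0, 2, 0, 2, 2, 2, 0, 2, 0, 2, 2, 2, 2, 0, 2], 4),
  ([2, 0, 2, 2, 0, 2, 1], [2, 0, 2, 2, 0, 2, 0], [0, 2, 0, 2, 2, 2, 0, 2, 0, 2, 2, 2, 2, 1, 2], 4),
  ([2, 0, 2, 2, 2, 0, 3], [2, 0, 2, 2, 2, 0, 3], [0, 2, 2, 0, 2, 2, 2, 2, 0, 2, 2, 1], 4),
  ([2, 0, 2, 2, 2, 1, 3], [2, 0, 2, 2, 2, 1, 3], [0, 2, 2, 0, 2, 2, 2, 2, 0, 2, 2, 0], 4),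
  ([3, 0, 2, 2, 2, 0, 2], [3, 0, 2, 2, 2, 0, 2], [3, 0, 2, 2, 2, 2, 0, 2, 2, 2, 2, 2], 4),
  ([3, 0, 2, 2, 2, 1, 2], [3, 0, 2, 2, 2, 1, 2], [3, 0, 2, 2, 2, 2, 1, 2, 2, 2, 2, 2], 4),
  ([3, 0, 3, 0, 2, 0, 2], [3, 0, 3, 0, 2, 1, 2], [0, 2, 0, 2, 2, 0, 2, 0, 2, 2, 0, 2, 1, 2, 2], 4),
  ([3, 0, 3, 0, 2, 1, 2], [3, 0, 3, 0, 2, 0, 2], [0, 2, 0, 2, 2, 0, 2, 0, 2, 2, 0, 2, 0, 2, 2], 4),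
  ([3, 0, 3, 0, 3, 0, 3], [3, 0, 3, 0, 3, 1, 3], [3, 0, 3, 3, 3, 0, 3, 3, 0, 3, 3, 3, 0, 3, 3], 4),
  ([3, 0, 3, 0, 3, 1, 3], [3, 0, 3, 0, 3, 0, 3], [3, 0, 3, 3, 3, 0, 3, 3, 0, 3, 3, 3, 1, 3, 3], 4),
  ([3, 0, 3, 3, 0, 3, 0], [3, 0, 3, 3, 0, 3, 1], [0, 3, 0, 3, 3, 3, 3, 0, 3, 0, 3, 3, 3, 0, 3], 4),
  ([3, 0, 3, 3, 0, 3, 1], [3, 0, 3, 3, 0, 3, 0], [0, 3, 0, 3, 3, 3, 3, 0, 3, 0, 3, 3, 3, 1, 3], 4)]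

/-- the inverse of a word in letters that come in pairs `2i, 2i+1` -/
def invW (w : List ℕ) : List ℕ := w.reverse.map fun l => Nat.xor l 1

/-- the derived word of an entry -/
def derivedOf (e : List ℕ × List ℕ × List ℕ × ℕ) : List ℕ := 4 :: e.1 ++ e.2.2.2 :: invW e.2.1

/-- the 35 derived words, as they stand in the certificates -/
def derived35 : List (List ℕ) := [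
  [4, 0, 4, 0],
  [4, 1, 4, 1],
  [4, 0, 0, 4, 1, 1],
  [4, 2, 0, 3, 0, 2, 4, 3, 1, 2, 1, 3],
  [4, 2, 0, 3, 1, 2, 4, 3, 0, 2, 1, 3],
  [4, 3, 0, 2, 0, 3, 4, 2, 1, 3, 1, 2],
  [4, 3, 0, 2, 1, 3, 4, 2, 0, 3, 1, 2],
  [4, 0, 2, 0, 3, 0, 2, 4, 3, 0, 2, 1, 3, 1],
  [4, 0, 2, 0, 3, 1, 2, 4, 3, 1, 2, 1, 3, 1],
  [4, 0, 3, 0, 2, 0, 3, 4, 2, 0, 3, 1, 2, 1],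
  [4, 0, 3, 0, 2, 1, 3, 4, 2, 1, 3, 1, 2, 1],
  [4, 2, 0, 2, 2, 0, 2, 4, 3, 1, 3, 3, 1, 3],
  [4, 2, 0, 2, 2, 1, 2, 4, 3, 0, 3, 3, 1, 3],
  [4, 3, 0, 3, 3, 0, 3, 4, 2, 1, 2, 2, 1, 2],
  [4, 3, 0, 3, 3, 1, 3, 4, 2, 0, 2, 2, 1, 2],
  [4, 0, 2, 0, 2, 2, 0, 2, 4, 3, 0, 3, 3, 1, 3, 1],
  [4, 0, 2, 0, 2, 2, 1, 2, 4, 3, 1, 3, 3, 1, 3, 1],
  [4, 0, 3, 0, 3, 3, 0, 3, 4, 2, 0, 2, 2, 1, 2, 1],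
  [4, 0, 3, 0, 3, 3, 1, 3, 4, 2, 1, 2, 2, 1, 2, 1],
  [4, 2, 0, 2, 0, 2, 0, 2, 4, 3, 0, 3, 1, 3, 1, 3],
  [4, 2, 0, 2, 0, 2, 1, 2, 4, 3, 1, 3, 1, 3, 1, 3],
  [4, 2, 0, 2, 0, 3, 0, 3, 4, 2, 0, 2, 1, 3, 1, 3],
  [4, 2, 0, 2, 0, 3, 1, 3, 4, 2, 1, 2, 1, 3, 1, 3],
  [4, 2, 0, 2, 2, 0, 2, 0, 4, 0, 3, 1, 3, 3, 1, 3],
  [4, 2, 0, 2, 2, 0, 2, 1, 4, 1, 3, 1, 3, 3, 1, 3],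
  [4, 2, 0, 2, 2, 2, 0, 3, 4, 2, 1, 3, 3, 3, 1, 3],
  [4, 2, 0, 2, 2, 2, 1, 3, 4, 2, 0, 3, 3, 3, 1, 3],
  [4, 3, 0, 2, 2, 2, 0, 2, 4, 3, 1, 3, 3, 3, 1, 2],
  [4, 3, 0, 2, 2, 2, 1, 2, 4, 3, 0, 3, 3, 3, 1, 2],
  [4, 3, 0, 3, 0, 2, 0, 2, 4, 3, 0, 3, 1, 2, 1, 2],
  [4, 3, 0, 3, 0, 2, 1, 2, 4, 3, 1, 3, 1, 2, 1, 2],
  [4, 3, 0, 3, 0, 3, 0, 3, 4, 2, 0, 2, 1, 2, 1, 2],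
  [4, 3, 0, 3, 0, 3, 1, 3, 4, 2, 1, 2, 1, 2, 1, 2],
  [4, 3, 0, 3, 3, 0, 3, 0, 4, 0, 2, 1, 2, 2, 1, 2],
  [4, 3, 0, 3, 3, 0, 3, 1, 4, 1, 2, 1, 2, 2, 1, 2]]

theorem derived35_eq : derived35 = exact35.map derivedOf := by decide

/-- the last two derived words, which need the word problem of `⟨x, y, z⟩` -/
def derivedLast : List (List ℕ) := [
  [4, 2, 1, 4, 3, 4, 1, 2, 4, 1, 3, 1],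
  [4, 2, 2, 0, 2, 0, 3, 3, 0, 2, 0, 3, 3, 4, 3, 4, 2, 4, 2, 2, 0, 3, 1, 2, 2, 1, 3, 1, 3, 3, 1]]

end Cfsg.Agent.Lib.Lead.HNP
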