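import Cfsg.Agent.Lib.Lead.HNP.DerLast

/-! # The orders of `Vt` and `Pt`

`Vt` has order 4000 (its trivial subgroup has index 4000), and `Pt` has order at most `44352 * 4000 = 177408000`:
the subgroup `V` of index 44352 is a homomorphic image of `Vt`. -/

set_option autoImplicit false

namespace Cfsg.Agent.Lib.Lead.HNP

open Cfsg.Agent.Lib.Helper6.TC Cfsg.Agent.Lib.Helper6.TCG Cfsg.Spor Cfsg.Agent.Lib.Helper5.HNGlue

/-- the order of `Vt` -/
theorem card_Vt : Nat.card Vt = 4000 := by
  have h := VT.index_eq
  simp only [SV, Subgroup.closure_empty, Subgroup.map_bot, Subgroup.index_bot] at h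
  exact h

instance finite_Vt : Finite Vt := Nat.finite_of_card_ne_zero (by rw [card_Vt]; norm_num)

/-- the subgroup `V` of `Pt` lies in the image of `Vt` -/
theorem V_le_range (θ : Vt →* Pt) (hθ : ∀ l, l < 4 → θ (γV l) = ((vexp l).map γP).prod) :
    PV.data.H ≤ θ.range := by
  unfold GenData.H
  rw [Subgroup.map_le_iff_le_comap, Subgroup.closure_le]
  intro s hs
  simp only [SPV, Set.mem_insert_iff, Set.mem_singleton_iff] at hs
  rcases hs with rfl | rfl
  · refine ⟨γV 0, ?_⟩
    rw [hθ 0 (by norm_num)]
    simp only [vexp, v1W, γP, lt, genP, sgnP, List.map_cons, List.map_nil, List.prod_cons,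
      List.prod_nil, mul_one, cond_true, cond_false, map_mul, map_inv, PGen.fx, PGen.fy]
  · refine ⟨γV 2, ?_⟩
    rw [hθ 2 (by norm_num)]
    simp only [vexp, v2W, γP, lt, genP, sgnP, List.map_cons, List.map_nil, List.prod_cons,
      List.prod_nil, mul_one, cond_true, cond_false, map_mul, map_inv, PGen.fx, PGen.fy]

/-- the order of `V` is at most 4000 -/
theorem card_V_le : Nat.card PV.data.H ≤ 4000 := by
  obtain ⟨θ, hθ⟩ := exists_θV
  have : Finite θ.range := Finite.of_surjective θ.rangeRestrict θ.rangeRestrict_surjective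
  have h1 : Nat.card PV.data.H ≤ Nat.card θ.range :=
    Subgroup.card_le_of_le (V_le_range θ hθ)
  have h2 : Nat.card θ.range ≤ Nat.card Vt :=
    Nat.card_le_card_of_surjective θ.rangeRestrict θ.rangeRestrict_surjective
  rw [card_Vt] at h2
  exact h1.trans h2

/-- the order of `Pt` is at most `177408000` -/
theorem card_Pt_le : Nat.card Pt ≤ 177408000 := by
  have h1 := Subgroup.card_mul_index PV.data.H
  have h2 : PV.data.H.index = 44352 := PV.index_eq
  rw [h2] at h1
  rw [← h1]
  calc Nat.card PV.data.H * 44352 ≤ 4000 * 44352 := Nat.mul_le_mul_right _ card_V_le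
    _ = 177408000 := by norm_num

theorem card_Pt_pos : 0 < Nat.card Pt := by
  have h1 := Subgroup.card_mul_index PV.data.H
  have h2 : PV.data.H.index = 44352 := PV.index_eq
  have h3 : 0 < Nat.card PV.data.H := by
    obtain ⟨θ, hθ⟩ := exists_θV
    have : Finite θ.range := Finite.of_surjective θ.rangeRestrict θ.rangeRestrict_surjective
    have : Finite PV.data.H := Finite.of_injective (Subgroup.inclusion (V_le_range θ hθ))
      (Subgroup.inclusion_injective _)
    exact Nat.card_pos
  rw [h2] at h1
  rw [← h1]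
  exact Nat.mul_pos h3 (by norm_num)

instance finite_Pt : Finite Pt := Nat.finite_of_card_ne_zero card_Pt_pos.ne'

end Cfsg.Agent.Lib.Lead.HNP
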