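import Cfsg.Agent.Lib.Lead.HNP.P1408SCert

/-! # P1408: the kernel check of the merge map from row 0 on -/

set_option autoImplicit false

namespace Cfsg.Agent.Lib.Lead.HNP.P1408

open Cfsg.Agent.Lib.Helper6.TC Cfsg.Agent.Lib.Helper6.TCGS

theorem chk_mrows0_0 : cert.mrowsOK 0 2000 = true := by decide +kernel

theorem chk_mrows0_1 : cert.mrowsOK 2000 2000 = true := by decide +kernel

theorem chk_mrange0 : ∀ a, 0 ≤ a → a < 0 + 4000 → cert.mslotOK a = true := by
  refine cert.mrange_of_chunks 0 2000 2 (by norm_num) ?_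
  intro k hk
  interval_cases k
  · exact chk_mrows0_0
  · exact chk_mrows0_1

end Cfsg.Agent.Lib.Lead.HNP.P1408
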