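import Cfsg.Agent.Lib.Lead.HNP.P1408Data
import Cfsg.Agent.Lib.Helper6.TCRel3
import Cfsg.Agent.Lib.Lead.HNP.P1408SMRows0

/-! # P1408: the kernel check of a part of the relators on the coset table -/

set_option autoImplicit false

namespace Cfsg.Agent.Lib.Lead.HNP.P1408

open Cfsg.Agent.Lib.Helper6.TC

theorem chk_pow6_0_0 : tab.minOKc [4] 2 0 32000 = true := by decide +kernel

theorem chk_pow6_0_1 : tab.minOKc [4] 2 32000 32000 = true := by decide +kernel

theorem chk_pow6_0_2 : tab.minOKc [4] 2 64000 32000 = true := by decide +kernel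

theorem chk_pow6_0_3 : tab.minOKc [4] 2 96000 32000 = true := by decide +kernel

theorem chk_pow6_0_4 : tab.minOKc [4] 2 128000 32000 = true := by decide +kernel

theorem chk_pow6_0_5 : tab.minOKc [4] 2 160000 32000 = true := by decide +kernel

theorem chk_pow6_0_6 : tab.minOKc [4] 2 192000 32000 = true := by decide +kernel

theorem chk_pow6_0_7 : tab.minOKc [4] 2 224000 32000 = true := by decide +kernel

theorem chk_pow6_0_8 : tab.minOKc [4] 2 256000 32000 = true := by decide +kernel

theorem chk_pow6_0_9 : tab.minOKc [4] 2 288000 32000 = true := by decide +kernel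

theorem chk_pow6_0_10 : tab.minOKc [4] 2 320000 32000 = true := by decide +kernel

theorem chk_pow6_0_11 : tab.minOKc [4] 2 352000 32000 = true := by decide +kernel

theorem chk_pow6_0_12 : tab.minOKc [4] 2 384000 32000 = true := by decide +kernel

theorem chk_pow6_0_13 : tab.minOKc [4] 2 416000 32000 = true := by decide +kernel

theorem chk_pow6_0_14 : tab.minOKc [4] 2 448000 32000 = true := by decide +kernel

theorem chk_pow6_0 : tab.minOKc [4] 2 0 480000 = true := by
  refine tab.minOKc_of_chunks [4] 2 0 32000 15 (by norm_num) ?_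
  intro i hi
  interval_cases i
  · exact chk_pow6_0_0
  · exact chk_pow6_0_1
  · exact chk_pow6_0_2
  · exact chk_pow6_0_3
  · exact chk_pow6_0_4
  · exact chk_pow6_0_5
  · exact chk_pow6_0_6
  · exact chk_pow6_0_7
  · exact chk_pow6_0_8
  · exact chk_pow6_0_9
  · exact chk_pow6_0_10
  · exact chk_pow6_0_11
  · exact chk_pow6_0_12
  · exact chk_pow6_0_13
  · exact chk_pow6_0_14

theorem chk_pow7_0_0 : tab.minOKc [4, 0] 2 0 16000 = true := by decide +kernel

theorem chk_pow7_0_1 : tab.minOKc [4, 0] 2 16000 16000 = true := by decide +kernel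

theorem chk_pow7_0_2 : tab.minOKc [4, 0] 2 32000 16000 = true := by decide +kernel

theorem chk_pow7_0_3 : tab.minOKc [4, 0] 2 48000 16000 = true := by decide +kernel

theorem chk_pow7_0_4 : tab.minOKc [4, 0] 2 64000 16000 = true := by decide +kernel

theorem chk_pow7_0_5 : tab.minOKc [4, 0] 2 80000 16000 = true := by decide +kernel

theorem chk_pow7_0_6 : tab.minOKc [4, 0] 2 96000 16000 = true := by decide +kernel

theorem chk_pow7_0_7 : tab.minOKc [4, 0] 2 112000 16000 = true := by decide +kernel

theorem chk_pow7_0_8 : tab.minOKc [4, 0] 2 128000 16000 = true := by decide +kernel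

theorem chk_pow7_0_9 : tab.minOKc [4, 0] 2 144000 16000 = true := by decide +kernel

theorem chk_pow7_0_10 : tab.minOKc [4, 0] 2 160000 16000 = true := by decide +kernel

theorem chk_pow7_0_11 : tab.minOKc [4, 0] 2 176000 16000 = true := by decide +kernel

theorem chk_pow7_0_12 : tab.minOKc [4, 0] 2 192000 16000 = true := by decide +kernel

theorem chk_pow7_0_13 : tab.minOKc [4, 0] 2 208000 16000 = true := by decide +kernel

theorem chk_pow7_0_14 : tab.minOKc [4, 0] 2 224000 16000 = true := by decide +kernel

theorem chk_pow7_0 : tab.minOKc [4, 0] 2 0 240000 = true := by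
  refine tab.minOKc_of_chunks [4, 0] 2 0 16000 15 (by norm_num) ?_
  intro i hi
  interval_cases i
  · exact chk_pow7_0_0
  · exact chk_pow7_0_1
  · exact chk_pow7_0_2
  · exact chk_pow7_0_3
  · exact chk_pow7_0_4
  · exact chk_pow7_0_5
  · exact chk_pow7_0_6
  · exact chk_pow7_0_7
  · exact chk_pow7_0_8
  · exact chk_pow7_0_9
  · exact chk_pow7_0_10
  · exact chk_pow7_0_11
  · exact chk_pow7_0_12
  · exact chk_pow7_0_13
  · exact chk_pow7_0_14


end Cfsg.Agent.Lib.Lead.HNP.P1408
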