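import Cfsg.Agent.Lib.Lead.HNP.P1408Data
import Cfsg.Agent.Lib.Helper6.TCRel3
import Cfsg.Agent.Lib.Lead.HNP.P1408Rel0
import Cfsg.Agent.Lib.Lead.HNP.P1408Rel1
import Cfsg.Agent.Lib.Lead.HNP.P1408Rel2
import Cfsg.Agent.Lib.Lead.HNP.P1408Rel3
import Cfsg.Agent.Lib.Lead.HNP.P1408Rel4

/-! # P1408: the relators hold on the coset table -/

set_option autoImplicit false

namespace Cfsg.Agent.Lib.Lead.HNP.P1408

open Cfsg.Agent.Lib.Helper6.TC

theorem chk_pow0 : tab.minOK [2] 6 = true := by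
  refine tab.minOK_of_chunks [2] 6 480000 1 (by decide +kernel) (by norm_num) (by show 1408 ≤ 1 * 480000; norm_num) ?_
  intro i hi
  interval_cases i
  · exact chk_pow0_0

theorem chk_pow1 : tab.minOK [0, 0, 2, 0, 0, 3] 1 = true := by
  refine tab.minOK_of_chunks [0, 0, 2, 0, 0, 3] 1 79995 1 (by decide +kernel) (by norm_num) (by show 1408 ≤ 1 * 79995; norm_num) ?_
  intro i hi
  interval_cases i
  · exact chk_pow1_0

theorem chk_pow2 : tab.minOK [1, 3, 0, 2] 3 = true := by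
  refine tab.minOK_of_chunks [1, 3, 0, 2] 3 120000 1 (by decide +kernel) (by norm_num) (by show 1408 ≤ 1 * 120000; norm_num) ?_
  intro i hi
  interval_cases i
  · exact chk_pow2_0

theorem chk_pow3 : tab.minOK [1, 2, 2, 0, 2, 2, 2] 3 = true := by
  refine tab.minOK_of_chunks [1, 2, 2, 0, 2, 2, 2] 3 68565 1 (by decide +kernel) (by norm_num) (by show 1408 ≤ 1 * 68565; norm_num) ?_
  intro i hi
  interval_cases i
  · exact chk_pow3_0

theorem chk_pow4 : tab.minOK [0, 2] 8 = true := by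
  refine tab.minOK_of_chunks [0, 2] 8 240000 1 (by decide +kernel) (by norm_num) (by show 1408 ≤ 1 * 240000; norm_num) ?_
  intro i hi
  interval_cases i
  · exact chk_pow4_0

theorem chk_pow5 : tab.minOK [0, 2, 0, 2, 2, 2] 4 = true := by
  refine tab.minOK_of_chunks [0, 2, 0, 2, 2, 2] 4 79995 1 (by decide +kernel) (by norm_num) (by show 1408 ≤ 1 * 79995; norm_num) ?_
  intro i hi
  interval_cases i
  · exact chk_pow5_0

theorem chk_pow6 : tab.minOK [4] 2 = true := by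
  refine tab.minOK_of_chunks [4] 2 480000 1 (by decide +kernel) (by norm_num) (by show 1408 ≤ 1 * 480000; norm_num) ?_
  intro i hi
  interval_cases i
  · exact chk_pow6_0

theorem chk_pow7 : tab.minOK [4, 0] 2 = true := by
  refine tab.minOK_of_chunks [4, 0] 2 240000 1 (by decide +kernel) (by norm_num) (by show 1408 ≤ 1 * 240000; norm_num) ?_
  intro i hi
  interval_cases i
  · exact chk_pow7_0

theorem chk_pow8 : tab.minOK [5, 2, 1, 3, 3, 1, 3, 1, 3, 4, 2, 0, 2, 0, 2, 2, 0, 3, 1, 1] 1 = true := by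
  refine tab.minOK_of_chunks [5, 2, 1, 3, 3, 1, 3, 1, 3, 4, 2, 0, 2, 0, 2, 2, 0, 3, 1, 1] 1 24000 1 (by decide +kernel) (by norm_num) (by show 1408 ≤ 1 * 24000; norm_num) ?_
  intro i hi
  interval_cases i
  · exact chk_pow8_0

theorem chk_pow9 : tab.minOK [4, 3, 1, 3, 1, 3, 3, 3, 4, 2, 2, 2, 0, 2, 0, 2, 0, 3, 1, 3, 1, 3, 3, 3, 4, 2, 2, 2, 0, 2, 0, 2, 0, 3, 1, 3, 1, 3, 3, 3, 4, 2, 2, 2, 0, 2, 0, 2, 0] 1 = true := by
  refine tab.minOK_of_chunks [4, 3, 1, 3, 1, 3, 3, 3, 4, 2, 2, 2, 0, 2, 0, 2, 0, 3, 1, 3, 1, 3, 3, 3, 4, 2, 2, 2, 0, 2, 0, 2, 0, 3, 1, 3, 1, 3, 3, 3, 4, 2, 2, 2, 0, 2, 0, 2, 0] 1 9795 1 (by decide +kernel) (by norm_num) (by show 1408 ≤ 1 * 9795; norm_num) ?_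
  intro i hi
  interval_cases i
  · exact chk_pow9_0


end Cfsg.Agent.Lib.Lead.HNP.P1408
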