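import Cfsg.Agent.Lib.Lead.HNP.P1408Data
import Cfsg.Agent.Lib.Helper6.TCGIndex
import Cfsg.Agent.Lib.Lead.HNP.P1408Rel1

/-! # P1408: the kernel check of the coset table, part 0 -/

set_option autoImplicit false

namespace Cfsg.Agent.Lib.Lead.HNP.P1408

open Cfsg.Agent.Lib.Helper6.TC Cfsg.Agent.Lib.Helper6.TCGS

theorem chk_tab0 : Cfsg.Agent.Lib.Helper6.TCG.tabOKc tab ivs 0 704 = true := by decide +kernel

theorem chk_tab1 : Cfsg.Agent.Lib.Helper6.TCG.tabOKc tab ivs 704 704 = true := by decide +kernel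


end Cfsg.Agent.Lib.Lead.HNP.P1408
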