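import Cfsg.Agent.Lib.Lead.HNP.P1408Data
import Cfsg.Agent.Lib.Helper6.TCChunk
import Cfsg.Agent.Lib.Lead.HNP.P1408Rel2

/-! # P1408: the kernel check that the coset table is connected, part 0 -/

set_option autoImplicit false

namespace Cfsg.Agent.Lib.Lead.HNP.P1408

open Cfsg.Agent.Lib.Helper6.TC Cfsg.Agent.Lib.Helper6.TCGS

theorem chk_tree0 : tab.treeOKc 0 704 = true := by decide +kernel

theorem chk_tree1 : tab.treeOKc 704 704 = true := by decide +kernel


end Cfsg.Agent.Lib.Lead.HNP.P1408
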