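import Cfsg.Agent.Lib.Lead.HNP.P1408Data
import Cfsg.Agent.Lib.Helper6.TCGInst
import Cfsg.Agent.Lib.Lead.HNP.P1408Chk3
import Cfsg.Agent.Lib.Lead.HNP.P1408Tab0
import Cfsg.Agent.Lib.Lead.HNP.P1408Tree0

/-! # P1408: the checks of the coset table and the relators -/

set_option autoImplicit false

namespace Cfsg.Agent.Lib.Lead.HNP.P1408

open Cfsg.Agent.Lib.Helper6.TC Cfsg.Agent.Lib.Helper6.TCG

theorem chk_tab : Cfsg.Agent.Lib.Helper6.TCG.tabOK tab ivs = true := by
  refine Cfsg.Agent.Lib.Helper6.TCG.tabOK_of_chunks tab ivs 704 2 (by decide +kernel) (by norm_num) (by show 1408 ≤ 2 * 704; norm_num) ?_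
  intro k hk
  interval_cases k
  · exact chk_tab0
  · exact chk_tab1

theorem chk_tree : tab.treeOK = true := by
  refine tab.treeOK_of_chunks 704 2 (by norm_num) (by show 1408 ≤ 2 * 704; norm_num) ?_
  intro k hk
  interval_cases k
  · exact chk_tree0
  · exact chk_tree1

theorem chk_pows : tab.minsOK extraPow = true := by
  simp only [extraPow, Tab.minsOK_cons, Tab.minsOK_nil, Bool.and_eq_true, and_true]
  exact ⟨chk_pow0, chk_pow1, chk_pow2, chk_pow3, chk_pow4, chk_pow5, chk_pow6, chk_pow7, chk_pow8, chk_pow9⟩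

theorem chk_sub : Cfsg.Agent.Lib.Helper6.TCG.subOK cfg tab subW = true := by decide +kernel

end Cfsg.Agent.Lib.Lead.HNP.P1408
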