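import Cfsg.Agent.Lib.Lead.HNP.CardBound
import Cfsg.Agent.Lib.Lead.HNP.HNTC

/-! # The order of the presented Harada–Norton group is at most `1539000 * 177408000` -/

set_option autoImplicit false

namespace Cfsg.Agent.Lib.Lead.HNP

open Cfsg.Agent.Lib.Helper6.TC Cfsg.Agent.Lib.Helper6.TCG Cfsg.Spor Cfsg.Agent.Lib.Helper5.HNGlue

/-- the subgroup `⟨x, y, z⟩` of the presented Harada–Norton group is the image of `Pt` -/
theorem H_le_range : HNTC.data.H ≤ ιP.range := by
  unfold GenData.H
  rw [Subgroup.map_le_iff_le_comap, Subgroup.closure_le]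
  intro s hs
  simp only [SH, Set.mem_insert_iff, Set.mem_singleton_iff] at hs
  rcases hs with rfl | rfl | rfl
  · exact ⟨γP 0, ιP_γP genH sgnH (by intro l hl; interval_cases l <;> rfl)
      (by intro l hl; interval_cases l <;> rfl) (by norm_num)⟩
  · exact ⟨γP 2, ιP_γP genH sgnH (by intro l hl; interval_cases l <;> rfl)
      (by intro l hl; interval_cases l <;> rfl) (by norm_num)⟩
  · exact ⟨γP 4, ιP_γP genH sgnH (by intro l hl; interval_cases l <;> rfl)
      (by intro l hl; interval_cases l <;> rfl) (by norm_num)⟩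

/-- the order of `⟨x, y, z⟩` is at most `177408000` -/
theorem card_H_le : Nat.card HNTC.data.H ≤ 177408000 := by
  have : Finite ιP.range := Finite.of_surjective ιP.rangeRestrict ιP.rangeRestrict_surjective
  have h1 : Nat.card HNTC.data.H ≤ Nat.card ιP.range := Subgroup.card_le_of_le H_le_range
  have h2 : Nat.card ιP.range ≤ Nat.card Pt :=
    Nat.card_le_card_of_surjective ιP.rangeRestrict ιP.rangeRestrict_surjective
  exact h1.trans (h2.trans card_Pt_le)

/-- the order of the presented Harada–Norton group is at most `273030912000000` -/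
theorem card_HN_le : Nat.card HN ≤ 273030912000000 := by
  have h1 := Subgroup.card_mul_index HNTC.data.H
  have h2 : HNTC.data.H.index = 1539000 := HNTC.index_eq
  rw [h2] at h1
  show Nat.card (CoxPresented HN.Gen ([] : List (HN.Gen × ℕ × HN.Gen)) HN.extra) ≤ 273030912000000
  rw [← h1]
  calc Nat.card HNTC.data.H * 1539000 ≤ 177408000 * 1539000 := Nat.mul_le_mul_right _ card_H_le
    _ = 273030912000000 := by norm_num

end Cfsg.Agent.Lib.Lead.HNP
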