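import Cfsg.Agent.Lib.Lead.HNP.Der35
import Cfsg.Agent.Lib.Lead.HNP.VT
import Cfsg.Agent.Lib.Lead.HNP.PV
import Cfsg.Agent.Lib.Lead.HNP.P1408

/-! # The last two derived relators hold in `Pt`, by the word problem of `Pt` -/

set_option autoImplicit false
set_option maxRecDepth 1000000
set_option maxHeartbeats 40000000

namespace Cfsg.Agent.Lib.Lead.HNP

open Cfsg.Agent.Lib.Helper6.TC Cfsg.Agent.Lib.Helper6.TCG Cfsg.Spor Cfsg.Agent.Lib.Helper5.HNGlue

/-- only the trivial path of the table of `Vt` fixes the row 129 of the table of `Pt` over `V` and the first row of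
the table of `Pt` over `⟨y, x⁻¹ y x⟩` -/
theorem chk_pv : pvOK VT.tab PV.tab P1408.tab 129 0 = true := by decide +kernel

/-- the check of a word in `x, y, z`: letters, three traces -/
noncomputable def lastChk (TPV T8 : Tab) (b p : ℕ) (w : List ℕ) : Bool :=
  (w.all fun l => Nat.blt l 6) && (Nat.beq (TPV.trace 0 w) 0 && (Nat.beq (TPV.trace b w) b &&
    Nat.beq (T8.trace p w) p))

theorem chk_last : derivedLast.all (lastChk PV.tab P1408.tab 129 0) = true := by decide +kernel

/-- the last two derived relators hold in `Pt` -/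
theorem derLast_Pt : ∀ w ∈ derivedLast, (w.map γP).prod = 1 := by
  obtain ⟨θ, hθ⟩ := exists_θV
  intro w hw
  have hc := List.all_eq_true.1 chk_last w hw
  simp only [lastChk, Bool.and_eq_true] at hc
  obtain ⟨hl, h0, h1, h2⟩ := hc
  exact pt_word_problem VT.data PV.data P1408.data rfl rfl rfl rfl rfl rfl rfl rfl rfl θ hθ
    (b := 129) (p := 0) (show 129 < 44352 by norm_num) (show 0 < 1408 by norm_num) chk_pv
    (fun x hx => by
      have := List.all_eq_true.1 hl x hx
      rwa [Nat.blt_eq] at this)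
    (Nat.eq_of_beq_eq_true h0) (Nat.eq_of_beq_eq_true h1) (Nat.eq_of_beq_eq_true h2)

end Cfsg.Agent.Lib.Lead.HNP
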