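import Cfsg.Agent.Lib.Helper6.TCGIndex
import Cfsg.Agent.Lib.Lead.HNP.HNTCSRows0
import Cfsg.Agent.Lib.Lead.HNP.HNTCSRows1
import Cfsg.Agent.Lib.Lead.HNP.HNTCSRows2
import Cfsg.Agent.Lib.Lead.HNP.HNTCSRows3
import Cfsg.Agent.Lib.Lead.HNP.HNTCSRows4
import Cfsg.Agent.Lib.Lead.HNP.HNTCSRows5
import Cfsg.Agent.Lib.Lead.HNP.HNTCSRows6
import Cfsg.Agent.Lib.Lead.HNP.HNTCSRows7
import Cfsg.Agent.Lib.Lead.HNP.HNTCSRows8
import Cfsg.Agent.Lib.Lead.HNP.HNTCSRows9
import Cfsg.Agent.Lib.Lead.HNP.HNTCSRows10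
import Cfsg.Agent.Lib.Lead.HNP.HNTCSRows11
import Cfsg.Agent.Lib.Lead.HNP.HNTCSRows12
import Cfsg.Agent.Lib.Lead.HNP.HNTCSRows13
import Cfsg.Agent.Lib.Lead.HNP.HNTCSRows14
import Cfsg.Agent.Lib.Lead.HNP.HNTCSRows15
import Cfsg.Agent.Lib.Lead.HNP.HNTCSRows16
import Cfsg.Agent.Lib.Lead.HNP.HNTCSRows17
import Cfsg.Agent.Lib.Lead.HNP.HNTCSRows18
import Cfsg.Agent.Lib.Lead.HNP.HNTCSRows19
import Cfsg.Agent.Lib.Lead.HNP.HNTCSRows20
import Cfsg.Agent.Lib.Lead.HNP.HNTCSRows21
import Cfsg.Agent.Lib.Lead.HNP.HNTCSRows22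
import Cfsg.Agent.Lib.Lead.HNP.HNTCSRows23
import Cfsg.Agent.Lib.Lead.HNP.HNTCSRows24
import Cfsg.Agent.Lib.Lead.HNP.HNTCSRows25
import Cfsg.Agent.Lib.Lead.HNP.HNTCSRows26
import Cfsg.Agent.Lib.Lead.HNP.HNTCSRows27
import Cfsg.Agent.Lib.Lead.HNP.HNTCSRows28
import Cfsg.Agent.Lib.Lead.HNP.HNTCSRows29
import Cfsg.Agent.Lib.Lead.HNP.HNTCSRows30
import Cfsg.Agent.Lib.Lead.HNP.HNTCSRows31
import Cfsg.Agent.Lib.Lead.HNP.HNTCSRows32
import Cfsg.Agent.Lib.Lead.HNP.HNTCSRows33
import Cfsg.Agent.Lib.Lead.HNP.HNTCSRows34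
import Cfsg.Agent.Lib.Lead.HNP.HNTCSRows35
import Cfsg.Agent.Lib.Lead.HNP.HNTCSRows36
import Cfsg.Agent.Lib.Lead.HNP.HNTCSRows37
import Cfsg.Agent.Lib.Lead.HNP.HNTCSRows38
import Cfsg.Agent.Lib.Lead.HNP.HNTCSRows39
import Cfsg.Agent.Lib.Lead.HNP.HNTCSRows40
import Cfsg.Agent.Lib.Lead.HNP.HNTCSRows41
import Cfsg.Agent.Lib.Lead.HNP.HNTCSRows42
import Cfsg.Agent.Lib.Lead.HNP.HNTCSRows43
import Cfsg.Agent.Lib.Lead.HNP.HNTCSRows44
import Cfsg.Agent.Lib.Lead.HNP.HNTCSRows45
import Cfsg.Agent.Lib.Lead.HNP.HNTCSRows46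
import Cfsg.Agent.Lib.Lead.HNP.HNTCSRows47
import Cfsg.Agent.Lib.Lead.HNP.HNTCSRows48
import Cfsg.Agent.Lib.Lead.HNP.HNTCSRows49
import Cfsg.Agent.Lib.Lead.HNP.HNTCSRows50
import Cfsg.Agent.Lib.Lead.HNP.HNTCSRows51
import Cfsg.Agent.Lib.Lead.HNP.HNTCSRows52
import Cfsg.Agent.Lib.Lead.HNP.HNTCSRows53
import Cfsg.Agent.Lib.Lead.HNP.HNTCSRows54
import Cfsg.Agent.Lib.Lead.HNP.HNTCSRows55
import Cfsg.Agent.Lib.Lead.HNP.HNTCSRows56
import Cfsg.Agent.Lib.Lead.HNP.HNTCSRows57
import Cfsg.Agent.Lib.Lead.HNP.HNTCSRows58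
import Cfsg.Agent.Lib.Lead.HNP.HNTCSRows59
import Cfsg.Agent.Lib.Lead.HNP.HNTCSRows60
import Cfsg.Agent.Lib.Lead.HNP.HNTCSRows61
import Cfsg.Agent.Lib.Lead.HNP.HNTCSRows62
import Cfsg.Agent.Lib.Lead.HNP.HNTCSRows63
import Cfsg.Agent.Lib.Lead.HNP.HNTCSRows64
import Cfsg.Agent.Lib.Lead.HNP.HNTCSRows65
import Cfsg.Agent.Lib.Lead.HNP.HNTCSRows66
import Cfsg.Agent.Lib.Lead.HNP.HNTCSRows67
import Cfsg.Agent.Lib.Lead.HNP.HNTCSRows68
import Cfsg.Agent.Lib.Lead.HNP.HNTCSRows69
import Cfsg.Agent.Lib.Lead.HNP.HNTCSRows70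
import Cfsg.Agent.Lib.Lead.HNP.HNTCSRows71
import Cfsg.Agent.Lib.Lead.HNP.HNTCSRows72
import Cfsg.Agent.Lib.Lead.HNP.HNTCSRows73
import Cfsg.Agent.Lib.Lead.HNP.HNTCSRows74
import Cfsg.Agent.Lib.Lead.HNP.HNTCSRows75
import Cfsg.Agent.Lib.Lead.HNP.HNTCSRows76
import Cfsg.Agent.Lib.Lead.HNP.HNTCSRows77
import Cfsg.Agent.Lib.Lead.HNP.HNTCSRows78
import Cfsg.Agent.Lib.Lead.HNP.HNTCSRows79
import Cfsg.Agent.Lib.Lead.HNP.HNTCSRows80
import Cfsg.Agent.Lib.Lead.HNP.HNTCSRows81
import Cfsg.Agent.Lib.Lead.HNP.HNTCSRows82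
import Cfsg.Agent.Lib.Lead.HNP.HNTCSRows83
import Cfsg.Agent.Lib.Lead.HNP.HNTCSRows84
import Cfsg.Agent.Lib.Lead.HNP.HNTCSRows85
import Cfsg.Agent.Lib.Lead.HNP.HNTCSRows86
import Cfsg.Agent.Lib.Lead.HNP.HNTCSRows87
import Cfsg.Agent.Lib.Lead.HNP.HNTCSRows88
import Cfsg.Agent.Lib.Lead.HNP.HNTCSRows89
import Cfsg.Agent.Lib.Lead.HNP.HNTCSRows90
import Cfsg.Agent.Lib.Lead.HNP.HNTCSRows91
import Cfsg.Agent.Lib.Lead.HNP.HNTCSRows92
import Cfsg.Agent.Lib.Lead.HNP.HNTCSRows93
import Cfsg.Agent.Lib.Lead.HNP.HNTCSRows94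
import Cfsg.Agent.Lib.Lead.HNP.HNTCSRows95
import Cfsg.Agent.Lib.Lead.HNP.HNTCSRows96
import Cfsg.Agent.Lib.Lead.HNP.HNTCSRows97
import Cfsg.Agent.Lib.Lead.HNP.HNTCSRows98
import Cfsg.Agent.Lib.Lead.HNP.HNTCSRows99
import Cfsg.Agent.Lib.Lead.HNP.HNTCSRows100
import Cfsg.Agent.Lib.Lead.HNP.HNTCSRows101
import Cfsg.Agent.Lib.Lead.HNP.HNTCSRows102
import Cfsg.Agent.Lib.Lead.HNP.HNTCSRows103
import Cfsg.Agent.Lib.Lead.HNP.HNTCSRows104
import Cfsg.Agent.Lib.Lead.HNP.HNTCSRows105
import Cfsg.Agent.Lib.Lead.HNP.HNTCSRows106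
import Cfsg.Agent.Lib.Lead.HNP.HNTCSRows107
import Cfsg.Agent.Lib.Lead.HNP.HNTCSRows108
import Cfsg.Agent.Lib.Lead.HNP.HNTCSRows109
import Cfsg.Agent.Lib.Lead.HNP.HNTCSRows110
import Cfsg.Agent.Lib.Lead.HNP.HNTCSRows111
import Cfsg.Agent.Lib.Lead.HNP.HNTCSRows112
import Cfsg.Agent.Lib.Lead.HNP.HNTCSRows113
import Cfsg.Agent.Lib.Lead.HNP.HNTCSRows114
import Cfsg.Agent.Lib.Lead.HNP.HNTCSRows115
import Cfsg.Agent.Lib.Lead.HNP.HNTCSRows116
import Cfsg.Agent.Lib.Lead.HNP.HNTCSRows117
import Cfsg.Agent.Lib.Lead.HNP.HNTCSRows118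
import Cfsg.Agent.Lib.Lead.HNP.HNTCSRows119
import Cfsg.Agent.Lib.Lead.HNP.HNTCSRows120
import Cfsg.Agent.Lib.Lead.HNP.HNTCSRows121
import Cfsg.Agent.Lib.Lead.HNP.HNTCSRows122
import Cfsg.Agent.Lib.Lead.HNP.HNTCSRows123
import Cfsg.Agent.Lib.Lead.HNP.HNTCSRows124
import Cfsg.Agent.Lib.Lead.HNP.HNTCSRows125
import Cfsg.Agent.Lib.Lead.HNP.HNTCSRows126
import Cfsg.Agent.Lib.Lead.HNP.HNTCSRows127
import Cfsg.Agent.Lib.Lead.HNP.HNTCSRows128
import Cfsg.Agent.Lib.Lead.HNP.HNTCSRows129
import Cfsg.Agent.Lib.Lead.HNP.HNTCSRows130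
import Cfsg.Agent.Lib.Lead.HNP.HNTCSRows131
import Cfsg.Agent.Lib.Lead.HNP.HNTCSRows132
import Cfsg.Agent.Lib.Lead.HNP.HNTCSRows133

/-! # HNTC: the rows of the coset enumeration are checked -/

set_option autoImplicit false

namespace Cfsg.Agent.Lib.Lead.HNP.HNTC

open Cfsg.Agent.Lib.Helper6.TC Cfsg.Agent.Lib.Helper6.TCGS

theorem chk_rows : ∀ a < cert.N, ∀ x < cert.c.g, cert.slotOK a x = true := by
  have r0 : ∀ a, a < 0 → ∀ x < cert.c.g, cert.slotOK a x = true := upto_zero
  have r1 := upto_step (P := fun a => ∀ x < cert.c.g, cert.slotOK a x = true) r0 chk_range0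
  have r2 := upto_step (P := fun a => ∀ x < cert.c.g, cert.slotOK a x = true) r1 chk_range1
  have r3 := upto_step (P := fun a => ∀ x < cert.c.g, cert.slotOK a x = true) r2 chk_range2
  have r4 := upto_step (P := fun a => ∀ x < cert.c.g, cert.slotOK a x = true) r3 chk_range3
  have r5 := upto_step (P := fun a => ∀ x < cert.c.g, cert.slotOK a x = true) r4 chk_range4
  have r6 := upto_step (P := fun a => ∀ x < cert.c.g, cert.slotOK a x = true) r5 chk_range5
  have r7 := upto_step (P := fun a => ∀ x < cert.c.g, cert.slotOK a x = true) r6 chk_range6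
  have r8 := upto_step (P := fun a => ∀ x < cert.c.g, cert.slotOK a x = true) r7 chk_range7
  have r9 := upto_step (P := fun a => ∀ x < cert.c.g, cert.slotOK a x = true) r8 chk_range8
  have r10 := upto_step (P := fun a => ∀ x < cert.c.g, cert.slotOK a x = true) r9 chk_range9
  have r11 := upto_step (P := fun a => ∀ x < cert.c.g, cert.slotOK a x = true) r10 chk_range10
  have r12 := upto_step (P := fun a => ∀ x < cert.c.g, cert.slotOK a x = true) r11 chk_range11
  have r13 := upto_step (P := fun a => ∀ x < cert.c.g, cert.slotOK a x = true) r12 chk_range12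
  have r14 := upto_step (P := fun a => ∀ x < cert.c.g, cert.slotOK a x = true) r13 chk_range13
  have r15 := upto_step (P := fun a => ∀ x < cert.c.g, cert.slotOK a x = true) r14 chk_range14
  have r16 := upto_step (P := fun a => ∀ x < cert.c.g, cert.slotOK a x = true) r15 chk_range15
  have r17 := upto_step (P := fun a => ∀ x < cert.c.g, cert.slotOK a x = true) r16 chk_range16
  have r18 := upto_step (P := fun a => ∀ x < cert.c.g, cert.slotOK a x = true) r17 chk_range17
  have r19 := upto_step (P := fun a => ∀ x < cert.c.g, cert.slotOK a x = true) r18 chk_range18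
  have r20 := upto_step (P := fun a => ∀ x < cert.c.g, cert.slotOK a x = true) r19 chk_range19
  have r21 := upto_step (P := fun a => ∀ x < cert.c.g, cert.slotOK a x = true) r20 chk_range20
  have r22 := upto_step (P := fun a => ∀ x < cert.c.g, cert.slotOK a x = true) r21 chk_range21
  have r23 := upto_step (P := fun a => ∀ x < cert.c.g, cert.slotOK a x = true) r22 chk_range22
  have r24 := upto_step (P := fun a => ∀ x < cert.c.g, cert.slotOK a x = true) r23 chk_range23
  have r25 := upto_step (P := fun a => ∀ x < cert.c.g, cert.slotOK a x = true) r24 chk_range24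
  have r26 := upto_step (P := fun a => ∀ x < cert.c.g, cert.slotOK a x = true) r25 chk_range25
  have r27 := upto_step (P := fun a => ∀ x < cert.c.g, cert.slotOK a x = true) r26 chk_range26
  have r28 := upto_step (P := fun a => ∀ x < cert.c.g, cert.slotOK a x = true) r27 chk_range27
  have r29 := upto_step (P := fun a => ∀ x < cert.c.g, cert.slotOK a x = true) r28 chk_range28
  have r30 := upto_step (P := fun a => ∀ x < cert.c.g, cert.slotOK a x = true) r29 chk_range29
  have r31 := upto_step (P := fun a => ∀ x < cert.c.g, cert.slotOK a x = true) r30 chk_range30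
  have r32 := upto_step (P := fun a => ∀ x < cert.c.g, cert.slotOK a x = true) r31 chk_range31
  have r33 := upto_step (P := fun a => ∀ x < cert.c.g, cert.slotOK a x = true) r32 chk_range32
  have r34 := upto_step (P := fun a => ∀ x < cert.c.g, cert.slotOK a x = true) r33 chk_range33
  have r35 := upto_step (P := fun a => ∀ x < cert.c.g, cert.slotOK a x = true) r34 chk_range34
  have r36 := upto_step (P := fun a => ∀ x < cert.c.g, cert.slotOK a x = true) r35 chk_range35
  have r37 := upto_step (P := fun a => ∀ x < cert.c.g, cert.slotOK a x = true) r36 chk_range36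
  have r38 := upto_step (P := fun a => ∀ x < cert.c.g, cert.slotOK a x = true) r37 chk_range37
  have r39 := upto_step (P := fun a => ∀ x < cert.c.g, cert.slotOK a x = true) r38 chk_range38
  have r40 := upto_step (P := fun a => ∀ x < cert.c.g, cert.slotOK a x = true) r39 chk_range39
  have r41 := upto_step (P := fun a => ∀ x < cert.c.g, cert.slotOK a x = true) r40 chk_range40
  have r42 := upto_step (P := fun a => ∀ x < cert.c.g, cert.slotOK a x = true) r41 chk_range41
  have r43 := upto_step (P := fun a => ∀ x < cert.c.g, cert.slotOK a x = true) r42 chk_range42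
  have r44 := upto_step (P := fun a => ∀ x < cert.c.g, cert.slotOK a x = true) r43 chk_range43
  have r45 := upto_step (P := fun a => ∀ x < cert.c.g, cert.slotOK a x = true) r44 chk_range44
  have r46 := upto_step (P := fun a => ∀ x < cert.c.g, cert.slotOK a x = true) r45 chk_range45
  have r47 := upto_step (P := fun a => ∀ x < cert.c.g, cert.slotOK a x = true) r46 chk_range46
  have r48 := upto_step (P := fun a => ∀ x < cert.c.g, cert.slotOK a x = true) r47 chk_range47
  have r49 := upto_step (P := fun a => ∀ x < cert.c.g, cert.slotOK a x = true) r48 chk_range48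
  have r50 := upto_step (P := fun a => ∀ x < cert.c.g, cert.slotOK a x = true) r49 chk_range49
  have r51 := upto_step (P := fun a => ∀ x < cert.c.g, cert.slotOK a x = true) r50 chk_range50
  have r52 := upto_step (P := fun a => ∀ x < cert.c.g, cert.slotOK a x = true) r51 chk_range51
  have r53 := upto_step (P := fun a => ∀ x < cert.c.g, cert.slotOK a x = true) r52 chk_range52
  have r54 := upto_step (P := fun a => ∀ x < cert.c.g, cert.slotOK a x = true) r53 chk_range53
  have r55 := upto_step (P := fun a => ∀ x < cert.c.g, cert.slotOK a x = true) r54 chk_range54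
  have r56 := upto_step (P := fun a => ∀ x < cert.c.g, cert.slotOK a x = true) r55 chk_range55
  have r57 := upto_step (P := fun a => ∀ x < cert.c.g, cert.slotOK a x = true) r56 chk_range56
  have r58 := upto_step (P := fun a => ∀ x < cert.c.g, cert.slotOK a x = true) r57 chk_range57
  have r59 := upto_step (P := fun a => ∀ x < cert.c.g, cert.slotOK a x = true) r58 chk_range58
  have r60 := upto_step (P := fun a => ∀ x < cert.c.g, cert.slotOK a x = true) r59 chk_range59
  have r61 := upto_step (P := fun a => ∀ x < cert.c.g, cert.slotOK a x = true) r60 chk_range60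
  have r62 := upto_step (P := fun a => ∀ x < cert.c.g, cert.slotOK a x = true) r61 chk_range61
  have r63 := upto_step (P := fun a => ∀ x < cert.c.g, cert.slotOK a x = true) r62 chk_range62
  have r64 := upto_step (P := fun a => ∀ x < cert.c.g, cert.slotOK a x = true) r63 chk_range63
  have r65 := upto_step (P := fun a => ∀ x < cert.c.g, cert.slotOK a x = true) r64 chk_range64
  have r66 := upto_step (P := fun a => ∀ x < cert.c.g, cert.slotOK a x = true) r65 chk_range65
  have r67 := upto_step (P := fun a => ∀ x < cert.c.g, cert.slotOK a x = true) r66 chk_range66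
  have r68 := upto_step (P := fun a => ∀ x < cert.c.g, cert.slotOK a x = true) r67 chk_range67
  have r69 := upto_step (P := fun a => ∀ x < cert.c.g, cert.slotOK a x = true) r68 chk_range68
  have r70 := upto_step (P := fun a => ∀ x < cert.c.g, cert.slotOK a x = true) r69 chk_range69
  have r71 := upto_step (P := fun a => ∀ x < cert.c.g, cert.slotOK a x = true) r70 chk_range70
  have r72 := upto_step (P := fun a => ∀ x < cert.c.g, cert.slotOK a x = true) r71 chk_range71
  have r73 := upto_step (P := fun a => ∀ x < cert.c.g, cert.slotOK a x = true) r72 chk_range72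
  have r74 := upto_step (P := fun a => ∀ x < cert.c.g, cert.slotOK a x = true) r73 chk_range73
  have r75 := upto_step (P := fun a => ∀ x < cert.c.g, cert.slotOK a x = true) r74 chk_range74
  have r76 := upto_step (P := fun a => ∀ x < cert.c.g, cert.slotOK a x = true) r75 chk_range75
  have r77 := upto_step (P := fun a => ∀ x < cert.c.g, cert.slotOK a x = true) r76 chk_range76
  have r78 := upto_step (P := fun a => ∀ x < cert.c.g, cert.slotOK a x = true) r77 chk_range77
  have r79 := upto_step (P := fun a => ∀ x < cert.c.g, cert.slotOK a x = true) r78 chk_range78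
  have r80 := upto_step (P := fun a => ∀ x < cert.c.g, cert.slotOK a x = true) r79 chk_range79
  have r81 := upto_step (P := fun a => ∀ x < cert.c.g, cert.slotOK a x = true) r80 chk_range80
  have r82 := upto_step (P := fun a => ∀ x < cert.c.g, cert.slotOK a x = true) r81 chk_range81
  have r83 := upto_step (P := fun a => ∀ x < cert.c.g, cert.slotOK a x = true) r82 chk_range82
  have r84 := upto_step (P := fun a => ∀ x < cert.c.g, cert.slotOK a x = true) r83 chk_range83
  have r85 := upto_step (P := fun a => ∀ x < cert.c.g, cert.slotOK a x = true) r84 chk_range84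
  have r86 := upto_step (P := fun a => ∀ x < cert.c.g, cert.slotOK a x = true) r85 chk_range85
  have r87 := upto_step (P := fun a => ∀ x < cert.c.g, cert.slotOK a x = true) r86 chk_range86
  have r88 := upto_step (P := fun a => ∀ x < cert.c.g, cert.slotOK a x = true) r87 chk_range87
  have r89 := upto_step (P := fun a => ∀ x < cert.c.g, cert.slotOK a x = true) r88 chk_range88
  have r90 := upto_step (P := fun a => ∀ x < cert.c.g, cert.slotOK a x = true) r89 chk_range89
  have r91 := upto_step (P := fun a => ∀ x < cert.c.g, cert.slotOK a x = true) r90 chk_range90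
  have r92 := upto_step (P := fun a => ∀ x < cert.c.g, cert.slotOK a x = true) r91 chk_range91
  have r93 := upto_step (P := fun a => ∀ x < cert.c.g, cert.slotOK a x = true) r92 chk_range92
  have r94 := upto_step (P := fun a => ∀ x < cert.c.g, cert.slotOK a x = true) r93 chk_range93
  have r95 := upto_step (P := fun a => ∀ x < cert.c.g, cert.slotOK a x = true) r94 chk_range94
  have r96 := upto_step (P := fun a => ∀ x < cert.c.g, cert.slotOK a x = true) r95 chk_range95
  have r97 := upto_step (P := fun a => ∀ x < cert.c.g, cert.slotOK a x = true) r96 chk_range96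
  have r98 := upto_step (P := fun a => ∀ x < cert.c.g, cert.slotOK a x = true) r97 chk_range97
  have r99 := upto_step (P := fun a => ∀ x < cert.c.g, cert.slotOK a x = true) r98 chk_range98
  have r100 := upto_step (P := fun a => ∀ x < cert.c.g, cert.slotOK a x = true) r99 chk_range99
  have r101 := upto_step (P := fun a => ∀ x < cert.c.g, cert.slotOK a x = true) r100 chk_range100
  have r102 := upto_step (P := fun a => ∀ x < cert.c.g, cert.slotOK a x = true) r101 chk_range101
  have r103 := upto_step (P := fun a => ∀ x < cert.c.g, cert.slotOK a x = true) r102 chk_range102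
  have r104 := upto_step (P := fun a => ∀ x < cert.c.g, cert.slotOK a x = true) r103 chk_range103
  have r105 := upto_step (P := fun a => ∀ x < cert.c.g, cert.slotOK a x = true) r104 chk_range104
  have r106 := upto_step (P := fun a => ∀ x < cert.c.g, cert.slotOK a x = true) r105 chk_range105
  have r107 := upto_step (P := fun a => ∀ x < cert.c.g, cert.slotOK a x = true) r106 chk_range106
  have r108 := upto_step (P := fun a => ∀ x < cert.c.g, cert.slotOK a x = true) r107 chk_range107
  have r109 := upto_step (P := fun a => ∀ x < cert.c.g, cert.slotOK a x = true) r108 chk_range108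
  have r110 := upto_step (P := fun a => ∀ x < cert.c.g, cert.slotOK a x = true) r109 chk_range109
  have r111 := upto_step (P := fun a => ∀ x < cert.c.g, cert.slotOK a x = true) r110 chk_range110
  have r112 := upto_step (P := fun a => ∀ x < cert.c.g, cert.slotOK a x = true) r111 chk_range111
  have r113 := upto_step (P := fun a => ∀ x < cert.c.g, cert.slotOK a x = true) r112 chk_range112
  have r114 := upto_step (P := fun a => ∀ x < cert.c.g, cert.slotOK a x = true) r113 chk_range113
  have r115 := upto_step (P := fun a => ∀ x < cert.c.g, cert.slotOK a x = true) r114 chk_range114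
  have r116 := upto_step (P := fun a => ∀ x < cert.c.g, cert.slotOK a x = true) r115 chk_range115
  have r117 := upto_step (P := fun a => ∀ x < cert.c.g, cert.slotOK a x = true) r116 chk_range116
  have r118 := upto_step (P := fun a => ∀ x < cert.c.g, cert.slotOK a x = true) r117 chk_range117
  have r119 := upto_step (P := fun a => ∀ x < cert.c.g, cert.slotOK a x = true) r118 chk_range118
  have r120 := upto_step (P := fun a => ∀ x < cert.c.g, cert.slotOK a x = true) r119 chk_range119
  have r121 := upto_step (P := fun a => ∀ x < cert.c.g, cert.slotOK a x = true) r120 chk_range120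
  have r122 := upto_step (P := fun a => ∀ x < cert.c.g, cert.slotOK a x = true) r121 chk_range121
  have r123 := upto_step (P := fun a => ∀ x < cert.c.g, cert.slotOK a x = true) r122 chk_range122
  have r124 := upto_step (P := fun a => ∀ x < cert.c.g, cert.slotOK a x = true) r123 chk_range123
  have r125 := upto_step (P := fun a => ∀ x < cert.c.g, cert.slotOK a x = true) r124 chk_range124
  have r126 := upto_step (P := fun a => ∀ x < cert.c.g, cert.slotOK a x = true) r125 chk_range125
  have r127 := upto_step (P := fun a => ∀ x < cert.c.g, cert.slotOK a x = true) r126 chk_range126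
  have r128 := upto_step (P := fun a => ∀ x < cert.c.g, cert.slotOK a x = true) r127 chk_range127
  have r129 := upto_step (P := fun a => ∀ x < cert.c.g, cert.slotOK a x = true) r128 chk_range128
  have r130 := upto_step (P := fun a => ∀ x < cert.c.g, cert.slotOK a x = true) r129 chk_range129
  have r131 := upto_step (P := fun a => ∀ x < cert.c.g, cert.slotOK a x = true) r130 chk_range130
  have r132 := upto_step (P := fun a => ∀ x < cert.c.g, cert.slotOK a x = true) r131 chk_range131
  have r133 := upto_step (P := fun a => ∀ x < cert.c.g, cert.slotOK a x = true) r132 chk_range132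
  have r134 := upto_step (P := fun a => ∀ x < cert.c.g, cert.slotOK a x = true) r133 chk_range133
  intro a ha
  exact r134 a (lt_of_lt_of_le ha (by show 1539000 ≤ 1540464; norm_num))

end Cfsg.Agent.Lib.Lead.HNP.HNTC
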