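import Cfsg.Agent.Lib.Lead.HNP.HNTCChk0
import Cfsg.Agent.Lib.Lead.HNP.HNTCSFin0
import Cfsg.Agent.Lib.Lead.HNP.HNTCSFin1
import Cfsg.Agent.Lib.Lead.HNP.HNTCSFin2
import Cfsg.Agent.Lib.Lead.HNP.HNTCSFin3
import Cfsg.Agent.Lib.Lead.HNP.HNTCSFin4
import Cfsg.Agent.Lib.Lead.HNP.HNTCSFin5
import Cfsg.Agent.Lib.Lead.HNP.HNTCSFin6
import Cfsg.Agent.Lib.Lead.HNP.HNTCSFin7
import Cfsg.Agent.Lib.Lead.HNP.HNTCSFin8
import Cfsg.Agent.Lib.Lead.HNP.HNTCSFin9
import Cfsg.Agent.Lib.Lead.HNP.HNTCSFin10
import Cfsg.Agent.Lib.Lead.HNP.HNTCSFin11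
import Cfsg.Agent.Lib.Lead.HNP.HNTCSFin12
import Cfsg.Agent.Lib.Lead.HNP.HNTCSFin13
import Cfsg.Agent.Lib.Lead.HNP.HNTCSFin14
import Cfsg.Agent.Lib.Lead.HNP.HNTCSFin15
import Cfsg.Agent.Lib.Lead.HNP.HNTCSFin16
import Cfsg.Agent.Lib.Lead.HNP.HNTCSFin17
import Cfsg.Agent.Lib.Lead.HNP.HNTCSFin18
import Cfsg.Agent.Lib.Lead.HNP.HNTCSFin19
import Cfsg.Agent.Lib.Lead.HNP.HNTCSFin20
import Cfsg.Agent.Lib.Lead.HNP.HNTCSFin21
import Cfsg.Agent.Lib.Lead.HNP.HNTCSFin22
import Cfsg.Agent.Lib.Lead.HNP.HNTCSFin23
import Cfsg.Agent.Lib.Lead.HNP.HNTCSFin24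
import Cfsg.Agent.Lib.Lead.HNP.HNTCSFin25
import Cfsg.Agent.Lib.Lead.HNP.HNTCSFin26
import Cfsg.Agent.Lib.Lead.HNP.HNTCSFin27
import Cfsg.Agent.Lib.Lead.HNP.HNTCSFin28
import Cfsg.Agent.Lib.Lead.HNP.HNTCSFin29
import Cfsg.Agent.Lib.Lead.HNP.HNTCSFin30
import Cfsg.Agent.Lib.Lead.HNP.HNTCSFin31
import Cfsg.Agent.Lib.Lead.HNP.HNTCSFin32
import Cfsg.Agent.Lib.Lead.HNP.HNTCSFin33
import Cfsg.Agent.Lib.Lead.HNP.HNTCSFin34
import Cfsg.Agent.Lib.Lead.HNP.HNTCSFin35
import Cfsg.Agent.Lib.Lead.HNP.HNTCSFin36
import Cfsg.Agent.Lib.Lead.HNP.HNTCSFin37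
import Cfsg.Agent.Lib.Lead.HNP.HNTCSFin38
import Cfsg.Agent.Lib.Lead.HNP.HNTCSFin39
import Cfsg.Agent.Lib.Lead.HNP.HNTCSFin40
import Cfsg.Agent.Lib.Lead.HNP.HNTCSFin41
import Cfsg.Agent.Lib.Lead.HNP.HNTCSFin42
import Cfsg.Agent.Lib.Lead.HNP.HNTCSFin43
import Cfsg.Agent.Lib.Lead.HNP.HNTCSFin44
import Cfsg.Agent.Lib.Lead.HNP.HNTCSFin45
import Cfsg.Agent.Lib.Lead.HNP.HNTCSFin46
import Cfsg.Agent.Lib.Lead.HNP.HNTCSFin47
import Cfsg.Agent.Lib.Lead.HNP.HNTCSFin48
import Cfsg.Agent.Lib.Lead.HNP.HNTCSFin49
import Cfsg.Agent.Lib.Lead.HNP.HNTCSFin50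
import Cfsg.Agent.Lib.Lead.HNP.HNTCSFin51
import Cfsg.Agent.Lib.Lead.HNP.HNTCSFin52
import Cfsg.Agent.Lib.Lead.HNP.HNTCSFin53
import Cfsg.Agent.Lib.Lead.HNP.HNTCSFin54
import Cfsg.Agent.Lib.Lead.HNP.HNTCSFin55
import Cfsg.Agent.Lib.Lead.HNP.HNTCSFin56
import Cfsg.Agent.Lib.Lead.HNP.HNTCSFin57
import Cfsg.Agent.Lib.Lead.HNP.HNTCSFin58
import Cfsg.Agent.Lib.Lead.HNP.HNTCSFin59
import Cfsg.Agent.Lib.Lead.HNP.HNTCSFin60
import Cfsg.Agent.Lib.Lead.HNP.HNTCSFin61
import Cfsg.Agent.Lib.Lead.HNP.HNTCSFin62
import Cfsg.Agent.Lib.Lead.HNP.HNTCSFin63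
import Cfsg.Agent.Lib.Lead.HNP.HNTCSFin64
import Cfsg.Agent.Lib.Lead.HNP.HNTCSFin65
import Cfsg.Agent.Lib.Lead.HNP.HNTCSFin66
import Cfsg.Agent.Lib.Lead.HNP.HNTCSFin67
import Cfsg.Agent.Lib.Lead.HNP.HNTCSFin68
import Cfsg.Agent.Lib.Lead.HNP.HNTCSFin69
import Cfsg.Agent.Lib.Lead.HNP.HNTCSFin70
import Cfsg.Agent.Lib.Lead.HNP.HNTCSFin71
import Cfsg.Agent.Lib.Lead.HNP.HNTCSFin72
import Cfsg.Agent.Lib.Lead.HNP.HNTCSFin73
import Cfsg.Agent.Lib.Lead.HNP.HNTCSFin74
import Cfsg.Agent.Lib.Lead.HNP.HNTCSFin75
import Cfsg.Agent.Lib.Lead.HNP.HNTCSFin76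
import Cfsg.Agent.Lib.Lead.HNP.HNTCSFin77
import Cfsg.Agent.Lib.Lead.HNP.HNTCSFin78
import Cfsg.Agent.Lib.Lead.HNP.HNTCSFin79
import Cfsg.Agent.Lib.Lead.HNP.HNTCSFin80
import Cfsg.Agent.Lib.Lead.HNP.HNTCSFin81
import Cfsg.Agent.Lib.Lead.HNP.HNTCSFin82
import Cfsg.Agent.Lib.Lead.HNP.HNTCSFin83
import Cfsg.Agent.Lib.Lead.HNP.HNTCSFin84
import Cfsg.Agent.Lib.Lead.HNP.HNTCSFin85

/-! # HNTC: the coset enumeration is checked -/

set_option autoImplicit false

namespace Cfsg.Agent.Lib.Lead.HNP.HNTC

open Cfsg.Agent.Lib.Helper6.TC Cfsg.Agent.Lib.Helper6.TCGS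

theorem arrM_entry (w b : ℕ) : cert.M.entry w b = 0 := by
  show (BT.leaf 0).entry w b = 0
  unfold BT.entry
  rw [force_eq]
  show Cfsg.Agent.Lib.Helper6.NatArr.aget w 0 _ = 0
  rw [Cfsg.Agent.Lib.Helper6.NatArr.aget_eq]
  simp

theorem chk_mrows : ∀ b < cert.N, cert.mslotOK b = true := by
  intro b _
  unfold SCert.mslotOK SCert.mget
  rw [arrM_entry]
  rfl

theorem chk_fin : cert.finalOK 1539000 = true := by
  refine cert.finalOK_of_chunks 1539000 2000 770 (by norm_num) (by show 1539000 ≤ 770 * 2000; norm_num) ?_
  intro k hk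
  interval_cases k
  · exact chk_fin0
  · exact chk_fin1
  · exact chk_fin2
  · exact chk_fin3
  · exact chk_fin4
  · exact chk_fin5
  · exact chk_fin6
  · exact chk_fin7
  · exact chk_fin8
  · exact chk_fin9
  · exact chk_fin10
  · exact chk_fin11
  · exact chk_fin12
  · exact chk_fin13
  · exact chk_fin14
  · exact chk_fin15
  · exact chk_fin16
  · exact chk_fin17
  · exact chk_fin18
  · exact chk_fin19
  · exact chk_fin20
  · exact chk_fin21
  · exact chk_fin22
  · exact chk_fin23
  · exact chk_fin24
  · exact chk_fin25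
  · exact chk_fin26
  · exact chk_fin27
  · exact chk_fin28
  · exact chk_fin29
  · exact chk_fin30
  · exact chk_fin31
  · exact chk_fin32
  · exact chk_fin33
  · exact chk_fin34
  · exact chk_fin35
  · exact chk_fin36
  · exact chk_fin37
  · exact chk_fin38
  · exact chk_fin39
  · exact chk_fin40
  · exact chk_fin41
  · exact chk_fin42
  · exact chk_fin43
  · exact chk_fin44
  · exact chk_fin45
  · exact chk_fin46
  · exact chk_fin47
  · exact chk_fin48
  · exact chk_fin49
  · exact chk_fin50
  · exact chk_fin51
  · exact chk_fin52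
  · exact chk_fin53
  · exact chk_fin54
  · exact chk_fin55
  · exact chk_fin56
  · exact chk_fin57
  · exact chk_fin58
  · exact chk_fin59
  · exact chk_fin60
  · exact chk_fin61
  · exact chk_fin62
  · exact chk_fin63
  · exact chk_fin64
  · exact chk_fin65
  · exact chk_fin66
  · exact chk_fin67
  · exact chk_fin68
  · exact chk_fin69
  · exact chk_fin70
  · exact chk_fin71
  · exact chk_fin72
  · exact chk_fin73
  · exact chk_fin74
  · exact chk_fin75
  · exact chk_fin76
  · exact chk_fin77
  · exact chk_fin78
  · exact chk_fin79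
  · exact chk_fin80
  · exact chk_fin81
  · exact chk_fin82
  · exact chk_fin83
  · exact chk_fin84
  · exact chk_fin85
  · exact chk_fin86
  · exact chk_fin87
  · exact chk_fin88
  · exact chk_fin89
  · exact chk_fin90
  · exact chk_fin91
  · exact chk_fin92
  · exact chk_fin93
  · exact chk_fin94
  · exact chk_fin95
  · exact chk_fin96
  · exact chk_fin97
  · exact chk_fin98
  · exact chk_fin99
  · exact chk_fin100
  · exact chk_fin101
  · exact chk_fin102
  · exact chk_fin103
  · exact chk_fin104
  · exact chk_fin105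
  · exact chk_fin106
  · exact chk_fin107
  · exact chk_fin108
  · exact chk_fin109
  · exact chk_fin110
  · exact chk_fin111
  · exact chk_fin112
  · exact chk_fin113
  · exact chk_fin114
  · exact chk_fin115
  · exact chk_fin116
  · exact chk_fin117
  · exact chk_fin118
  · exact chk_fin119
  · exact chk_fin120
  · exact chk_fin121
  · exact chk_fin122
  · exact chk_fin123
  · exact chk_fin124
  · exact chk_fin125
  · exact chk_fin126
  · exact chk_fin127
  · exact chk_fin128
  · exact chk_fin129
  · exact chk_fin130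
  · exact chk_fin131
  · exact chk_fin132
  · exact chk_fin133
  · exact chk_fin134
  · exact chk_fin135
  · exact chk_fin136
  · exact chk_fin137
  · exact chk_fin138
  · exact chk_fin139
  · exact chk_fin140
  · exact chk_fin141
  · exact chk_fin142
  · exact chk_fin143
  · exact chk_fin144
  · exact chk_fin145
  · exact chk_fin146
  · exact chk_fin147
  · exact chk_fin148
  · exact chk_fin149
  · exact chk_fin150
  · exact chk_fin151
  · exact chk_fin152
  · exact chk_fin153
  · exact chk_fin154
  · exact chk_fin155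
  · exact chk_fin156
  · exact chk_fin157
  · exact chk_fin158
  · exact chk_fin159
  · exact chk_fin160
  · exact chk_fin161
  · exact chk_fin162
  · exact chk_fin163
  · exact chk_fin164
  · exact chk_fin165
  · exact chk_fin166
  · exact chk_fin167
  · exact chk_fin168
  · exact chk_fin169
  · exact chk_fin170
  · exact chk_fin171
  · exact chk_fin172
  · exact chk_fin173
  · exact chk_fin174
  · exact chk_fin175
  · exact chk_fin176
  · exact chk_fin177
  · exact chk_fin178
  · exact chk_fin179
  · exact chk_fin180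
  · exact chk_fin181
  · exact chk_fin182
  · exact chk_fin183
  · exact chk_fin184
  · exact chk_fin185
  · exact chk_fin186
  · exact chk_fin187
  · exact chk_fin188
  · exact chk_fin189
  · exact chk_fin190
  · exact chk_fin191
  · exact chk_fin192
  · exact chk_fin193
  · exact chk_fin194
  · exact chk_fin195
  · exact chk_fin196
  · exact chk_fin197
  · exact chk_fin198
  · exact chk_fin199
  · exact chk_fin200
  · exact chk_fin201
  · exact chk_fin202
  · exact chk_fin203
  · exact chk_fin204
  · exact chk_fin205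
  · exact chk_fin206
  · exact chk_fin207
  · exact chk_fin208
  · exact chk_fin209
  · exact chk_fin210
  · exact chk_fin211
  · exact chk_fin212
  · exact chk_fin213
  · exact chk_fin214
  · exact chk_fin215
  · exact chk_fin216
  · exact chk_fin217
  · exact chk_fin218
  · exact chk_fin219
  · exact chk_fin220
  · exact chk_fin221
  · exact chk_fin222
  · exact chk_fin223
  · exact chk_fin224
  · exact chk_fin225
  · exact chk_fin226
  · exact chk_fin227
  · exact chk_fin228
  · exact chk_fin229
  · exact chk_fin230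
  · exact chk_fin231
  · exact chk_fin232
  · exact chk_fin233
  · exact chk_fin234
  · exact chk_fin235
  · exact chk_fin236
  · exact chk_fin237
  · exact chk_fin238
  · exact chk_fin239
  · exact chk_fin240
  · exact chk_fin241
  · exact chk_fin242
  · exact chk_fin243
  · exact chk_fin244
  · exact chk_fin245
  · exact chk_fin246
  · exact chk_fin247
  · exact chk_fin248
  · exact chk_fin249
  · exact chk_fin250
  · exact chk_fin251
  · exact chk_fin252
  · exact chk_fin253
  · exact chk_fin254
  · exact chk_fin255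
  · exact chk_fin256
  · exact chk_fin257
  · exact chk_fin258
  · exact chk_fin259
  · exact chk_fin260
  · exact chk_fin261
  · exact chk_fin262
  · exact chk_fin263
  · exact chk_fin264
  · exact chk_fin265
  · exact chk_fin266
  · exact chk_fin267
  · exact chk_fin268
  · exact chk_fin269
  · exact chk_fin270
  · exact chk_fin271
  · exact chk_fin272
  · exact chk_fin273
  · exact chk_fin274
  · exact chk_fin275
  · exact chk_fin276
  · exact chk_fin277
  · exact chk_fin278
  · exact chk_fin279
  · exact chk_fin280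
  · exact chk_fin281
  · exact chk_fin282
  · exact chk_fin283
  · exact chk_fin284
  · exact chk_fin285
  · exact chk_fin286
  · exact chk_fin287
  · exact chk_fin288
  · exact chk_fin289
  · exact chk_fin290
  · exact chk_fin291
  · exact chk_fin292
  · exact chk_fin293
  · exact chk_fin294
  · exact chk_fin295
  · exact chk_fin296
  · exact chk_fin297
  · exact chk_fin298
  · exact chk_fin299
  · exact chk_fin300
  · exact chk_fin301
  · exact chk_fin302
  · exact chk_fin303
  · exact chk_fin304
  · exact chk_fin305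
  · exact chk_fin306
  · exact chk_fin307
  · exact chk_fin308
  · exact chk_fin309
  · exact chk_fin310
  · exact chk_fin311
  · exact chk_fin312
  · exact chk_fin313
  · exact chk_fin314
  · exact chk_fin315
  · exact chk_fin316
  · exact chk_fin317
  · exact chk_fin318
  · exact chk_fin319
  · exact chk_fin320
  · exact chk_fin321
  · exact chk_fin322
  · exact chk_fin323
  · exact chk_fin324
  · exact chk_fin325
  · exact chk_fin326
  · exact chk_fin327
  · exact chk_fin328
  · exact chk_fin329
  · exact chk_fin330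
  · exact chk_fin331
  · exact chk_fin332
  · exact chk_fin333
  · exact chk_fin334
  · exact chk_fin335
  · exact chk_fin336
  · exact chk_fin337
  · exact chk_fin338
  · exact chk_fin339
  · exact chk_fin340
  · exact chk_fin341
  · exact chk_fin342
  · exact chk_fin343
  · exact chk_fin344
  · exact chk_fin345
  · exact chk_fin346
  · exact chk_fin347
  · exact chk_fin348
  · exact chk_fin349
  · exact chk_fin350
  · exact chk_fin351
  · exact chk_fin352
  · exact chk_fin353
  · exact chk_fin354
  · exact chk_fin355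
  · exact chk_fin356
  · exact chk_fin357
  · exact chk_fin358
  · exact chk_fin359
  · exact chk_fin360
  · exact chk_fin361
  · exact chk_fin362
  · exact chk_fin363
  · exact chk_fin364
  · exact chk_fin365
  · exact chk_fin366
  · exact chk_fin367
  · exact chk_fin368
  · exact chk_fin369
  · exact chk_fin370
  · exact chk_fin371
  · exact chk_fin372
  · exact chk_fin373
  · exact chk_fin374
  · exact chk_fin375
  · exact chk_fin376
  · exact chk_fin377
  · exact chk_fin378
  · exact chk_fin379
  · exact chk_fin380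
  · exact chk_fin381
  · exact chk_fin382
  · exact chk_fin383
  · exact chk_fin384
  · exact chk_fin385
  · exact chk_fin386
  · exact chk_fin387
  · exact chk_fin388
  · exact chk_fin389
  · exact chk_fin390
  · exact chk_fin391
  · exact chk_fin392
  · exact chk_fin393
  · exact chk_fin394
  · exact chk_fin395
  · exact chk_fin396
  · exact chk_fin397
  · exact chk_fin398
  · exact chk_fin399
  · exact chk_fin400
  · exact chk_fin401
  · exact chk_fin402
  · exact chk_fin403
  · exact chk_fin404
  · exact chk_fin405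
  · exact chk_fin406
  · exact chk_fin407
  · exact chk_fin408
  · exact chk_fin409
  · exact chk_fin410
  · exact chk_fin411
  · exact chk_fin412
  · exact chk_fin413
  · exact chk_fin414
  · exact chk_fin415
  · exact chk_fin416
  · exact chk_fin417
  · exact chk_fin418
  · exact chk_fin419
  · exact chk_fin420
  · exact chk_fin421
  · exact chk_fin422
  · exact chk_fin423
  · exact chk_fin424
  · exact chk_fin425
  · exact chk_fin426
  · exact chk_fin427
  · exact chk_fin428
  · exact chk_fin429
  · exact chk_fin430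
  · exact chk_fin431
  · exact chk_fin432
  · exact chk_fin433
  · exact chk_fin434
  · exact chk_fin435
  · exact chk_fin436
  · exact chk_fin437
  · exact chk_fin438
  · exact chk_fin439
  · exact chk_fin440
  · exact chk_fin441
  · exact chk_fin442
  · exact chk_fin443
  · exact chk_fin444
  · exact chk_fin445
  · exact chk_fin446
  · exact chk_fin447
  · exact chk_fin448
  · exact chk_fin449
  · exact chk_fin450
  · exact chk_fin451
  · exact chk_fin452
  · exact chk_fin453
  · exact chk_fin454
  · exact chk_fin455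
  · exact chk_fin456
  · exact chk_fin457
  · exact chk_fin458
  · exact chk_fin459
  · exact chk_fin460
  · exact chk_fin461
  · exact chk_fin462
  · exact chk_fin463
  · exact chk_fin464
  · exact chk_fin465
  · exact chk_fin466
  · exact chk_fin467
  · exact chk_fin468
  · exact chk_fin469
  · exact chk_fin470
  · exact chk_fin471
  · exact chk_fin472
  · exact chk_fin473
  · exact chk_fin474
  · exact chk_fin475
  · exact chk_fin476
  · exact chk_fin477
  · exact chk_fin478
  · exact chk_fin479
  · exact chk_fin480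
  · exact chk_fin481
  · exact chk_fin482
  · exact chk_fin483
  · exact chk_fin484
  · exact chk_fin485
  · exact chk_fin486
  · exact chk_fin487
  · exact chk_fin488
  · exact chk_fin489
  · exact chk_fin490
  · exact chk_fin491
  · exact chk_fin492
  · exact chk_fin493
  · exact chk_fin494
  · exact chk_fin495
  · exact chk_fin496
  · exact chk_fin497
  · exact chk_fin498
  · exact chk_fin499
  · exact chk_fin500
  · exact chk_fin501
  · exact chk_fin502
  · exact chk_fin503
  · exact chk_fin504
  · exact chk_fin505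
  · exact chk_fin506
  · exact chk_fin507
  · exact chk_fin508
  · exact chk_fin509
  · exact chk_fin510
  · exact chk_fin511
  · exact chk_fin512
  · exact chk_fin513
  · exact chk_fin514
  · exact chk_fin515
  · exact chk_fin516
  · exact chk_fin517
  · exact chk_fin518
  · exact chk_fin519
  · exact chk_fin520
  · exact chk_fin521
  · exact chk_fin522
  · exact chk_fin523
  · exact chk_fin524
  · exact chk_fin525
  · exact chk_fin526
  · exact chk_fin527
  · exact chk_fin528
  · exact chk_fin529
  · exact chk_fin530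
  · exact chk_fin531
  · exact chk_fin532
  · exact chk_fin533
  · exact chk_fin534
  · exact chk_fin535
  · exact chk_fin536
  · exact chk_fin537
  · exact chk_fin538
  · exact chk_fin539
  · exact chk_fin540
  · exact chk_fin541
  · exact chk_fin542
  · exact chk_fin543
  · exact chk_fin544
  · exact chk_fin545
  · exact chk_fin546
  · exact chk_fin547
  · exact chk_fin548
  · exact chk_fin549
  · exact chk_fin550
  · exact chk_fin551
  · exact chk_fin552
  · exact chk_fin553
  · exact chk_fin554
  · exact chk_fin555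
  · exact chk_fin556
  · exact chk_fin557
  · exact chk_fin558
  · exact chk_fin559
  · exact chk_fin560
  · exact chk_fin561
  · exact chk_fin562
  · exact chk_fin563
  · exact chk_fin564
  · exact chk_fin565
  · exact chk_fin566
  · exact chk_fin567
  · exact chk_fin568
  · exact chk_fin569
  · exact chk_fin570
  · exact chk_fin571
  · exact chk_fin572
  · exact chk_fin573
  · exact chk_fin574
  · exact chk_fin575
  · exact chk_fin576
  · exact chk_fin577
  · exact chk_fin578
  · exact chk_fin579
  · exact chk_fin580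
  · exact chk_fin581
  · exact chk_fin582
  · exact chk_fin583
  · exact chk_fin584
  · exact chk_fin585
  · exact chk_fin586
  · exact chk_fin587
  · exact chk_fin588
  · exact chk_fin589
  · exact chk_fin590
  · exact chk_fin591
  · exact chk_fin592
  · exact chk_fin593
  · exact chk_fin594
  · exact chk_fin595
  · exact chk_fin596
  · exact chk_fin597
  · exact chk_fin598
  · exact chk_fin599
  · exact chk_fin600
  · exact chk_fin601
  · exact chk_fin602
  · exact chk_fin603
  · exact chk_fin604
  · exact chk_fin605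
  · exact chk_fin606
  · exact chk_fin607
  · exact chk_fin608
  · exact chk_fin609
  · exact chk_fin610
  · exact chk_fin611
  · exact chk_fin612
  · exact chk_fin613
  · exact chk_fin614
  · exact chk_fin615
  · exact chk_fin616
  · exact chk_fin617
  · exact chk_fin618
  · exact chk_fin619
  · exact chk_fin620
  · exact chk_fin621
  · exact chk_fin622
  · exact chk_fin623
  · exact chk_fin624
  · exact chk_fin625
  · exact chk_fin626
  · exact chk_fin627
  · exact chk_fin628
  · exact chk_fin629
  · exact chk_fin630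
  · exact chk_fin631
  · exact chk_fin632
  · exact chk_fin633
  · exact chk_fin634
  · exact chk_fin635
  · exact chk_fin636
  · exact chk_fin637
  · exact chk_fin638
  · exact chk_fin639
  · exact chk_fin640
  · exact chk_fin641
  · exact chk_fin642
  · exact chk_fin643
  · exact chk_fin644
  · exact chk_fin645
  · exact chk_fin646
  · exact chk_fin647
  · exact chk_fin648
  · exact chk_fin649
  · exact chk_fin650
  · exact chk_fin651
  · exact chk_fin652
  · exact chk_fin653
  · exact chk_fin654
  · exact chk_fin655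
  · exact chk_fin656
  · exact chk_fin657
  · exact chk_fin658
  · exact chk_fin659
  · exact chk_fin660
  · exact chk_fin661
  · exact chk_fin662
  · exact chk_fin663
  · exact chk_fin664
  · exact chk_fin665
  · exact chk_fin666
  · exact chk_fin667
  · exact chk_fin668
  · exact chk_fin669
  · exact chk_fin670
  · exact chk_fin671
  · exact chk_fin672
  · exact chk_fin673
  · exact chk_fin674
  · exact chk_fin675
  · exact chk_fin676
  · exact chk_fin677
  · exact chk_fin678
  · exact chk_fin679
  · exact chk_fin680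
  · exact chk_fin681
  · exact chk_fin682
  · exact chk_fin683
  · exact chk_fin684
  · exact chk_fin685
  · exact chk_fin686
  · exact chk_fin687
  · exact chk_fin688
  · exact chk_fin689
  · exact chk_fin690
  · exact chk_fin691
  · exact chk_fin692
  · exact chk_fin693
  · exact chk_fin694
  · exact chk_fin695
  · exact chk_fin696
  · exact chk_fin697
  · exact chk_fin698
  · exact chk_fin699
  · exact chk_fin700
  · exact chk_fin701
  · exact chk_fin702
  · exact chk_fin703
  · exact chk_fin704
  · exact chk_fin705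
  · exact chk_fin706
  · exact chk_fin707
  · exact chk_fin708
  · exact chk_fin709
  · exact chk_fin710
  · exact chk_fin711
  · exact chk_fin712
  · exact chk_fin713
  · exact chk_fin714
  · exact chk_fin715
  · exact chk_fin716
  · exact chk_fin717
  · exact chk_fin718
  · exact chk_fin719
  · exact chk_fin720
  · exact chk_fin721
  · exact chk_fin722
  · exact chk_fin723
  · exact chk_fin724
  · exact chk_fin725
  · exact chk_fin726
  · exact chk_fin727
  · exact chk_fin728
  · exact chk_fin729
  · exact chk_fin730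
  · exact chk_fin731
  · exact chk_fin732
  · exact chk_fin733
  · exact chk_fin734
  · exact chk_fin735
  · exact chk_fin736
  · exact chk_fin737
  · exact chk_fin738
  · exact chk_fin739
  · exact chk_fin740
  · exact chk_fin741
  · exact chk_fin742
  · exact chk_fin743
  · exact chk_fin744
  · exact chk_fin745
  · exact chk_fin746
  · exact chk_fin747
  · exact chk_fin748
  · exact chk_fin749
  · exact chk_fin750
  · exact chk_fin751
  · exact chk_fin752
  · exact chk_fin753
  · exact chk_fin754
  · exact chk_fin755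
  · exact chk_fin756
  · exact chk_fin757
  · exact chk_fin758
  · exact chk_fin759
  · exact chk_fin760
  · exact chk_fin761
  · exact chk_fin762
  · exact chk_fin763
  · exact chk_fin764
  · exact chk_fin765
  · exact chk_fin766
  · exact chk_fin767
  · exact chk_fin768
  · exact chk_fin769

theorem hrun : RunCertG cfg ivs tab.n :=
  RunCertG.of_static cert 1539000 (by norm_num) chk_rows chk_mrows chk_fin

end Cfsg.Agent.Lib.Lead.HNP.HNTC
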