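import Cfsg.Agent.Lib.Lead.HNP.HNTCSE0
import Cfsg.Agent.Lib.Lead.HNP.HNTCSE1
import Cfsg.Agent.Lib.Lead.HNP.HNTCSE2
import Cfsg.Agent.Lib.Lead.HNP.HNTCSE3
import Cfsg.Agent.Lib.Lead.HNP.HNTCSE4
import Cfsg.Agent.Lib.Lead.HNP.HNTCSE5
import Cfsg.Agent.Lib.Lead.HNP.HNTCSE6
import Cfsg.Agent.Lib.Lead.HNP.HNTCSE7
import Cfsg.Agent.Lib.Lead.HNP.HNTCSE8
import Cfsg.Agent.Lib.Lead.HNP.HNTCSE9
import Cfsg.Agent.Lib.Lead.HNP.HNTCSE10
import Cfsg.Agent.Lib.Lead.HNP.HNTCSE11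
import Cfsg.Agent.Lib.Lead.HNP.HNTCSE12
import Cfsg.Agent.Lib.Lead.HNP.HNTCSE13
import Cfsg.Agent.Lib.Lead.HNP.HNTCSE14
import Cfsg.Agent.Lib.Lead.HNP.HNTCSE15

/-! # Coset enumeration data for HNTC: the entries of the table with their times (generated) -/

set_option autoImplicit false
set_option maxRecDepth 1000000
set_option maxHeartbeats 40000000

namespace Cfsg.Agent.Lib.Lead.HNP.HNTC

open Cfsg.Agent.Lib.Helper6.TC Cfsg.Agent.Lib.Helper6.TCGS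

/-- the entries of the table with their times -/
noncomputable def arrE : BT :=
  (.node (.node (.node (.node arrE_0 arrE_1) (.node arrE_2 arrE_3)) (.node (.node arrE_4 arrE_5) (.node arrE_6 arrE_7))) (.node (.node (.node arrE_8 arrE_9) (.node arrE_10 arrE_11)) (.node (.node arrE_12 arrE_13) (.node arrE_14 arrE_15))))


end Cfsg.Agent.Lib.Lead.HNP.HNTC
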