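import Cfsg.Agent.Lib.Lead.HNP.HNTCSJ0
import Cfsg.Agent.Lib.Lead.HNP.HNTCSJ1
import Cfsg.Agent.Lib.Lead.HNP.HNTCSJ2
import Cfsg.Agent.Lib.Lead.HNP.HNTCSJ3
import Cfsg.Agent.Lib.Lead.HNP.HNTCSJ4
import Cfsg.Agent.Lib.Lead.HNP.HNTCSJ5
import Cfsg.Agent.Lib.Lead.HNP.HNTCSJ6
import Cfsg.Agent.Lib.Lead.HNP.HNTCSJ7
import Cfsg.Agent.Lib.Lead.HNP.HNTCSJ8
import Cfsg.Agent.Lib.Lead.HNP.HNTCSJ9
import Cfsg.Agent.Lib.Lead.HNP.HNTCSJ10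
import Cfsg.Agent.Lib.Lead.HNP.HNTCSJ11
import Cfsg.Agent.Lib.Lead.HNP.HNTCSJ12
import Cfsg.Agent.Lib.Lead.HNP.HNTCSJ13
import Cfsg.Agent.Lib.Lead.HNP.HNTCSJ14
import Cfsg.Agent.Lib.Lead.HNP.HNTCSJ15
import Cfsg.Agent.Lib.Lead.HNP.HNTCSJ16
import Cfsg.Agent.Lib.Lead.HNP.HNTCSJ17
import Cfsg.Agent.Lib.Lead.HNP.HNTCSJ18
import Cfsg.Agent.Lib.Lead.HNP.HNTCSJ19
import Cfsg.Agent.Lib.Lead.HNP.HNTCSJ20
import Cfsg.Agent.Lib.Lead.HNP.HNTCSJ21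
import Cfsg.Agent.Lib.Lead.HNP.HNTCSJ22
import Cfsg.Agent.Lib.Lead.HNP.HNTCSJ23
import Cfsg.Agent.Lib.Lead.HNP.HNTCSJ24
import Cfsg.Agent.Lib.Lead.HNP.HNTCSJ25
import Cfsg.Agent.Lib.Lead.HNP.HNTCSJ26
import Cfsg.Agent.Lib.Lead.HNP.HNTCSJ27
import Cfsg.Agent.Lib.Lead.HNP.HNTCSJ28
import Cfsg.Agent.Lib.Lead.HNP.HNTCSJ29
import Cfsg.Agent.Lib.Lead.HNP.HNTCSJ30
import Cfsg.Agent.Lib.Lead.HNP.HNTCSJ31

/-! # Coset enumeration data for HNTC: the reasons for the entries of the table (generated) -/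

set_option autoImplicit false
set_option maxRecDepth 1000000
set_option maxHeartbeats 40000000

namespace Cfsg.Agent.Lib.Lead.HNP.HNTC

open Cfsg.Agent.Lib.Helper6.TC Cfsg.Agent.Lib.Helper6.TCGS

/-- the reasons for the entries of the table -/
noncomputable def arrJ : BT :=
  (.node (.node (.node (.node (.node arrJ_0 arrJ_1) (.node arrJ_2 arrJ_3)) (.node (.node arrJ_4 arrJ_5) (.node arrJ_6 arrJ_7))) (.node (.node (.node arrJ_8 arrJ_9) (.node arrJ_10 arrJ_11)) (.node (.node arrJ_12 arrJ_13) (.node arrJ_14 arrJ_15)))) (.node (.node (.node (.node arrJ_16 arrJ_17) (.node arrJ_18 arrJ_19)) (.node (.node arrJ_20 arrJ_21) (.node arrJ_22 arrJ_23))) (.node (.node (.node arrJ_24 arrJ_25) (.node arrJ_26 arrJ_27)) (.node (.node arrJ_28 arrJ_29) (.node arrJ_30 arrJ_31)))))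


end Cfsg.Agent.Lib.Lead.HNP.HNTC
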