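import Cfsg.Agent.Lib.Lead.HNP.HNTCSP0
import Cfsg.Agent.Lib.Lead.HNP.HNTCSP1

/-! # Coset enumeration data for HNTC: the merge map (empty), the definitions of the rows (generated) -/

set_option autoImplicit false
set_option maxRecDepth 1000000
set_option maxHeartbeats 40000000

namespace Cfsg.Agent.Lib.Lead.HNP.HNTC

open Cfsg.Agent.Lib.Helper6.TC Cfsg.Agent.Lib.Helper6.TCGS

/-- the merge map with its times: there are no merges -/
noncomputable def arrM : BT := .leaf 0x0

/-- the reasons for the merges: there are none -/
noncomputable def arrJM : BT := .leaf 0x0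

/-- the definitions of the rows -/
noncomputable def arrP : BT :=
  (.node arrP_0 arrP_1)


end Cfsg.Agent.Lib.Lead.HNP.HNTC
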