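import Cfsg.Agent.Lib.Lead.HNP.HNTCData
import Cfsg.Agent.Lib.Lead.HNP.HNTCSE
import Cfsg.Agent.Lib.Lead.HNP.HNTCSJ
import Cfsg.Agent.Lib.Lead.HNP.HNTCSM

/-! # HNTC: the table with a proof for every entry -/

set_option autoImplicit false

namespace Cfsg.Agent.Lib.Lead.HNP.HNTC

open Cfsg.Agent.Lib.Helper6.TC Cfsg.Agent.Lib.Helper6.TCGS

/-- the table with a proof for every entry -/
noncomputable def cert : SCert := ⟨cfg, 10, 1539000, arrE, arrM, arrJ, arrJM, arrP, ivs⟩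

end Cfsg.Agent.Lib.Lead.HNP.HNTC
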