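import Cfsg.Agent.Lib.Lead.HNP.HNTCTb0
import Cfsg.Agent.Lib.Lead.HNP.HNTCTb1
import Cfsg.Agent.Lib.Lead.HNP.HNTCTb2
import Cfsg.Agent.Lib.Lead.HNP.HNTCTb3
import Cfsg.Agent.Lib.Lead.HNP.HNTCTb4
import Cfsg.Agent.Lib.Lead.HNP.HNTCTb5
import Cfsg.Agent.Lib.Lead.HNP.HNTCTb6
import Cfsg.Agent.Lib.Lead.HNP.HNTCTb7
import Cfsg.Agent.Lib.Lead.HNP.HNTCTb8
import Cfsg.Agent.Lib.Lead.HNP.HNTCTb9
import Cfsg.Agent.Lib.Lead.HNP.HNTCTb10
import Cfsg.Agent.Lib.Lead.HNP.HNTCTb11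
import Cfsg.Agent.Lib.Lead.HNP.HNTCTb12
import Cfsg.Agent.Lib.Lead.HNP.HNTCTb13
import Cfsg.Agent.Lib.Lead.HNP.HNTCTb14
import Cfsg.Agent.Lib.Lead.HNP.HNTCTb15

/-! # Coset enumeration data for HNTC: the coset table (generated) -/

set_option autoImplicit false
set_option maxRecDepth 1000000
set_option maxHeartbeats 40000000

namespace Cfsg.Agent.Lib.Lead.HNP.HNTC

open Cfsg.Agent.Lib.Helper6.TC

/-- the coset table -/
noncomputable def arrT : BT :=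
  (.node (.node (.node (.node arrT_0 arrT_1) (.node arrT_2 arrT_3)) (.node (.node arrT_4 arrT_5) (.node arrT_6 arrT_7))) (.node (.node (.node arrT_8 arrT_9) (.node arrT_10 arrT_11)) (.node (.node arrT_12 arrT_13) (.node arrT_14 arrT_15))))


end Cfsg.Agent.Lib.Lead.HNP.HNTC
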