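import Cfsg.Agent.Lib.Lead.HNP.HNTCData
import Cfsg.Agent.Lib.Helper6.TCChunk
import Cfsg.Agent.Lib.Lead.HNP.HNTCTab84

/-! # HNTC: the kernel check that the coset table is connected, part 22 -/

set_option autoImplicit false

namespace Cfsg.Agent.Lib.Lead.HNP.HNTC

open Cfsg.Agent.Lib.Helper6.TC Cfsg.Agent.Lib.Helper6.TCGS

theorem chk_tree594 : tab.treeOKc 1188000 2000 = true := by decide +kernel

theorem chk_tree595 : tab.treeOKc 1190000 2000 = true := by decide +kernel

theorem chk_tree596 : tab.treeOKc 1192000 2000 = true := by decide +kernel

theorem chk_tree597 : tab.treeOKc 1194000 2000 = true := by decide +kernel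

theorem chk_tree598 : tab.treeOKc 1196000 2000 = true := by decide +kernel

theorem chk_tree599 : tab.treeOKc 1198000 2000 = true := by decide +kernel

theorem chk_tree600 : tab.treeOKc 1200000 2000 = true := by decide +kernel

theorem chk_tree601 : tab.treeOKc 1202000 2000 = true := by decide +kernel

theorem chk_tree602 : tab.treeOKc 1204000 2000 = true := by decide +kernel

theorem chk_tree603 : tab.treeOKc 1206000 2000 = true := by decide +kernel

theorem chk_tree604 : tab.treeOKc 1208000 2000 = true := by decide +kernel

theorem chk_tree605 : tab.treeOKc 1210000 2000 = true := by decide +kernel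

theorem chk_tree606 : tab.treeOKc 1212000 2000 = true := by decide +kernel

theorem chk_tree607 : tab.treeOKc 1214000 2000 = true := by decide +kernel

theorem chk_tree608 : tab.treeOKc 1216000 2000 = true := by decide +kernel

theorem chk_tree609 : tab.treeOKc 1218000 2000 = true := by decide +kernel

theorem chk_tree610 : tab.treeOKc 1220000 2000 = true := by decide +kernel

theorem chk_tree611 : tab.treeOKc 1222000 2000 = true := by decide +kernel

theorem chk_tree612 : tab.treeOKc 1224000 2000 = true := by decide +kernel

theorem chk_tree613 : tab.treeOKc 1226000 2000 = true := by decide +kernel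

theorem chk_tree614 : tab.treeOKc 1228000 2000 = true := by decide +kernel

theorem chk_tree615 : tab.treeOKc 1230000 2000 = true := by decide +kernel

theorem chk_tree616 : tab.treeOKc 1232000 2000 = true := by decide +kernel

theorem chk_tree617 : tab.treeOKc 1234000 2000 = true := by decide +kernel

theorem chk_tree618 : tab.treeOKc 1236000 2000 = true := by decide +kernel

theorem chk_tree619 : tab.treeOKc 1238000 2000 = true := by decide +kernel

theorem chk_tree620 : tab.treeOKc 1240000 2000 = true := by decide +kernel


end Cfsg.Agent.Lib.Lead.HNP.HNTC
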