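import Cfsg.Agent.Lib.Lead.HNP.HNTCData
import Cfsg.Agent.Lib.Helper6.TCChunk
import Cfsg.Agent.Lib.Lead.HNP.HNTCTab70

/-! # HNTC: the kernel check that the coset table is connected, part 8 -/

set_option autoImplicit false

namespace Cfsg.Agent.Lib.Lead.HNP.HNTC

open Cfsg.Agent.Lib.Helper6.TC Cfsg.Agent.Lib.Helper6.TCGS

theorem chk_tree216 : tab.treeOKc 432000 2000 = true := by decide +kernel

theorem chk_tree217 : tab.treeOKc 434000 2000 = true := by decide +kernel

theorem chk_tree218 : tab.treeOKc 436000 2000 = true := by decide +kernel

theorem chk_tree219 : tab.treeOKc 438000 2000 = true := by decide +kernel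

theorem chk_tree220 : tab.treeOKc 440000 2000 = true := by decide +kernel

theorem chk_tree221 : tab.treeOKc 442000 2000 = true := by decide +kernel

theorem chk_tree222 : tab.treeOKc 444000 2000 = true := by decide +kernel

theorem chk_tree223 : tab.treeOKc 446000 2000 = true := by decide +kernel

theorem chk_tree224 : tab.treeOKc 448000 2000 = true := by decide +kernel

theorem chk_tree225 : tab.treeOKc 450000 2000 = true := by decide +kernel

theorem chk_tree226 : tab.treeOKc 452000 2000 = true := by decide +kernel

theorem chk_tree227 : tab.treeOKc 454000 2000 = true := by decide +kernel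

theorem chk_tree228 : tab.treeOKc 456000 2000 = true := by decide +kernel

theorem chk_tree229 : tab.treeOKc 458000 2000 = true := by decide +kernel

theorem chk_tree230 : tab.treeOKc 460000 2000 = true := by decide +kernel

theorem chk_tree231 : tab.treeOKc 462000 2000 = true := by decide +kernel

theorem chk_tree232 : tab.treeOKc 464000 2000 = true := by decide +kernel

theorem chk_tree233 : tab.treeOKc 466000 2000 = true := by decide +kernel

theorem chk_tree234 : tab.treeOKc 468000 2000 = true := by decide +kernel

theorem chk_tree235 : tab.treeOKc 470000 2000 = true := by decide +kernel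

theorem chk_tree236 : tab.treeOKc 472000 2000 = true := by decide +kernel

theorem chk_tree237 : tab.treeOKc 474000 2000 = true := by decide +kernel

theorem chk_tree238 : tab.treeOKc 476000 2000 = true := by decide +kernel

theorem chk_tree239 : tab.treeOKc 478000 2000 = true := by decide +kernel

theorem chk_tree240 : tab.treeOKc 480000 2000 = true := by decide +kernel

theorem chk_tree241 : tab.treeOKc 482000 2000 = true := by decide +kernel

theorem chk_tree242 : tab.treeOKc 484000 2000 = true := by decide +kernel


end Cfsg.Agent.Lib.Lead.HNP.HNTC
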