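import Cfsg.Agent.Lib.Lead.HNP.P1408Chk0
import Cfsg.Agent.Lib.Lead.HNP.P1408SMRows0
import Cfsg.Agent.Lib.Lead.HNP.P1408SFin0

/-! # P1408: the coset enumeration is checked -/

set_option autoImplicit false

namespace Cfsg.Agent.Lib.Lead.HNP.P1408

open Cfsg.Agent.Lib.Helper6.TC Cfsg.Agent.Lib.Helper6.TCGS

theorem chk_mrows : ∀ b < cert.N, cert.mslotOK b = true := by
  refine cert.mrows_of_ranges 4000 1 (by norm_num) (by show 3763 ≤ 1 * 4000; norm_num) ?_
  intro f hf
  interval_cases f
  · exact chk_mrange0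

theorem chk_fin : cert.finalOK 1408 = true := by
  refine cert.finalOK_of_chunks 1408 704 2 (by norm_num) (by show 1408 ≤ 2 * 704; norm_num) ?_
  intro k hk
  interval_cases k
  · exact chk_fin0
  · exact chk_fin1

theorem hrun : RunCertG cfg ivs tab.n :=
  RunCertG.of_static cert 1408 (by norm_num) chk_rows chk_mrows chk_fin

end Cfsg.Agent.Lib.Lead.HNP.P1408
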