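import Cfsg.Agent.Lib.Helper6.TCGIndex
import Cfsg.Agent.Lib.Lead.HNP.PVSRows0
import Cfsg.Agent.Lib.Lead.HNP.PVSRows1
import Cfsg.Agent.Lib.Lead.HNP.PVSRows2
import Cfsg.Agent.Lib.Lead.HNP.PVSRows3
import Cfsg.Agent.Lib.Lead.HNP.PVSRows4
import Cfsg.Agent.Lib.Lead.HNP.PVSRows5
import Cfsg.Agent.Lib.Lead.HNP.PVSRows6
import Cfsg.Agent.Lib.Lead.HNP.PVSRows7

/-! # PV: the rows of the coset enumeration are checked -/

set_option autoImplicit false

namespace Cfsg.Agent.Lib.Lead.HNP.PV

open Cfsg.Agent.Lib.Helper6.TC Cfsg.Agent.Lib.Helper6.TCGS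

theorem chk_rows : ∀ a < cert.N, ∀ x < cert.c.g, cert.slotOK a x = true := by
  have r0 : ∀ a, a < 0 → ∀ x < cert.c.g, cert.slotOK a x = true := upto_zero
  have r1 := upto_step (P := fun a => ∀ x < cert.c.g, cert.slotOK a x = true) r0 chk_range0
  have r2 := upto_step (P := fun a => ∀ x < cert.c.g, cert.slotOK a x = true) r1 chk_range1
  have r3 := upto_step (P := fun a => ∀ x < cert.c.g, cert.slotOK a x = true) r2 chk_range2
  have r4 := upto_step (P := fun a => ∀ x < cert.c.g, cert.slotOK a x = true) r3 chk_range3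
  have r5 := upto_step (P := fun a => ∀ x < cert.c.g, cert.slotOK a x = true) r4 chk_range4
  have r6 := upto_step (P := fun a => ∀ x < cert.c.g, cert.slotOK a x = true) r5 chk_range5
  have r7 := upto_step (P := fun a => ∀ x < cert.c.g, cert.slotOK a x = true) r6 chk_range6
  have r8 := upto_step (P := fun a => ∀ x < cert.c.g, cert.slotOK a x = true) r7 chk_range7
  intro a ha
  exact r8 a (lt_of_lt_of_le ha (by show 143136 ≤ 153600; norm_num))

end Cfsg.Agent.Lib.Lead.HNP.PV
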