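import Cfsg.Agent.Lib.Helper6.TCGInst
import Cfsg.Agent.Lib.Helper6.TCAct

/-! # Words for the rows of a coset table, and the action of words on the rows

For the data `D` of a checked coset enumeration: the action of a word on the rows is the trace through the
table; the stabiliser of the first row is the subgroup; every element is the element of the path of a row from
the first row, times an element of the subgroup. -/

set_option autoImplicit false

namespace Cfsg.Agent.Lib.Lead.HNP

open Cfsg.Agent.Lib.Helper6.TC Cfsg.Agent.Lib.Helper6.TCG Cfsg.Agent.Lib.Helper6.TCGS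
  Cfsg.Agent.Lib.Helper6.NatArr Cfsg.Spor

/-- the first letter from `x` on, among `k` letters, that leads from the row `a` to a smaller row -/
noncomputable def parentL (T : Tab) (a : ℕ) : ℕ → ℕ → ℕ
  | 0, x => x
  | k + 1, x => bif Nat.blt (T.nxt a x) a then x else parentL T a k (Nat.succ x)

theorem parentL_spec (T : Tab) (a : ℕ) : ∀ (k x0 : ℕ),
    (∃ x, x0 ≤ x ∧ x < x0 + k ∧ T.nxt a x < a) →
      parentL T a k x0 < x0 + k ∧ T.nxt a (parentL T a k x0) < a
  | 0, x0, h => by
    obtain ⟨x, h1, h2, _⟩ := h
    omega
  | k + 1, x0, h => by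
    unfold parentL
    by_cases hb : T.nxt a x0 < a
    · have : Nat.blt (T.nxt a x0) a = true := by rw [Nat.blt_eq]; exact hb
      rw [this, cond_true]
      exact ⟨by omega, hb⟩
    · have : Nat.blt (T.nxt a x0) a = false := by
        cases hc : Nat.blt (T.nxt a x0) a
        · rfl
        · rw [Nat.blt_eq] at hc
          exact absurd hc hb
      rw [this, cond_false]
      obtain ⟨x, h1, h2, h3⟩ := h
      have hne : x ≠ x0 := by
        rintro rfl
        exact hb h3
      have := parentL_spec T a k (Nat.succ x0) ⟨x, by omega, by omega, h3⟩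
      refine ⟨?_, this.2⟩
      have h4 := this.1
      show parentL T a k (Nat.succ x0) < x0 + (k + 1)
      omega

/-- the word of the path from the row `a` down to the first row -/
noncomputable def pathW (T : Tab) : ℕ → ℕ → List ℕ
  | 0, _ => []
  | f + 1, a => bif Nat.beq a 0 then [] else
      force (parentL T a T.g 0) fun x => x :: pathW T f (T.nxt a x)

section

variable {T : Tab} {ivs : ℕ}

theorem pathW_spec (htab : tabOK T ivs = true) (htree : T.treeOK = true) :
    ∀ (f a : ℕ), a < T.n → a ≤ f → (∀ x ∈ pathW T f a, x < T.g) ∧ T.trace a (pathW T f a) = 0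
  | 0, a, _, hf => by
    have : a = 0 := by omega
    subst this
    simp [pathW, Tab.trace]
  | f + 1, a, ha, hf => by
    unfold pathW
    by_cases h0 : a = 0
    · subst h0
      simp [Tab.trace]
    · have hb : Nat.beq a 0 = false := by
        cases hb : Nat.beq a 0
        · rfl
        · exact absurd (Nat.eq_of_beq_eq_true hb) h0
      rw [hb, cond_false, force_eq]
      have ht := allBelow_spec _ _ htree a ha
      rw [hb, Bool.false_or, Bool.not_eq_true'] at ht
      obtain ⟨x, hx, hlt⟩ := allBelow_false _ _ ht
      rw [Bool.not_eq_false', Nat.blt_eq] at hlt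
      have hp := parentL_spec T a T.g 0 ⟨x, Nat.zero_le _, by omega, hlt⟩
      have hpg : parentL T a T.g 0 < T.g := by omega
      obtain ⟨hbn, _⟩ := nxt_spec htab ha hpg
      have ih := pathW_spec htab htree f (T.nxt a (parentL T a T.g 0)) hbn (by omega)
      refine ⟨?_, ?_⟩
      · intro y hy
        rcases List.mem_cons.1 hy with rfl | hy
        · exact hpg
        · exact ih.1 y hy
      · unfold Tab.trace
        rw [force_eq]
        exact ih.2

end

section

variable {α : Type} [DecidableEq α] {edges : List (α × ℕ × α)} {extra : List (FreeGroup α)}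
  {S : Set (FreeGroup α)} (D : GenData edges extra S)

/-- the action of a word is the inverse of the product of the permutations of its letters -/
theorem ρ_prod {w : List ℕ} (hw : ∀ x ∈ w, x < D.c.g) :
    D.ρ ((w.map D.γ).prod) = ((w.reverse.map D.P).prod)⁻¹ := by
  rw [map_list_prod, List.map_map, ← D.lift_word hw]
  exact congrArg List.prod (List.map_congr_left fun x _ => D.ρ_mk _)

/-- a word takes the end of its trace back to the start -/
theorem ρ_trace {w : List ℕ} (hw : ∀ x ∈ w, x < D.c.g) (a b : Fin D.T.n)
    (h : D.T.trace a.val w = b.val) : D.ρ ((w.map D.γ).prod) b = a := by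
  rw [ρ_prod D hw, Equiv.Perm.inv_eq_iff_eq]
  apply Fin.ext
  have hw' : ∀ x ∈ w, x < D.T.g := by
    intro x hx
    rw [D.hTg]
    exact hw x hx
  have := trace_eq D.chk_tab w a hw'
  rw [h] at this
  exact this

/-- a word fixes a row if and only if its trace from the row ends there -/
theorem ρ_fix_iff {w : List ℕ} (hw : ∀ x ∈ w, x < D.c.g) (a : Fin D.T.n) :
    D.ρ ((w.map D.γ).prod) a = a ↔ D.T.trace a.val w = a.val := by
  have hw' : ∀ x ∈ w, x < D.T.g := by
    intro x hx
    rw [D.hTg]
    exact hw x hx
  have ht := trace_eq D.chk_tab w a hw'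
  constructor
  · intro h
    rw [ρ_prod D hw, Equiv.Perm.inv_eq_iff_eq] at h
    rw [ht]
    exact congrArg Fin.val h.symm
  · intro h
    exact ρ_trace D hw a a h

/-- the stabiliser of the first row is the subgroup -/
theorem mem_H_of_fix {z : CoxPresented α edges extra} (h : D.ρ z D.o = D.o) : z ∈ D.H := by
  have := eq_stab (H := D.H) D.trans D.fix D.index_eq D.hTn
  rw [this, mem_stab]
  exact h

/-- a word whose trace from the first row ends there lies in the subgroup -/
theorem mem_H_of_trace {w : List ℕ} (hw : ∀ x ∈ w, x < D.c.g) (h : D.T.trace 0 w = 0) :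
    (w.map D.γ).prod ∈ D.H :=
  mem_H_of_fix D ((ρ_fix_iff D hw D.o).2 h)

/-- the element of the path of a row -/
noncomputable def pathEl (a : ℕ) : CoxPresented α edges extra := ((pathW D.T a a).map D.γ).prod

/-- every element is the element of the path of a row, times an element of the subgroup -/
theorem exists_path (v : CoxPresented α edges extra) :
    ∃ a < D.T.n, ∃ h ∈ D.H, v = pathEl D a * h := by
  let a := D.ρ v D.o
  obtain ⟨hl, ht⟩ := pathW_spec D.chk_tab D.chk_tree a.val a.val a.isLt le_rfl
  have hl' : ∀ x ∈ pathW D.T a.val a.val, x < D.c.g := by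
    intro x hx
    rw [← D.hTg]
    exact hl x hx
  have h1 : D.ρ (pathEl D a.val) D.o = a := ρ_trace D hl' a D.o ht
  refine ⟨a.val, a.isLt, (pathEl D a.val)⁻¹ * v, ?_, by group⟩
  apply mem_H_of_fix
  rw [map_mul, map_inv, Equiv.Perm.mul_apply, Equiv.Perm.inv_eq_iff_eq]
  exact h1.symm

end

end Cfsg.Agent.Lib.Lead.HNP
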