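import Cfsg.Agent.Lib.Lead.HNP.QBSCert
import Cfsg.Agent.Lib.Lead.HNP.QBSRows3

/-! # QB: the kernel check of the rows from 168000 on -/

set_option autoImplicit false

namespace Cfsg.Agent.Lib.Lead.HNP.QB

open Cfsg.Agent.Lib.Helper6.TC Cfsg.Agent.Lib.Helper6.TCGS

theorem chk_rows7_0 : cert.rowsOK 168000 1000 = true := by decide +kernel

theorem chk_rows7_1 : cert.rowsOK 169000 1000 = true := by decide +kernel

theorem chk_rows7_2 : cert.rowsOK 170000 1000 = true := by decide +kernel

theorem chk_rows7_3 : cert.rowsOK 171000 1000 = true := by decide +kernel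

theorem chk_rows7_4 : cert.rowsOK 172000 1000 = true := by decide +kernel

theorem chk_rows7_5 : cert.rowsOK 173000 1000 = true := by decide +kernel

theorem chk_rows7_6 : cert.rowsOK 174000 1000 = true := by decide +kernel

theorem chk_rows7_7 : cert.rowsOK 175000 1000 = true := by decide +kernel

theorem chk_rows7_8 : cert.rowsOK 176000 1000 = true := by decide +kernel

theorem chk_rows7_9 : cert.rowsOK 177000 1000 = true := by decide +kernel

theorem chk_rows7_10 : cert.rowsOK 178000 1000 = true := by decide +kernel

theorem chk_rows7_11 : cert.rowsOK 179000 1000 = true := by decide +kernel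

theorem chk_rows7_12 : cert.rowsOK 180000 1000 = true := by decide +kernel

theorem chk_rows7_13 : cert.rowsOK 181000 1000 = true := by decide +kernel

theorem chk_rows7_14 : cert.rowsOK 182000 1000 = true := by decide +kernel

theorem chk_rows7_15 : cert.rowsOK 183000 1000 = true := by decide +kernel

theorem chk_rows7_16 : cert.rowsOK 184000 1000 = true := by decide +kernel

theorem chk_rows7_17 : cert.rowsOK 185000 1000 = true := by decide +kernel

theorem chk_rows7_18 : cert.rowsOK 186000 1000 = true := by decide +kernel

theorem chk_rows7_19 : cert.rowsOK 187000 1000 = true := by decide +kernel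

theorem chk_rows7_20 : cert.rowsOK 188000 1000 = true := by decide +kernel

theorem chk_rows7_21 : cert.rowsOK 189000 1000 = true := by decide +kernel

theorem chk_rows7_22 : cert.rowsOK 190000 1000 = true := by decide +kernel

theorem chk_rows7_23 : cert.rowsOK 191000 1000 = true := by decide +kernel

theorem chk_range7 : ∀ a, 168000 ≤ a → a < 192000 → ∀ x < cert.c.g, cert.slotOK a x = true := by
  refine cert.range_of_chunks 168000 1000 24 (by norm_num) ?_
  intro k hk
  interval_cases k
  · exact chk_rows7_0
  · exact chk_rows7_1
  · exact chk_rows7_2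
  · exact chk_rows7_3
  · exact chk_rows7_4
  · exact chk_rows7_5
  · exact chk_rows7_6
  · exact chk_rows7_7
  · exact chk_rows7_8
  · exact chk_rows7_9
  · exact chk_rows7_10
  · exact chk_rows7_11
  · exact chk_rows7_12
  · exact chk_rows7_13
  · exact chk_rows7_14
  · exact chk_rows7_15
  · exact chk_rows7_16
  · exact chk_rows7_17
  · exact chk_rows7_18
  · exact chk_rows7_19
  · exact chk_rows7_20
  · exact chk_rows7_21
  · exact chk_rows7_22
  · exact chk_rows7_23

end Cfsg.Agent.Lib.Lead.HNP.QB
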