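import Cfsg.Agent.Lib.Lead.HNP.QBSCert
import Cfsg.Agent.Lib.Lead.HNP.QBSRows7

/-! # QB: the kernel check of the rows from 264000 on -/

set_option autoImplicit false

namespace Cfsg.Agent.Lib.Lead.HNP.QB

open Cfsg.Agent.Lib.Helper6.TC Cfsg.Agent.Lib.Helper6.TCGS

theorem chk_rows11_0 : cert.rowsOK 264000 1000 = true := by decide +kernel

theorem chk_rows11_1 : cert.rowsOK 265000 1000 = true := by decide +kernel

theorem chk_rows11_2 : cert.rowsOK 266000 1000 = true := by decide +kernel

theorem chk_rows11_3 : cert.rowsOK 267000 1000 = true := by decide +kernel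

theorem chk_rows11_4 : cert.rowsOK 268000 1000 = true := by decide +kernel

theorem chk_rows11_5 : cert.rowsOK 269000 1000 = true := by decide +kernel

theorem chk_rows11_6 : cert.rowsOK 270000 1000 = true := by decide +kernel

theorem chk_rows11_7 : cert.rowsOK 271000 1000 = true := by decide +kernel

theorem chk_rows11_8 : cert.rowsOK 272000 1000 = true := by decide +kernel

theorem chk_rows11_9 : cert.rowsOK 273000 1000 = true := by decide +kernel

theorem chk_rows11_10 : cert.rowsOK 274000 1000 = true := by decide +kernel

theorem chk_rows11_11 : cert.rowsOK 275000 1000 = true := by decide +kernel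

theorem chk_rows11_12 : cert.rowsOK 276000 1000 = true := by decide +kernel

theorem chk_rows11_13 : cert.rowsOK 277000 1000 = true := by decide +kernel

theorem chk_rows11_14 : cert.rowsOK 278000 1000 = true := by decide +kernel

theorem chk_rows11_15 : cert.rowsOK 279000 1000 = true := by decide +kernel

theorem chk_rows11_16 : cert.rowsOK 280000 1000 = true := by decide +kernel

theorem chk_rows11_17 : cert.rowsOK 281000 1000 = true := by decide +kernel

theorem chk_rows11_18 : cert.rowsOK 282000 1000 = true := by decide +kernel

theorem chk_rows11_19 : cert.rowsOK 283000 1000 = true := by decide +kernel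

theorem chk_rows11_20 : cert.rowsOK 284000 1000 = true := by decide +kernel

theorem chk_rows11_21 : cert.rowsOK 285000 1000 = true := by decide +kernel

theorem chk_rows11_22 : cert.rowsOK 286000 1000 = true := by decide +kernel

theorem chk_rows11_23 : cert.rowsOK 287000 1000 = true := by decide +kernel

theorem chk_range11 : ∀ a, 264000 ≤ a → a < 288000 → ∀ x < cert.c.g, cert.slotOK a x = true := by
  refine cert.range_of_chunks 264000 1000 24 (by norm_num) ?_
  intro k hk
  interval_cases k
  · exact chk_rows11_0
  · exact chk_rows11_1
  · exact chk_rows11_2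
  · exact chk_rows11_3
  · exact chk_rows11_4
  · exact chk_rows11_5
  · exact chk_rows11_6
  · exact chk_rows11_7
  · exact chk_rows11_8
  · exact chk_rows11_9
  · exact chk_rows11_10
  · exact chk_rows11_11
  · exact chk_rows11_12
  · exact chk_rows11_13
  · exact chk_rows11_14
  · exact chk_rows11_15
  · exact chk_rows11_16
  · exact chk_rows11_17
  · exact chk_rows11_18
  · exact chk_rows11_19
  · exact chk_rows11_20
  · exact chk_rows11_21
  · exact chk_rows11_22
  · exact chk_rows11_23

end Cfsg.Agent.Lib.Lead.HNP.QB
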