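import Cfsg.Agent.Lib.Lead.HNP.QBSCert
import Cfsg.Agent.Lib.Helper6.TCGIndex
import Cfsg.Agent.Lib.Lead.HNP.QBSRows15

/-! # QB: the kernel check that the first rows are closed, part 1 -/

set_option autoImplicit false

namespace Cfsg.Agent.Lib.Lead.HNP.QB

open Cfsg.Agent.Lib.Helper6.TC Cfsg.Agent.Lib.Helper6.TCGS

theorem chk_fin9 : cert.finalOKc 126000 18000 2000 = true := by decide +kernel

theorem chk_fin10 : cert.finalOKc 126000 20000 2000 = true := by decide +kernel

theorem chk_fin11 : cert.finalOKc 126000 22000 2000 = true := by decide +kernel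

theorem chk_fin12 : cert.finalOKc 126000 24000 2000 = true := by decide +kernel

theorem chk_fin13 : cert.finalOKc 126000 26000 2000 = true := by decide +kernel

theorem chk_fin14 : cert.finalOKc 126000 28000 2000 = true := by decide +kernel

theorem chk_fin15 : cert.finalOKc 126000 30000 2000 = true := by decide +kernel

theorem chk_fin16 : cert.finalOKc 126000 32000 2000 = true := by decide +kernel

theorem chk_fin17 : cert.finalOKc 126000 34000 2000 = true := by decide +kernel


end Cfsg.Agent.Lib.Lead.HNP.QB
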