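import Cfsg.Agent.Lib.Lead.HNP.QBSCert
import Cfsg.Agent.Lib.Helper6.TCGIndex
import Cfsg.Agent.Lib.Lead.HNP.QBSFin1

/-! # QB: the kernel check that the first rows are closed, part 5 -/

set_option autoImplicit false

namespace Cfsg.Agent.Lib.Lead.HNP.QB

open Cfsg.Agent.Lib.Helper6.TC Cfsg.Agent.Lib.Helper6.TCGS

theorem chk_fin45 : cert.finalOKc 126000 90000 2000 = true := by decide +kernel

theorem chk_fin46 : cert.finalOKc 126000 92000 2000 = true := by decide +kernel

theorem chk_fin47 : cert.finalOKc 126000 94000 2000 = true := by decide +kernel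

theorem chk_fin48 : cert.finalOKc 126000 96000 2000 = true := by decide +kernel

theorem chk_fin49 : cert.finalOKc 126000 98000 2000 = true := by decide +kernel

theorem chk_fin50 : cert.finalOKc 126000 100000 2000 = true := by decide +kernel

theorem chk_fin51 : cert.finalOKc 126000 102000 2000 = true := by decide +kernel

theorem chk_fin52 : cert.finalOKc 126000 104000 2000 = true := by decide +kernel

theorem chk_fin53 : cert.finalOKc 126000 106000 2000 = true := by decide +kernel


end Cfsg.Agent.Lib.Lead.HNP.QB
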