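import Cfsg.Agent.Lib.Lead.HNP.QBSCert
import Cfsg.Agent.Lib.Lead.HNP.QBSFin5

/-! # QB: the kernel check of the merge map from row 144000 on -/

set_option autoImplicit false

namespace Cfsg.Agent.Lib.Lead.HNP.QB

open Cfsg.Agent.Lib.Helper6.TC Cfsg.Agent.Lib.Helper6.TCGS

theorem chk_mrows2_0 : cert.mrowsOK 144000 6000 = true := by decide +kernel

theorem chk_mrows2_1 : cert.mrowsOK 150000 6000 = true := by decide +kernel

theorem chk_mrows2_2 : cert.mrowsOK 156000 6000 = true := by decide +kernel

theorem chk_mrows2_3 : cert.mrowsOK 162000 6000 = true := by decide +kernel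

theorem chk_mrows2_4 : cert.mrowsOK 168000 6000 = true := by decide +kernel

theorem chk_mrows2_5 : cert.mrowsOK 174000 6000 = true := by decide +kernel

theorem chk_mrows2_6 : cert.mrowsOK 180000 6000 = true := by decide +kernel

theorem chk_mrows2_7 : cert.mrowsOK 186000 6000 = true := by decide +kernel

theorem chk_mrows2_8 : cert.mrowsOK 192000 6000 = true := by decide +kernel

theorem chk_mrows2_9 : cert.mrowsOK 198000 6000 = true := by decide +kernel

theorem chk_mrows2_10 : cert.mrowsOK 204000 6000 = true := by decide +kernel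

theorem chk_mrows2_11 : cert.mrowsOK 210000 6000 = true := by decide +kernel

theorem chk_mrange2 : ∀ a, 144000 ≤ a → a < 144000 + 72000 → cert.mslotOK a = true := by
  refine cert.mrange_of_chunks 144000 6000 12 (by norm_num) ?_
  intro k hk
  interval_cases k
  · exact chk_mrows2_0
  · exact chk_mrows2_1
  · exact chk_mrows2_2
  · exact chk_mrows2_3
  · exact chk_mrows2_4
  · exact chk_mrows2_5
  · exact chk_mrows2_6
  · exact chk_mrows2_7
  · exact chk_mrows2_8
  · exact chk_mrows2_9
  · exact chk_mrows2_10
  · exact chk_mrows2_11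

end Cfsg.Agent.Lib.Lead.HNP.QB
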