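import Cfsg.Agent.Lib.Lead.HNP.QBSCert
import Cfsg.Agent.Lib.Helper6.TCGIndex
import Cfsg.Agent.Lib.Lead.HNP.QBSFin2

/-! # QB: the kernel check that the first rows are closed, part 6 -/

set_option autoImplicit false

namespace Cfsg.Agent.Lib.Lead.HNP.QB

open Cfsg.Agent.Lib.Helper6.TC Cfsg.Agent.Lib.Helper6.TCGS

theorem chk_fin54 : cert.finalOKc 126000 108000 2000 = true := by decide +kernel

theorem chk_fin55 : cert.finalOKc 126000 110000 2000 = true := by decide +kernel

theorem chk_fin56 : cert.finalOKc 126000 112000 2000 = true := by decide +kernel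

theorem chk_fin57 : cert.finalOKc 126000 114000 2000 = true := by decide +kernel

theorem chk_fin58 : cert.finalOKc 126000 116000 2000 = true := by decide +kernel

theorem chk_fin59 : cert.finalOKc 126000 118000 2000 = true := by decide +kernel

theorem chk_fin60 : cert.finalOKc 126000 120000 2000 = true := by decide +kernel

theorem chk_fin61 : cert.finalOKc 126000 122000 2000 = true := by decide +kernel

theorem chk_fin62 : cert.finalOKc 126000 124000 2000 = true := by decide +kernel


end Cfsg.Agent.Lib.Lead.HNP.QB
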