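import Cfsg.Agent.Lib.Lead.HNP.QBSCert
import Cfsg.Agent.Lib.Lead.HNP.QBSFin6

/-! # QB: the kernel check of the merge map from row 216000 on -/

set_option autoImplicit false

namespace Cfsg.Agent.Lib.Lead.HNP.QB

open Cfsg.Agent.Lib.Helper6.TC Cfsg.Agent.Lib.Helper6.TCGS

theorem chk_mrows3_0 : cert.mrowsOK 216000 6000 = true := by decide +kernel

theorem chk_mrows3_1 : cert.mrowsOK 222000 6000 = true := by decide +kernel

theorem chk_mrows3_2 : cert.mrowsOK 228000 6000 = true := by decide +kernel

theorem chk_mrows3_3 : cert.mrowsOK 234000 6000 = true := by decide +kernel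

theorem chk_mrows3_4 : cert.mrowsOK 240000 6000 = true := by decide +kernel

theorem chk_mrows3_5 : cert.mrowsOK 246000 6000 = true := by decide +kernel

theorem chk_mrows3_6 : cert.mrowsOK 252000 6000 = true := by decide +kernel

theorem chk_mrows3_7 : cert.mrowsOK 258000 6000 = true := by decide +kernel

theorem chk_mrows3_8 : cert.mrowsOK 264000 6000 = true := by decide +kernel

theorem chk_mrows3_9 : cert.mrowsOK 270000 6000 = true := by decide +kernel

theorem chk_mrows3_10 : cert.mrowsOK 276000 6000 = true := by decide +kernel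

theorem chk_mrows3_11 : cert.mrowsOK 282000 6000 = true := by decide +kernel

theorem chk_mrange3 : ∀ a, 216000 ≤ a → a < 216000 + 72000 → cert.mslotOK a = true := by
  refine cert.mrange_of_chunks 216000 6000 12 (by norm_num) ?_
  intro k hk
  interval_cases k
  · exact chk_mrows3_0
  · exact chk_mrows3_1
  · exact chk_mrows3_2
  · exact chk_mrows3_3
  · exact chk_mrows3_4
  · exact chk_mrows3_5
  · exact chk_mrows3_6
  · exact chk_mrows3_7
  · exact chk_mrows3_8
  · exact chk_mrows3_9
  · exact chk_mrows3_10
  · exact chk_mrows3_11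

end Cfsg.Agent.Lib.Lead.HNP.QB
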