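import Cfsg.Agent.Lib.Lead.HNP.QBData
import Cfsg.Agent.Lib.Helper6.TCRel3
import Cfsg.Agent.Lib.Lead.HNP.QBSMRows3

/-! # QB: the kernel check of a part of the relators on the coset table -/

set_option autoImplicit false

namespace Cfsg.Agent.Lib.Lead.HNP.QB

open Cfsg.Agent.Lib.Helper6.TC

theorem chk_pow1_1_0 : tab.minOKc [0, 0, 2, 0, 0, 3] 1 79995 5333 = true := by decide +kernel

theorem chk_pow1_1_1 : tab.minOKc [0, 0, 2, 0, 0, 3] 1 85328 5333 = true := by decide +kernel

theorem chk_pow1_1_2 : tab.minOKc [0, 0, 2, 0, 0, 3] 1 90661 5333 = true := by decide +kernel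

theorem chk_pow1_1_3 : tab.minOKc [0, 0, 2, 0, 0, 3] 1 95994 5333 = true := by decide +kernel

theorem chk_pow1_1_4 : tab.minOKc [0, 0, 2, 0, 0, 3] 1 101327 5333 = true := by decide +kernel

theorem chk_pow1_1_5 : tab.minOKc [0, 0, 2, 0, 0, 3] 1 106660 5333 = true := by decide +kernel

theorem chk_pow1_1_6 : tab.minOKc [0, 0, 2, 0, 0, 3] 1 111993 5333 = true := by decide +kernel

theorem chk_pow1_1_7 : tab.minOKc [0, 0, 2, 0, 0, 3] 1 117326 5333 = true := by decide +kernel

theorem chk_pow1_1_8 : tab.minOKc [0, 0, 2, 0, 0, 3] 1 122659 5333 = true := by decide +kernel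

theorem chk_pow1_1_9 : tab.minOKc [0, 0, 2, 0, 0, 3] 1 127992 5333 = true := by decide +kernel

theorem chk_pow1_1_10 : tab.minOKc [0, 0, 2, 0, 0, 3] 1 133325 5333 = true := by decide +kernel

theorem chk_pow1_1_11 : tab.minOKc [0, 0, 2, 0, 0, 3] 1 138658 5333 = true := by decide +kernel

theorem chk_pow1_1_12 : tab.minOKc [0, 0, 2, 0, 0, 3] 1 143991 5333 = true := by decide +kernel

theorem chk_pow1_1_13 : tab.minOKc [0, 0, 2, 0, 0, 3] 1 149324 5333 = true := by decide +kernel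

theorem chk_pow1_1_14 : tab.minOKc [0, 0, 2, 0, 0, 3] 1 154657 5333 = true := by decide +kernel

theorem chk_pow1_1 : tab.minOKc [0, 0, 2, 0, 0, 3] 1 79995 79995 = true := by
  refine tab.minOKc_of_chunks [0, 0, 2, 0, 0, 3] 1 79995 5333 15 (by norm_num) ?_
  intro i hi
  interval_cases i
  · exact chk_pow1_1_0
  · exact chk_pow1_1_1
  · exact chk_pow1_1_2
  · exact chk_pow1_1_3
  · exact chk_pow1_1_4
  · exact chk_pow1_1_5
  · exact chk_pow1_1_6
  · exact chk_pow1_1_7
  · exact chk_pow1_1_8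
  · exact chk_pow1_1_9
  · exact chk_pow1_1_10
  · exact chk_pow1_1_11
  · exact chk_pow1_1_12
  · exact chk_pow1_1_13
  · exact chk_pow1_1_14

theorem chk_pow2_0_0 : tab.minOKc [1, 3, 0, 2] 3 0 8000 = true := by decide +kernel

theorem chk_pow2_0_1 : tab.minOKc [1, 3, 0, 2] 3 8000 8000 = true := by decide +kernel

theorem chk_pow2_0_2 : tab.minOKc [1, 3, 0, 2] 3 16000 8000 = true := by decide +kernel

theorem chk_pow2_0_3 : tab.minOKc [1, 3, 0, 2] 3 24000 8000 = true := by decide +kernel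

theorem chk_pow2_0_4 : tab.minOKc [1, 3, 0, 2] 3 32000 8000 = true := by decide +kernel

theorem chk_pow2_0_5 : tab.minOKc [1, 3, 0, 2] 3 40000 8000 = true := by decide +kernel

theorem chk_pow2_0_6 : tab.minOKc [1, 3, 0, 2] 3 48000 8000 = true := by decide +kernel

theorem chk_pow2_0_7 : tab.minOKc [1, 3, 0, 2] 3 56000 8000 = true := by decide +kernel

theorem chk_pow2_0_8 : tab.minOKc [1, 3, 0, 2] 3 64000 8000 = true := by decide +kernel

theorem chk_pow2_0_9 : tab.minOKc [1, 3, 0, 2] 3 72000 8000 = true := by decide +kernel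

theorem chk_pow2_0_10 : tab.minOKc [1, 3, 0, 2] 3 80000 8000 = true := by decide +kernel

theorem chk_pow2_0_11 : tab.minOKc [1, 3, 0, 2] 3 88000 8000 = true := by decide +kernel

theorem chk_pow2_0_12 : tab.minOKc [1, 3, 0, 2] 3 96000 8000 = true := by decide +kernel

theorem chk_pow2_0_13 : tab.minOKc [1, 3, 0, 2] 3 104000 8000 = true := by decide +kernel

theorem chk_pow2_0_14 : tab.minOKc [1, 3, 0, 2] 3 112000 8000 = true := by decide +kernel

theorem chk_pow2_0 : tab.minOKc [1, 3, 0, 2] 3 0 120000 = true := by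
  refine tab.minOKc_of_chunks [1, 3, 0, 2] 3 0 8000 15 (by norm_num) ?_
  intro i hi
  interval_cases i
  · exact chk_pow2_0_0
  · exact chk_pow2_0_1
  · exact chk_pow2_0_2
  · exact chk_pow2_0_3
  · exact chk_pow2_0_4
  · exact chk_pow2_0_5
  · exact chk_pow2_0_6
  · exact chk_pow2_0_7
  · exact chk_pow2_0_8
  · exact chk_pow2_0_9
  · exact chk_pow2_0_10
  · exact chk_pow2_0_11
  · exact chk_pow2_0_12
  · exact chk_pow2_0_13
  · exact chk_pow2_0_14


end Cfsg.Agent.Lib.Lead.HNP.QB
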