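import Cfsg.Agent.Lib.Lead.HNP.QBSCert
import Cfsg.Agent.Lib.Lead.HNP.QBSRows5

/-! # QB: the kernel check of the rows from 216000 on -/

set_option autoImplicit false

namespace Cfsg.Agent.Lib.Lead.HNP.QB

open Cfsg.Agent.Lib.Helper6.TC Cfsg.Agent.Lib.Helper6.TCGS

theorem chk_rows9_0 : cert.rowsOK 216000 1000 = true := by decide +kernel

theorem chk_rows9_1 : cert.rowsOK 217000 1000 = true := by decide +kernel

theorem chk_rows9_2 : cert.rowsOK 218000 1000 = true := by decide +kernel

theorem chk_rows9_3 : cert.rowsOK 219000 1000 = true := by decide +kernel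

theorem chk_rows9_4 : cert.rowsOK 220000 1000 = true := by decide +kernel

theorem chk_rows9_5 : cert.rowsOK 221000 1000 = true := by decide +kernel

theorem chk_rows9_6 : cert.rowsOK 222000 1000 = true := by decide +kernel

theorem chk_rows9_7 : cert.rowsOK 223000 1000 = true := by decide +kernel

theorem chk_rows9_8 : cert.rowsOK 224000 1000 = true := by decide +kernel

theorem chk_rows9_9 : cert.rowsOK 225000 1000 = true := by decide +kernel

theorem chk_rows9_10 : cert.rowsOK 226000 1000 = true := by decide +kernel

theorem chk_rows9_11 : cert.rowsOK 227000 1000 = true := by decide +kernel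

theorem chk_rows9_12 : cert.rowsOK 228000 1000 = true := by decide +kernel

theorem chk_rows9_13 : cert.rowsOK 229000 1000 = true := by decide +kernel

theorem chk_rows9_14 : cert.rowsOK 230000 1000 = true := by decide +kernel

theorem chk_rows9_15 : cert.rowsOK 231000 1000 = true := by decide +kernel

theorem chk_rows9_16 : cert.rowsOK 232000 1000 = true := by decide +kernel

theorem chk_rows9_17 : cert.rowsOK 233000 1000 = true := by decide +kernel

theorem chk_rows9_18 : cert.rowsOK 234000 1000 = true := by decide +kernel

theorem chk_rows9_19 : cert.rowsOK 235000 1000 = true := by decide +kernel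

theorem chk_rows9_20 : cert.rowsOK 236000 1000 = true := by decide +kernel

theorem chk_rows9_21 : cert.rowsOK 237000 1000 = true := by decide +kernel

theorem chk_rows9_22 : cert.rowsOK 238000 1000 = true := by decide +kernel

theorem chk_rows9_23 : cert.rowsOK 239000 1000 = true := by decide +kernel

theorem chk_range9 : ∀ a, 216000 ≤ a → a < 240000 → ∀ x < cert.c.g, cert.slotOK a x = true := by
  refine cert.range_of_chunks 216000 1000 24 (by norm_num) ?_
  intro k hk
  interval_cases k
  · exact chk_rows9_0
  · exact chk_rows9_1
  · exact chk_rows9_2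
  · exact chk_rows9_3
  · exact chk_rows9_4
  · exact chk_rows9_5
  · exact chk_rows9_6
  · exact chk_rows9_7
  · exact chk_rows9_8
  · exact chk_rows9_9
  · exact chk_rows9_10
  · exact chk_rows9_11
  · exact chk_rows9_12
  · exact chk_rows9_13
  · exact chk_rows9_14
  · exact chk_rows9_15
  · exact chk_rows9_16
  · exact chk_rows9_17
  · exact chk_rows9_18
  · exact chk_rows9_19
  · exact chk_rows9_20
  · exact chk_rows9_21
  · exact chk_rows9_22
  · exact chk_rows9_23

end Cfsg.Agent.Lib.Lead.HNP.QB
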