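import Cfsg.Agent.Lib.Lead.HNP.QBSCert
import Cfsg.Agent.Lib.Lead.HNP.QBSRows13

/-! # QB: the kernel check of the rows from 408000 on -/

set_option autoImplicit false

namespace Cfsg.Agent.Lib.Lead.HNP.QB

open Cfsg.Agent.Lib.Helper6.TC Cfsg.Agent.Lib.Helper6.TCGS

theorem chk_rows17_0 : cert.rowsOK 408000 1000 = true := by decide +kernel

theorem chk_rows17_1 : cert.rowsOK 409000 1000 = true := by decide +kernel

theorem chk_rows17_2 : cert.rowsOK 410000 1000 = true := by decide +kernel

theorem chk_rows17_3 : cert.rowsOK 411000 1000 = true := by decide +kernel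

theorem chk_rows17_4 : cert.rowsOK 412000 1000 = true := by decide +kernel

theorem chk_rows17_5 : cert.rowsOK 413000 1000 = true := by decide +kernel

theorem chk_rows17_6 : cert.rowsOK 414000 1000 = true := by decide +kernel

theorem chk_rows17_7 : cert.rowsOK 415000 1000 = true := by decide +kernel

theorem chk_rows17_8 : cert.rowsOK 416000 1000 = true := by decide +kernel

theorem chk_rows17_9 : cert.rowsOK 417000 1000 = true := by decide +kernel

theorem chk_rows17_10 : cert.rowsOK 418000 1000 = true := by decide +kernel

theorem chk_rows17_11 : cert.rowsOK 419000 1000 = true := by decide +kernel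

theorem chk_rows17_12 : cert.rowsOK 420000 1000 = true := by decide +kernel

theorem chk_rows17_13 : cert.rowsOK 421000 1000 = true := by decide +kernel

theorem chk_rows17_14 : cert.rowsOK 422000 1000 = true := by decide +kernel

theorem chk_rows17_15 : cert.rowsOK 423000 1000 = true := by decide +kernel

theorem chk_rows17_16 : cert.rowsOK 424000 1000 = true := by decide +kernel

theorem chk_rows17_17 : cert.rowsOK 425000 1000 = true := by decide +kernel

theorem chk_rows17_18 : cert.rowsOK 426000 1000 = true := by decide +kernel

theorem chk_rows17_19 : cert.rowsOK 427000 1000 = true := by decide +kernel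

theorem chk_rows17_20 : cert.rowsOK 428000 1000 = true := by decide +kernel

theorem chk_rows17_21 : cert.rowsOK 429000 1000 = true := by decide +kernel

theorem chk_rows17_22 : cert.rowsOK 430000 1000 = true := by decide +kernel

theorem chk_rows17_23 : cert.rowsOK 431000 1000 = true := by decide +kernel

theorem chk_range17 : ∀ a, 408000 ≤ a → a < 432000 → ∀ x < cert.c.g, cert.slotOK a x = true := by
  refine cert.range_of_chunks 408000 1000 24 (by norm_num) ?_
  intro k hk
  interval_cases k
  · exact chk_rows17_0
  · exact chk_rows17_1
  · exact chk_rows17_2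
  · exact chk_rows17_3
  · exact chk_rows17_4
  · exact chk_rows17_5
  · exact chk_rows17_6
  · exact chk_rows17_7
  · exact chk_rows17_8
  · exact chk_rows17_9
  · exact chk_rows17_10
  · exact chk_rows17_11
  · exact chk_rows17_12
  · exact chk_rows17_13
  · exact chk_rows17_14
  · exact chk_rows17_15
  · exact chk_rows17_16
  · exact chk_rows17_17
  · exact chk_rows17_18
  · exact chk_rows17_19
  · exact chk_rows17_20
  · exact chk_rows17_21
  · exact chk_rows17_22
  · exact chk_rows17_23

end Cfsg.Agent.Lib.Lead.HNP.QB
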