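import Cfsg.Agent.Lib.Lead.HNP.QBSCert
import Cfsg.Agent.Lib.Lead.HNP.QBSFin3

/-! # QB: the kernel check of the merge map from row 0 on -/

set_option autoImplicit false

namespace Cfsg.Agent.Lib.Lead.HNP.QB

open Cfsg.Agent.Lib.Helper6.TC Cfsg.Agent.Lib.Helper6.TCGS

theorem chk_mrows0_0 : cert.mrowsOK 0 6000 = true := by decide +kernel

theorem chk_mrows0_1 : cert.mrowsOK 6000 6000 = true := by decide +kernel

theorem chk_mrows0_2 : cert.mrowsOK 12000 6000 = true := by decide +kernel

theorem chk_mrows0_3 : cert.mrowsOK 18000 6000 = true := by decide +kernel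

theorem chk_mrows0_4 : cert.mrowsOK 24000 6000 = true := by decide +kernel

theorem chk_mrows0_5 : cert.mrowsOK 30000 6000 = true := by decide +kernel

theorem chk_mrows0_6 : cert.mrowsOK 36000 6000 = true := by decide +kernel

theorem chk_mrows0_7 : cert.mrowsOK 42000 6000 = true := by decide +kernel

theorem chk_mrows0_8 : cert.mrowsOK 48000 6000 = true := by decide +kernel

theorem chk_mrows0_9 : cert.mrowsOK 54000 6000 = true := by decide +kernel

theorem chk_mrows0_10 : cert.mrowsOK 60000 6000 = true := by decide +kernel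

theorem chk_mrows0_11 : cert.mrowsOK 66000 6000 = true := by decide +kernel

theorem chk_mrange0 : ∀ a, 0 ≤ a → a < 0 + 72000 → cert.mslotOK a = true := by
  refine cert.mrange_of_chunks 0 6000 12 (by norm_num) ?_
  intro k hk
  interval_cases k
  · exact chk_mrows0_0
  · exact chk_mrows0_1
  · exact chk_mrows0_2
  · exact chk_mrows0_3
  · exact chk_mrows0_4
  · exact chk_mrows0_5
  · exact chk_mrows0_6
  · exact chk_mrows0_7
  · exact chk_mrows0_8
  · exact chk_mrows0_9
  · exact chk_mrows0_10
  · exact chk_mrows0_11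

end Cfsg.Agent.Lib.Lead.HNP.QB
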