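import Cfsg.Agent.Lib.Lead.HNP.QBSCert
import Cfsg.Agent.Lib.Lead.HNP.QBSMRows0

/-! # QB: the kernel check of the merge map from row 288000 on -/

set_option autoImplicit false

namespace Cfsg.Agent.Lib.Lead.HNP.QB

open Cfsg.Agent.Lib.Helper6.TC Cfsg.Agent.Lib.Helper6.TCGS

theorem chk_mrows4_0 : cert.mrowsOK 288000 6000 = true := by decide +kernel

theorem chk_mrows4_1 : cert.mrowsOK 294000 6000 = true := by decide +kernel

theorem chk_mrows4_2 : cert.mrowsOK 300000 6000 = true := by decide +kernel

theorem chk_mrows4_3 : cert.mrowsOK 306000 6000 = true := by decide +kernel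

theorem chk_mrows4_4 : cert.mrowsOK 312000 6000 = true := by decide +kernel

theorem chk_mrows4_5 : cert.mrowsOK 318000 6000 = true := by decide +kernel

theorem chk_mrows4_6 : cert.mrowsOK 324000 6000 = true := by decide +kernel

theorem chk_mrows4_7 : cert.mrowsOK 330000 6000 = true := by decide +kernel

theorem chk_mrows4_8 : cert.mrowsOK 336000 6000 = true := by decide +kernel

theorem chk_mrows4_9 : cert.mrowsOK 342000 6000 = true := by decide +kernel

theorem chk_mrows4_10 : cert.mrowsOK 348000 6000 = true := by decide +kernel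

theorem chk_mrows4_11 : cert.mrowsOK 354000 6000 = true := by decide +kernel

theorem chk_mrange4 : ∀ a, 288000 ≤ a → a < 288000 + 72000 → cert.mslotOK a = true := by
  refine cert.mrange_of_chunks 288000 6000 12 (by norm_num) ?_
  intro k hk
  interval_cases k
  · exact chk_mrows4_0
  · exact chk_mrows4_1
  · exact chk_mrows4_2
  · exact chk_mrows4_3
  · exact chk_mrows4_4
  · exact chk_mrows4_5
  · exact chk_mrows4_6
  · exact chk_mrows4_7
  · exact chk_mrows4_8
  · exact chk_mrows4_9
  · exact chk_mrows4_10
  · exact chk_mrows4_11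

end Cfsg.Agent.Lib.Lead.HNP.QB
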