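import Cfsg.Agent.Lib.Lead.HNP.QBSCert
import Cfsg.Agent.Lib.Lead.HNP.QBSRows6

/-! # QB: the kernel check of the rows from 240000 on -/

set_option autoImplicit false

namespace Cfsg.Agent.Lib.Lead.HNP.QB

open Cfsg.Agent.Lib.Helper6.TC Cfsg.Agent.Lib.Helper6.TCGS

theorem chk_rows10_0 : cert.rowsOK 240000 1000 = true := by decide +kernel

theorem chk_rows10_1 : cert.rowsOK 241000 1000 = true := by decide +kernel

theorem chk_rows10_2 : cert.rowsOK 242000 1000 = true := by decide +kernel

theorem chk_rows10_3 : cert.rowsOK 243000 1000 = true := by decide +kernel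

theorem chk_rows10_4 : cert.rowsOK 244000 1000 = true := by decide +kernel

theorem chk_rows10_5 : cert.rowsOK 245000 1000 = true := by decide +kernel

theorem chk_rows10_6 : cert.rowsOK 246000 1000 = true := by decide +kernel

theorem chk_rows10_7 : cert.rowsOK 247000 1000 = true := by decide +kernel

theorem chk_rows10_8 : cert.rowsOK 248000 1000 = true := by decide +kernel

theorem chk_rows10_9 : cert.rowsOK 249000 1000 = true := by decide +kernel

theorem chk_rows10_10 : cert.rowsOK 250000 1000 = true := by decide +kernel

theorem chk_rows10_11 : cert.rowsOK 251000 1000 = true := by decide +kernel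

theorem chk_rows10_12 : cert.rowsOK 252000 1000 = true := by decide +kernel

theorem chk_rows10_13 : cert.rowsOK 253000 1000 = true := by decide +kernel

theorem chk_rows10_14 : cert.rowsOK 254000 1000 = true := by decide +kernel

theorem chk_rows10_15 : cert.rowsOK 255000 1000 = true := by decide +kernel

theorem chk_rows10_16 : cert.rowsOK 256000 1000 = true := by decide +kernel

theorem chk_rows10_17 : cert.rowsOK 257000 1000 = true := by decide +kernel

theorem chk_rows10_18 : cert.rowsOK 258000 1000 = true := by decide +kernel

theorem chk_rows10_19 : cert.rowsOK 259000 1000 = true := by decide +kernel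

theorem chk_rows10_20 : cert.rowsOK 260000 1000 = true := by decide +kernel

theorem chk_rows10_21 : cert.rowsOK 261000 1000 = true := by decide +kernel

theorem chk_rows10_22 : cert.rowsOK 262000 1000 = true := by decide +kernel

theorem chk_rows10_23 : cert.rowsOK 263000 1000 = true := by decide +kernel

theorem chk_range10 : ∀ a, 240000 ≤ a → a < 264000 → ∀ x < cert.c.g, cert.slotOK a x = true := by
  refine cert.range_of_chunks 240000 1000 24 (by norm_num) ?_
  intro k hk
  interval_cases k
  · exact chk_rows10_0
  · exact chk_rows10_1
  · exact chk_rows10_2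
  · exact chk_rows10_3
  · exact chk_rows10_4
  · exact chk_rows10_5
  · exact chk_rows10_6
  · exact chk_rows10_7
  · exact chk_rows10_8
  · exact chk_rows10_9
  · exact chk_rows10_10
  · exact chk_rows10_11
  · exact chk_rows10_12
  · exact chk_rows10_13
  · exact chk_rows10_14
  · exact chk_rows10_15
  · exact chk_rows10_16
  · exact chk_rows10_17
  · exact chk_rows10_18
  · exact chk_rows10_19
  · exact chk_rows10_20
  · exact chk_rows10_21
  · exact chk_rows10_22
  · exact chk_rows10_23

end Cfsg.Agent.Lib.Lead.HNP.QB
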