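import Cfsg.Agent.Lib.Lead.HNP.QBSCert
import Cfsg.Agent.Lib.Lead.HNP.QBSRows10

/-! # QB: the kernel check of the rows from 336000 on -/

set_option autoImplicit false

namespace Cfsg.Agent.Lib.Lead.HNP.QB

open Cfsg.Agent.Lib.Helper6.TC Cfsg.Agent.Lib.Helper6.TCGS

theorem chk_rows14_0 : cert.rowsOK 336000 1000 = true := by decide +kernel

theorem chk_rows14_1 : cert.rowsOK 337000 1000 = true := by decide +kernel

theorem chk_rows14_2 : cert.rowsOK 338000 1000 = true := by decide +kernel

theorem chk_rows14_3 : cert.rowsOK 339000 1000 = true := by decide +kernel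

theorem chk_rows14_4 : cert.rowsOK 340000 1000 = true := by decide +kernel

theorem chk_rows14_5 : cert.rowsOK 341000 1000 = true := by decide +kernel

theorem chk_rows14_6 : cert.rowsOK 342000 1000 = true := by decide +kernel

theorem chk_rows14_7 : cert.rowsOK 343000 1000 = true := by decide +kernel

theorem chk_rows14_8 : cert.rowsOK 344000 1000 = true := by decide +kernel

theorem chk_rows14_9 : cert.rowsOK 345000 1000 = true := by decide +kernel

theorem chk_rows14_10 : cert.rowsOK 346000 1000 = true := by decide +kernel

theorem chk_rows14_11 : cert.rowsOK 347000 1000 = true := by decide +kernel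

theorem chk_rows14_12 : cert.rowsOK 348000 1000 = true := by decide +kernel

theorem chk_rows14_13 : cert.rowsOK 349000 1000 = true := by decide +kernel

theorem chk_rows14_14 : cert.rowsOK 350000 1000 = true := by decide +kernel

theorem chk_rows14_15 : cert.rowsOK 351000 1000 = true := by decide +kernel

theorem chk_rows14_16 : cert.rowsOK 352000 1000 = true := by decide +kernel

theorem chk_rows14_17 : cert.rowsOK 353000 1000 = true := by decide +kernel

theorem chk_rows14_18 : cert.rowsOK 354000 1000 = true := by decide +kernel

theorem chk_rows14_19 : cert.rowsOK 355000 1000 = true := by decide +kernel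

theorem chk_rows14_20 : cert.rowsOK 356000 1000 = true := by decide +kernel

theorem chk_rows14_21 : cert.rowsOK 357000 1000 = true := by decide +kernel

theorem chk_rows14_22 : cert.rowsOK 358000 1000 = true := by decide +kernel

theorem chk_rows14_23 : cert.rowsOK 359000 1000 = true := by decide +kernel

theorem chk_range14 : ∀ a, 336000 ≤ a → a < 360000 → ∀ x < cert.c.g, cert.slotOK a x = true := by
  refine cert.range_of_chunks 336000 1000 24 (by norm_num) ?_
  intro k hk
  interval_cases k
  · exact chk_rows14_0
  · exact chk_rows14_1
  · exact chk_rows14_2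
  · exact chk_rows14_3
  · exact chk_rows14_4
  · exact chk_rows14_5
  · exact chk_rows14_6
  · exact chk_rows14_7
  · exact chk_rows14_8
  · exact chk_rows14_9
  · exact chk_rows14_10
  · exact chk_rows14_11
  · exact chk_rows14_12
  · exact chk_rows14_13
  · exact chk_rows14_14
  · exact chk_rows14_15
  · exact chk_rows14_16
  · exact chk_rows14_17
  · exact chk_rows14_18
  · exact chk_rows14_19
  · exact chk_rows14_20
  · exact chk_rows14_21
  · exact chk_rows14_22
  · exact chk_rows14_23

end Cfsg.Agent.Lib.Lead.HNP.QB
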