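import Cfsg.Agent.Lib.Lead.HNP.QBSCert
import Cfsg.Agent.Lib.Lead.HNP.QBSFin4

/-! # QB: the kernel check of the merge map from row 72000 on -/

set_option autoImplicit false

namespace Cfsg.Agent.Lib.Lead.HNP.QB

open Cfsg.Agent.Lib.Helper6.TC Cfsg.Agent.Lib.Helper6.TCGS

theorem chk_mrows1_0 : cert.mrowsOK 72000 6000 = true := by decide +kernel

theorem chk_mrows1_1 : cert.mrowsOK 78000 6000 = true := by decide +kernel

theorem chk_mrows1_2 : cert.mrowsOK 84000 6000 = true := by decide +kernel

theorem chk_mrows1_3 : cert.mrowsOK 90000 6000 = true := by decide +kernel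

theorem chk_mrows1_4 : cert.mrowsOK 96000 6000 = true := by decide +kernel

theorem chk_mrows1_5 : cert.mrowsOK 102000 6000 = true := by decide +kernel

theorem chk_mrows1_6 : cert.mrowsOK 108000 6000 = true := by decide +kernel

theorem chk_mrows1_7 : cert.mrowsOK 114000 6000 = true := by decide +kernel

theorem chk_mrows1_8 : cert.mrowsOK 120000 6000 = true := by decide +kernel

theorem chk_mrows1_9 : cert.mrowsOK 126000 6000 = true := by decide +kernel

theorem chk_mrows1_10 : cert.mrowsOK 132000 6000 = true := by decide +kernel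

theorem chk_mrows1_11 : cert.mrowsOK 138000 6000 = true := by decide +kernel

theorem chk_mrange1 : ∀ a, 72000 ≤ a → a < 72000 + 72000 → cert.mslotOK a = true := by
  refine cert.mrange_of_chunks 72000 6000 12 (by norm_num) ?_
  intro k hk
  interval_cases k
  · exact chk_mrows1_0
  · exact chk_mrows1_1
  · exact chk_mrows1_2
  · exact chk_mrows1_3
  · exact chk_mrows1_4
  · exact chk_mrows1_5
  · exact chk_mrows1_6
  · exact chk_mrows1_7
  · exact chk_mrows1_8
  · exact chk_mrows1_9
  · exact chk_mrows1_10
  · exact chk_mrows1_11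

end Cfsg.Agent.Lib.Lead.HNP.QB
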