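import Cfsg.Agent.Lib.Lead.HNP.QBSCert
import Cfsg.Agent.Lib.Lead.HNP.QBSMRows1

/-! # QB: the kernel check of the merge map from row 360000 on -/

set_option autoImplicit false

namespace Cfsg.Agent.Lib.Lead.HNP.QB

open Cfsg.Agent.Lib.Helper6.TC Cfsg.Agent.Lib.Helper6.TCGS

theorem chk_mrows5_0 : cert.mrowsOK 360000 6000 = true := by decide +kernel

theorem chk_mrows5_1 : cert.mrowsOK 366000 6000 = true := by decide +kernel

theorem chk_mrows5_2 : cert.mrowsOK 372000 6000 = true := by decide +kernel

theorem chk_mrows5_3 : cert.mrowsOK 378000 6000 = true := by decide +kernel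

theorem chk_mrows5_4 : cert.mrowsOK 384000 6000 = true := by decide +kernel

theorem chk_mrows5_5 : cert.mrowsOK 390000 6000 = true := by decide +kernel

theorem chk_mrows5_6 : cert.mrowsOK 396000 6000 = true := by decide +kernel

theorem chk_mrows5_7 : cert.mrowsOK 402000 6000 = true := by decide +kernel

theorem chk_mrows5_8 : cert.mrowsOK 408000 6000 = true := by decide +kernel

theorem chk_mrows5_9 : cert.mrowsOK 414000 6000 = true := by decide +kernel

theorem chk_mrows5_10 : cert.mrowsOK 420000 6000 = true := by decide +kernel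

theorem chk_mrows5_11 : cert.mrowsOK 426000 6000 = true := by decide +kernel

theorem chk_mrange5 : ∀ a, 360000 ≤ a → a < 360000 + 72000 → cert.mslotOK a = true := by
  refine cert.mrange_of_chunks 360000 6000 12 (by norm_num) ?_
  intro k hk
  interval_cases k
  · exact chk_mrows5_0
  · exact chk_mrows5_1
  · exact chk_mrows5_2
  · exact chk_mrows5_3
  · exact chk_mrows5_4
  · exact chk_mrows5_5
  · exact chk_mrows5_6
  · exact chk_mrows5_7
  · exact chk_mrows5_8
  · exact chk_mrows5_9
  · exact chk_mrows5_10
  · exact chk_mrows5_11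

end Cfsg.Agent.Lib.Lead.HNP.QB
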