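import Cfsg.Agent.Lib.Lead.HNP.QBData
import Cfsg.Agent.Lib.Helper6.TCRel3
import Cfsg.Agent.Lib.Lead.HNP.QBSMRows5

/-! # QB: the kernel check of a part of the relators on the coset table -/

set_option autoImplicit false

namespace Cfsg.Agent.Lib.Lead.HNP.QB

open Cfsg.Agent.Lib.Helper6.TC

theorem chk_pow3_1_0 : tab.minOKc [1, 2, 2, 0, 2, 2, 2] 3 68565 4571 = true := by decide +kernel

theorem chk_pow3_1_1 : tab.minOKc [1, 2, 2, 0, 2, 2, 2] 3 73136 4571 = true := by decide +kernel

theorem chk_pow3_1_2 : tab.minOKc [1, 2, 2, 0, 2, 2, 2] 3 77707 4571 = true := by decide +kernel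

theorem chk_pow3_1_3 : tab.minOKc [1, 2, 2, 0, 2, 2, 2] 3 82278 4571 = true := by decide +kernel

theorem chk_pow3_1_4 : tab.minOKc [1, 2, 2, 0, 2, 2, 2] 3 86849 4571 = true := by decide +kernel

theorem chk_pow3_1_5 : tab.minOKc [1, 2, 2, 0, 2, 2, 2] 3 91420 4571 = true := by decide +kernel

theorem chk_pow3_1_6 : tab.minOKc [1, 2, 2, 0, 2, 2, 2] 3 95991 4571 = true := by decide +kernel

theorem chk_pow3_1_7 : tab.minOKc [1, 2, 2, 0, 2, 2, 2] 3 100562 4571 = true := by decide +kernel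

theorem chk_pow3_1_8 : tab.minOKc [1, 2, 2, 0, 2, 2, 2] 3 105133 4571 = true := by decide +kernel

theorem chk_pow3_1_9 : tab.minOKc [1, 2, 2, 0, 2, 2, 2] 3 109704 4571 = true := by decide +kernel

theorem chk_pow3_1_10 : tab.minOKc [1, 2, 2, 0, 2, 2, 2] 3 114275 4571 = true := by decide +kernel

theorem chk_pow3_1_11 : tab.minOKc [1, 2, 2, 0, 2, 2, 2] 3 118846 4571 = true := by decide +kernel

theorem chk_pow3_1_12 : tab.minOKc [1, 2, 2, 0, 2, 2, 2] 3 123417 4571 = true := by decide +kernel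

theorem chk_pow3_1_13 : tab.minOKc [1, 2, 2, 0, 2, 2, 2] 3 127988 4571 = true := by decide +kernel

theorem chk_pow3_1_14 : tab.minOKc [1, 2, 2, 0, 2, 2, 2] 3 132559 4571 = true := by decide +kernel

theorem chk_pow3_1 : tab.minOKc [1, 2, 2, 0, 2, 2, 2] 3 68565 68565 = true := by
  refine tab.minOKc_of_chunks [1, 2, 2, 0, 2, 2, 2] 3 68565 4571 15 (by norm_num) ?_
  intro i hi
  interval_cases i
  · exact chk_pow3_1_0
  · exact chk_pow3_1_1
  · exact chk_pow3_1_2
  · exact chk_pow3_1_3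
  · exact chk_pow3_1_4
  · exact chk_pow3_1_5
  · exact chk_pow3_1_6
  · exact chk_pow3_1_7
  · exact chk_pow3_1_8
  · exact chk_pow3_1_9
  · exact chk_pow3_1_10
  · exact chk_pow3_1_11
  · exact chk_pow3_1_12
  · exact chk_pow3_1_13
  · exact chk_pow3_1_14

theorem chk_pow4_0_0 : tab.minOKc [0, 2] 8 0 16000 = true := by decide +kernel

theorem chk_pow4_0_1 : tab.minOKc [0, 2] 8 16000 16000 = true := by decide +kernel

theorem chk_pow4_0_2 : tab.minOKc [0, 2] 8 32000 16000 = true := by decide +kernel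

theorem chk_pow4_0_3 : tab.minOKc [0, 2] 8 48000 16000 = true := by decide +kernel

theorem chk_pow4_0_4 : tab.minOKc [0, 2] 8 64000 16000 = true := by decide +kernel

theorem chk_pow4_0_5 : tab.minOKc [0, 2] 8 80000 16000 = true := by decide +kernel

theorem chk_pow4_0_6 : tab.minOKc [0, 2] 8 96000 16000 = true := by decide +kernel

theorem chk_pow4_0_7 : tab.minOKc [0, 2] 8 112000 16000 = true := by decide +kernel

theorem chk_pow4_0_8 : tab.minOKc [0, 2] 8 128000 16000 = true := by decide +kernel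

theorem chk_pow4_0_9 : tab.minOKc [0, 2] 8 144000 16000 = true := by decide +kernel

theorem chk_pow4_0_10 : tab.minOKc [0, 2] 8 160000 16000 = true := by decide +kernel

theorem chk_pow4_0_11 : tab.minOKc [0, 2] 8 176000 16000 = true := by decide +kernel

theorem chk_pow4_0_12 : tab.minOKc [0, 2] 8 192000 16000 = true := by decide +kernel

theorem chk_pow4_0_13 : tab.minOKc [0, 2] 8 208000 16000 = true := by decide +kernel

theorem chk_pow4_0_14 : tab.minOKc [0, 2] 8 224000 16000 = true := by decide +kernel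

theorem chk_pow4_0 : tab.minOKc [0, 2] 8 0 240000 = true := by
  refine tab.minOKc_of_chunks [0, 2] 8 0 16000 15 (by norm_num) ?_
  intro i hi
  interval_cases i
  · exact chk_pow4_0_0
  · exact chk_pow4_0_1
  · exact chk_pow4_0_2
  · exact chk_pow4_0_3
  · exact chk_pow4_0_4
  · exact chk_pow4_0_5
  · exact chk_pow4_0_6
  · exact chk_pow4_0_7
  · exact chk_pow4_0_8
  · exact chk_pow4_0_9
  · exact chk_pow4_0_10
  · exact chk_pow4_0_11
  · exact chk_pow4_0_12
  · exact chk_pow4_0_13
  · exact chk_pow4_0_14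


end Cfsg.Agent.Lib.Lead.HNP.QB
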