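import Cfsg.Agent.Lib.Lead.HNP.QBData
import Cfsg.Agent.Lib.Helper6.TCRel3
import Cfsg.Agent.Lib.Lead.HNP.QBRel0

/-! # QB: the kernel check of a part of the relators on the coset table -/

set_option autoImplicit false

namespace Cfsg.Agent.Lib.Lead.HNP.QB

open Cfsg.Agent.Lib.Helper6.TC

theorem chk_pow5_0_0 : tab.minOKc [0, 2, 0, 2, 2, 2] 4 0 5333 = true := by decide +kernel

theorem chk_pow5_0_1 : tab.minOKc [0, 2, 0, 2, 2, 2] 4 5333 5333 = true := by decide +kernel

theorem chk_pow5_0_2 : tab.minOKc [0, 2, 0, 2, 2, 2] 4 10666 5333 = true := by decide +kernel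

theorem chk_pow5_0_3 : tab.minOKc [0, 2, 0, 2, 2, 2] 4 15999 5333 = true := by decide +kernel

theorem chk_pow5_0_4 : tab.minOKc [0, 2, 0, 2, 2, 2] 4 21332 5333 = true := by decide +kernel

theorem chk_pow5_0_5 : tab.minOKc [0, 2, 0, 2, 2, 2] 4 26665 5333 = true := by decide +kernel

theorem chk_pow5_0_6 : tab.minOKc [0, 2, 0, 2, 2, 2] 4 31998 5333 = true := by decide +kernel

theorem chk_pow5_0_7 : tab.minOKc [0, 2, 0, 2, 2, 2] 4 37331 5333 = true := by decide +kernel

theorem chk_pow5_0_8 : tab.minOKc [0, 2, 0, 2, 2, 2] 4 42664 5333 = true := by decide +kernel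

theorem chk_pow5_0_9 : tab.minOKc [0, 2, 0, 2, 2, 2] 4 47997 5333 = true := by decide +kernel

theorem chk_pow5_0_10 : tab.minOKc [0, 2, 0, 2, 2, 2] 4 53330 5333 = true := by decide +kernel

theorem chk_pow5_0_11 : tab.minOKc [0, 2, 0, 2, 2, 2] 4 58663 5333 = true := by decide +kernel

theorem chk_pow5_0_12 : tab.minOKc [0, 2, 0, 2, 2, 2] 4 63996 5333 = true := by decide +kernel

theorem chk_pow5_0_13 : tab.minOKc [0, 2, 0, 2, 2, 2] 4 69329 5333 = true := by decide +kernel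

theorem chk_pow5_0_14 : tab.minOKc [0, 2, 0, 2, 2, 2] 4 74662 5333 = true := by decide +kernel

theorem chk_pow5_0 : tab.minOKc [0, 2, 0, 2, 2, 2] 4 0 79995 = true := by
  refine tab.minOKc_of_chunks [0, 2, 0, 2, 2, 2] 4 0 5333 15 (by norm_num) ?_
  intro i hi
  interval_cases i
  · exact chk_pow5_0_0
  · exact chk_pow5_0_1
  · exact chk_pow5_0_2
  · exact chk_pow5_0_3
  · exact chk_pow5_0_4
  · exact chk_pow5_0_5
  · exact chk_pow5_0_6
  · exact chk_pow5_0_7
  · exact chk_pow5_0_8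
  · exact chk_pow5_0_9
  · exact chk_pow5_0_10
  · exact chk_pow5_0_11
  · exact chk_pow5_0_12
  · exact chk_pow5_0_13
  · exact chk_pow5_0_14

theorem chk_pow5_1_0 : tab.minOKc [0, 2, 0, 2, 2, 2] 4 79995 5333 = true := by decide +kernel

theorem chk_pow5_1_1 : tab.minOKc [0, 2, 0, 2, 2, 2] 4 85328 5333 = true := by decide +kernel

theorem chk_pow5_1_2 : tab.minOKc [0, 2, 0, 2, 2, 2] 4 90661 5333 = true := by decide +kernel

theorem chk_pow5_1_3 : tab.minOKc [0, 2, 0, 2, 2, 2] 4 95994 5333 = true := by decide +kernel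

theorem chk_pow5_1_4 : tab.minOKc [0, 2, 0, 2, 2, 2] 4 101327 5333 = true := by decide +kernel

theorem chk_pow5_1_5 : tab.minOKc [0, 2, 0, 2, 2, 2] 4 106660 5333 = true := by decide +kernel

theorem chk_pow5_1_6 : tab.minOKc [0, 2, 0, 2, 2, 2] 4 111993 5333 = true := by decide +kernel

theorem chk_pow5_1_7 : tab.minOKc [0, 2, 0, 2, 2, 2] 4 117326 5333 = true := by decide +kernel

theorem chk_pow5_1_8 : tab.minOKc [0, 2, 0, 2, 2, 2] 4 122659 5333 = true := by decide +kernel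

theorem chk_pow5_1_9 : tab.minOKc [0, 2, 0, 2, 2, 2] 4 127992 5333 = true := by decide +kernel

theorem chk_pow5_1_10 : tab.minOKc [0, 2, 0, 2, 2, 2] 4 133325 5333 = true := by decide +kernel

theorem chk_pow5_1_11 : tab.minOKc [0, 2, 0, 2, 2, 2] 4 138658 5333 = true := by decide +kernel

theorem chk_pow5_1_12 : tab.minOKc [0, 2, 0, 2, 2, 2] 4 143991 5333 = true := by decide +kernel

theorem chk_pow5_1_13 : tab.minOKc [0, 2, 0, 2, 2, 2] 4 149324 5333 = true := by decide +kernel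

theorem chk_pow5_1_14 : tab.minOKc [0, 2, 0, 2, 2, 2] 4 154657 5333 = true := by decide +kernel

theorem chk_pow5_1 : tab.minOKc [0, 2, 0, 2, 2, 2] 4 79995 79995 = true := by
  refine tab.minOKc_of_chunks [0, 2, 0, 2, 2, 2] 4 79995 5333 15 (by norm_num) ?_
  intro i hi
  interval_cases i
  · exact chk_pow5_1_0
  · exact chk_pow5_1_1
  · exact chk_pow5_1_2
  · exact chk_pow5_1_3
  · exact chk_pow5_1_4
  · exact chk_pow5_1_5
  · exact chk_pow5_1_6
  · exact chk_pow5_1_7
  · exact chk_pow5_1_8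
  · exact chk_pow5_1_9
  · exact chk_pow5_1_10
  · exact chk_pow5_1_11
  · exact chk_pow5_1_12
  · exact chk_pow5_1_13
  · exact chk_pow5_1_14


end Cfsg.Agent.Lib.Lead.HNP.QB
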