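import Cfsg.Agent.Lib.Lead.HNP.QBData
import Cfsg.Agent.Lib.Helper6.TCGIndex
import Cfsg.Agent.Lib.Lead.HNP.QBTab1

/-! # QB: the kernel check of the coset table, part 5 -/

set_option autoImplicit false

namespace Cfsg.Agent.Lib.Lead.HNP.QB

open Cfsg.Agent.Lib.Helper6.TC Cfsg.Agent.Lib.Helper6.TCGS

theorem chk_tab45 : Cfsg.Agent.Lib.Helper6.TCG.tabOKc tab ivs 90000 2000 = true := by decide +kernel

theorem chk_tab46 : Cfsg.Agent.Lib.Helper6.TCG.tabOKc tab ivs 92000 2000 = true := by decide +kernel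

theorem chk_tab47 : Cfsg.Agent.Lib.Helper6.TCG.tabOKc tab ivs 94000 2000 = true := by decide +kernel

theorem chk_tab48 : Cfsg.Agent.Lib.Helper6.TCG.tabOKc tab ivs 96000 2000 = true := by decide +kernel

theorem chk_tab49 : Cfsg.Agent.Lib.Helper6.TCG.tabOKc tab ivs 98000 2000 = true := by decide +kernel

theorem chk_tab50 : Cfsg.Agent.Lib.Helper6.TCG.tabOKc tab ivs 100000 2000 = true := by decide +kernel

theorem chk_tab51 : Cfsg.Agent.Lib.Helper6.TCG.tabOKc tab ivs 102000 2000 = true := by decide +kernel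

theorem chk_tab52 : Cfsg.Agent.Lib.Helper6.TCG.tabOKc tab ivs 104000 2000 = true := by decide +kernel

theorem chk_tab53 : Cfsg.Agent.Lib.Helper6.TCG.tabOKc tab ivs 106000 2000 = true := by decide +kernel


end Cfsg.Agent.Lib.Lead.HNP.QB
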