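import Cfsg.Agent.Lib.Lead.HNP.QBData
import Cfsg.Agent.Lib.Helper6.TCChunk
import Cfsg.Agent.Lib.Lead.HNP.QBTab5

/-! # QB: the kernel check that the coset table is connected, part 2 -/

set_option autoImplicit false

namespace Cfsg.Agent.Lib.Lead.HNP.QB

open Cfsg.Agent.Lib.Helper6.TC Cfsg.Agent.Lib.Helper6.TCGS

theorem chk_tree54 : tab.treeOKc 108000 2000 = true := by decide +kernel

theorem chk_tree55 : tab.treeOKc 110000 2000 = true := by decide +kernel

theorem chk_tree56 : tab.treeOKc 112000 2000 = true := by decide +kernel

theorem chk_tree57 : tab.treeOKc 114000 2000 = true := by decide +kernel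

theorem chk_tree58 : tab.treeOKc 116000 2000 = true := by decide +kernel

theorem chk_tree59 : tab.treeOKc 118000 2000 = true := by decide +kernel

theorem chk_tree60 : tab.treeOKc 120000 2000 = true := by decide +kernel

theorem chk_tree61 : tab.treeOKc 122000 2000 = true := by decide +kernel

theorem chk_tree62 : tab.treeOKc 124000 2000 = true := by decide +kernel


end Cfsg.Agent.Lib.Lead.HNP.QB
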