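import Cfsg.Agent.Lib.Lead.HNP.QBData
import Cfsg.Agent.Lib.Helper6.TCGInst
import Cfsg.Agent.Lib.Lead.HNP.QBChk3
import Cfsg.Agent.Lib.Lead.HNP.QBTab0
import Cfsg.Agent.Lib.Lead.HNP.QBTab1
import Cfsg.Agent.Lib.Lead.HNP.QBTab2
import Cfsg.Agent.Lib.Lead.HNP.QBTab3
import Cfsg.Agent.Lib.Lead.HNP.QBTab4
import Cfsg.Agent.Lib.Lead.HNP.QBTab5
import Cfsg.Agent.Lib.Lead.HNP.QBTab6
import Cfsg.Agent.Lib.Lead.HNP.QBTree0
import Cfsg.Agent.Lib.Lead.HNP.QBTree1
import Cfsg.Agent.Lib.Lead.HNP.QBTree2

/-! # QB: the checks of the coset table and the relators -/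

set_option autoImplicit false

namespace Cfsg.Agent.Lib.Lead.HNP.QB

open Cfsg.Agent.Lib.Helper6.TC Cfsg.Agent.Lib.Helper6.TCG

theorem chk_tab : Cfsg.Agent.Lib.Helper6.TCG.tabOK tab ivs = true := by
  refine Cfsg.Agent.Lib.Helper6.TCG.tabOK_of_chunks tab ivs 2000 63 (by decide +kernel) (by norm_num) (by show 126000 ≤ 63 * 2000; norm_num) ?_
  intro k hk
  interval_cases k
  · exact chk_tab0
  · exact chk_tab1
  · exact chk_tab2
  · exact chk_tab3
  · exact chk_tab4
  · exact chk_tab5
  · exact chk_tab6
  · exact chk_tab7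
  · exact chk_tab8
  · exact chk_tab9
  · exact chk_tab10
  · exact chk_tab11
  · exact chk_tab12
  · exact chk_tab13
  · exact chk_tab14
  · exact chk_tab15
  · exact chk_tab16
  · exact chk_tab17
  · exact chk_tab18
  · exact chk_tab19
  · exact chk_tab20
  · exact chk_tab21
  · exact chk_tab22
  · exact chk_tab23
  · exact chk_tab24
  · exact chk_tab25
  · exact chk_tab26
  · exact chk_tab27
  · exact chk_tab28
  · exact chk_tab29
  · exact chk_tab30
  · exact chk_tab31
  · exact chk_tab32
  · exact chk_tab33
  · exact chk_tab34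
  · exact chk_tab35
  · exact chk_tab36
  · exact chk_tab37
  · exact chk_tab38
  · exact chk_tab39
  · exact chk_tab40
  · exact chk_tab41
  · exact chk_tab42
  · exact chk_tab43
  · exact chk_tab44
  · exact chk_tab45
  · exact chk_tab46
  · exact chk_tab47
  · exact chk_tab48
  · exact chk_tab49
  · exact chk_tab50
  · exact chk_tab51
  · exact chk_tab52
  · exact chk_tab53
  · exact chk_tab54
  · exact chk_tab55
  · exact chk_tab56
  · exact chk_tab57
  · exact chk_tab58
  · exact chk_tab59
  · exact chk_tab60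
  · exact chk_tab61
  · exact chk_tab62

theorem chk_tree : tab.treeOK = true := by
  refine tab.treeOK_of_chunks 2000 63 (by norm_num) (by show 126000 ≤ 63 * 2000; norm_num) ?_
  intro k hk
  interval_cases k
  · exact chk_tree0
  · exact chk_tree1
  · exact chk_tree2
  · exact chk_tree3
  · exact chk_tree4
  · exact chk_tree5
  · exact chk_tree6
  · exact chk_tree7
  · exact chk_tree8
  · exact chk_tree9
  · exact chk_tree10
  · exact chk_tree11
  · exact chk_tree12
  · exact chk_tree13
  · exact chk_tree14
  · exact chk_tree15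
  · exact chk_tree16
  · exact chk_tree17
  · exact chk_tree18
  · exact chk_tree19
  · exact chk_tree20
  · exact chk_tree21
  · exact chk_tree22
  · exact chk_tree23
  · exact chk_tree24
  · exact chk_tree25
  · exact chk_tree26
  · exact chk_tree27
  · exact chk_tree28
  · exact chk_tree29
  · exact chk_tree30
  · exact chk_tree31
  · exact chk_tree32
  · exact chk_tree33
  · exact chk_tree34
  · exact chk_tree35
  · exact chk_tree36
  · exact chk_tree37
  · exact chk_tree38
  · exact chk_tree39
  · exact chk_tree40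
  · exact chk_tree41
  · exact chk_tree42
  · exact chk_tree43
  · exact chk_tree44
  · exact chk_tree45
  · exact chk_tree46
  · exact chk_tree47
  · exact chk_tree48
  · exact chk_tree49
  · exact chk_tree50
  · exact chk_tree51
  · exact chk_tree52
  · exact chk_tree53
  · exact chk_tree54
  · exact chk_tree55
  · exact chk_tree56
  · exact chk_tree57
  · exact chk_tree58
  · exact chk_tree59
  · exact chk_tree60
  · exact chk_tree61
  · exact chk_tree62

theorem chk_pows : tab.minsOK extraPow = true := by
  simp only [extraPow, Tab.minsOK_cons, Tab.minsOK_nil, Bool.and_eq_true, and_true]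
  exact ⟨chk_pow0, chk_pow1, chk_pow2, chk_pow3, chk_pow4, chk_pow5⟩

theorem chk_sub : Cfsg.Agent.Lib.Helper6.TCG.subOK cfg tab subW = true := by decide +kernel

end Cfsg.Agent.Lib.Lead.HNP.QB
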