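import Cfsg.Agent.Lib.Lead.HNP.QBChk1
import Cfsg.Agent.Lib.Lead.HNP.QBChk2
import Cfsg.Agent.Lib.Lead.HNP.QBGlue

/-! # `Qt` over `⟨x², y⟩`: the data of the enumeration and the index of the subgroup -/

set_option autoImplicit false
set_option maxRecDepth 1000000
set_option maxHeartbeats 40000000

namespace Cfsg.Agent.Lib.Lead.HNP.QB

open Cfsg.Agent.Lib.Helper6.TC Cfsg.Agent.Lib.Helper6.TCG Cfsg.Agent.Lib.Helper6.TCGS Cfsg.Spor Cfsg.Agent.Lib.Lead.HNP

/-- the data of the enumeration -/
noncomputable def data : GenData ([] : List (QGen × ℕ × QGen)) Qextra SQ where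
  gen := genQ
  sgn := sgnQ
  code := codeQ
  c := cfg
  ivs := ivs
  gn := 0
  extraPow := extraPow
  nw := nw
  srcs := srcs
  T := tab
  subW := subW
  hnode := by decide
  hlow := by
    intro x hx
    exact absurd hx (Nat.not_lt_zero x)
  hgn := by decide
  hcode := by intro a; cases a <;> decide
  hletter := by
    intro x hx
    have hx' : x < 4 := hx
    interval_cases x <;> decide
  hTg := rfl
  hTn := show 0 < 126000 by norm_num
  chk_words := chk_words
  hrun := hrun
  chk_tab := chk_tab
  chk_pows := chk_pows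
  chk_tree := chk_tree
  hextra := fun f hf => extra_iff f hf
  hS := hS
  chk_sub := chk_sub

theorem index_eq : ((Subgroup.closure SQ).map (PresentedGroup.mk
      (coxRelators ([] : List (QGen × ℕ × QGen)) ∪ {r | r ∈ Qextra}))).index = 126000 :=
  data.index_eq

end Cfsg.Agent.Lib.Lead.HNP.QB
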