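import Cfsg.Agent.Lib.Lead.HNP.QB
import Cfsg.Agent.Lib.Helper5.HNGlue.VHom

/-! # The checks on the coset table of `Qt` over `⟨x², y⟩`: the second base point, the 35 derived relators that hold
in the amalgam, the relators of `V` -/

set_option autoImplicit false
set_option maxRecDepth 1000000
set_option maxHeartbeats 40000000

namespace Cfsg.Agent.Lib.Lead.HNP.QB

open Cfsg.Agent.Lib.Helper6.TC Cfsg.Agent.Lib.Helper6.TCG Cfsg.Spor Cfsg.Agent.Lib.Lead.HNP
  Cfsg.Agent.Lib.Helper5.HNGlue

theorem chk_side : sideQ tab 1 = true := by decide +kernel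

theorem chk_exact : exact35.all (exactChk tab 1) = true := by decide +kernel

theorem chk_vrel : vrelChk tab 1 = true := by decide +kernel

end Cfsg.Agent.Lib.Lead.HNP.QB
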