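import Cfsg.Agent.Lib.Helper6.TCGIndex
import Cfsg.Agent.Lib.Lead.HNP.QBSRows0
import Cfsg.Agent.Lib.Lead.HNP.QBSRows1
import Cfsg.Agent.Lib.Lead.HNP.QBSRows2
import Cfsg.Agent.Lib.Lead.HNP.QBSRows3
import Cfsg.Agent.Lib.Lead.HNP.QBSRows4
import Cfsg.Agent.Lib.Lead.HNP.QBSRows5
import Cfsg.Agent.Lib.Lead.HNP.QBSRows6
import Cfsg.Agent.Lib.Lead.HNP.QBSRows7
import Cfsg.Agent.Lib.Lead.HNP.QBSRows8
import Cfsg.Agent.Lib.Lead.HNP.QBSRows9
import Cfsg.Agent.Lib.Lead.HNP.QBSRows10
import Cfsg.Agent.Lib.Lead.HNP.QBSRows11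
import Cfsg.Agent.Lib.Lead.HNP.QBSRows12
import Cfsg.Agent.Lib.Lead.HNP.QBSRows13
import Cfsg.Agent.Lib.Lead.HNP.QBSRows14
import Cfsg.Agent.Lib.Lead.HNP.QBSRows15
import Cfsg.Agent.Lib.Lead.HNP.QBSRows16
import Cfsg.Agent.Lib.Lead.HNP.QBSRows17

/-! # QB: the rows of the coset enumeration are checked -/

set_option autoImplicit false

namespace Cfsg.Agent.Lib.Lead.HNP.QB

open Cfsg.Agent.Lib.Helper6.TC Cfsg.Agent.Lib.Helper6.TCGS

theorem chk_rows : ∀ a < cert.N, ∀ x < cert.c.g, cert.slotOK a x = true := by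
  have r0 : ∀ a, a < 0 → ∀ x < cert.c.g, cert.slotOK a x = true := upto_zero
  have r1 := upto_step (P := fun a => ∀ x < cert.c.g, cert.slotOK a x = true) r0 chk_range0
  have r2 := upto_step (P := fun a => ∀ x < cert.c.g, cert.slotOK a x = true) r1 chk_range1
  have r3 := upto_step (P := fun a => ∀ x < cert.c.g, cert.slotOK a x = true) r2 chk_range2
  have r4 := upto_step (P := fun a => ∀ x < cert.c.g, cert.slotOK a x = true) r3 chk_range3
  have r5 := upto_step (P := fun a => ∀ x < cert.c.g, cert.slotOK a x = true) r4 chk_range4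
  have r6 := upto_step (P := fun a => ∀ x < cert.c.g, cert.slotOK a x = true) r5 chk_range5
  have r7 := upto_step (P := fun a => ∀ x < cert.c.g, cert.slotOK a x = true) r6 chk_range6
  have r8 := upto_step (P := fun a => ∀ x < cert.c.g, cert.slotOK a x = true) r7 chk_range7
  have r9 := upto_step (P := fun a => ∀ x < cert.c.g, cert.slotOK a x = true) r8 chk_range8
  have r10 := upto_step (P := fun a => ∀ x < cert.c.g, cert.slotOK a x = true) r9 chk_range9
  have r11 := upto_step (P := fun a => ∀ x < cert.c.g, cert.slotOK a x = true) r10 chk_range10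
  have r12 := upto_step (P := fun a => ∀ x < cert.c.g, cert.slotOK a x = true) r11 chk_range11
  have r13 := upto_step (P := fun a => ∀ x < cert.c.g, cert.slotOK a x = true) r12 chk_range12
  have r14 := upto_step (P := fun a => ∀ x < cert.c.g, cert.slotOK a x = true) r13 chk_range13
  have r15 := upto_step (P := fun a => ∀ x < cert.c.g, cert.slotOK a x = true) r14 chk_range14
  have r16 := upto_step (P := fun a => ∀ x < cert.c.g, cert.slotOK a x = true) r15 chk_range15
  have r17 := upto_step (P := fun a => ∀ x < cert.c.g, cert.slotOK a x = true) r16 chk_range16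
  have r18 := upto_step (P := fun a => ∀ x < cert.c.g, cert.slotOK a x = true) r17 chk_range17
  intro a ha
  exact r18 a (lt_of_lt_of_le ha (by show 431164 ≤ 432000; norm_num))

end Cfsg.Agent.Lib.Lead.HNP.QB
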