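import Cfsg.Agent.Lib.Lead.HNP.QBChk0
import Cfsg.Agent.Lib.Lead.HNP.QBSMRows0
import Cfsg.Agent.Lib.Lead.HNP.QBSMRows1
import Cfsg.Agent.Lib.Lead.HNP.QBSMRows2
import Cfsg.Agent.Lib.Lead.HNP.QBSMRows3
import Cfsg.Agent.Lib.Lead.HNP.QBSMRows4
import Cfsg.Agent.Lib.Lead.HNP.QBSMRows5
import Cfsg.Agent.Lib.Lead.HNP.QBSFin0
import Cfsg.Agent.Lib.Lead.HNP.QBSFin1
import Cfsg.Agent.Lib.Lead.HNP.QBSFin2
import Cfsg.Agent.Lib.Lead.HNP.QBSFin3
import Cfsg.Agent.Lib.Lead.HNP.QBSFin4
import Cfsg.Agent.Lib.Lead.HNP.QBSFin5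
import Cfsg.Agent.Lib.Lead.HNP.QBSFin6

/-! # QB: the coset enumeration is checked -/

set_option autoImplicit false

namespace Cfsg.Agent.Lib.Lead.HNP.QB

open Cfsg.Agent.Lib.Helper6.TC Cfsg.Agent.Lib.Helper6.TCGS

theorem chk_mrows : ∀ b < cert.N, cert.mslotOK b = true := by
  refine cert.mrows_of_ranges 72000 6 (by norm_num) (by show 431164 ≤ 6 * 72000; norm_num) ?_
  intro f hf
  interval_cases f
  · exact chk_mrange0
  · exact chk_mrange1
  · exact chk_mrange2
  · exact chk_mrange3
  · exact chk_mrange4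
  · exact chk_mrange5

theorem chk_fin : cert.finalOK 126000 = true := by
  refine cert.finalOK_of_chunks 126000 2000 63 (by norm_num) (by show 126000 ≤ 63 * 2000; norm_num) ?_
  intro k hk
  interval_cases k
  · exact chk_fin0
  · exact chk_fin1
  · exact chk_fin2
  · exact chk_fin3
  · exact chk_fin4
  · exact chk_fin5
  · exact chk_fin6
  · exact chk_fin7
  · exact chk_fin8
  · exact chk_fin9
  · exact chk_fin10
  · exact chk_fin11
  · exact chk_fin12
  · exact chk_fin13
  · exact chk_fin14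
  · exact chk_fin15
  · exact chk_fin16
  · exact chk_fin17
  · exact chk_fin18
  · exact chk_fin19
  · exact chk_fin20
  · exact chk_fin21
  · exact chk_fin22
  · exact chk_fin23
  · exact chk_fin24
  · exact chk_fin25
  · exact chk_fin26
  · exact chk_fin27
  · exact chk_fin28
  · exact chk_fin29
  · exact chk_fin30
  · exact chk_fin31
  · exact chk_fin32
  · exact chk_fin33
  · exact chk_fin34
  · exact chk_fin35
  · exact chk_fin36
  · exact chk_fin37
  · exact chk_fin38
  · exact chk_fin39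
  · exact chk_fin40
  · exact chk_fin41
  · exact chk_fin42
  · exact chk_fin43
  · exact chk_fin44
  · exact chk_fin45
  · exact chk_fin46
  · exact chk_fin47
  · exact chk_fin48
  · exact chk_fin49
  · exact chk_fin50
  · exact chk_fin51
  · exact chk_fin52
  · exact chk_fin53
  · exact chk_fin54
  · exact chk_fin55
  · exact chk_fin56
  · exact chk_fin57
  · exact chk_fin58
  · exact chk_fin59
  · exact chk_fin60
  · exact chk_fin61
  · exact chk_fin62

theorem hrun : RunCertG cfg ivs tab.n :=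
  RunCertG.of_static cert 126000 (by norm_num) chk_rows chk_mrows chk_fin

end Cfsg.Agent.Lib.Lead.HNP.QB
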