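import Cfsg.Agent.Lib.Lead.HNP.QBTb

/-! # Coset enumeration data for QB: configuration, table, words (generated) -/

set_option autoImplicit false
set_option maxRecDepth 1000000
set_option maxHeartbeats 40000000

namespace Cfsg.Agent.Lib.Lead.HNP.QB

open Cfsg.Agent.Lib.Helper6.TC

/-- the configuration of the enumeration (all words) -/
def cfg : Cfg := ⟨4, 19, 7, 2, 104, 0x2220202220202220202220201800000000202020202020202010000222022122202212220221150000000000002031203120310c00000000000000000030020006000000000000000000222222060000000000000000000000020100000000000000000000000002⟩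

/-- the inverses of the letters -/
def ivs : ℕ := 0x2301

/-- the number of words -/
def nw : ℕ := 8

/-- the relators of the presentation as powers -/
def extraPow : List (List ℕ × ℕ) := [([2], 6), ([0, 0, 2, 0, 0, 3], 1), ([1, 3, 0, 2], 3), ([1, 2, 2, 0, 2, 2, 2], 3), ([0, 2], 8), ([0, 2, 0, 2, 2, 2], 4)]

/-- where the words come from -/
def srcs : List ℕ := [0, 512, 1024, 1536, 2048, 2560]

/-- the coset table -/
noncomputable def tab : Tab := ⟨4, 17, 126000, arrT⟩

/-- the words of the generators of the subgroup -/
def subW : List (List ℕ) := [[0, 0], [2]]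

end Cfsg.Agent.Lib.Lead.HNP.QB
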