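import Cfsg.Agent.Lib.Lead.HNP.QBSJ0
import Cfsg.Agent.Lib.Lead.HNP.QBSJ1
import Cfsg.Agent.Lib.Lead.HNP.QBSJ2
import Cfsg.Agent.Lib.Lead.HNP.QBSJ3

/-! # Coset enumeration data for QB: the reasons for the entries of the table (generated) -/

set_option autoImplicit false
set_option maxRecDepth 1000000
set_option maxHeartbeats 40000000

namespace Cfsg.Agent.Lib.Lead.HNP.QB

open Cfsg.Agent.Lib.Helper6.TC Cfsg.Agent.Lib.Helper6.TCGS

/-- the reasons for the entries of the table -/
noncomputable def arrJ : BT :=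
  (.node (.node arrJ_0 arrJ_1) (.node arrJ_2 arrJ_3))


end Cfsg.Agent.Lib.Lead.HNP.QB
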