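import Cfsg.Agent.Lib.Lead.HNP.QBData
import Cfsg.Agent.Lib.Lead.HNP.QBSE
import Cfsg.Agent.Lib.Lead.HNP.QBSJ
import Cfsg.Agent.Lib.Lead.HNP.QBSM

/-! # QB: the table with a proof for every entry -/

set_option autoImplicit false

namespace Cfsg.Agent.Lib.Lead.HNP.QB

open Cfsg.Agent.Lib.Helper6.TC Cfsg.Agent.Lib.Helper6.TCGS

/-- the table with a proof for every entry -/
noncomputable def cert : SCert := ⟨cfg, 21, 431164, arrE, arrM, arrJ, arrJM, arrP, ivs⟩

end Cfsg.Agent.Lib.Lead.HNP.QB
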