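import Cfsg.Agent.Lib.Lead.HNP.VTTb

/-! # Coset enumeration data for VT: configuration, table, words (generated) -/

set_option autoImplicit false
set_option maxRecDepth 1000000
set_option maxHeartbeats 40000000

namespace Cfsg.Agent.Lib.Lead.HNP.VT

open Cfsg.Agent.Lib.Helper6.TC

/-- the configuration of the enumeration (all words) -/
def cfg : Cfg := ⟨4, 12, 1, 0, 48, 0x30222121200a22220203000a21220020000a000000000008⟩

/-- the inverses of the letters -/
def ivs : ℕ := 0x2301

/-- the number of words -/
def nw : ℕ := 4

/-- the relators of the presentation as powers -/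
def extraPow : List (List ℕ × ℕ) := [([0], 8), ([0, 0, 0, 2, 0, 0, 2, 2, 1, 2], 1), ([0, 0, 3, 0, 2, 0, 2, 2, 2, 2], 1), ([0, 2, 1, 2, 1, 2, 2, 2, 0, 3], 1)]

/-- where the words come from -/
def srcs : List ℕ := [0, 512, 1024, 1536]

/-- the coset table -/
noncomputable def tab : Tab := ⟨4, 12, 4000, arrT⟩

/-- the words of the generators of the subgroup -/
def subW : List (List ℕ) := []

end Cfsg.Agent.Lib.Lead.HNP.VT
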